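import Cfsg.Agent.Lib.Helper28.TC2Tower

set_option autoImplicit false
set_option maxRecDepth 100000

/-!
# The even subgroup of the Fischer group Fi₂₄ and its triple cover, as presented groups

Generators `u_x = l x` for the nodes `x = k, a, …, i` of the graph `Y₅₄₂` other than `l`, and the abbreviations
`t = ρ(w)`, `tp = ρ(l w l)` of the rewritten word `w = d c b a k l d e f g j d h i`.  `N` is the presentation of the even
subgroup of `Fi₂₄` (`t ^ 17 = tp ^ 17 = 1`), `Ghat` is the cover: a central `z` of order `3` with `t ^ 17 = z`,
`tp ^ 17 = z⁻¹`.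
-/

namespace Cfsg.Agent.Lib.Helper19.F24M.Def

open Cfsg.Agent.Lib.Helper28 Cfsg.Agent.Lib.Helper28.TC2Tower Cfsg.Agent.Lib.Helper28.TC2Glue

/-- the generators of the even subgroup -/
inductive Gen13
  | k | a | b | c | d | e | f | g | j | h | i | t | tp
  deriving DecidableEq

/-- the generators of the cover -/
inductive Gen14
  | k | a | b | c | d | e | f | g | j | h | i | t | tp | z
  deriving DecidableEq

/-- the generators of the even subgroup as generators of the cover -/
def up : Gen13 → Gen14
  | .k => .k
  | .a => .a
  | .b => .b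
  | .c => .c
  | .d => .d
  | .e => .e
  | .f => .f
  | .g => .g
  | .j => .j
  | .h => .h
  | .i => .i
  | .t => .t
  | .tp => .tp

/-- index of a generator -/
def gi : Gen14 → ℕ
  | .k => 0
  | .a => 1
  | .b => 2
  | .c => 3
  | .d => 4
  | .e => 5
  | .f => 6
  | .g => 7
  | .j => 8
  | .h => 9
  | .i => 10
  | .t => 12
  | .tp => 13
  | .z => 11

/-- coding of the letters -/
def lw (xb : Gen14 × Bool) : ℕ := 2 * gi xb.1 + cond xb.2 0 1

/-- the commutator word `z x z⁻¹ x⁻¹` -/
def commz (x : Gen14) : List (Gen14 × Bool) := [(.z, true), (x, true), (.z, false), (x, false)]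

/-- the relator words of the even subgroup -/
def baseWords : List (List (Gen13 × Bool)) := [
  [(.a, true), (.a, true)],
  [(.b, true), (.b, true)],
  [(.c, true), (.c, true)],
  [(.d, true), (.d, true)],
  [(.e, true), (.e, true)],
  [(.f, true), (.f, true)],
  [(.g, true), (.g, true)],
  [(.j, true), (.j, true)],
  [(.h, true), (.h, true)],
  [(.i, true), (.i, true)],
  [(.k, true), (.k, true), (.k, true)],
  [(.k, false), (.k, false), (.k, false)],
  [(.a, true), (.b, true), (.a, true), (.b, true), (.a, true), (.b, true)],
  [(.a, true), (.c, true), (.a, true), (.c, true)],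
  [(.a, true), (.d, true), (.a, true), (.d, true)],
  [(.a, true), (.e, true), (.a, true), (.e, true)],
  [(.a, true), (.f, true), (.a, true), (.f, true)],
  [(.a, true), (.g, true), (.a, true), (.g, true)],
  [(.a, true), (.j, true), (.a, true), (.j, true)],
  [(.a, true), (.h, true), (.a, true), (.h, true)],
  [(.a, true), (.i, true), (.a, true), (.i, true)],
  [(.b, true), (.c, true), (.b, true), (.c, true), (.b, true), (.c, true)],
  [(.b, true), (.d, true), (.b, true), (.d, true)],
  [(.b, true), (.e, true), (.b, true), (.e, true)],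
  [(.b, true), (.f, true), (.b, true), (.f, true)],
  [(.b, true), (.g, true), (.b, true), (.g, true)],
  [(.b, true), (.j, true), (.b, true), (.j, true)],
  [(.b, true), (.h, true), (.b, true), (.h, true)],
  [(.b, true), (.i, true), (.b, true), (.i, true)],
  [(.c, true), (.d, true), (.c, true), (.d, true), (.c, true), (.d, true)],
  [(.c, true), (.e, true), (.c, true), (.e, true)],
  [(.c, true), (.f, true), (.c, true), (.f, true)],
  [(.c, true), (.g, true), (.c, true), (.g, true)],
  [(.c, true), (.j, true), (.c, true), (.j, true)],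
  [(.c, true), (.h, true), (.c, true), (.h, true)],
  [(.c, true), (.i, true), (.c, true), (.i, true)],
  [(.d, true), (.e, true), (.d, true), (.e, true), (.d, true), (.e, true)],
  [(.d, true), (.f, true), (.d, true), (.f, true)],
  [(.d, true), (.g, true), (.d, true), (.g, true)],
  [(.d, true), (.j, true), (.d, true), (.j, true)],
  [(.d, true), (.h, true), (.d, true), (.h, true), (.d, true), (.h, true)],
  [(.d, true), (.i, true), (.d, true), (.i, true)],
  [(.e, true), (.f, true), (.e, true), (.f, true), (.e, true), (.f, true)],
  [(.e, true), (.g, true), (.e, true), (.g, true)],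
  [(.e, true), (.j, true), (.e, true), (.j, true)],
  [(.e, true), (.h, true), (.e, true), (.h, true)],
  [(.e, true), (.i, true), (.e, true), (.i, true)],
  [(.f, true), (.g, true), (.f, true), (.g, true), (.f, true), (.g, true)],
  [(.f, true), (.j, true), (.f, true), (.j, true)],
  [(.f, true), (.h, true), (.f, true), (.h, true)],
  [(.f, true), (.i, true), (.f, true), (.i, true)],
  [(.g, true), (.j, true), (.g, true), (.j, true), (.g, true), (.j, true)],
  [(.g, true), (.h, true), (.g, true), (.h, true)],
  [(.g, true), (.i, true), (.g, true), (.i, true)],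
  [(.j, true), (.h, true), (.j, true), (.h, true)],
  [(.j, true), (.i, true), (.j, true), (.i, true)],
  [(.h, true), (.i, true), (.h, true), (.i, true), (.h, true), (.i, true)],
  [(.k, true), (.a, true), (.k, true), (.a, true), (.k, true), (.a, true)],
  [(.k, false), (.a, true), (.k, false), (.a, true), (.k, false), (.a, true)],
  [(.k, true), (.b, true), (.k, true), (.b, true)],
  [(.k, true), (.c, true), (.k, true), (.c, true)],
  [(.k, true), (.d, true), (.k, true), (.d, true)],
  [(.k, true), (.e, true), (.k, true), (.e, true)],
  [(.k, true), (.f, true), (.k, true), (.f, true)],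
  [(.k, true), (.g, true), (.k, true), (.g, true)],
  [(.k, true), (.j, true), (.k, true), (.j, true)],
  [(.k, true), (.h, true), (.k, true), (.h, true)],
  [(.k, true), (.i, true), (.k, true), (.i, true)],
  [(.k, false), (.b, true), (.k, false), (.b, true)],
  [(.k, false), (.c, true), (.k, false), (.c, true)],
  [(.k, false), (.d, true), (.k, false), (.d, true)],
  [(.k, false), (.e, true), (.k, false), (.e, true)],
  [(.k, false), (.f, true), (.k, false), (.f, true)],
  [(.k, false), (.g, true), (.k, false), (.g, true)],
  [(.k, false), (.j, true), (.k, false), (.j, true)],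
  [(.k, false), (.h, true), (.k, false), (.h, true)],
  [(.k, false), (.i, true), (.k, false), (.i, true)],
  [(.h, true), (.f, true), (.e, true), (.d, true), (.c, true), (.b, true), (.a, true), (.h, true), (.f, true), (.e, true), (.d, true), (.c, true), (.b, true), (.a, true), (.h, true), (.f, true), (.e, true), (.d, true), (.c, true), (.b, true), (.a, true), (.h, true), (.f, true), (.e, true), (.d, true), (.c, true), (.b, true), (.a, true), (.h, true), (.f, true), (.e, true), (.d, true), (.c, true), (.b, true), (.a, true), (.h, true), (.f, true), (.e, true), (.d, true), (.c, true), (.b, true), (.a, true), (.h, true), (.f, true), (.e, true), (.d, true), (.c, true), (.b, true), (.a, true), (.h, true), (.f, true), (.e, true), (.d, true), (.c, true), (.b, true), (.a, true), (.h, true), (.f, true), (.e, true), (.d, true), (.c, true), (.b, true), (.a, true)],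
  [(.t, false), (.d, true), (.c, true), (.b, true), (.a, true), (.k, false), (.d, true), (.e, true), (.f, true), (.g, true), (.j, true), (.d, true), (.h, true), (.i, true)],
  [(.tp, false), (.d, true), (.c, true), (.b, true), (.a, true), (.k, true), (.d, true), (.e, true), (.f, true), (.g, true), (.j, true), (.d, true), (.h, true), (.i, true)],
  [(.t, true), (.t, true), (.t, true), (.t, true), (.t, true), (.t, true), (.t, true), (.t, true), (.t, true), (.t, true), (.t, true), (.t, true), (.t, true), (.t, true), (.t, true), (.t, true), (.t, true)],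
  [(.tp, true), (.tp, true), (.tp, true), (.tp, true), (.tp, true), (.tp, true), (.tp, true), (.tp, true), (.tp, true), (.tp, true), (.tp, true), (.tp, true), (.tp, true), (.tp, true), (.tp, true), (.tp, true), (.tp, true)]]

/-- the relators of the even subgroup -/
def relsN : Set (FreeGroup Gen13) := {r | ∃ L ∈ baseWords, r = FreeGroup.mk L}

/-- the presented even subgroup of `Fi₂₄` -/
abbrev N : Type := PresentedGroup relsN

/-- the relator words of the cover coming from the even subgroup: the last two (`t ^ 17`, `tp ^ 17`) are multiplied by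
`z⁻¹` and `z` -/
def relWordsA : List (List (Gen14 × Bool)) :=
  (baseWords.take 80).map (upWord up) ++
  [upWord up (baseWords.getD 80 []) ++ [(Gen14.z, false)], upWord up (baseWords.getD 81 []) ++ [(Gen14.z, true)]]

/-- the relator words of the cover making `z` central of order 3 -/
def relWordsC : List (List (Gen14 × Bool)) :=
  [Gen14.k, .a, .b, .c, .d, .e, .f, .g, .j, .h, .i, .t, .tp].map commz ++
  [[(Gen14.z, true), (Gen14.z, true), (Gen14.z, true)]]

/-- the relator words of the cover -/
def relWords : List (List (Gen14 × Bool)) := relWordsA ++ relWordsC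

/-- the relators of the cover -/
def rels : Set (FreeGroup Gen14) := {r | ∃ L ∈ relWords, r = FreeGroup.mk L}

/-- the cover -/
abbrev Ghat : Type := PresentedGroup rels

theorem hrels : ∀ r, r ∈ rels ↔ ∃ L ∈ relWords, r = FreeGroup.mk L := fun _ => Iff.rfl

theorem hlw : ∀ x b, lw (x, b) = 2 * gi x + cond b 0 1 := fun _ _ => rfl

theorem hgi : Function.Injective gi := by
  intro s u e; cases s <;> cases u <;> simp_all [gi]

theorem hDd : ∀ k < 14, ∃ s, gi s = k := by
  intro k hk
  interval_cases k
  exacts [⟨.k, rfl⟩, ⟨.a, rfl⟩, ⟨.b, rfl⟩, ⟨.c, rfl⟩, ⟨.d, rfl⟩, ⟨.e, rfl⟩, ⟨.f, rfl⟩, ⟨.g, rfl⟩, ⟨.j, rfl⟩, ⟨.h, rfl⟩, ⟨.i, rfl⟩, ⟨.z, rfl⟩, ⟨.t, rfl⟩, ⟨.tp, rfl⟩]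

/-- a generator of the cover, as an element -/
abbrev gen (x : Gen14) : Ghat := PresentedGroup.of x

/-- a generator of the even subgroup, as an element -/
abbrev genN (x : Gen13) : N := PresentedGroup.of x

/-- a relator word is trivial in the cover -/
theorem mk_eq_one {L : List (Gen14 × Bool)} (hL : L ∈ relWords) :
    (PresentedGroup.mk rels (FreeGroup.mk L) : Ghat) = 1 :=
  (PresentedGroup.one_of_mem (show FreeGroup.mk L ∈ rels from ⟨L, hL, rfl⟩))

/-- a relator word is trivial in the even subgroup -/
theorem mkN_eq_one {L : List (Gen13 × Bool)} (hL : L ∈ baseWords) :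
    (PresentedGroup.mk relsN (FreeGroup.mk L) : N) = 1 :=
  (PresentedGroup.one_of_mem (show FreeGroup.mk L ∈ relsN from ⟨L, hL, rfl⟩))

end Cfsg.Agent.Lib.Helper19.F24M.Def
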