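import Mathlib.Data.Nat.Notation
set_option autoImplicit false
set_option maxRecDepth 100000

namespace Cfsg.Agent.Lib.Helper19.F24M.FoxP3Cyc

def cyc0 : List (List (ℕ × ℕ)) := [[], [], [], [], [], [], [], [], [], [], [], [], [(0, 1)], [], [], [], [], [], [], [], [], [], [], [], [], [], [], [], [], [], [], [], [], [], [], [], [], [], [], [], [], [], [], [], [], [], [], [], [], [], [], [], [], [], [], [], [], [], [], [], [], [], [], [], [], [], [], [], [], [], [], [], [], [], [], [], [], [], [], [], [], [], [], [], [], [], [], [], [], [], [], [], [], [], [], []]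
def cyc1 : List (List (ℕ × ℕ)) := [[], [], [], [], [], [], [], [], [], [], [], [], [], [], [], [], [], [], [], [], [], [(0, 1)], [], [], [], [], [], [], [], [], [], [], [], [], [], [], [], [], [], [], [], [], [], [], [], [], [], [], [], [], [], [], [], [], [], [], [], [], [], [], [], [], [], [], [], [], [], [], [], [], [], [], [], [], [], [], [], [], [], [], [], [], [], [], [], [], [], [], [], [], [], [], [], [], [], []]
def cyc2 : List (List (ℕ × ℕ)) := [[], [], [], [], [], [], [], [], [], [], [], [], [], [], [], [], [], [], [], [], [], [], [], [], [], [], [], [], [], [(0, 1)], [], [], [], [], [], [], [], [], [], [], [], [], [], [], [], [], [], [], [], [], [], [], [], [], [], [], [], [], [], [], [], [], [], [], [], [], [], [], [], [], [], [], [], [], [], [], [], [], [], [], [], [], [], [], [], [], [], [], [], [], [], [], [], [], [], []]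
def cyc3 : List (List (ℕ × ℕ)) := [[], [], [], [], [], [], [], [], [], [], [], [], [], [], [], [], [], [], [], [], [], [], [], [], [], [], [], [], [], [], [], [], [], [], [], [], [(0, 1)], [], [], [], [], [], [], [], [], [], [], [], [], [], [], [], [], [], [], [], [], [], [], [], [], [], [], [], [], [], [], [], [], [], [], [], [], [], [], [], [], [], [], [], [], [], [], [], [], [], [], [], [], [], [], [], [], [], [], []]
def cyc4 : List (List (ℕ × ℕ)) := [[], [], [], [], [], [], [], [], [], [], [], [], [], [], [], [], [], [], [], [], [], [], [], [], [], [], [], [], [], [], [], [], [], [], [], [], [], [], [], [], [(0, 1)], [], [], [], [], [], [], [], [], [], [], [], [], [], [], [], [], [], [], [], [], [], [], [], [], [], [], [], [], [], [], [], [], [], [], [], [], [], [], [], [], [], [], [], [], [], [], [], [], [], [], [], [], [], [], []]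
def cyc5 : List (List (ℕ × ℕ)) := [[], [], [], [], [], [], [], [], [], [], [], [], [], [], [], [], [], [], [], [], [], [], [], [], [], [], [], [], [], [], [], [], [], [], [], [], [], [], [], [], [], [], [(0, 1)], [], [], [], [], [], [], [], [], [], [], [], [], [], [], [], [], [], [], [], [], [], [], [], [], [], [], [], [], [], [], [], [], [], [], [], [], [], [], [], [], [], [], [], [], [], [], [], [], [], [], [], [], []]
def cyc6 : List (List (ℕ × ℕ)) := [[], [], [], [], [], [], [], [], [], [], [], [], [], [], [], [], [], [], [], [], [], [], [], [], [], [], [], [], [], [], [], [], [], [], [], [], [], [], [], [], [], [], [], [], [], [], [], [(0, 1)], [], [], [], [], [], [], [], [], [], [], [], [], [], [], [], [], [], [], [], [], [], [], [], [], [], [], [], [], [], [], [], [], [], [], [], [], [], [], [], [], [], [], [], [], [], [], [], []]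
def cyc7 : List (List (ℕ × ℕ)) := [[], [], [], [], [], [], [], [], [], [], [], [], [], [], [], [], [], [], [], [], [], [], [], [], [], [], [], [], [], [], [], [], [], [], [], [], [], [], [], [], [], [], [], [], [], [], [], [], [], [], [], [(0, 1)], [], [], [], [], [], [], [], [], [], [], [], [], [], [], [], [], [], [], [], [], [], [], [], [], [], [], [], [], [], [], [], [], [], [], [], [], [], [], [], [], [], [], [], []]
def cyc8 : List (List (ℕ × ℕ)) := [[], [], [], [], [], [], [], [], [], [], [], [], [], [], [], [], [], [], [], [], [], [], [], [], [], [], [], [], [], [], [], [], [], [], [], [], [], [], [], [], [], [], [], [], [], [], [], [], [], [], [], [], [], [], [], [], [(0, 1)], [], [], [], [], [], [], [], [], [], [], [], [], [], [], [], [], [], [], [], [], [], [], [], [], [], [], [], [], [], [], [], [], [], [], [], [], [], [], []]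
def cyc9 : List (List (ℕ × ℕ)) := [[], [], [], [], [], [], [], [], [], [], [], [], [], [], [], [], [], [], [], [], [], [], [], [], [], [], [], [], [], [], [], [], [], [], [], [], [], [], [], [], [], [], [], [], [], [], [], [], [], [], [], [], [], [], [], [], [], [], [], [], [], [], [], [], [], [], [], [], [], [], [], [], [], [], [], [], [], [(0, 1)], [], [], [], [], [], [], [], [], [], [], [], [], [], [], [], [], [], []]
def cyc10 : List (List (ℕ × ℕ)) := [[], [], [], [], [], [], [], [], [], [], [], [], [], [], [], [], [], [], [], [], [], [], [], [], [], [], [], [], [], [], [], [], [], [], [], [], [], [], [], [], [], [], [], [], [], [], [], [], [], [], [], [], [], [], [], [], [], [], [(3, 1)], [], [], [], [], [], [], [], [], [], [], [], [], [], [], [], [], [], [], [], [], [], [], [], [], [], [], [], [], [], [], [], [], [], [], [], [], []]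
def cyc11 : List (List (ℕ × ℕ)) := [[], [], [], [], [], [], [], [], [], [], [], [], [], [], [], [], [], [], [], [], [], [], [], [], [], [], [], [], [], [], [], [], [], [], [], [], [], [], [], [], [], [], [], [], [], [], [], [], [], [], [], [], [], [], [], [], [], [(4, 1)], [], [], [], [], [], [], [], [], [], [], [], [], [], [], [], [], [], [], [], [], [], [], [], [], [], [], [], [], [], [], [], [], [], [], [], [], [], []]
def cyc12 : List (List (ℕ × ℕ)) := [[], [], [], [], [], [], [], [], [], [], [(12, 1)], [], [], [], [], [], [], [], [], [], [], [], [], [], [], [], [], [], [], [], [], [], [], [], [], [], [], [], [], [], [], [], [], [], [], [], [], [], [], [], [], [], [], [], [], [], [], [], [], [], [], [], [], [], [], [], [], [], [], [], [], [], [], [], [], [], [], [], [], [], [], [], [], [], [], [], [], [], [], [], [], [], [], [], [], []]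
def cyc13 : List (List (ℕ × ℕ)) := [[], [], [], [], [], [], [], [], [], [], [], [(12, 1)], [], [], [], [], [], [], [], [], [], [], [], [], [], [], [], [], [], [], [], [], [], [], [], [], [], [], [], [], [], [], [], [], [], [], [], [], [], [], [], [], [], [], [], [], [], [], [], [], [], [], [], [], [], [], [], [], [], [], [], [], [], [], [], [], [], [], [], [], [], [], [], [], [], [], [], [], [], [], [], [], [], [], [], []]
def cyc14 : List (List (ℕ × ℕ)) := [[(0, 2)], [], [(0, 2)], [], [], [], [], [], [], [], [], [], [], [(0, 1)], [], [], [], [], [], [], [], [], [], [], [], [], [], [], [], [], [], [], [], [], [], [], [], [], [], [], [], [], [], [], [], [], [], [], [], [], [], [], [], [], [], [], [], [], [], [], [], [], [], [], [], [], [], [], [], [], [], [], [], [], [], [], [], [], [], [], [], [], [], [], [], [], [], [], [], [], [], [], [], [], [], []]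
def cyc15 : List (List (ℕ × ℕ)) := [[(0, 2)], [], [], [(0, 2)], [], [], [], [], [], [], [], [], [], [], [(0, 1)], [], [], [], [], [], [], [], [], [], [], [], [], [], [], [], [], [], [], [], [], [], [], [], [], [], [], [], [], [], [], [], [], [], [], [], [], [], [], [], [], [], [], [], [], [], [], [], [], [], [], [], [], [], [], [], [], [], [], [], [], [], [], [], [], [], [], [], [], [], [], [], [], [], [], [], [], [], [], [], [], []]
def cyc16 : List (List (ℕ × ℕ)) := [[], [(0, 2)], [], [(0, 2)], [], [], [], [], [], [], [], [], [], [], [], [], [], [], [], [], [], [], [(0, 1)], [], [], [], [], [], [], [], [], [], [], [], [], [], [], [], [], [], [], [], [], [], [], [], [], [], [], [], [], [], [], [], [], [], [], [], [], [], [], [], [], [], [], [], [], [], [], [], [], [], [], [], [], [], [], [], [], [], [], [], [], [], [], [], [], [], [], [], [], [], [], [], [], []]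
def cyc17 : List (List (ℕ × ℕ)) := [[(0, 2)], [], [], [], [(0, 2)], [], [], [], [], [], [], [], [], [], [], [(0, 1)], [], [], [], [], [], [], [], [], [], [], [], [], [], [], [], [], [], [], [], [], [], [], [], [], [], [], [], [], [], [], [], [], [], [], [], [], [], [], [], [], [], [], [], [], [], [], [], [], [], [], [], [], [], [], [], [], [], [], [], [], [], [], [], [], [], [], [], [], [], [], [], [], [], [], [], [], [], [], [], []]
def cyc18 : List (List (ℕ × ℕ)) := [[], [(0, 2)], [], [], [(0, 2)], [], [], [], [], [], [], [], [], [], [], [], [], [], [], [], [], [], [], [(0, 1)], [], [], [], [], [], [], [], [], [], [], [], [], [], [], [], [], [], [], [], [], [], [], [], [], [], [], [], [], [], [], [], [], [], [], [], [], [], [], [], [], [], [], [], [], [], [], [], [], [], [], [], [], [], [], [], [], [], [], [], [], [], [], [], [], [], [], [], [], [], [], [], []]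
def cyc19 : List (List (ℕ × ℕ)) := [[], [], [(0, 2)], [], [(0, 2)], [], [], [], [], [], [], [], [], [], [], [], [], [], [], [], [], [], [], [], [], [], [], [], [], [], [(0, 1)], [], [], [], [], [], [], [], [], [], [], [], [], [], [], [], [], [], [], [], [], [], [], [], [], [], [], [], [], [], [], [], [], [], [], [], [], [], [], [], [], [], [], [], [], [], [], [], [], [], [], [], [], [], [], [], [], [], [], [], [], [], [], [], [], []]
def cyc20 : List (List (ℕ × ℕ)) := [[(0, 2)], [], [], [], [], [(0, 2)], [], [], [], [], [], [], [], [], [], [], [(0, 1)], [], [], [], [], [], [], [], [], [], [], [], [], [], [], [], [], [], [], [], [], [], [], [], [], [], [], [], [], [], [], [], [], [], [], [], [], [], [], [], [], [], [], [], [], [], [], [], [], [], [], [], [], [], [], [], [], [], [], [], [], [], [], [], [], [], [], [], [], [], [], [], [], [], [], [], [], [], [], []]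
def cyc21 : List (List (ℕ × ℕ)) := [[], [(0, 2)], [], [], [], [(0, 2)], [], [], [], [], [], [], [], [], [], [], [], [], [], [], [], [], [], [], [(0, 1)], [], [], [], [], [], [], [], [], [], [], [], [], [], [], [], [], [], [], [], [], [], [], [], [], [], [], [], [], [], [], [], [], [], [], [], [], [], [], [], [], [], [], [], [], [], [], [], [], [], [], [], [], [], [], [], [], [], [], [], [], [], [], [], [], [], [], [], [], [], [], []]
def cyc22 : List (List (ℕ × ℕ)) := [[], [], [(0, 2)], [], [], [(0, 2)], [], [], [], [], [], [], [], [], [], [], [], [], [], [], [], [], [], [], [], [], [], [], [], [], [], [(0, 1)], [], [], [], [], [], [], [], [], [], [], [], [], [], [], [], [], [], [], [], [], [], [], [], [], [], [], [], [], [], [], [], [], [], [], [], [], [], [], [], [], [], [], [], [], [], [], [], [], [], [], [], [], [], [], [], [], [], [], [], [], [], [], [], []]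
def cyc23 : List (List (ℕ × ℕ)) := [[], [], [], [(0, 2)], [], [(0, 2)], [], [], [], [], [], [], [], [], [], [], [], [], [], [], [], [], [], [], [], [], [], [], [], [], [], [], [], [], [], [], [], [(0, 1)], [], [], [], [], [], [], [], [], [], [], [], [], [], [], [], [], [], [], [], [], [], [], [], [], [], [], [], [], [], [], [], [], [], [], [], [], [], [], [], [], [], [], [], [], [], [], [], [], [], [], [], [], [], [], [], [], [], []]
def cyc24 : List (List (ℕ × ℕ)) := [[(0, 2)], [], [], [], [], [], [(0, 2)], [], [], [], [], [], [], [], [], [], [], [(0, 1)], [], [], [], [], [], [], [], [], [], [], [], [], [], [], [], [], [], [], [], [], [], [], [], [], [], [], [], [], [], [], [], [], [], [], [], [], [], [], [], [], [], [], [], [], [], [], [], [], [], [], [], [], [], [], [], [], [], [], [], [], [], [], [], [], [], [], [], [], [], [], [], [], [], [], [], [], [], []]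
def cyc25 : List (List (ℕ × ℕ)) := [[], [(0, 2)], [], [], [], [], [(0, 2)], [], [], [], [], [], [], [], [], [], [], [], [], [], [], [], [], [], [], [(0, 1)], [], [], [], [], [], [], [], [], [], [], [], [], [], [], [], [], [], [], [], [], [], [], [], [], [], [], [], [], [], [], [], [], [], [], [], [], [], [], [], [], [], [], [], [], [], [], [], [], [], [], [], [], [], [], [], [], [], [], [], [], [], [], [], [], [], [], [], [], [], []]
def cyc26 : List (List (ℕ × ℕ)) := [[], [], [(0, 2)], [], [], [], [(0, 2)], [], [], [], [], [], [], [], [], [], [], [], [], [], [], [], [], [], [], [], [], [], [], [], [], [], [(0, 1)], [], [], [], [], [], [], [], [], [], [], [], [], [], [], [], [], [], [], [], [], [], [], [], [], [], [], [], [], [], [], [], [], [], [], [], [], [], [], [], [], [], [], [], [], [], [], [], [], [], [], [], [], [], [], [], [], [], [], [], [], [], [], []]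
def cyc27 : List (List (ℕ × ℕ)) := [[], [], [], [(0, 2)], [], [], [(0, 2)], [], [], [], [], [], [], [], [], [], [], [], [], [], [], [], [], [], [], [], [], [], [], [], [], [], [], [], [], [], [], [], [(0, 1)], [], [], [], [], [], [], [], [], [], [], [], [], [], [], [], [], [], [], [], [], [], [], [], [], [], [], [], [], [], [], [], [], [], [], [], [], [], [], [], [], [], [], [], [], [], [], [], [], [], [], [], [], [], [], [], [], []]
def cyc28 : List (List (ℕ × ℕ)) := [[], [], [], [], [(0, 2)], [], [(0, 2)], [], [], [], [], [], [], [], [], [], [], [], [], [], [], [], [], [], [], [], [], [], [], [], [], [], [], [], [], [], [], [], [], [], [], [], [], [(0, 1)], [], [], [], [], [], [], [], [], [], [], [], [], [], [], [], [], [], [], [], [], [], [], [], [], [], [], [], [], [], [], [], [], [], [], [], [], [], [], [], [], [], [], [], [], [], [], [], [], [], [], [], []]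
def cyc29 : List (List (ℕ × ℕ)) := [[(0, 2)], [], [], [], [], [], [], [(0, 2)], [], [], [], [], [], [], [], [], [], [], [(0, 1)], [], [], [], [], [], [], [], [], [], [], [], [], [], [], [], [], [], [], [], [], [], [], [], [], [], [], [], [], [], [], [], [], [], [], [], [], [], [], [], [], [], [], [], [], [], [], [], [], [], [], [], [], [], [], [], [], [], [], [], [], [], [], [], [], [], [], [], [], [], [], [], [], [], [], [], [], []]
def cyc30 : List (List (ℕ × ℕ)) := [[], [(0, 2)], [], [], [], [], [], [(0, 2)], [], [], [], [], [], [], [], [], [], [], [], [], [], [], [], [], [], [], [(0, 1)], [], [], [], [], [], [], [], [], [], [], [], [], [], [], [], [], [], [], [], [], [], [], [], [], [], [], [], [], [], [], [], [], [], [], [], [], [], [], [], [], [], [], [], [], [], [], [], [], [], [], [], [], [], [], [], [], [], [], [], [], [], [], [], [], [], [], [], [], []]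
def cyc31 : List (List (ℕ × ℕ)) := [[], [], [(0, 2)], [], [], [], [], [(0, 2)], [], [], [], [], [], [], [], [], [], [], [], [], [], [], [], [], [], [], [], [], [], [], [], [], [], [(0, 1)], [], [], [], [], [], [], [], [], [], [], [], [], [], [], [], [], [], [], [], [], [], [], [], [], [], [], [], [], [], [], [], [], [], [], [], [], [], [], [], [], [], [], [], [], [], [], [], [], [], [], [], [], [], [], [], [], [], [], [], [], [], []]
def cyc32 : List (List (ℕ × ℕ)) := [[], [], [], [(0, 2)], [], [], [], [(0, 2)], [], [], [], [], [], [], [], [], [], [], [], [], [], [], [], [], [], [], [], [], [], [], [], [], [], [], [], [], [], [], [], [(0, 1)], [], [], [], [], [], [], [], [], [], [], [], [], [], [], [], [], [], [], [], [], [], [], [], [], [], [], [], [], [], [], [], [], [], [], [], [], [], [], [], [], [], [], [], [], [], [], [], [], [], [], [], [], [], [], [], []]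
def cyc33 : List (List (ℕ × ℕ)) := [[], [], [], [], [(0, 2)], [], [], [(0, 2)], [], [], [], [], [], [], [], [], [], [], [], [], [], [], [], [], [], [], [], [], [], [], [], [], [], [], [], [], [], [], [], [], [], [], [], [], [(0, 1)], [], [], [], [], [], [], [], [], [], [], [], [], [], [], [], [], [], [], [], [], [], [], [], [], [], [], [], [], [], [], [], [], [], [], [], [], [], [], [], [], [], [], [], [], [], [], [], [], [], [], []]
def cyc34 : List (List (ℕ × ℕ)) := [[], [], [], [], [], [(0, 2)], [], [(0, 2)], [], [], [], [], [], [], [], [], [], [], [], [], [], [], [], [], [], [], [], [], [], [], [], [], [], [], [], [], [], [], [], [], [], [], [], [], [], [], [], [], [(0, 1)], [], [], [], [], [], [], [], [], [], [], [], [], [], [], [], [], [], [], [], [], [], [], [], [], [], [], [], [], [], [], [], [], [], [], [], [], [], [], [], [], [], [], [], [], [], [], []]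
def cyc35 : List (List (ℕ × ℕ)) := [[(0, 2)], [], [], [], [], [], [], [], [(0, 2)], [], [], [], [], [], [], [], [], [], [], [(0, 1)], [], [], [], [], [], [], [], [], [], [], [], [], [], [], [], [], [], [], [], [], [], [], [], [], [], [], [], [], [], [], [], [], [], [], [], [], [], [], [], [], [], [], [], [], [], [], [], [], [], [], [], [], [], [], [], [], [], [], [], [], [], [], [], [], [], [], [], [], [], [], [], [], [], [], [], []]
def cyc36 : List (List (ℕ × ℕ)) := [[], [(0, 2)], [], [], [], [], [], [], [(0, 2)], [], [], [], [], [], [], [], [], [], [], [], [], [], [], [], [], [], [], [(0, 1)], [], [], [], [], [], [], [], [], [], [], [], [], [], [], [], [], [], [], [], [], [], [], [], [], [], [], [], [], [], [], [], [], [], [], [], [], [], [], [], [], [], [], [], [], [], [], [], [], [], [], [], [], [], [], [], [], [], [], [], [], [], [], [], [], [], [], [], []]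
def cyc37 : List (List (ℕ × ℕ)) := [[], [], [(0, 2)], [], [], [], [], [], [(0, 2)], [], [], [], [], [], [], [], [], [], [], [], [], [], [], [], [], [], [], [], [], [], [], [], [], [], [(0, 1)], [], [], [], [], [], [], [], [], [], [], [], [], [], [], [], [], [], [], [], [], [], [], [], [], [], [], [], [], [], [], [], [], [], [], [], [], [], [], [], [], [], [], [], [], [], [], [], [], [], [], [], [], [], [], [], [], [], [], [], [], []]
def cyc38 : List (List (ℕ × ℕ)) := [[], [], [], [], [(0, 2)], [], [], [], [(0, 2)], [], [], [], [], [], [], [], [], [], [], [], [], [], [], [], [], [], [], [], [], [], [], [], [], [], [], [], [], [], [], [], [], [], [], [], [], [(0, 1)], [], [], [], [], [], [], [], [], [], [], [], [], [], [], [], [], [], [], [], [], [], [], [], [], [], [], [], [], [], [], [], [], [], [], [], [], [], [], [], [], [], [], [], [], [], [], [], [], [], []]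
def cyc39 : List (List (ℕ × ℕ)) := [[], [], [], [], [], [(0, 2)], [], [], [(0, 2)], [], [], [], [], [], [], [], [], [], [], [], [], [], [], [], [], [], [], [], [], [], [], [], [], [], [], [], [], [], [], [], [], [], [], [], [], [], [], [], [], [(0, 1)], [], [], [], [], [], [], [], [], [], [], [], [], [], [], [], [], [], [], [], [], [], [], [], [], [], [], [], [], [], [], [], [], [], [], [], [], [], [], [], [], [], [], [], [], [], []]
def cyc40 : List (List (ℕ × ℕ)) := [[], [], [], [], [], [], [(0, 2)], [], [(0, 2)], [], [], [], [], [], [], [], [], [], [], [], [], [], [], [], [], [], [], [], [], [], [], [], [], [], [], [], [], [], [], [], [], [], [], [], [], [], [], [], [], [], [], [], [(0, 1)], [], [], [], [], [], [], [], [], [], [], [], [], [], [], [], [], [], [], [], [], [], [], [], [], [], [], [], [], [], [], [], [], [], [], [], [], [], [], [], [], [], [], []]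
def cyc41 : List (List (ℕ × ℕ)) := [[], [], [], [], [], [], [], [(0, 2)], [(0, 2)], [], [], [], [], [], [], [], [], [], [], [], [], [], [], [], [], [], [], [], [], [], [], [], [], [], [], [], [], [], [], [], [], [], [], [], [], [], [], [], [], [], [], [], [], [], [(0, 1)], [], [], [], [], [], [], [], [], [], [], [], [], [], [], [], [], [], [], [], [], [], [], [], [], [], [], [], [], [], [], [], [], [], [], [], [], [], [], [], [], []]
def cyc42 : List (List (ℕ × ℕ)) := [[(0, 2)], [], [], [], [], [], [], [], [], [(0, 2)], [], [], [], [], [], [], [], [], [], [], [(0, 1)], [], [], [], [], [], [], [], [], [], [], [], [], [], [], [], [], [], [], [], [], [], [], [], [], [], [], [], [], [], [], [], [], [], [], [], [], [], [], [], [], [], [], [], [], [], [], [], [], [], [], [], [], [], [], [], [], [], [], [], [], [], [], [], [], [], [], [], [], [], [], [], [], [], [], []]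
def cyc43 : List (List (ℕ × ℕ)) := [[], [(0, 2)], [], [], [], [], [], [], [], [(0, 2)], [], [], [], [], [], [], [], [], [], [], [], [], [], [], [], [], [], [], [(0, 1)], [], [], [], [], [], [], [], [], [], [], [], [], [], [], [], [], [], [], [], [], [], [], [], [], [], [], [], [], [], [], [], [], [], [], [], [], [], [], [], [], [], [], [], [], [], [], [], [], [], [], [], [], [], [], [], [], [], [], [], [], [], [], [], [], [], [], []]
def cyc44 : List (List (ℕ × ℕ)) := [[], [], [(0, 2)], [], [], [], [], [], [], [(0, 2)], [], [], [], [], [], [], [], [], [], [], [], [], [], [], [], [], [], [], [], [], [], [], [], [], [], [(0, 1)], [], [], [], [], [], [], [], [], [], [], [], [], [], [], [], [], [], [], [], [], [], [], [], [], [], [], [], [], [], [], [], [], [], [], [], [], [], [], [], [], [], [], [], [], [], [], [], [], [], [], [], [], [], [], [], [], [], [], [], []]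
def cyc45 : List (List (ℕ × ℕ)) := [[], [], [], [(0, 2)], [], [], [], [], [], [(0, 2)], [], [], [], [], [], [], [], [], [], [], [], [], [], [], [], [], [], [], [], [], [], [], [], [], [], [], [], [], [], [], [], [(0, 1)], [], [], [], [], [], [], [], [], [], [], [], [], [], [], [], [], [], [], [], [], [], [], [], [], [], [], [], [], [], [], [], [], [], [], [], [], [], [], [], [], [], [], [], [], [], [], [], [], [], [], [], [], [], []]
def cyc46 : List (List (ℕ × ℕ)) := [[], [], [], [], [(0, 2)], [], [], [], [], [(0, 2)], [], [], [], [], [], [], [], [], [], [], [], [], [], [], [], [], [], [], [], [], [], [], [], [], [], [], [], [], [], [], [], [], [], [], [], [], [(0, 1)], [], [], [], [], [], [], [], [], [], [], [], [], [], [], [], [], [], [], [], [], [], [], [], [], [], [], [], [], [], [], [], [], [], [], [], [], [], [], [], [], [], [], [], [], [], [], [], [], []]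
def cyc47 : List (List (ℕ × ℕ)) := [[], [], [], [], [], [(0, 2)], [], [], [], [(0, 2)], [], [], [], [], [], [], [], [], [], [], [], [], [], [], [], [], [], [], [], [], [], [], [], [], [], [], [], [], [], [], [], [], [], [], [], [], [], [], [], [], [(0, 1)], [], [], [], [], [], [], [], [], [], [], [], [], [], [], [], [], [], [], [], [], [], [], [], [], [], [], [], [], [], [], [], [], [], [], [], [], [], [], [], [], [], [], [], [], []]
def cyc48 : List (List (ℕ × ℕ)) := [[], [], [], [], [], [], [(0, 2)], [], [], [(0, 2)], [], [], [], [], [], [], [], [], [], [], [], [], [], [], [], [], [], [], [], [], [], [], [], [], [], [], [], [], [], [], [], [], [], [], [], [], [], [], [], [], [], [], [], [(0, 1)], [], [], [], [], [], [], [], [], [], [], [], [], [], [], [], [], [], [], [], [], [], [], [], [], [], [], [], [], [], [], [], [], [], [], [], [], [], [], [], [], [], []]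
def cyc49 : List (List (ℕ × ℕ)) := [[], [], [], [], [], [], [], [(0, 2)], [], [(0, 2)], [], [], [], [], [], [], [], [], [], [], [], [], [], [], [], [], [], [], [], [], [], [], [], [], [], [], [], [], [], [], [], [], [], [], [], [], [], [], [], [], [], [], [], [], [], [(0, 1)], [], [], [], [], [], [], [], [], [], [], [], [], [], [], [], [], [], [], [], [], [], [], [], [], [], [], [], [], [], [], [], [], [], [], [], [], [], [], [], []]
def cyc50 : List (List (ℕ × ℕ)) := [[(0, 1), (306936, 2)], [], [], [], [], [], [], [], [], [], [], [], [], [], [], [], [], [], [], [], [], [], [], [], [], [], [], [], [], [], [], [], [], [], [], [], [], [], [], [], [], [], [], [], [], [], [], [], [], [], [], [], [], [], [], [], [], [], [], [], [], [], [], [], [], [], [], [], [], [], [], [], [], [], [], [], [], [], [], [], [], [], [], [(306936, 1)], [], [], [], [], [], [], [], [], [], [], [], []]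
def cyc51 : List (List (ℕ × ℕ)) := [[], [(0, 1), (306936, 2)], [], [], [], [], [], [], [], [], [], [], [], [], [], [], [], [], [], [], [], [], [], [], [], [], [], [], [], [], [], [], [], [], [], [], [], [], [], [], [], [], [], [], [], [], [], [], [], [], [], [], [], [], [], [], [], [], [], [], [], [], [], [], [], [], [], [], [], [], [], [], [], [], [], [], [], [], [], [], [], [], [], [], [(306936, 1)], [], [], [], [], [], [], [], [], [], [], []]
def cyc52 : List (List (ℕ × ℕ)) := [[], [], [(0, 1), (306936, 2)], [], [], [], [], [], [], [], [], [], [], [], [], [], [], [], [], [], [], [], [], [], [], [], [], [], [], [], [], [], [], [], [], [], [], [], [], [], [], [], [], [], [], [], [], [], [], [], [], [], [], [], [], [], [], [], [], [], [], [], [], [], [], [], [], [], [], [], [], [], [], [], [], [], [], [], [], [], [], [], [], [], [], [(306936, 1)], [], [], [], [], [], [], [], [], [], []]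
def cyc53 : List (List (ℕ × ℕ)) := [[], [], [], [(0, 1), (306936, 2)], [], [], [], [], [], [], [], [], [], [], [], [], [], [], [], [], [], [], [], [], [], [], [], [], [], [], [], [], [], [], [], [], [], [], [], [], [], [], [], [], [], [], [], [], [], [], [], [], [], [], [], [], [], [], [], [], [], [], [], [], [], [], [], [], [], [], [], [], [], [], [], [], [], [], [], [], [], [], [], [], [], [], [(306936, 1)], [], [], [], [], [], [], [], [], []]
def cyc54 : List (List (ℕ × ℕ)) := [[], [], [], [], [(0, 1), (306936, 2)], [], [], [], [], [], [], [], [], [], [], [], [], [], [], [], [], [], [], [], [], [], [], [], [], [], [], [], [], [], [], [], [], [], [], [], [], [], [], [], [], [], [], [], [], [], [], [], [], [], [], [], [], [], [], [], [], [], [], [], [], [], [], [], [], [], [], [], [], [], [], [], [], [], [], [], [], [], [], [], [], [], [], [(306936, 1)], [], [], [], [], [], [], [], []]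
def cyc55 : List (List (ℕ × ℕ)) := [[], [], [], [], [], [(0, 1), (306936, 2)], [], [], [], [], [], [], [], [], [], [], [], [], [], [], [], [], [], [], [], [], [], [], [], [], [], [], [], [], [], [], [], [], [], [], [], [], [], [], [], [], [], [], [], [], [], [], [], [], [], [], [], [], [], [], [], [], [], [], [], [], [], [], [], [], [], [], [], [], [], [], [], [], [], [], [], [], [], [], [], [], [], [], [(306936, 1)], [], [], [], [], [], [], []]
def cyc56 : List (List (ℕ × ℕ)) := [[], [], [], [], [], [], [(0, 1), (306936, 2)], [], [], [], [], [], [], [], [], [], [], [], [], [], [], [], [], [], [], [], [], [], [], [], [], [], [], [], [], [], [], [], [], [], [], [], [], [], [], [], [], [], [], [], [], [], [], [], [], [], [], [], [], [], [], [], [], [], [], [], [], [], [], [], [], [], [], [], [], [], [], [], [], [], [], [], [], [], [], [], [], [], [], [(306936, 1)], [], [], [], [], [], []]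
def cyc57 : List (List (ℕ × ℕ)) := [[], [], [], [], [], [], [], [(0, 1), (306936, 2)], [], [], [], [], [], [], [], [], [], [], [], [], [], [], [], [], [], [], [], [], [], [], [], [], [], [], [], [], [], [], [], [], [], [], [], [], [], [], [], [], [], [], [], [], [], [], [], [], [], [], [], [], [], [], [], [], [], [], [], [], [], [], [], [], [], [], [], [], [], [], [], [], [], [], [], [], [], [], [], [], [], [], [(306936, 1)], [], [], [], [], []]
def cyc58 : List (List (ℕ × ℕ)) := [[], [], [], [], [], [], [], [], [(0, 1), (306936, 2)], [], [], [], [], [], [], [], [], [], [], [], [], [], [], [], [], [], [], [], [], [], [], [], [], [], [], [], [], [], [], [], [], [], [], [], [], [], [], [], [], [], [], [], [], [], [], [], [], [], [], [], [], [], [], [], [], [], [], [], [], [], [], [], [], [], [], [], [], [], [], [], [], [], [], [], [], [], [], [], [], [], [], [(306936, 1)], [], [], [], []]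
def cyc59 : List (List (ℕ × ℕ)) := [[], [], [], [], [], [], [], [], [], [(0, 1), (306936, 2)], [], [], [], [], [], [], [], [], [], [], [], [], [], [], [], [], [], [], [], [], [], [], [], [], [], [], [], [], [], [], [], [], [], [], [], [], [], [], [], [], [], [], [], [], [], [], [], [], [], [], [], [], [], [], [], [], [], [], [], [], [], [], [], [], [], [], [], [], [], [], [], [], [], [], [], [], [], [], [], [], [], [], [(306936, 1)], [], [], []]
def cyc60 : List (List (ℕ × ℕ)) := [[], [], [], [], [], [], [], [], [], [], [], [], [], [], [], [], [], [], [], [], [], [], [], [], [], [], [], [], [], [], [], [], [], [], [], [], [], [], [], [], [], [], [], [], [], [], [], [], [], [], [], [], [], [], [], [], [], [], [], [], [], [], [], [], [], [], [], [], [], [], [], [], [], [], [], [], [], [], [], [], [], [(118568, 1), (425504, 2)], [], [], [], [], [], [], [], [], [], [], [], [], [(732440, 1)], []]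
def cyc61 : List (List (ℕ × ℕ)) := [[], [(0, 1)], [], [], [], [], [], [], [], [], [(0, 2)], [], [], [], [], [], [], [], [], [], [], [], [], [], [], [], [], [], [], [], [], [], [], [], [], [], [], [], [], [], [], [], [], [], [], [], [], [], [], [], [], [], [], [], [], [], [], [], [], [(0, 1)], [], [], [], [], [], [], [], [], [(1, 1)], [], [], [], [], [], [], [], [], [], [], [], [], [], [], [], [], [], [], [], [], [], [], [], [], [], [], []]
def cyc62 : List (List (ℕ × ℕ)) := [[], [], [(0, 1)], [], [], [], [], [], [], [], [(0, 2)], [], [], [], [], [], [], [], [], [], [], [], [], [], [], [], [], [], [], [], [], [], [], [], [], [], [], [], [], [], [], [], [], [], [], [], [], [], [], [], [], [], [], [], [], [], [], [], [], [], [(0, 1)], [], [], [], [], [], [], [], [], [(1, 1)], [], [], [], [], [], [], [], [], [], [], [], [], [], [], [], [], [], [], [], [], [], [], [], [], [], []]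
def cyc63 : List (List (ℕ × ℕ)) := [[], [(0, 1)], [], [(0, 1)], [], [], [], [], [], [], [], [], [], [], [], [], [], [], [], [], [], [], [(1, 1)], [], [], [], [], [], [], [], [], [], [], [], [], [], [], [], [], [], [], [], [], [], [], [], [], [], [], [], [], [], [], [], [], [], [], [], [], [], [], [(0, 1)], [], [], [], [], [], [], [(0, 1)], [], [], [], [], [], [], [], [], [], [], [], [], [], [], [], [], [], [], [], [], [], [], [], [], [], [], []]
def cyc64 : List (List (ℕ × ℕ)) := [[], [], [], [(0, 1)], [], [], [], [], [], [], [(0, 2)], [], [], [], [], [], [], [], [], [], [], [], [], [], [], [], [], [], [], [], [], [], [], [], [], [], [], [], [], [], [], [], [], [], [], [], [], [], [], [], [], [], [], [], [], [], [], [], [], [], [], [(0, 1)], [], [], [], [], [], [], [], [], [(1, 1)], [], [], [], [], [], [], [], [], [], [], [], [], [], [], [], [], [], [], [], [], [], [], [], [], []]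
def cyc65 : List (List (ℕ × ℕ)) := [[], [(0, 1)], [], [], [(0, 1)], [], [], [], [], [], [], [], [], [], [], [], [], [], [], [], [], [], [], [(1, 1)], [], [], [], [], [], [], [], [], [], [], [], [], [], [], [], [], [], [], [], [], [], [], [], [], [], [], [], [], [], [], [], [], [], [], [], [], [], [], [(0, 1)], [], [], [], [], [], [(0, 1)], [], [], [], [], [], [], [], [], [], [], [], [], [], [], [], [], [], [], [], [], [], [], [], [], [], [], []]
def cyc66 : List (List (ℕ × ℕ)) := [[], [], [(0, 1)], [], [(0, 1)], [], [], [], [], [], [], [], [], [], [], [], [], [], [], [], [], [], [], [], [], [], [], [], [], [], [(1, 1)], [], [], [], [], [], [], [], [], [], [], [], [], [], [], [], [], [], [], [], [], [], [], [], [], [], [], [], [], [], [], [], [(0, 1)], [], [], [], [], [], [], [(0, 1)], [], [], [], [], [], [], [], [], [], [], [], [], [], [], [], [], [], [], [], [], [], [], [], [], [], []]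
def cyc67 : List (List (ℕ × ℕ)) := [[], [], [], [], [(0, 1)], [], [], [], [], [], [(0, 2)], [], [], [], [], [], [], [], [], [], [], [], [], [], [], [], [], [], [], [], [], [], [], [], [], [], [], [], [], [], [], [], [], [], [], [], [], [], [], [], [], [], [], [], [], [], [], [], [], [], [], [], [(0, 1)], [], [], [], [], [], [], [], [], [(1, 1)], [], [], [], [], [], [], [], [], [], [], [], [], [], [], [], [], [], [], [], [], [], [], [], []]
def cyc68 : List (List (ℕ × ℕ)) := [[], [(0, 1)], [], [], [], [(0, 1)], [], [], [], [], [], [], [], [], [], [], [], [], [], [], [], [], [], [], [(1, 1)], [], [], [], [], [], [], [], [], [], [], [], [], [], [], [], [], [], [], [], [], [], [], [], [], [], [], [], [], [], [], [], [], [], [], [], [], [], [], [(0, 1)], [], [], [], [], [(0, 1)], [], [], [], [], [], [], [], [], [], [], [], [], [], [], [], [], [], [], [], [], [], [], [], [], [], [], []]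
def cyc69 : List (List (ℕ × ℕ)) := [[], [], [], [], [], [(0, 1)], [], [], [], [], [(0, 2)], [], [], [], [], [], [], [], [], [], [], [], [], [], [], [], [], [], [], [], [], [], [], [], [], [], [], [], [], [], [], [], [], [], [], [], [], [], [], [], [], [], [], [], [], [], [], [], [], [], [], [], [], [(0, 1)], [], [], [], [], [], [], [], [], [(1, 1)], [], [], [], [], [], [], [], [], [], [], [], [], [], [], [], [], [], [], [], [], [], [], []]
def cyc70 : List (List (ℕ × ℕ)) := [[], [(0, 1)], [], [], [], [], [(0, 1)], [], [], [], [], [], [], [], [], [], [], [], [], [], [], [], [], [], [], [(1, 1)], [], [], [], [], [], [], [], [], [], [], [], [], [], [], [], [], [], [], [], [], [], [], [], [], [], [], [], [], [], [], [], [], [], [], [], [], [], [], [(0, 1)], [], [], [], [(0, 1)], [], [], [], [], [], [], [], [], [], [], [], [], [], [], [], [], [], [], [], [], [], [], [], [], [], [], []]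
def cyc71 : List (List (ℕ × ℕ)) := [[], [], [], [], [], [], [(0, 1)], [], [], [], [(0, 2)], [], [], [], [], [], [], [], [], [], [], [], [], [], [], [], [], [], [], [], [], [], [], [], [], [], [], [], [], [], [], [], [], [], [], [], [], [], [], [], [], [], [], [], [], [], [], [], [], [], [], [], [], [], [(0, 1)], [], [], [], [], [], [], [], [], [(1, 1)], [], [], [], [], [], [], [], [], [], [], [], [], [], [], [], [], [], [], [], [], [], []]
def cyc72 : List (List (ℕ × ℕ)) := [[], [(0, 1)], [], [], [], [], [], [(0, 1)], [], [], [], [], [], [], [], [], [], [], [], [], [], [], [], [], [], [], [(1, 1)], [], [], [], [], [], [], [], [], [], [], [], [], [], [], [], [], [], [], [], [], [], [], [], [], [], [], [], [], [], [], [], [], [], [], [], [], [], [], [(0, 1)], [], [], [(0, 1)], [], [], [], [], [], [], [], [], [], [], [], [], [], [], [], [], [], [], [], [], [], [], [], [], [], [], []]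
def cyc73 : List (List (ℕ × ℕ)) := [[], [], [], [], [], [], [], [(0, 1)], [], [], [(0, 2)], [], [], [], [], [], [], [], [], [], [], [], [], [], [], [], [], [], [], [], [], [], [], [], [], [], [], [], [], [], [], [], [], [], [], [], [], [], [], [], [], [], [], [], [], [], [], [], [], [], [], [], [], [], [], [(0, 1)], [], [], [], [], [], [], [], [], [(1, 1)], [], [], [], [], [], [], [], [], [], [], [], [], [], [], [], [], [], [], [], [], []]
def cyc74 : List (List (ℕ × ℕ)) := [[], [(0, 1)], [], [], [], [], [], [], [(0, 1)], [], [], [], [], [], [], [], [], [], [], [], [], [], [], [], [], [], [], [(1, 1)], [], [], [], [], [], [], [], [], [], [], [], [], [], [], [], [], [], [], [], [], [], [], [], [], [], [], [], [], [], [], [], [], [], [], [], [], [], [], [(0, 1)], [], [(0, 1)], [], [], [], [], [], [], [], [], [], [], [], [], [], [], [], [], [], [], [], [], [], [], [], [], [], [], []]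
def cyc75 : List (List (ℕ × ℕ)) := [[], [], [], [], [], [], [], [], [(0, 1)], [], [(0, 2)], [], [], [], [], [], [], [], [], [], [], [], [], [], [], [], [], [], [], [], [], [], [], [], [], [], [], [], [], [], [], [], [], [], [], [], [], [], [], [], [], [], [], [], [], [], [], [], [], [], [], [], [], [], [], [], [(0, 1)], [], [], [], [], [], [], [], [], [(1, 1)], [], [], [], [], [], [], [], [], [], [], [], [], [], [], [], [], [], [], [], []]
def cyc76 : List (List (ℕ × ℕ)) := [[], [(0, 1)], [], [], [], [], [], [], [], [(0, 1)], [], [], [], [], [], [], [], [], [], [], [], [], [], [], [], [], [], [], [(1, 1)], [], [], [], [], [], [], [], [], [], [], [], [], [], [], [], [], [], [], [], [], [], [], [], [], [], [], [], [], [], [], [], [], [], [], [], [], [], [], [(0, 1)], [(0, 1)], [], [], [], [], [], [], [], [], [], [], [], [], [], [], [], [], [], [], [], [], [], [], [], [], [], [], []]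
def cyc77 : List (List (ℕ × ℕ)) := [[], [], [], [], [], [], [], [], [], [(0, 1)], [(0, 2)], [], [], [], [], [], [], [], [], [], [], [], [], [], [], [], [], [], [], [], [], [], [], [], [], [], [], [], [], [], [], [], [], [], [], [], [], [], [], [], [], [], [], [], [], [], [], [], [], [], [], [], [], [], [], [], [], [(0, 1)], [], [], [], [], [], [], [], [], [(1, 1)], [], [], [], [], [], [], [], [], [], [], [], [], [], [], [], [], [], [], []]
def cyc78 : List (List (ℕ × ℕ)) := [[], [(0, 2), (306936, 1)], [], [], [], [], [], [], [], [], [], [], [], [], [], [], [], [], [], [], [], [], [], [], [], [], [], [], [], [], [], [], [], [], [], [], [], [], [], [], [], [], [], [], [], [], [], [], [], [], [], [], [], [], [], [], [], [], [], [(306936, 1), (0, 2)], [], [], [], [], [], [], [], [], [], [], [], [], [], [], [], [], [], [], [], [], [], [], [(306936, 1), (306937, 1)], [], [(306938, 1)], [], [], [], [], [], [], [], [], [], [], []]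
def cyc79 : List (List (ℕ × ℕ)) := [[], [], [], [(0, 2), (306936, 1)], [(0, 1), (306936, 2)], [(0, 1), (306936, 2)], [(0, 1), (306936, 2)], [(0, 1), (306936, 2)], [(0, 1), (306936, 2)], [(0, 1), (306936, 2)], [], [], [], [], [], [], [], [], [], [], [], [], [], [], [], [], [], [], [], [], [], [], [], [], [], [], [], [], [], [], [], [], [], [], [], [], [], [], [], [], [], [], [], [], [], [], [], [], [], [], [], [], [], [], [], [], [], [], [], [], [], [], [], [], [], [], [], [], [(306936, 2), (0, 1)], [], [], [], [(306936, 1)], [(306943, 2)], [(306957, 2)], [(306945, 2)], [(306939, 2)], [], [], [], [], [], [], [(306939, 1)], [], []]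
def cyc80 : List (List (ℕ × ℕ)) := [[], [], [], [], [], [], [], [], [], [], [(306034, 1)], [], [], [], [], [], [], [], [], [], [], [], [], [], [], [], [], [], [], [], [], [], [], [], [], [], [], [], [], [], [], [], [], [], [], [], [], [], [], [], [], [], [], [], [], [], [], [], [], [], [], [], [], [], [], [], [], [], [], [], [], [], [], [], [], [], [], [], [], [], [], [], [(306034, 2), (612970, 1)], [], [], [], [], [], [], [], [], [], [], [], [], [(919906, 1)]]

end Cfsg.Agent.Lib.Helper19.F24M.FoxP3Cyc
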