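import Cfsg.Agent.Lib.Helper19.F24M.T3C0
import Cfsg.Agent.Lib.Helper19.F24M.T3C1
import Cfsg.Agent.Lib.Helper19.F24M.T3C2
import Cfsg.Agent.Lib.Helper19.F24M.T3C3
import Cfsg.Agent.Lib.Helper19.F24M.T3C4
import Cfsg.Agent.Lib.Helper19.F24M.T3C5
import Cfsg.Agent.Lib.Helper19.F24M.T3C6
import Cfsg.Agent.Lib.Helper19.F24M.T3C7
import Cfsg.Agent.Lib.Helper19.F24M.T3C8
import Cfsg.Agent.Lib.Helper19.F24M.T3C9
import Cfsg.Agent.Lib.Helper19.F24M.T3C10
import Cfsg.Agent.Lib.Helper19.F24M.T3C11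
import Cfsg.Agent.Lib.Helper19.F24M.T3C12
import Cfsg.Agent.Lib.Helper19.F24M.T3C13
import Cfsg.Agent.Lib.Helper19.F24M.T3C14
import Cfsg.Agent.Lib.Helper19.F24M.T3C15
import Cfsg.Agent.Lib.Helper19.F24M.T3C16
import Cfsg.Agent.Lib.Helper19.F24M.T3C17
import Cfsg.Agent.Lib.Helper19.F24M.T3Tree
set_option autoImplicit false
set_option maxRecDepth 100000

/-! The coset table of the triple cover of `Fi₂₄′` over `⟨u_a, …, u_i⟩`: 920808 points, letters `2 x` (generator) and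
`2 x + 1` (inverse) for the generators `k, a, …, i, z, t, tp` (indices `0, …, 13`); `z` adds `306936`. -/

namespace Cfsg.Agent.Lib.Helper19.F24M.T3Tab
open Cfsg.Agent.Lib.Helper28.TC2Upper Cfsg.Agent.Lib.Helper28.TC2Lower Cfsg.Agent.Lib.Helper19.F24M.T3C

/-- the chunks of the letter 0 -/
def colL_0 : BT ℕ := (BT.node 449 (BT.node 224 (BT.node 112 (BT.node 56 (BT.node 28 (BT.node 14 (BT.node 7 (BT.node 3 (BT.node 1 (BT.node 0 (BT.leaf c0_0) (BT.leaf c0_1)) (BT.node 2 (BT.leaf c0_2) (BT.leaf c0_3))) (BT.node 5 (BT.node 4 (BT.leaf c0_4) (BT.leaf c0_5)) (BT.node 6 (BT.leaf c0_6) (BT.leaf c0_7)))) (BT.node 11 (BT.node 9 (BT.node 8 (BT.leaf c0_8) (BT.leaf c0_9)) (BT.node 10 (BT.leaf c0_10) (BT.leaf c0_11))) (BT.node 13 (BT.node 12 (BT.leaf c0_12) (BT.leaf c0_13)) (BT.leaf c0_14)))) (BT.node 21 (BT.node 18 (BT.node 16 (BT.node 15 (BT.leaf c0_15) (BT.leaf c0_16)) (BT.node 17 (BT.leaf c0_17) (BT.leaf c0_18)))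 (BT.node 20 (BT.node 19 (BT.leaf c0_19) (BT.leaf c0_20)) (BT.leaf c0_21))) (BT.node 25 (BT.node 23 (BT.node 22 (BT.leaf c0_22) (BT.leaf c0_23)) (BT.node 24 (BT.leaf c0_24) (BT.leaf c0_25))) (BT.node 27 (BT.node 26 (BT.leaf c0_26) (BT.leaf c0_27)) (BT.leaf c0_28))))) (BT.node 42 (BT.node 35 (BT.node 32 (BT.node 30 (BT.node 29 (BT.leaf c0_29) (BT.leaf c0_30)) (BT.node 31 (BT.leaf c0_31) (BT.leaf c0_32))) (BT.node 34 (BT.node 33 (BT.leaf c0_33) (BT.leaf c0_34)) (BT.leaf c0_35))) (BT.node 39 (BT.node 37 (BT.node 36 (BT.leaf c0_36) (BT.leaf c0_37)) (BT.node 38 (BT.leaf c0_38) (BT.leaf c0_39))) (BT.node 41 (BT.node 40 (BT.leaf c0_40) (BT.leaf c0_41)) (BT.leaf c0_42)))) (BT.node 49 (BT.node 46 (BT.node 44 (BT.node 43 (BT.leaf c0_43) (BT.leaf c0_44)) (BT.node 45 (BT.leaf c0_45) (BT.leaf c0_46))) (BT.node 48 (BT.node 47 (BT.leaf c0_47) (BT.leaf c0_48)) (BT.leaf c0_49))) (BT.node 53 (BT.node 51 (BT.node 50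 (BT.leaf c0_50) (BT.leaf c0_51)) (BT.node 52 (BT.leaf c0_52) (BT.leaf c0_53))) (BT.node 55 (BT.node 54 (BT.leaf c0_54) (BT.leaf c0_55)) (BT.leaf c0_56)))))) (BT.node 84 (BT.node 70 (BT.node 63 (BT.node 60 (BT.node 58 (BT.node 57 (BT.leaf c0_57) (BT.leaf c0_58)) (BT.node 59 (BT.leaf c0_59) (BT.leaf c0_60))) (BT.node 62 (BT.node 61 (BT.leaf c0_61) (BT.leaf c0_62)) (BT.leaf c0_63))) (BT.node 67 (BT.node 65 (BT.node 64 (BT.leaf c0_64) (BT.leaf c0_65)) (BT.node 66 (BT.leaf c0_66) (BT.leaf c0_67))) (BT.node 69 (BT.node 68 (BT.leaf c0_68) (BT.leaf c0_69)) (BT.leaf c0_70)))) (BT.node 77 (BT.node 74 (BT.node 72 (BT.node 71 (BT.leaf c0_71) (BT.leaf c0_72)) (BT.node 73 (BT.leaf c0_73) (BT.leaf c0_74))) (BT.node 76 (BT.node 75 (BT.leaf c0_75) (BT.leaf c0_76)) (BT.leaf c0_77))) (BT.node 81 (BT.node 79 (BT.node 78 (BT.leaf c0_78) (BT.leaf c0_79)) (BT.node 80 (BT.leaf c0_80) (BT.leaf c0_81))) (BT.node 83 (BT.node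 82 (BT.leaf c0_82) (BT.leaf c0_83)) (BT.leaf c0_84))))) (BT.node 98 (BT.node 91 (BT.node 88 (BT.node 86 (BT.node 85 (BT.leaf c0_85) (BT.leaf c0_86)) (BT.node 87 (BT.leaf c0_87) (BT.leaf c0_88))) (BT.node 90 (BT.node 89 (BT.leaf c0_89) (BT.leaf c0_90)) (BT.leaf c0_91))) (BT.node 95 (BT.node 93 (BT.node 92 (BT.leaf c0_92) (BT.leaf c0_93)) (BT.node 94 (BT.leaf c0_94) (BT.leaf c0_95))) (BT.node 97 (BT.node 96 (BT.leaf c0_96) (BT.leaf c0_97)) (BT.leaf c0_98)))) (BT.node 105 (BT.node 102 (BT.node 100 (BT.node 99 (BT.leaf c0_99) (BT.leaf c0_100)) (BT.node 101 (BT.leaf c0_101) (BT.leaf c0_102))) (BT.node 104 (BT.node 103 (BT.leaf c0_103) (BT.leaf c0_104)) (BT.leaf c0_105))) (BT.node 109 (BT.node 107 (BT.node 106 (BT.leaf c0_106) (BT.leaf c0_107)) (BT.node 108 (BT.leaf c0_108) (BT.leaf c0_109))) (BT.node 111 (BT.node 110 (BT.leaf c0_110) (BT.leaf c0_111)) (BT.leaf c0_112))))))) (BT.node 168 (BT.node 140 (BT.node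 126 (BT.node 119 (BT.node 116 (BT.node 114 (BT.node 113 (BT.leaf c0_113) (BT.leaf c0_114)) (BT.node 115 (BT.leaf c0_115) (BT.leaf c0_116))) (BT.node 118 (BT.node 117 (BT.leaf c0_117) (BT.leaf c0_118)) (BT.leaf c0_119))) (BT.node 123 (BT.node 121 (BT.node 120 (BT.leaf c0_120) (BT.leaf c0_121)) (BT.node 122 (BT.leaf c0_122) (BT.leaf c0_123))) (BT.node 125 (BT.node 124 (BT.leaf c0_124) (BT.leaf c0_125)) (BT.leaf c0_126)))) (BT.node 133 (BT.node 130 (BT.node 128 (BT.node 127 (BT.leaf c0_127) (BT.leaf c0_128)) (BT.node 129 (BT.leaf c0_129) (BT.leaf c0_130))) (BT.node 132 (BT.node 131 (BT.leaf c0_131) (BT.leaf c0_132)) (BT.leaf c0_133))) (BT.node 137 (BT.node 135 (BT.node 134 (BT.leaf c0_134) (BT.leaf c0_135)) (BT.node 136 (BT.leaf c0_136) (BT.leaf c0_137))) (BT.node 139 (BT.node 138 (BT.leaf c0_138) (BT.leaf c0_139)) (BT.leaf c0_140))))) (BT.node 154 (BT.node 147 (BT.node 144 (BT.node 142 (BT.node 141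 (BT.leaf c0_141) (BT.leaf c0_142)) (BT.node 143 (BT.leaf c0_143) (BT.leaf c0_144))) (BT.node 146 (BT.node 145 (BT.leaf c0_145) (BT.leaf c0_146)) (BT.leaf c0_147))) (BT.node 151 (BT.node 149 (BT.node 148 (BT.leaf c0_148) (BT.leaf c0_149)) (BT.node 150 (BT.leaf c0_150) (BT.leaf c0_151))) (BT.node 153 (BT.node 152 (BT.leaf c0_152) (BT.leaf c0_153)) (BT.leaf c0_154)))) (BT.node 161 (BT.node 158 (BT.node 156 (BT.node 155 (BT.leaf c0_155) (BT.leaf c0_156)) (BT.node 157 (BT.leaf c0_157) (BT.leaf c0_158))) (BT.node 160 (BT.node 159 (BT.leaf c0_159) (BT.leaf c0_160)) (BT.leaf c0_161))) (BT.node 165 (BT.node 163 (BT.node 162 (BT.leaf c0_162) (BT.leaf c0_163)) (BT.node 164 (BT.leaf c0_164) (BT.leaf c0_165))) (BT.node 167 (BT.node 166 (BT.leaf c0_166) (BT.leaf c0_167)) (BT.leaf c0_168)))))) (BT.node 196 (BT.node 182 (BT.node 175 (BT.node 172 (BT.node 170 (BT.node 169 (BT.leaf c0_169) (BT.leaf c0_170)) (BT.node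 171 (BT.leaf c0_171) (BT.leaf c0_172))) (BT.node 174 (BT.node 173 (BT.leaf c0_173) (BT.leaf c0_174)) (BT.leaf c0_175))) (BT.node 179 (BT.node 177 (BT.node 176 (BT.leaf c0_176) (BT.leaf c0_177)) (BT.node 178 (BT.leaf c0_178) (BT.leaf c0_179))) (BT.node 181 (BT.node 180 (BT.leaf c0_180) (BT.leaf c0_181)) (BT.leaf c0_182)))) (BT.node 189 (BT.node 186 (BT.node 184 (BT.node 183 (BT.leaf c0_183) (BT.leaf c0_184)) (BT.node 185 (BT.leaf c0_185) (BT.leaf c0_186))) (BT.node 188 (BT.node 187 (BT.leaf c0_187) (BT.leaf c0_188)) (BT.leaf c0_189))) (BT.node 193 (BT.node 191 (BT.node 190 (BT.leaf c0_190) (BT.leaf c0_191)) (BT.node 192 (BT.leaf c0_192) (BT.leaf c0_193))) (BT.node 195 (BT.node 194 (BT.leaf c0_194) (BT.leaf c0_195)) (BT.leaf c0_196))))) (BT.node 210 (BT.node 203 (BT.node 200 (BT.node 198 (BT.node 197 (BT.leaf c0_197) (BT.leaf c0_198)) (BT.node 199 (BT.leaf c0_199) (BT.leaf c0_200))) (BT.node 202 (BT.node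 201 (BT.leaf c0_201) (BT.leaf c0_202)) (BT.leaf c0_203))) (BT.node 207 (BT.node 205 (BT.node 204 (BT.leaf c0_204) (BT.leaf c0_205)) (BT.node 206 (BT.leaf c0_206) (BT.leaf c0_207))) (BT.node 209 (BT.node 208 (BT.leaf c0_208) (BT.leaf c0_209)) (BT.leaf c0_210)))) (BT.node 217 (BT.node 214 (BT.node 212 (BT.node 211 (BT.leaf c0_211) (BT.leaf c0_212)) (BT.node 213 (BT.leaf c0_213) (BT.leaf c0_214))) (BT.node 216 (BT.node 215 (BT.leaf c0_215) (BT.leaf c0_216)) (BT.leaf c0_217))) (BT.node 221 (BT.node 219 (BT.node 218 (BT.leaf c0_218) (BT.leaf c0_219)) (BT.node 220 (BT.leaf c0_220) (BT.leaf c0_221))) (BT.node 223 (BT.node 222 (BT.leaf c0_222) (BT.leaf c0_223)) (BT.leaf c0_224)))))))) (BT.node 337 (BT.node 281 (BT.node 253 (BT.node 239 (BT.node 232 (BT.node 228 (BT.node 226 (BT.node 225 (BT.leaf c0_225) (BT.leaf c0_226)) (BT.node 227 (BT.leaf c0_227) (BT.leaf c0_228))) (BT.node 230 (BT.node 229 (BT.leaf c0_229)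 (BT.leaf c0_230)) (BT.node 231 (BT.leaf c0_231) (BT.leaf c0_232)))) (BT.node 236 (BT.node 234 (BT.node 233 (BT.leaf c0_233) (BT.leaf c0_234)) (BT.node 235 (BT.leaf c0_235) (BT.leaf c0_236))) (BT.node 238 (BT.node 237 (BT.leaf c0_237) (BT.leaf c0_238)) (BT.leaf c0_239)))) (BT.node 246 (BT.node 243 (BT.node 241 (BT.node 240 (BT.leaf c0_240) (BT.leaf c0_241)) (BT.node 242 (BT.leaf c0_242) (BT.leaf c0_243))) (BT.node 245 (BT.node 244 (BT.leaf c0_244) (BT.leaf c0_245)) (BT.leaf c0_246))) (BT.node 250 (BT.node 248 (BT.node 247 (BT.leaf c0_247) (BT.leaf c0_248)) (BT.node 249 (BT.leaf c0_249) (BT.leaf c0_250))) (BT.node 252 (BT.node 251 (BT.leaf c0_251) (BT.leaf c0_252)) (BT.leaf c0_253))))) (BT.node 267 (BT.node 260 (BT.node 257 (BT.node 255 (BT.node 254 (BT.leaf c0_254) (BT.leaf c0_255)) (BT.node 256 (BT.leaf c0_256) (BT.leaf c0_257))) (BT.node 259 (BT.node 258 (BT.leaf c0_258) (BT.leaf c0_259)) (BT.leaf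 c0_260))) (BT.node 264 (BT.node 262 (BT.node 261 (BT.leaf c0_261) (BT.leaf c0_262)) (BT.node 263 (BT.leaf c0_263) (BT.leaf c0_264))) (BT.node 266 (BT.node 265 (BT.leaf c0_265) (BT.leaf c0_266)) (BT.leaf c0_267)))) (BT.node 274 (BT.node 271 (BT.node 269 (BT.node 268 (BT.leaf c0_268) (BT.leaf c0_269)) (BT.node 270 (BT.leaf c0_270) (BT.leaf c0_271))) (BT.node 273 (BT.node 272 (BT.leaf c0_272) (BT.leaf c0_273)) (BT.leaf c0_274))) (BT.node 278 (BT.node 276 (BT.node 275 (BT.leaf c0_275) (BT.leaf c0_276)) (BT.node 277 (BT.leaf c0_277) (BT.leaf c0_278))) (BT.node 280 (BT.node 279 (BT.leaf c0_279) (BT.leaf c0_280)) (BT.leaf c0_281)))))) (BT.node 309 (BT.node 295 (BT.node 288 (BT.node 285 (BT.node 283 (BT.node 282 (BT.leaf c0_282) (BT.leaf c0_283)) (BT.node 284 (BT.leaf c0_284) (BT.leaf c0_285))) (BT.node 287 (BT.node 286 (BT.leaf c0_286) (BT.leaf c0_287)) (BT.leaf c0_288))) (BT.node 292 (BT.node 290 (BT.node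 289 (BT.leaf c0_289) (BT.leaf c0_290)) (BT.node 291 (BT.leaf c0_291) (BT.leaf c0_292))) (BT.node 294 (BT.node 293 (BT.leaf c0_293) (BT.leaf c0_294)) (BT.leaf c0_295)))) (BT.node 302 (BT.node 299 (BT.node 297 (BT.node 296 (BT.leaf c0_296) (BT.leaf c0_297)) (BT.node 298 (BT.leaf c0_298) (BT.leaf c0_299))) (BT.node 301 (BT.node 300 (BT.leaf c0_300) (BT.leaf c0_301)) (BT.leaf c0_302))) (BT.node 306 (BT.node 304 (BT.node 303 (BT.leaf c0_303) (BT.leaf c0_304)) (BT.node 305 (BT.leaf c0_305) (BT.leaf c0_306))) (BT.node 308 (BT.node 307 (BT.leaf c0_307) (BT.leaf c0_308)) (BT.leaf c0_309))))) (BT.node 323 (BT.node 316 (BT.node 313 (BT.node 311 (BT.node 310 (BT.leaf c0_310) (BT.leaf c0_311)) (BT.node 312 (BT.leaf c0_312) (BT.leaf c0_313))) (BT.node 315 (BT.node 314 (BT.leaf c0_314) (BT.leaf c0_315)) (BT.leaf c0_316))) (BT.node 320 (BT.node 318 (BT.node 317 (BT.leaf c0_317) (BT.leaf c0_318)) (BT.node 319 (BT.leaf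 c0_319) (BT.leaf c0_320))) (BT.node 322 (BT.node 321 (BT.leaf c0_321) (BT.leaf c0_322)) (BT.leaf c0_323)))) (BT.node 330 (BT.node 327 (BT.node 325 (BT.node 324 (BT.leaf c0_324) (BT.leaf c0_325)) (BT.node 326 (BT.leaf c0_326) (BT.leaf c0_327))) (BT.node 329 (BT.node 328 (BT.leaf c0_328) (BT.leaf c0_329)) (BT.leaf c0_330))) (BT.node 334 (BT.node 332 (BT.node 331 (BT.leaf c0_331) (BT.leaf c0_332)) (BT.node 333 (BT.leaf c0_333) (BT.leaf c0_334))) (BT.node 336 (BT.node 335 (BT.leaf c0_335) (BT.leaf c0_336)) (BT.leaf c0_337))))))) (BT.node 393 (BT.node 365 (BT.node 351 (BT.node 344 (BT.node 341 (BT.node 339 (BT.node 338 (BT.leaf c0_338) (BT.leaf c0_339)) (BT.node 340 (BT.leaf c0_340) (BT.leaf c0_341))) (BT.node 343 (BT.node 342 (BT.leaf c0_342) (BT.leaf c0_343)) (BT.leaf c0_344))) (BT.node 348 (BT.node 346 (BT.node 345 (BT.leaf c0_345) (BT.leaf c0_346)) (BT.node 347 (BT.leaf c0_347) (BT.leaf c0_348))) (BT.node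 350 (BT.node 349 (BT.leaf c0_349) (BT.leaf c0_350)) (BT.leaf c0_351)))) (BT.node 358 (BT.node 355 (BT.node 353 (BT.node 352 (BT.leaf c0_352) (BT.leaf c0_353)) (BT.node 354 (BT.leaf c0_354) (BT.leaf c0_355))) (BT.node 357 (BT.node 356 (BT.leaf c0_356) (BT.leaf c0_357)) (BT.leaf c0_358))) (BT.node 362 (BT.node 360 (BT.node 359 (BT.leaf c0_359) (BT.leaf c0_360)) (BT.node 361 (BT.leaf c0_361) (BT.leaf c0_362))) (BT.node 364 (BT.node 363 (BT.leaf c0_363) (BT.leaf c0_364)) (BT.leaf c0_365))))) (BT.node 379 (BT.node 372 (BT.node 369 (BT.node 367 (BT.node 366 (BT.leaf c0_366) (BT.leaf c0_367)) (BT.node 368 (BT.leaf c0_368) (BT.leaf c0_369))) (BT.node 371 (BT.node 370 (BT.leaf c0_370) (BT.leaf c0_371)) (BT.leaf c0_372))) (BT.node 376 (BT.node 374 (BT.node 373 (BT.leaf c0_373) (BT.leaf c0_374)) (BT.node 375 (BT.leaf c0_375) (BT.leaf c0_376))) (BT.node 378 (BT.node 377 (BT.leaf c0_377) (BT.leaf c0_378)) (BT.leaf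 c0_379)))) (BT.node 386 (BT.node 383 (BT.node 381 (BT.node 380 (BT.leaf c0_380) (BT.leaf c0_381)) (BT.node 382 (BT.leaf c0_382) (BT.leaf c0_383))) (BT.node 385 (BT.node 384 (BT.leaf c0_384) (BT.leaf c0_385)) (BT.leaf c0_386))) (BT.node 390 (BT.node 388 (BT.node 387 (BT.leaf c0_387) (BT.leaf c0_388)) (BT.node 389 (BT.leaf c0_389) (BT.leaf c0_390))) (BT.node 392 (BT.node 391 (BT.leaf c0_391) (BT.leaf c0_392)) (BT.leaf c0_393)))))) (BT.node 421 (BT.node 407 (BT.node 400 (BT.node 397 (BT.node 395 (BT.node 394 (BT.leaf c0_394) (BT.leaf c0_395)) (BT.node 396 (BT.leaf c0_396) (BT.leaf c0_397))) (BT.node 399 (BT.node 398 (BT.leaf c0_398) (BT.leaf c0_399)) (BT.leaf c0_400))) (BT.node 404 (BT.node 402 (BT.node 401 (BT.leaf c0_401) (BT.leaf c0_402)) (BT.node 403 (BT.leaf c0_403) (BT.leaf c0_404))) (BT.node 406 (BT.node 405 (BT.leaf c0_405) (BT.leaf c0_406)) (BT.leaf c0_407)))) (BT.node 414 (BT.node 411 (BT.node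 409 (BT.node 408 (BT.leaf c0_408) (BT.leaf c0_409)) (BT.node 410 (BT.leaf c0_410) (BT.leaf c0_411))) (BT.node 413 (BT.node 412 (BT.leaf c0_412) (BT.leaf c0_413)) (BT.leaf c0_414))) (BT.node 418 (BT.node 416 (BT.node 415 (BT.leaf c0_415) (BT.leaf c0_416)) (BT.node 417 (BT.leaf c0_417) (BT.leaf c0_418))) (BT.node 420 (BT.node 419 (BT.leaf c0_419) (BT.leaf c0_420)) (BT.leaf c0_421))))) (BT.node 435 (BT.node 428 (BT.node 425 (BT.node 423 (BT.node 422 (BT.leaf c0_422) (BT.leaf c0_423)) (BT.node 424 (BT.leaf c0_424) (BT.leaf c0_425))) (BT.node 427 (BT.node 426 (BT.leaf c0_426) (BT.leaf c0_427)) (BT.leaf c0_428))) (BT.node 432 (BT.node 430 (BT.node 429 (BT.leaf c0_429) (BT.leaf c0_430)) (BT.node 431 (BT.leaf c0_431) (BT.leaf c0_432))) (BT.node 434 (BT.node 433 (BT.leaf c0_433) (BT.leaf c0_434)) (BT.leaf c0_435)))) (BT.node 442 (BT.node 439 (BT.node 437 (BT.node 436 (BT.leaf c0_436) (BT.leaf c0_437)) (BT.node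 438 (BT.leaf c0_438) (BT.leaf c0_439))) (BT.node 441 (BT.node 440 (BT.leaf c0_440) (BT.leaf c0_441)) (BT.leaf c0_442))) (BT.node 446 (BT.node 444 (BT.node 443 (BT.leaf c0_443) (BT.leaf c0_444)) (BT.node 445 (BT.leaf c0_445) (BT.leaf c0_446))) (BT.node 448 (BT.node 447 (BT.leaf c0_447) (BT.leaf c0_448)) (BT.leaf c0_449))))))))) (BT.node 674 (BT.node 562 (BT.node 506 (BT.node 478 (BT.node 464 (BT.node 457 (BT.node 453 (BT.node 451 (BT.node 450 (BT.leaf c0_450) (BT.leaf c0_451)) (BT.node 452 (BT.leaf c0_452) (BT.leaf c0_453))) (BT.node 455 (BT.node 454 (BT.leaf c0_454) (BT.leaf c0_455)) (BT.node 456 (BT.leaf c0_456) (BT.leaf c0_457)))) (BT.node 461 (BT.node 459 (BT.node 458 (BT.leaf c0_458) (BT.leaf c0_459)) (BT.node 460 (BT.leaf c0_460) (BT.leaf c0_461))) (BT.node 463 (BT.node 462 (BT.leaf c0_462) (BT.leaf c0_463)) (BT.leaf c0_464)))) (BT.node 471 (BT.node 468 (BT.node 466 (BT.node 465 (BT.leaf c0_465)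 (BT.leaf c0_466)) (BT.node 467 (BT.leaf c0_467) (BT.leaf c0_468))) (BT.node 470 (BT.node 469 (BT.leaf c0_469) (BT.leaf c0_470)) (BT.leaf c0_471))) (BT.node 475 (BT.node 473 (BT.node 472 (BT.leaf c0_472) (BT.leaf c0_473)) (BT.node 474 (BT.leaf c0_474) (BT.leaf c0_475))) (BT.node 477 (BT.node 476 (BT.leaf c0_476) (BT.leaf c0_477)) (BT.leaf c0_478))))) (BT.node 492 (BT.node 485 (BT.node 482 (BT.node 480 (BT.node 479 (BT.leaf c0_479) (BT.leaf c0_480)) (BT.node 481 (BT.leaf c0_481) (BT.leaf c0_482))) (BT.node 484 (BT.node 483 (BT.leaf c0_483) (BT.leaf c0_484)) (BT.leaf c0_485))) (BT.node 489 (BT.node 487 (BT.node 486 (BT.leaf c0_486) (BT.leaf c0_487)) (BT.node 488 (BT.leaf c0_488) (BT.leaf c0_489))) (BT.node 491 (BT.node 490 (BT.leaf c0_490) (BT.leaf c0_491)) (BT.leaf c0_492)))) (BT.node 499 (BT.node 496 (BT.node 494 (BT.node 493 (BT.leaf c0_493) (BT.leaf c0_494)) (BT.node 495 (BT.leaf c0_495) (BT.leaf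 c0_496))) (BT.node 498 (BT.node 497 (BT.leaf c0_497) (BT.leaf c0_498)) (BT.leaf c0_499))) (BT.node 503 (BT.node 501 (BT.node 500 (BT.leaf c0_500) (BT.leaf c0_501)) (BT.node 502 (BT.leaf c0_502) (BT.leaf c0_503))) (BT.node 505 (BT.node 504 (BT.leaf c0_504) (BT.leaf c0_505)) (BT.leaf c0_506)))))) (BT.node 534 (BT.node 520 (BT.node 513 (BT.node 510 (BT.node 508 (BT.node 507 (BT.leaf c0_507) (BT.leaf c0_508)) (BT.node 509 (BT.leaf c0_509) (BT.leaf c0_510))) (BT.node 512 (BT.node 511 (BT.leaf c0_511) (BT.leaf c0_512)) (BT.leaf c0_513))) (BT.node 517 (BT.node 515 (BT.node 514 (BT.leaf c0_514) (BT.leaf c0_515)) (BT.node 516 (BT.leaf c0_516) (BT.leaf c0_517))) (BT.node 519 (BT.node 518 (BT.leaf c0_518) (BT.leaf c0_519)) (BT.leaf c0_520)))) (BT.node 527 (BT.node 524 (BT.node 522 (BT.node 521 (BT.leaf c0_521) (BT.leaf c0_522)) (BT.node 523 (BT.leaf c0_523) (BT.leaf c0_524))) (BT.node 526 (BT.node 525 (BT.leaf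 c0_525) (BT.leaf c0_526)) (BT.leaf c0_527))) (BT.node 531 (BT.node 529 (BT.node 528 (BT.leaf c0_528) (BT.leaf c0_529)) (BT.node 530 (BT.leaf c0_530) (BT.leaf c0_531))) (BT.node 533 (BT.node 532 (BT.leaf c0_532) (BT.leaf c0_533)) (BT.leaf c0_534))))) (BT.node 548 (BT.node 541 (BT.node 538 (BT.node 536 (BT.node 535 (BT.leaf c0_535) (BT.leaf c0_536)) (BT.node 537 (BT.leaf c0_537) (BT.leaf c0_538))) (BT.node 540 (BT.node 539 (BT.leaf c0_539) (BT.leaf c0_540)) (BT.leaf c0_541))) (BT.node 545 (BT.node 543 (BT.node 542 (BT.leaf c0_542) (BT.leaf c0_543)) (BT.node 544 (BT.leaf c0_544) (BT.leaf c0_545))) (BT.node 547 (BT.node 546 (BT.leaf c0_546) (BT.leaf c0_547)) (BT.leaf c0_548)))) (BT.node 555 (BT.node 552 (BT.node 550 (BT.node 549 (BT.leaf c0_549) (BT.leaf c0_550)) (BT.node 551 (BT.leaf c0_551) (BT.leaf c0_552))) (BT.node 554 (BT.node 553 (BT.leaf c0_553) (BT.leaf c0_554)) (BT.leaf c0_555))) (BT.node 559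 (BT.node 557 (BT.node 556 (BT.leaf c0_556) (BT.leaf c0_557)) (BT.node 558 (BT.leaf c0_558) (BT.leaf c0_559))) (BT.node 561 (BT.node 560 (BT.leaf c0_560) (BT.leaf c0_561)) (BT.leaf c0_562))))))) (BT.node 618 (BT.node 590 (BT.node 576 (BT.node 569 (BT.node 566 (BT.node 564 (BT.node 563 (BT.leaf c0_563) (BT.leaf c0_564)) (BT.node 565 (BT.leaf c0_565) (BT.leaf c0_566))) (BT.node 568 (BT.node 567 (BT.leaf c0_567) (BT.leaf c0_568)) (BT.leaf c0_569))) (BT.node 573 (BT.node 571 (BT.node 570 (BT.leaf c0_570) (BT.leaf c0_571)) (BT.node 572 (BT.leaf c0_572) (BT.leaf c0_573))) (BT.node 575 (BT.node 574 (BT.leaf c0_574) (BT.leaf c0_575)) (BT.leaf c0_576)))) (BT.node 583 (BT.node 580 (BT.node 578 (BT.node 577 (BT.leaf c0_577) (BT.leaf c0_578)) (BT.node 579 (BT.leaf c0_579) (BT.leaf c0_580))) (BT.node 582 (BT.node 581 (BT.leaf c0_581) (BT.leaf c0_582)) (BT.leaf c0_583))) (BT.node 587 (BT.node 585 (BT.node 584 (BT.leaf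 c0_584) (BT.leaf c0_585)) (BT.node 586 (BT.leaf c0_586) (BT.leaf c0_587))) (BT.node 589 (BT.node 588 (BT.leaf c0_588) (BT.leaf c0_589)) (BT.leaf c0_590))))) (BT.node 604 (BT.node 597 (BT.node 594 (BT.node 592 (BT.node 591 (BT.leaf c0_591) (BT.leaf c0_592)) (BT.node 593 (BT.leaf c0_593) (BT.leaf c0_594))) (BT.node 596 (BT.node 595 (BT.leaf c0_595) (BT.leaf c0_596)) (BT.leaf c0_597))) (BT.node 601 (BT.node 599 (BT.node 598 (BT.leaf c0_598) (BT.leaf c0_599)) (BT.node 600 (BT.leaf c0_600) (BT.leaf c0_601))) (BT.node 603 (BT.node 602 (BT.leaf c0_602) (BT.leaf c0_603)) (BT.leaf c0_604)))) (BT.node 611 (BT.node 608 (BT.node 606 (BT.node 605 (BT.leaf c0_605) (BT.leaf c0_606)) (BT.node 607 (BT.leaf c0_607) (BT.leaf c0_608))) (BT.node 610 (BT.node 609 (BT.leaf c0_609) (BT.leaf c0_610)) (BT.leaf c0_611))) (BT.node 615 (BT.node 613 (BT.node 612 (BT.leaf c0_612) (BT.leaf c0_613)) (BT.node 614 (BT.leaf c0_614)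 (BT.leaf c0_615))) (BT.node 617 (BT.node 616 (BT.leaf c0_616) (BT.leaf c0_617)) (BT.leaf c0_618)))))) (BT.node 646 (BT.node 632 (BT.node 625 (BT.node 622 (BT.node 620 (BT.node 619 (BT.leaf c0_619) (BT.leaf c0_620)) (BT.node 621 (BT.leaf c0_621) (BT.leaf c0_622))) (BT.node 624 (BT.node 623 (BT.leaf c0_623) (BT.leaf c0_624)) (BT.leaf c0_625))) (BT.node 629 (BT.node 627 (BT.node 626 (BT.leaf c0_626) (BT.leaf c0_627)) (BT.node 628 (BT.leaf c0_628) (BT.leaf c0_629))) (BT.node 631 (BT.node 630 (BT.leaf c0_630) (BT.leaf c0_631)) (BT.leaf c0_632)))) (BT.node 639 (BT.node 636 (BT.node 634 (BT.node 633 (BT.leaf c0_633) (BT.leaf c0_634)) (BT.node 635 (BT.leaf c0_635) (BT.leaf c0_636))) (BT.node 638 (BT.node 637 (BT.leaf c0_637) (BT.leaf c0_638)) (BT.leaf c0_639))) (BT.node 643 (BT.node 641 (BT.node 640 (BT.leaf c0_640) (BT.leaf c0_641)) (BT.node 642 (BT.leaf c0_642) (BT.leaf c0_643))) (BT.node 645 (BT.node 644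 (BT.leaf c0_644) (BT.leaf c0_645)) (BT.leaf c0_646))))) (BT.node 660 (BT.node 653 (BT.node 650 (BT.node 648 (BT.node 647 (BT.leaf c0_647) (BT.leaf c0_648)) (BT.node 649 (BT.leaf c0_649) (BT.leaf c0_650))) (BT.node 652 (BT.node 651 (BT.leaf c0_651) (BT.leaf c0_652)) (BT.leaf c0_653))) (BT.node 657 (BT.node 655 (BT.node 654 (BT.leaf c0_654) (BT.leaf c0_655)) (BT.node 656 (BT.leaf c0_656) (BT.leaf c0_657))) (BT.node 659 (BT.node 658 (BT.leaf c0_658) (BT.leaf c0_659)) (BT.leaf c0_660)))) (BT.node 667 (BT.node 664 (BT.node 662 (BT.node 661 (BT.leaf c0_661) (BT.leaf c0_662)) (BT.node 663 (BT.leaf c0_663) (BT.leaf c0_664))) (BT.node 666 (BT.node 665 (BT.leaf c0_665) (BT.leaf c0_666)) (BT.leaf c0_667))) (BT.node 671 (BT.node 669 (BT.node 668 (BT.leaf c0_668) (BT.leaf c0_669)) (BT.node 670 (BT.leaf c0_670) (BT.leaf c0_671))) (BT.node 673 (BT.node 672 (BT.leaf c0_672) (BT.leaf c0_673)) (BT.leaf c0_674))))))))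 (BT.node 787 (BT.node 731 (BT.node 703 (BT.node 689 (BT.node 682 (BT.node 678 (BT.node 676 (BT.node 675 (BT.leaf c0_675) (BT.leaf c0_676)) (BT.node 677 (BT.leaf c0_677) (BT.leaf c0_678))) (BT.node 680 (BT.node 679 (BT.leaf c0_679) (BT.leaf c0_680)) (BT.node 681 (BT.leaf c0_681) (BT.leaf c0_682)))) (BT.node 686 (BT.node 684 (BT.node 683 (BT.leaf c0_683) (BT.leaf c0_684)) (BT.node 685 (BT.leaf c0_685) (BT.leaf c0_686))) (BT.node 688 (BT.node 687 (BT.leaf c0_687) (BT.leaf c0_688)) (BT.leaf c0_689)))) (BT.node 696 (BT.node 693 (BT.node 691 (BT.node 690 (BT.leaf c0_690) (BT.leaf c0_691)) (BT.node 692 (BT.leaf c0_692) (BT.leaf c0_693))) (BT.node 695 (BT.node 694 (BT.leaf c0_694) (BT.leaf c0_695)) (BT.leaf c0_696))) (BT.node 700 (BT.node 698 (BT.node 697 (BT.leaf c0_697) (BT.leaf c0_698)) (BT.node 699 (BT.leaf c0_699) (BT.leaf c0_700))) (BT.node 702 (BT.node 701 (BT.leaf c0_701) (BT.leaf c0_702)) (BT.leaf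 c0_703))))) (BT.node 717 (BT.node 710 (BT.node 707 (BT.node 705 (BT.node 704 (BT.leaf c0_704) (BT.leaf c0_705)) (BT.node 706 (BT.leaf c0_706) (BT.leaf c0_707))) (BT.node 709 (BT.node 708 (BT.leaf c0_708) (BT.leaf c0_709)) (BT.leaf c0_710))) (BT.node 714 (BT.node 712 (BT.node 711 (BT.leaf c0_711) (BT.leaf c0_712)) (BT.node 713 (BT.leaf c0_713) (BT.leaf c0_714))) (BT.node 716 (BT.node 715 (BT.leaf c0_715) (BT.leaf c0_716)) (BT.leaf c0_717)))) (BT.node 724 (BT.node 721 (BT.node 719 (BT.node 718 (BT.leaf c0_718) (BT.leaf c0_719)) (BT.node 720 (BT.leaf c0_720) (BT.leaf c0_721))) (BT.node 723 (BT.node 722 (BT.leaf c0_722) (BT.leaf c0_723)) (BT.leaf c0_724))) (BT.node 728 (BT.node 726 (BT.node 725 (BT.leaf c0_725) (BT.leaf c0_726)) (BT.node 727 (BT.leaf c0_727) (BT.leaf c0_728))) (BT.node 730 (BT.node 729 (BT.leaf c0_729) (BT.leaf c0_730)) (BT.leaf c0_731)))))) (BT.node 759 (BT.node 745 (BT.node 738 (BT.node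 735 (BT.node 733 (BT.node 732 (BT.leaf c0_732) (BT.leaf c0_733)) (BT.node 734 (BT.leaf c0_734) (BT.leaf c0_735))) (BT.node 737 (BT.node 736 (BT.leaf c0_736) (BT.leaf c0_737)) (BT.leaf c0_738))) (BT.node 742 (BT.node 740 (BT.node 739 (BT.leaf c0_739) (BT.leaf c0_740)) (BT.node 741 (BT.leaf c0_741) (BT.leaf c0_742))) (BT.node 744 (BT.node 743 (BT.leaf c0_743) (BT.leaf c0_744)) (BT.leaf c0_745)))) (BT.node 752 (BT.node 749 (BT.node 747 (BT.node 746 (BT.leaf c0_746) (BT.leaf c0_747)) (BT.node 748 (BT.leaf c0_748) (BT.leaf c0_749))) (BT.node 751 (BT.node 750 (BT.leaf c0_750) (BT.leaf c0_751)) (BT.leaf c0_752))) (BT.node 756 (BT.node 754 (BT.node 753 (BT.leaf c0_753) (BT.leaf c0_754)) (BT.node 755 (BT.leaf c0_755) (BT.leaf c0_756))) (BT.node 758 (BT.node 757 (BT.leaf c0_757) (BT.leaf c0_758)) (BT.leaf c0_759))))) (BT.node 773 (BT.node 766 (BT.node 763 (BT.node 761 (BT.node 760 (BT.leaf c0_760) (BT.leaf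 c0_761)) (BT.node 762 (BT.leaf c0_762) (BT.leaf c0_763))) (BT.node 765 (BT.node 764 (BT.leaf c0_764) (BT.leaf c0_765)) (BT.leaf c0_766))) (BT.node 770 (BT.node 768 (BT.node 767 (BT.leaf c0_767) (BT.leaf c0_768)) (BT.node 769 (BT.leaf c0_769) (BT.leaf c0_770))) (BT.node 772 (BT.node 771 (BT.leaf c0_771) (BT.leaf c0_772)) (BT.leaf c0_773)))) (BT.node 780 (BT.node 777 (BT.node 775 (BT.node 774 (BT.leaf c0_774) (BT.leaf c0_775)) (BT.node 776 (BT.leaf c0_776) (BT.leaf c0_777))) (BT.node 779 (BT.node 778 (BT.leaf c0_778) (BT.leaf c0_779)) (BT.leaf c0_780))) (BT.node 784 (BT.node 782 (BT.node 781 (BT.leaf c0_781) (BT.leaf c0_782)) (BT.node 783 (BT.leaf c0_783) (BT.leaf c0_784))) (BT.node 786 (BT.node 785 (BT.leaf c0_785) (BT.leaf c0_786)) (BT.leaf c0_787))))))) (BT.node 843 (BT.node 815 (BT.node 801 (BT.node 794 (BT.node 791 (BT.node 789 (BT.node 788 (BT.leaf c0_788) (BT.leaf c0_789)) (BT.node 790 (BT.leaf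 c0_790) (BT.leaf c0_791))) (BT.node 793 (BT.node 792 (BT.leaf c0_792) (BT.leaf c0_793)) (BT.leaf c0_794))) (BT.node 798 (BT.node 796 (BT.node 795 (BT.leaf c0_795) (BT.leaf c0_796)) (BT.node 797 (BT.leaf c0_797) (BT.leaf c0_798))) (BT.node 800 (BT.node 799 (BT.leaf c0_799) (BT.leaf c0_800)) (BT.leaf c0_801)))) (BT.node 808 (BT.node 805 (BT.node 803 (BT.node 802 (BT.leaf c0_802) (BT.leaf c0_803)) (BT.node 804 (BT.leaf c0_804) (BT.leaf c0_805))) (BT.node 807 (BT.node 806 (BT.leaf c0_806) (BT.leaf c0_807)) (BT.leaf c0_808))) (BT.node 812 (BT.node 810 (BT.node 809 (BT.leaf c0_809) (BT.leaf c0_810)) (BT.node 811 (BT.leaf c0_811) (BT.leaf c0_812))) (BT.node 814 (BT.node 813 (BT.leaf c0_813) (BT.leaf c0_814)) (BT.leaf c0_815))))) (BT.node 829 (BT.node 822 (BT.node 819 (BT.node 817 (BT.node 816 (BT.leaf c0_816) (BT.leaf c0_817)) (BT.node 818 (BT.leaf c0_818) (BT.leaf c0_819))) (BT.node 821 (BT.node 820 (BT.leaf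 c0_820) (BT.leaf c0_821)) (BT.leaf c0_822))) (BT.node 826 (BT.node 824 (BT.node 823 (BT.leaf c0_823) (BT.leaf c0_824)) (BT.node 825 (BT.leaf c0_825) (BT.leaf c0_826))) (BT.node 828 (BT.node 827 (BT.leaf c0_827) (BT.leaf c0_828)) (BT.leaf c0_829)))) (BT.node 836 (BT.node 833 (BT.node 831 (BT.node 830 (BT.leaf c0_830) (BT.leaf c0_831)) (BT.node 832 (BT.leaf c0_832) (BT.leaf c0_833))) (BT.node 835 (BT.node 834 (BT.leaf c0_834) (BT.leaf c0_835)) (BT.leaf c0_836))) (BT.node 840 (BT.node 838 (BT.node 837 (BT.leaf c0_837) (BT.leaf c0_838)) (BT.node 839 (BT.leaf c0_839) (BT.leaf c0_840))) (BT.node 842 (BT.node 841 (BT.leaf c0_841) (BT.leaf c0_842)) (BT.leaf c0_843)))))) (BT.node 871 (BT.node 857 (BT.node 850 (BT.node 847 (BT.node 845 (BT.node 844 (BT.leaf c0_844) (BT.leaf c0_845)) (BT.node 846 (BT.leaf c0_846) (BT.leaf c0_847))) (BT.node 849 (BT.node 848 (BT.leaf c0_848) (BT.leaf c0_849)) (BT.leaf c0_850)))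 (BT.node 854 (BT.node 852 (BT.node 851 (BT.leaf c0_851) (BT.leaf c0_852)) (BT.node 853 (BT.leaf c0_853) (BT.leaf c0_854))) (BT.node 856 (BT.node 855 (BT.leaf c0_855) (BT.leaf c0_856)) (BT.leaf c0_857)))) (BT.node 864 (BT.node 861 (BT.node 859 (BT.node 858 (BT.leaf c0_858) (BT.leaf c0_859)) (BT.node 860 (BT.leaf c0_860) (BT.leaf c0_861))) (BT.node 863 (BT.node 862 (BT.leaf c0_862) (BT.leaf c0_863)) (BT.leaf c0_864))) (BT.node 868 (BT.node 866 (BT.node 865 (BT.leaf c0_865) (BT.leaf c0_866)) (BT.node 867 (BT.leaf c0_867) (BT.leaf c0_868))) (BT.node 870 (BT.node 869 (BT.leaf c0_869) (BT.leaf c0_870)) (BT.leaf c0_871))))) (BT.node 885 (BT.node 878 (BT.node 875 (BT.node 873 (BT.node 872 (BT.leaf c0_872) (BT.leaf c0_873)) (BT.node 874 (BT.leaf c0_874) (BT.leaf c0_875))) (BT.node 877 (BT.node 876 (BT.leaf c0_876) (BT.leaf c0_877)) (BT.leaf c0_878))) (BT.node 882 (BT.node 880 (BT.node 879 (BT.leaf c0_879)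 (BT.leaf c0_880)) (BT.node 881 (BT.leaf c0_881) (BT.leaf c0_882))) (BT.node 884 (BT.node 883 (BT.leaf c0_883) (BT.leaf c0_884)) (BT.leaf c0_885)))) (BT.node 892 (BT.node 889 (BT.node 887 (BT.node 886 (BT.leaf c0_886) (BT.leaf c0_887)) (BT.node 888 (BT.leaf c0_888) (BT.leaf c0_889))) (BT.node 891 (BT.node 890 (BT.leaf c0_890) (BT.leaf c0_891)) (BT.leaf c0_892))) (BT.node 896 (BT.node 894 (BT.node 893 (BT.leaf c0_893) (BT.leaf c0_894)) (BT.node 895 (BT.leaf c0_895) (BT.leaf c0_896))) (BT.node 898 (BT.node 897 (BT.leaf c0_897) (BT.leaf c0_898)) (BT.leaf c0_899))))))))))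
/-- the chunks of the letter 1 -/
def colL_1 : BT ℕ := (BT.node 1349 (BT.node 1124 (BT.node 1012 (BT.node 956 (BT.node 928 (BT.node 914 (BT.node 907 (BT.node 903 (BT.node 901 (BT.node 900 (BT.leaf c1_0) (BT.leaf c1_1)) (BT.node 902 (BT.leaf c1_2) (BT.leaf c1_3))) (BT.node 905 (BT.node 904 (BT.leaf c1_4) (BT.leaf c1_5)) (BT.node 906 (BT.leaf c1_6) (BT.leaf c1_7)))) (BT.node 911 (BT.node 909 (BT.node 908 (BT.leaf c1_8) (BT.leaf c1_9)) (BT.node 910 (BT.leaf c1_10) (BT.leaf c1_11))) (BT.node 913 (BT.node 912 (BT.leaf c1_12) (BT.leaf c1_13)) (BT.leaf c1_14)))) (BT.node 921 (BT.node 918 (BT.node 916 (BT.node 915 (BT.leaf c1_15) (BT.leaf c1_16)) (BT.node 917 (BT.leaf c1_17) (BT.leaf c1_18))) (BT.node 920 (BT.node 919 (BT.leaf c1_19) (BT.leaf c1_20)) (BT.leaf c1_21))) (BT.node 925 (BT.node 923 (BT.node 922 (BT.leaf c1_22) (BT.leaf c1_23)) (BT.node 924 (BT.leaf c1_24) (BT.leaf c1_25))) (BT.node 927 (BT.node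 926 (BT.leaf c1_26) (BT.leaf c1_27)) (BT.leaf c1_28))))) (BT.node 942 (BT.node 935 (BT.node 932 (BT.node 930 (BT.node 929 (BT.leaf c1_29) (BT.leaf c1_30)) (BT.node 931 (BT.leaf c1_31) (BT.leaf c1_32))) (BT.node 934 (BT.node 933 (BT.leaf c1_33) (BT.leaf c1_34)) (BT.leaf c1_35))) (BT.node 939 (BT.node 937 (BT.node 936 (BT.leaf c1_36) (BT.leaf c1_37)) (BT.node 938 (BT.leaf c1_38) (BT.leaf c1_39))) (BT.node 941 (BT.node 940 (BT.leaf c1_40) (BT.leaf c1_41)) (BT.leaf c1_42)))) (BT.node 949 (BT.node 946 (BT.node 944 (BT.node 943 (BT.leaf c1_43) (BT.leaf c1_44)) (BT.node 945 (BT.leaf c1_45) (BT.leaf c1_46))) (BT.node 948 (BT.node 947 (BT.leaf c1_47) (BT.leaf c1_48)) (BT.leaf c1_49))) (BT.node 953 (BT.node 951 (BT.node 950 (BT.leaf c1_50) (BT.leaf c1_51)) (BT.node 952 (BT.leaf c1_52) (BT.leaf c1_53))) (BT.node 955 (BT.node 954 (BT.leaf c1_54) (BT.leaf c1_55)) (BT.leaf c1_56)))))) (BT.node 984 (BT.node 970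 (BT.node 963 (BT.node 960 (BT.node 958 (BT.node 957 (BT.leaf c1_57) (BT.leaf c1_58)) (BT.node 959 (BT.leaf c1_59) (BT.leaf c1_60))) (BT.node 962 (BT.node 961 (BT.leaf c1_61) (BT.leaf c1_62)) (BT.leaf c1_63))) (BT.node 967 (BT.node 965 (BT.node 964 (BT.leaf c1_64) (BT.leaf c1_65)) (BT.node 966 (BT.leaf c1_66) (BT.leaf c1_67))) (BT.node 969 (BT.node 968 (BT.leaf c1_68) (BT.leaf c1_69)) (BT.leaf c1_70)))) (BT.node 977 (BT.node 974 (BT.node 972 (BT.node 971 (BT.leaf c1_71) (BT.leaf c1_72)) (BT.node 973 (BT.leaf c1_73) (BT.leaf c1_74))) (BT.node 976 (BT.node 975 (BT.leaf c1_75) (BT.leaf c1_76)) (BT.leaf c1_77))) (BT.node 981 (BT.node 979 (BT.node 978 (BT.leaf c1_78) (BT.leaf c1_79)) (BT.node 980 (BT.leaf c1_80) (BT.leaf c1_81))) (BT.node 983 (BT.node 982 (BT.leaf c1_82) (BT.leaf c1_83)) (BT.leaf c1_84))))) (BT.node 998 (BT.node 991 (BT.node 988 (BT.node 986 (BT.node 985 (BT.leaf c1_85) (BT.leaf c1_86))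 (BT.node 987 (BT.leaf c1_87) (BT.leaf c1_88))) (BT.node 990 (BT.node 989 (BT.leaf c1_89) (BT.leaf c1_90)) (BT.leaf c1_91))) (BT.node 995 (BT.node 993 (BT.node 992 (BT.leaf c1_92) (BT.leaf c1_93)) (BT.node 994 (BT.leaf c1_94) (BT.leaf c1_95))) (BT.node 997 (BT.node 996 (BT.leaf c1_96) (BT.leaf c1_97)) (BT.leaf c1_98)))) (BT.node 1005 (BT.node 1002 (BT.node 1000 (BT.node 999 (BT.leaf c1_99) (BT.leaf c1_100)) (BT.node 1001 (BT.leaf c1_101) (BT.leaf c1_102))) (BT.node 1004 (BT.node 1003 (BT.leaf c1_103) (BT.leaf c1_104)) (BT.leaf c1_105))) (BT.node 1009 (BT.node 1007 (BT.node 1006 (BT.leaf c1_106) (BT.leaf c1_107)) (BT.node 1008 (BT.leaf c1_108) (BT.leaf c1_109))) (BT.node 1011 (BT.node 1010 (BT.leaf c1_110) (BT.leaf c1_111)) (BT.leaf c1_112))))))) (BT.node 1068 (BT.node 1040 (BT.node 1026 (BT.node 1019 (BT.node 1016 (BT.node 1014 (BT.node 1013 (BT.leaf c1_113) (BT.leaf c1_114)) (BT.node 1015 (BT.leaf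 c1_115) (BT.leaf c1_116))) (BT.node 1018 (BT.node 1017 (BT.leaf c1_117) (BT.leaf c1_118)) (BT.leaf c1_119))) (BT.node 1023 (BT.node 1021 (BT.node 1020 (BT.leaf c1_120) (BT.leaf c1_121)) (BT.node 1022 (BT.leaf c1_122) (BT.leaf c1_123))) (BT.node 1025 (BT.node 1024 (BT.leaf c1_124) (BT.leaf c1_125)) (BT.leaf c1_126)))) (BT.node 1033 (BT.node 1030 (BT.node 1028 (BT.node 1027 (BT.leaf c1_127) (BT.leaf c1_128)) (BT.node 1029 (BT.leaf c1_129) (BT.leaf c1_130))) (BT.node 1032 (BT.node 1031 (BT.leaf c1_131) (BT.leaf c1_132)) (BT.leaf c1_133))) (BT.node 1037 (BT.node 1035 (BT.node 1034 (BT.leaf c1_134) (BT.leaf c1_135)) (BT.node 1036 (BT.leaf c1_136) (BT.leaf c1_137))) (BT.node 1039 (BT.node 1038 (BT.leaf c1_138) (BT.leaf c1_139)) (BT.leaf c1_140))))) (BT.node 1054 (BT.node 1047 (BT.node 1044 (BT.node 1042 (BT.node 1041 (BT.leaf c1_141) (BT.leaf c1_142)) (BT.node 1043 (BT.leaf c1_143) (BT.leaf c1_144))) (BT.node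 1046 (BT.node 1045 (BT.leaf c1_145) (BT.leaf c1_146)) (BT.leaf c1_147))) (BT.node 1051 (BT.node 1049 (BT.node 1048 (BT.leaf c1_148) (BT.leaf c1_149)) (BT.node 1050 (BT.leaf c1_150) (BT.leaf c1_151))) (BT.node 1053 (BT.node 1052 (BT.leaf c1_152) (BT.leaf c1_153)) (BT.leaf c1_154)))) (BT.node 1061 (BT.node 1058 (BT.node 1056 (BT.node 1055 (BT.leaf c1_155) (BT.leaf c1_156)) (BT.node 1057 (BT.leaf c1_157) (BT.leaf c1_158))) (BT.node 1060 (BT.node 1059 (BT.leaf c1_159) (BT.leaf c1_160)) (BT.leaf c1_161))) (BT.node 1065 (BT.node 1063 (BT.node 1062 (BT.leaf c1_162) (BT.leaf c1_163)) (BT.node 1064 (BT.leaf c1_164) (BT.leaf c1_165))) (BT.node 1067 (BT.node 1066 (BT.leaf c1_166) (BT.leaf c1_167)) (BT.leaf c1_168)))))) (BT.node 1096 (BT.node 1082 (BT.node 1075 (BT.node 1072 (BT.node 1070 (BT.node 1069 (BT.leaf c1_169) (BT.leaf c1_170)) (BT.node 1071 (BT.leaf c1_171) (BT.leaf c1_172))) (BT.node 1074 (BT.node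 1073 (BT.leaf c1_173) (BT.leaf c1_174)) (BT.leaf c1_175))) (BT.node 1079 (BT.node 1077 (BT.node 1076 (BT.leaf c1_176) (BT.leaf c1_177)) (BT.node 1078 (BT.leaf c1_178) (BT.leaf c1_179))) (BT.node 1081 (BT.node 1080 (BT.leaf c1_180) (BT.leaf c1_181)) (BT.leaf c1_182)))) (BT.node 1089 (BT.node 1086 (BT.node 1084 (BT.node 1083 (BT.leaf c1_183) (BT.leaf c1_184)) (BT.node 1085 (BT.leaf c1_185) (BT.leaf c1_186))) (BT.node 1088 (BT.node 1087 (BT.leaf c1_187) (BT.leaf c1_188)) (BT.leaf c1_189))) (BT.node 1093 (BT.node 1091 (BT.node 1090 (BT.leaf c1_190) (BT.leaf c1_191)) (BT.node 1092 (BT.leaf c1_192) (BT.leaf c1_193))) (BT.node 1095 (BT.node 1094 (BT.leaf c1_194) (BT.leaf c1_195)) (BT.leaf c1_196))))) (BT.node 1110 (BT.node 1103 (BT.node 1100 (BT.node 1098 (BT.node 1097 (BT.leaf c1_197) (BT.leaf c1_198)) (BT.node 1099 (BT.leaf c1_199) (BT.leaf c1_200))) (BT.node 1102 (BT.node 1101 (BT.leaf c1_201) (BT.leaf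 c1_202)) (BT.leaf c1_203))) (BT.node 1107 (BT.node 1105 (BT.node 1104 (BT.leaf c1_204) (BT.leaf c1_205)) (BT.node 1106 (BT.leaf c1_206) (BT.leaf c1_207))) (BT.node 1109 (BT.node 1108 (BT.leaf c1_208) (BT.leaf c1_209)) (BT.leaf c1_210)))) (BT.node 1117 (BT.node 1114 (BT.node 1112 (BT.node 1111 (BT.leaf c1_211) (BT.leaf c1_212)) (BT.node 1113 (BT.leaf c1_213) (BT.leaf c1_214))) (BT.node 1116 (BT.node 1115 (BT.leaf c1_215) (BT.leaf c1_216)) (BT.leaf c1_217))) (BT.node 1121 (BT.node 1119 (BT.node 1118 (BT.leaf c1_218) (BT.leaf c1_219)) (BT.node 1120 (BT.leaf c1_220) (BT.leaf c1_221))) (BT.node 1123 (BT.node 1122 (BT.leaf c1_222) (BT.leaf c1_223)) (BT.leaf c1_224)))))))) (BT.node 1237 (BT.node 1181 (BT.node 1153 (BT.node 1139 (BT.node 1132 (BT.node 1128 (BT.node 1126 (BT.node 1125 (BT.leaf c1_225) (BT.leaf c1_226)) (BT.node 1127 (BT.leaf c1_227) (BT.leaf c1_228))) (BT.node 1130 (BT.node 1129 (BT.leaf c1_229)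 (BT.leaf c1_230)) (BT.node 1131 (BT.leaf c1_231) (BT.leaf c1_232)))) (BT.node 1136 (BT.node 1134 (BT.node 1133 (BT.leaf c1_233) (BT.leaf c1_234)) (BT.node 1135 (BT.leaf c1_235) (BT.leaf c1_236))) (BT.node 1138 (BT.node 1137 (BT.leaf c1_237) (BT.leaf c1_238)) (BT.leaf c1_239)))) (BT.node 1146 (BT.node 1143 (BT.node 1141 (BT.node 1140 (BT.leaf c1_240) (BT.leaf c1_241)) (BT.node 1142 (BT.leaf c1_242) (BT.leaf c1_243))) (BT.node 1145 (BT.node 1144 (BT.leaf c1_244) (BT.leaf c1_245)) (BT.leaf c1_246))) (BT.node 1150 (BT.node 1148 (BT.node 1147 (BT.leaf c1_247) (BT.leaf c1_248)) (BT.node 1149 (BT.leaf c1_249) (BT.leaf c1_250))) (BT.node 1152 (BT.node 1151 (BT.leaf c1_251) (BT.leaf c1_252)) (BT.leaf c1_253))))) (BT.node 1167 (BT.node 1160 (BT.node 1157 (BT.node 1155 (BT.node 1154 (BT.leaf c1_254) (BT.leaf c1_255)) (BT.node 1156 (BT.leaf c1_256) (BT.leaf c1_257))) (BT.node 1159 (BT.node 1158 (BT.leaf c1_258)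 (BT.leaf c1_259)) (BT.leaf c1_260))) (BT.node 1164 (BT.node 1162 (BT.node 1161 (BT.leaf c1_261) (BT.leaf c1_262)) (BT.node 1163 (BT.leaf c1_263) (BT.leaf c1_264))) (BT.node 1166 (BT.node 1165 (BT.leaf c1_265) (BT.leaf c1_266)) (BT.leaf c1_267)))) (BT.node 1174 (BT.node 1171 (BT.node 1169 (BT.node 1168 (BT.leaf c1_268) (BT.leaf c1_269)) (BT.node 1170 (BT.leaf c1_270) (BT.leaf c1_271))) (BT.node 1173 (BT.node 1172 (BT.leaf c1_272) (BT.leaf c1_273)) (BT.leaf c1_274))) (BT.node 1178 (BT.node 1176 (BT.node 1175 (BT.leaf c1_275) (BT.leaf c1_276)) (BT.node 1177 (BT.leaf c1_277) (BT.leaf c1_278))) (BT.node 1180 (BT.node 1179 (BT.leaf c1_279) (BT.leaf c1_280)) (BT.leaf c1_281)))))) (BT.node 1209 (BT.node 1195 (BT.node 1188 (BT.node 1185 (BT.node 1183 (BT.node 1182 (BT.leaf c1_282) (BT.leaf c1_283)) (BT.node 1184 (BT.leaf c1_284) (BT.leaf c1_285))) (BT.node 1187 (BT.node 1186 (BT.leaf c1_286) (BT.leaf c1_287))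 (BT.leaf c1_288))) (BT.node 1192 (BT.node 1190 (BT.node 1189 (BT.leaf c1_289) (BT.leaf c1_290)) (BT.node 1191 (BT.leaf c1_291) (BT.leaf c1_292))) (BT.node 1194 (BT.node 1193 (BT.leaf c1_293) (BT.leaf c1_294)) (BT.leaf c1_295)))) (BT.node 1202 (BT.node 1199 (BT.node 1197 (BT.node 1196 (BT.leaf c1_296) (BT.leaf c1_297)) (BT.node 1198 (BT.leaf c1_298) (BT.leaf c1_299))) (BT.node 1201 (BT.node 1200 (BT.leaf c1_300) (BT.leaf c1_301)) (BT.leaf c1_302))) (BT.node 1206 (BT.node 1204 (BT.node 1203 (BT.leaf c1_303) (BT.leaf c1_304)) (BT.node 1205 (BT.leaf c1_305) (BT.leaf c1_306))) (BT.node 1208 (BT.node 1207 (BT.leaf c1_307) (BT.leaf c1_308)) (BT.leaf c1_309))))) (BT.node 1223 (BT.node 1216 (BT.node 1213 (BT.node 1211 (BT.node 1210 (BT.leaf c1_310) (BT.leaf c1_311)) (BT.node 1212 (BT.leaf c1_312) (BT.leaf c1_313))) (BT.node 1215 (BT.node 1214 (BT.leaf c1_314) (BT.leaf c1_315)) (BT.leaf c1_316))) (BT.node 1220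 (BT.node 1218 (BT.node 1217 (BT.leaf c1_317) (BT.leaf c1_318)) (BT.node 1219 (BT.leaf c1_319) (BT.leaf c1_320))) (BT.node 1222 (BT.node 1221 (BT.leaf c1_321) (BT.leaf c1_322)) (BT.leaf c1_323)))) (BT.node 1230 (BT.node 1227 (BT.node 1225 (BT.node 1224 (BT.leaf c1_324) (BT.leaf c1_325)) (BT.node 1226 (BT.leaf c1_326) (BT.leaf c1_327))) (BT.node 1229 (BT.node 1228 (BT.leaf c1_328) (BT.leaf c1_329)) (BT.leaf c1_330))) (BT.node 1234 (BT.node 1232 (BT.node 1231 (BT.leaf c1_331) (BT.leaf c1_332)) (BT.node 1233 (BT.leaf c1_333) (BT.leaf c1_334))) (BT.node 1236 (BT.node 1235 (BT.leaf c1_335) (BT.leaf c1_336)) (BT.leaf c1_337))))))) (BT.node 1293 (BT.node 1265 (BT.node 1251 (BT.node 1244 (BT.node 1241 (BT.node 1239 (BT.node 1238 (BT.leaf c1_338) (BT.leaf c1_339)) (BT.node 1240 (BT.leaf c1_340) (BT.leaf c1_341))) (BT.node 1243 (BT.node 1242 (BT.leaf c1_342) (BT.leaf c1_343)) (BT.leaf c1_344))) (BT.node 1248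 (BT.node 1246 (BT.node 1245 (BT.leaf c1_345) (BT.leaf c1_346)) (BT.node 1247 (BT.leaf c1_347) (BT.leaf c1_348))) (BT.node 1250 (BT.node 1249 (BT.leaf c1_349) (BT.leaf c1_350)) (BT.leaf c1_351)))) (BT.node 1258 (BT.node 1255 (BT.node 1253 (BT.node 1252 (BT.leaf c1_352) (BT.leaf c1_353)) (BT.node 1254 (BT.leaf c1_354) (BT.leaf c1_355))) (BT.node 1257 (BT.node 1256 (BT.leaf c1_356) (BT.leaf c1_357)) (BT.leaf c1_358))) (BT.node 1262 (BT.node 1260 (BT.node 1259 (BT.leaf c1_359) (BT.leaf c1_360)) (BT.node 1261 (BT.leaf c1_361) (BT.leaf c1_362))) (BT.node 1264 (BT.node 1263 (BT.leaf c1_363) (BT.leaf c1_364)) (BT.leaf c1_365))))) (BT.node 1279 (BT.node 1272 (BT.node 1269 (BT.node 1267 (BT.node 1266 (BT.leaf c1_366) (BT.leaf c1_367)) (BT.node 1268 (BT.leaf c1_368) (BT.leaf c1_369))) (BT.node 1271 (BT.node 1270 (BT.leaf c1_370) (BT.leaf c1_371)) (BT.leaf c1_372))) (BT.node 1276 (BT.node 1274 (BT.node 1273 (BT.leaf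 c1_373) (BT.leaf c1_374)) (BT.node 1275 (BT.leaf c1_375) (BT.leaf c1_376))) (BT.node 1278 (BT.node 1277 (BT.leaf c1_377) (BT.leaf c1_378)) (BT.leaf c1_379)))) (BT.node 1286 (BT.node 1283 (BT.node 1281 (BT.node 1280 (BT.leaf c1_380) (BT.leaf c1_381)) (BT.node 1282 (BT.leaf c1_382) (BT.leaf c1_383))) (BT.node 1285 (BT.node 1284 (BT.leaf c1_384) (BT.leaf c1_385)) (BT.leaf c1_386))) (BT.node 1290 (BT.node 1288 (BT.node 1287 (BT.leaf c1_387) (BT.leaf c1_388)) (BT.node 1289 (BT.leaf c1_389) (BT.leaf c1_390))) (BT.node 1292 (BT.node 1291 (BT.leaf c1_391) (BT.leaf c1_392)) (BT.leaf c1_393)))))) (BT.node 1321 (BT.node 1307 (BT.node 1300 (BT.node 1297 (BT.node 1295 (BT.node 1294 (BT.leaf c1_394) (BT.leaf c1_395)) (BT.node 1296 (BT.leaf c1_396) (BT.leaf c1_397))) (BT.node 1299 (BT.node 1298 (BT.leaf c1_398) (BT.leaf c1_399)) (BT.leaf c1_400))) (BT.node 1304 (BT.node 1302 (BT.node 1301 (BT.leaf c1_401) (BT.leaf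 c1_402)) (BT.node 1303 (BT.leaf c1_403) (BT.leaf c1_404))) (BT.node 1306 (BT.node 1305 (BT.leaf c1_405) (BT.leaf c1_406)) (BT.leaf c1_407)))) (BT.node 1314 (BT.node 1311 (BT.node 1309 (BT.node 1308 (BT.leaf c1_408) (BT.leaf c1_409)) (BT.node 1310 (BT.leaf c1_410) (BT.leaf c1_411))) (BT.node 1313 (BT.node 1312 (BT.leaf c1_412) (BT.leaf c1_413)) (BT.leaf c1_414))) (BT.node 1318 (BT.node 1316 (BT.node 1315 (BT.leaf c1_415) (BT.leaf c1_416)) (BT.node 1317 (BT.leaf c1_417) (BT.leaf c1_418))) (BT.node 1320 (BT.node 1319 (BT.leaf c1_419) (BT.leaf c1_420)) (BT.leaf c1_421))))) (BT.node 1335 (BT.node 1328 (BT.node 1325 (BT.node 1323 (BT.node 1322 (BT.leaf c1_422) (BT.leaf c1_423)) (BT.node 1324 (BT.leaf c1_424) (BT.leaf c1_425))) (BT.node 1327 (BT.node 1326 (BT.leaf c1_426) (BT.leaf c1_427)) (BT.leaf c1_428))) (BT.node 1332 (BT.node 1330 (BT.node 1329 (BT.leaf c1_429) (BT.leaf c1_430)) (BT.node 1331 (BT.leaf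 c1_431) (BT.leaf c1_432))) (BT.node 1334 (BT.node 1333 (BT.leaf c1_433) (BT.leaf c1_434)) (BT.leaf c1_435)))) (BT.node 1342 (BT.node 1339 (BT.node 1337 (BT.node 1336 (BT.leaf c1_436) (BT.leaf c1_437)) (BT.node 1338 (BT.leaf c1_438) (BT.leaf c1_439))) (BT.node 1341 (BT.node 1340 (BT.leaf c1_440) (BT.leaf c1_441)) (BT.leaf c1_442))) (BT.node 1346 (BT.node 1344 (BT.node 1343 (BT.leaf c1_443) (BT.leaf c1_444)) (BT.node 1345 (BT.leaf c1_445) (BT.leaf c1_446))) (BT.node 1348 (BT.node 1347 (BT.leaf c1_447) (BT.leaf c1_448)) (BT.leaf c1_449))))))))) (BT.node 1574 (BT.node 1462 (BT.node 1406 (BT.node 1378 (BT.node 1364 (BT.node 1357 (BT.node 1353 (BT.node 1351 (BT.node 1350 (BT.leaf c1_450) (BT.leaf c1_451)) (BT.node 1352 (BT.leaf c1_452) (BT.leaf c1_453))) (BT.node 1355 (BT.node 1354 (BT.leaf c1_454) (BT.leaf c1_455)) (BT.node 1356 (BT.leaf c1_456) (BT.leaf c1_457)))) (BT.node 1361 (BT.node 1359 (BT.node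 1358 (BT.leaf c1_458) (BT.leaf c1_459)) (BT.node 1360 (BT.leaf c1_460) (BT.leaf c1_461))) (BT.node 1363 (BT.node 1362 (BT.leaf c1_462) (BT.leaf c1_463)) (BT.leaf c1_464)))) (BT.node 1371 (BT.node 1368 (BT.node 1366 (BT.node 1365 (BT.leaf c1_465) (BT.leaf c1_466)) (BT.node 1367 (BT.leaf c1_467) (BT.leaf c1_468))) (BT.node 1370 (BT.node 1369 (BT.leaf c1_469) (BT.leaf c1_470)) (BT.leaf c1_471))) (BT.node 1375 (BT.node 1373 (BT.node 1372 (BT.leaf c1_472) (BT.leaf c1_473)) (BT.node 1374 (BT.leaf c1_474) (BT.leaf c1_475))) (BT.node 1377 (BT.node 1376 (BT.leaf c1_476) (BT.leaf c1_477)) (BT.leaf c1_478))))) (BT.node 1392 (BT.node 1385 (BT.node 1382 (BT.node 1380 (BT.node 1379 (BT.leaf c1_479) (BT.leaf c1_480)) (BT.node 1381 (BT.leaf c1_481) (BT.leaf c1_482))) (BT.node 1384 (BT.node 1383 (BT.leaf c1_483) (BT.leaf c1_484)) (BT.leaf c1_485))) (BT.node 1389 (BT.node 1387 (BT.node 1386 (BT.leaf c1_486) (BT.leaf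 c1_487)) (BT.node 1388 (BT.leaf c1_488) (BT.leaf c1_489))) (BT.node 1391 (BT.node 1390 (BT.leaf c1_490) (BT.leaf c1_491)) (BT.leaf c1_492)))) (BT.node 1399 (BT.node 1396 (BT.node 1394 (BT.node 1393 (BT.leaf c1_493) (BT.leaf c1_494)) (BT.node 1395 (BT.leaf c1_495) (BT.leaf c1_496))) (BT.node 1398 (BT.node 1397 (BT.leaf c1_497) (BT.leaf c1_498)) (BT.leaf c1_499))) (BT.node 1403 (BT.node 1401 (BT.node 1400 (BT.leaf c1_500) (BT.leaf c1_501)) (BT.node 1402 (BT.leaf c1_502) (BT.leaf c1_503))) (BT.node 1405 (BT.node 1404 (BT.leaf c1_504) (BT.leaf c1_505)) (BT.leaf c1_506)))))) (BT.node 1434 (BT.node 1420 (BT.node 1413 (BT.node 1410 (BT.node 1408 (BT.node 1407 (BT.leaf c1_507) (BT.leaf c1_508)) (BT.node 1409 (BT.leaf c1_509) (BT.leaf c1_510))) (BT.node 1412 (BT.node 1411 (BT.leaf c1_511) (BT.leaf c1_512)) (BT.leaf c1_513))) (BT.node 1417 (BT.node 1415 (BT.node 1414 (BT.leaf c1_514) (BT.leaf c1_515)) (BT.node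 1416 (BT.leaf c1_516) (BT.leaf c1_517))) (BT.node 1419 (BT.node 1418 (BT.leaf c1_518) (BT.leaf c1_519)) (BT.leaf c1_520)))) (BT.node 1427 (BT.node 1424 (BT.node 1422 (BT.node 1421 (BT.leaf c1_521) (BT.leaf c1_522)) (BT.node 1423 (BT.leaf c1_523) (BT.leaf c1_524))) (BT.node 1426 (BT.node 1425 (BT.leaf c1_525) (BT.leaf c1_526)) (BT.leaf c1_527))) (BT.node 1431 (BT.node 1429 (BT.node 1428 (BT.leaf c1_528) (BT.leaf c1_529)) (BT.node 1430 (BT.leaf c1_530) (BT.leaf c1_531))) (BT.node 1433 (BT.node 1432 (BT.leaf c1_532) (BT.leaf c1_533)) (BT.leaf c1_534))))) (BT.node 1448 (BT.node 1441 (BT.node 1438 (BT.node 1436 (BT.node 1435 (BT.leaf c1_535) (BT.leaf c1_536)) (BT.node 1437 (BT.leaf c1_537) (BT.leaf c1_538))) (BT.node 1440 (BT.node 1439 (BT.leaf c1_539) (BT.leaf c1_540)) (BT.leaf c1_541))) (BT.node 1445 (BT.node 1443 (BT.node 1442 (BT.leaf c1_542) (BT.leaf c1_543)) (BT.node 1444 (BT.leaf c1_544) (BT.leaf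 c1_545))) (BT.node 1447 (BT.node 1446 (BT.leaf c1_546) (BT.leaf c1_547)) (BT.leaf c1_548)))) (BT.node 1455 (BT.node 1452 (BT.node 1450 (BT.node 1449 (BT.leaf c1_549) (BT.leaf c1_550)) (BT.node 1451 (BT.leaf c1_551) (BT.leaf c1_552))) (BT.node 1454 (BT.node 1453 (BT.leaf c1_553) (BT.leaf c1_554)) (BT.leaf c1_555))) (BT.node 1459 (BT.node 1457 (BT.node 1456 (BT.leaf c1_556) (BT.leaf c1_557)) (BT.node 1458 (BT.leaf c1_558) (BT.leaf c1_559))) (BT.node 1461 (BT.node 1460 (BT.leaf c1_560) (BT.leaf c1_561)) (BT.leaf c1_562))))))) (BT.node 1518 (BT.node 1490 (BT.node 1476 (BT.node 1469 (BT.node 1466 (BT.node 1464 (BT.node 1463 (BT.leaf c1_563) (BT.leaf c1_564)) (BT.node 1465 (BT.leaf c1_565) (BT.leaf c1_566))) (BT.node 1468 (BT.node 1467 (BT.leaf c1_567) (BT.leaf c1_568)) (BT.leaf c1_569))) (BT.node 1473 (BT.node 1471 (BT.node 1470 (BT.leaf c1_570) (BT.leaf c1_571)) (BT.node 1472 (BT.leaf c1_572) (BT.leaf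 c1_573))) (BT.node 1475 (BT.node 1474 (BT.leaf c1_574) (BT.leaf c1_575)) (BT.leaf c1_576)))) (BT.node 1483 (BT.node 1480 (BT.node 1478 (BT.node 1477 (BT.leaf c1_577) (BT.leaf c1_578)) (BT.node 1479 (BT.leaf c1_579) (BT.leaf c1_580))) (BT.node 1482 (BT.node 1481 (BT.leaf c1_581) (BT.leaf c1_582)) (BT.leaf c1_583))) (BT.node 1487 (BT.node 1485 (BT.node 1484 (BT.leaf c1_584) (BT.leaf c1_585)) (BT.node 1486 (BT.leaf c1_586) (BT.leaf c1_587))) (BT.node 1489 (BT.node 1488 (BT.leaf c1_588) (BT.leaf c1_589)) (BT.leaf c1_590))))) (BT.node 1504 (BT.node 1497 (BT.node 1494 (BT.node 1492 (BT.node 1491 (BT.leaf c1_591) (BT.leaf c1_592)) (BT.node 1493 (BT.leaf c1_593) (BT.leaf c1_594))) (BT.node 1496 (BT.node 1495 (BT.leaf c1_595) (BT.leaf c1_596)) (BT.leaf c1_597))) (BT.node 1501 (BT.node 1499 (BT.node 1498 (BT.leaf c1_598) (BT.leaf c1_599)) (BT.node 1500 (BT.leaf c1_600) (BT.leaf c1_601))) (BT.node 1503 (BT.node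 1502 (BT.leaf c1_602) (BT.leaf c1_603)) (BT.leaf c1_604)))) (BT.node 1511 (BT.node 1508 (BT.node 1506 (BT.node 1505 (BT.leaf c1_605) (BT.leaf c1_606)) (BT.node 1507 (BT.leaf c1_607) (BT.leaf c1_608))) (BT.node 1510 (BT.node 1509 (BT.leaf c1_609) (BT.leaf c1_610)) (BT.leaf c1_611))) (BT.node 1515 (BT.node 1513 (BT.node 1512 (BT.leaf c1_612) (BT.leaf c1_613)) (BT.node 1514 (BT.leaf c1_614) (BT.leaf c1_615))) (BT.node 1517 (BT.node 1516 (BT.leaf c1_616) (BT.leaf c1_617)) (BT.leaf c1_618)))))) (BT.node 1546 (BT.node 1532 (BT.node 1525 (BT.node 1522 (BT.node 1520 (BT.node 1519 (BT.leaf c1_619) (BT.leaf c1_620)) (BT.node 1521 (BT.leaf c1_621) (BT.leaf c1_622))) (BT.node 1524 (BT.node 1523 (BT.leaf c1_623) (BT.leaf c1_624)) (BT.leaf c1_625))) (BT.node 1529 (BT.node 1527 (BT.node 1526 (BT.leaf c1_626) (BT.leaf c1_627)) (BT.node 1528 (BT.leaf c1_628) (BT.leaf c1_629))) (BT.node 1531 (BT.node 1530 (BT.leaf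 c1_630) (BT.leaf c1_631)) (BT.leaf c1_632)))) (BT.node 1539 (BT.node 1536 (BT.node 1534 (BT.node 1533 (BT.leaf c1_633) (BT.leaf c1_634)) (BT.node 1535 (BT.leaf c1_635) (BT.leaf c1_636))) (BT.node 1538 (BT.node 1537 (BT.leaf c1_637) (BT.leaf c1_638)) (BT.leaf c1_639))) (BT.node 1543 (BT.node 1541 (BT.node 1540 (BT.leaf c1_640) (BT.leaf c1_641)) (BT.node 1542 (BT.leaf c1_642) (BT.leaf c1_643))) (BT.node 1545 (BT.node 1544 (BT.leaf c1_644) (BT.leaf c1_645)) (BT.leaf c1_646))))) (BT.node 1560 (BT.node 1553 (BT.node 1550 (BT.node 1548 (BT.node 1547 (BT.leaf c1_647) (BT.leaf c1_648)) (BT.node 1549 (BT.leaf c1_649) (BT.leaf c1_650))) (BT.node 1552 (BT.node 1551 (BT.leaf c1_651) (BT.leaf c1_652)) (BT.leaf c1_653))) (BT.node 1557 (BT.node 1555 (BT.node 1554 (BT.leaf c1_654) (BT.leaf c1_655)) (BT.node 1556 (BT.leaf c1_656) (BT.leaf c1_657))) (BT.node 1559 (BT.node 1558 (BT.leaf c1_658) (BT.leaf c1_659)) (BT.leaf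 c1_660)))) (BT.node 1567 (BT.node 1564 (BT.node 1562 (BT.node 1561 (BT.leaf c1_661) (BT.leaf c1_662)) (BT.node 1563 (BT.leaf c1_663) (BT.leaf c1_664))) (BT.node 1566 (BT.node 1565 (BT.leaf c1_665) (BT.leaf c1_666)) (BT.leaf c1_667))) (BT.node 1571 (BT.node 1569 (BT.node 1568 (BT.leaf c1_668) (BT.leaf c1_669)) (BT.node 1570 (BT.leaf c1_670) (BT.leaf c1_671))) (BT.node 1573 (BT.node 1572 (BT.leaf c1_672) (BT.leaf c1_673)) (BT.leaf c1_674)))))))) (BT.node 1687 (BT.node 1631 (BT.node 1603 (BT.node 1589 (BT.node 1582 (BT.node 1578 (BT.node 1576 (BT.node 1575 (BT.leaf c1_675) (BT.leaf c1_676)) (BT.node 1577 (BT.leaf c1_677) (BT.leaf c1_678))) (BT.node 1580 (BT.node 1579 (BT.leaf c1_679) (BT.leaf c1_680)) (BT.node 1581 (BT.leaf c1_681) (BT.leaf c1_682)))) (BT.node 1586 (BT.node 1584 (BT.node 1583 (BT.leaf c1_683) (BT.leaf c1_684)) (BT.node 1585 (BT.leaf c1_685) (BT.leaf c1_686))) (BT.node 1588 (BT.node 1587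 (BT.leaf c1_687) (BT.leaf c1_688)) (BT.leaf c1_689)))) (BT.node 1596 (BT.node 1593 (BT.node 1591 (BT.node 1590 (BT.leaf c1_690) (BT.leaf c1_691)) (BT.node 1592 (BT.leaf c1_692) (BT.leaf c1_693))) (BT.node 1595 (BT.node 1594 (BT.leaf c1_694) (BT.leaf c1_695)) (BT.leaf c1_696))) (BT.node 1600 (BT.node 1598 (BT.node 1597 (BT.leaf c1_697) (BT.leaf c1_698)) (BT.node 1599 (BT.leaf c1_699) (BT.leaf c1_700))) (BT.node 1602 (BT.node 1601 (BT.leaf c1_701) (BT.leaf c1_702)) (BT.leaf c1_703))))) (BT.node 1617 (BT.node 1610 (BT.node 1607 (BT.node 1605 (BT.node 1604 (BT.leaf c1_704) (BT.leaf c1_705)) (BT.node 1606 (BT.leaf c1_706) (BT.leaf c1_707))) (BT.node 1609 (BT.node 1608 (BT.leaf c1_708) (BT.leaf c1_709)) (BT.leaf c1_710))) (BT.node 1614 (BT.node 1612 (BT.node 1611 (BT.leaf c1_711) (BT.leaf c1_712)) (BT.node 1613 (BT.leaf c1_713) (BT.leaf c1_714))) (BT.node 1616 (BT.node 1615 (BT.leaf c1_715) (BT.leaf c1_716))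 (BT.leaf c1_717)))) (BT.node 1624 (BT.node 1621 (BT.node 1619 (BT.node 1618 (BT.leaf c1_718) (BT.leaf c1_719)) (BT.node 1620 (BT.leaf c1_720) (BT.leaf c1_721))) (BT.node 1623 (BT.node 1622 (BT.leaf c1_722) (BT.leaf c1_723)) (BT.leaf c1_724))) (BT.node 1628 (BT.node 1626 (BT.node 1625 (BT.leaf c1_725) (BT.leaf c1_726)) (BT.node 1627 (BT.leaf c1_727) (BT.leaf c1_728))) (BT.node 1630 (BT.node 1629 (BT.leaf c1_729) (BT.leaf c1_730)) (BT.leaf c1_731)))))) (BT.node 1659 (BT.node 1645 (BT.node 1638 (BT.node 1635 (BT.node 1633 (BT.node 1632 (BT.leaf c1_732) (BT.leaf c1_733)) (BT.node 1634 (BT.leaf c1_734) (BT.leaf c1_735))) (BT.node 1637 (BT.node 1636 (BT.leaf c1_736) (BT.leaf c1_737)) (BT.leaf c1_738))) (BT.node 1642 (BT.node 1640 (BT.node 1639 (BT.leaf c1_739) (BT.leaf c1_740)) (BT.node 1641 (BT.leaf c1_741) (BT.leaf c1_742))) (BT.node 1644 (BT.node 1643 (BT.leaf c1_743) (BT.leaf c1_744)) (BT.leaf c1_745))))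 (BT.node 1652 (BT.node 1649 (BT.node 1647 (BT.node 1646 (BT.leaf c1_746) (BT.leaf c1_747)) (BT.node 1648 (BT.leaf c1_748) (BT.leaf c1_749))) (BT.node 1651 (BT.node 1650 (BT.leaf c1_750) (BT.leaf c1_751)) (BT.leaf c1_752))) (BT.node 1656 (BT.node 1654 (BT.node 1653 (BT.leaf c1_753) (BT.leaf c1_754)) (BT.node 1655 (BT.leaf c1_755) (BT.leaf c1_756))) (BT.node 1658 (BT.node 1657 (BT.leaf c1_757) (BT.leaf c1_758)) (BT.leaf c1_759))))) (BT.node 1673 (BT.node 1666 (BT.node 1663 (BT.node 1661 (BT.node 1660 (BT.leaf c1_760) (BT.leaf c1_761)) (BT.node 1662 (BT.leaf c1_762) (BT.leaf c1_763))) (BT.node 1665 (BT.node 1664 (BT.leaf c1_764) (BT.leaf c1_765)) (BT.leaf c1_766))) (BT.node 1670 (BT.node 1668 (BT.node 1667 (BT.leaf c1_767) (BT.leaf c1_768)) (BT.node 1669 (BT.leaf c1_769) (BT.leaf c1_770))) (BT.node 1672 (BT.node 1671 (BT.leaf c1_771) (BT.leaf c1_772)) (BT.leaf c1_773)))) (BT.node 1680 (BT.node 1677 (BT.node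 1675 (BT.node 1674 (BT.leaf c1_774) (BT.leaf c1_775)) (BT.node 1676 (BT.leaf c1_776) (BT.leaf c1_777))) (BT.node 1679 (BT.node 1678 (BT.leaf c1_778) (BT.leaf c1_779)) (BT.leaf c1_780))) (BT.node 1684 (BT.node 1682 (BT.node 1681 (BT.leaf c1_781) (BT.leaf c1_782)) (BT.node 1683 (BT.leaf c1_783) (BT.leaf c1_784))) (BT.node 1686 (BT.node 1685 (BT.leaf c1_785) (BT.leaf c1_786)) (BT.leaf c1_787))))))) (BT.node 1743 (BT.node 1715 (BT.node 1701 (BT.node 1694 (BT.node 1691 (BT.node 1689 (BT.node 1688 (BT.leaf c1_788) (BT.leaf c1_789)) (BT.node 1690 (BT.leaf c1_790) (BT.leaf c1_791))) (BT.node 1693 (BT.node 1692 (BT.leaf c1_792) (BT.leaf c1_793)) (BT.leaf c1_794))) (BT.node 1698 (BT.node 1696 (BT.node 1695 (BT.leaf c1_795) (BT.leaf c1_796)) (BT.node 1697 (BT.leaf c1_797) (BT.leaf c1_798))) (BT.node 1700 (BT.node 1699 (BT.leaf c1_799) (BT.leaf c1_800)) (BT.leaf c1_801)))) (BT.node 1708 (BT.node 1705 (BT.node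 1703 (BT.node 1702 (BT.leaf c1_802) (BT.leaf c1_803)) (BT.node 1704 (BT.leaf c1_804) (BT.leaf c1_805))) (BT.node 1707 (BT.node 1706 (BT.leaf c1_806) (BT.leaf c1_807)) (BT.leaf c1_808))) (BT.node 1712 (BT.node 1710 (BT.node 1709 (BT.leaf c1_809) (BT.leaf c1_810)) (BT.node 1711 (BT.leaf c1_811) (BT.leaf c1_812))) (BT.node 1714 (BT.node 1713 (BT.leaf c1_813) (BT.leaf c1_814)) (BT.leaf c1_815))))) (BT.node 1729 (BT.node 1722 (BT.node 1719 (BT.node 1717 (BT.node 1716 (BT.leaf c1_816) (BT.leaf c1_817)) (BT.node 1718 (BT.leaf c1_818) (BT.leaf c1_819))) (BT.node 1721 (BT.node 1720 (BT.leaf c1_820) (BT.leaf c1_821)) (BT.leaf c1_822))) (BT.node 1726 (BT.node 1724 (BT.node 1723 (BT.leaf c1_823) (BT.leaf c1_824)) (BT.node 1725 (BT.leaf c1_825) (BT.leaf c1_826))) (BT.node 1728 (BT.node 1727 (BT.leaf c1_827) (BT.leaf c1_828)) (BT.leaf c1_829)))) (BT.node 1736 (BT.node 1733 (BT.node 1731 (BT.node 1730 (BT.leaf c1_830)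 (BT.leaf c1_831)) (BT.node 1732 (BT.leaf c1_832) (BT.leaf c1_833))) (BT.node 1735 (BT.node 1734 (BT.leaf c1_834) (BT.leaf c1_835)) (BT.leaf c1_836))) (BT.node 1740 (BT.node 1738 (BT.node 1737 (BT.leaf c1_837) (BT.leaf c1_838)) (BT.node 1739 (BT.leaf c1_839) (BT.leaf c1_840))) (BT.node 1742 (BT.node 1741 (BT.leaf c1_841) (BT.leaf c1_842)) (BT.leaf c1_843)))))) (BT.node 1771 (BT.node 1757 (BT.node 1750 (BT.node 1747 (BT.node 1745 (BT.node 1744 (BT.leaf c1_844) (BT.leaf c1_845)) (BT.node 1746 (BT.leaf c1_846) (BT.leaf c1_847))) (BT.node 1749 (BT.node 1748 (BT.leaf c1_848) (BT.leaf c1_849)) (BT.leaf c1_850))) (BT.node 1754 (BT.node 1752 (BT.node 1751 (BT.leaf c1_851) (BT.leaf c1_852)) (BT.node 1753 (BT.leaf c1_853) (BT.leaf c1_854))) (BT.node 1756 (BT.node 1755 (BT.leaf c1_855) (BT.leaf c1_856)) (BT.leaf c1_857)))) (BT.node 1764 (BT.node 1761 (BT.node 1759 (BT.node 1758 (BT.leaf c1_858) (BT.leaf c1_859))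 (BT.node 1760 (BT.leaf c1_860) (BT.leaf c1_861))) (BT.node 1763 (BT.node 1762 (BT.leaf c1_862) (BT.leaf c1_863)) (BT.leaf c1_864))) (BT.node 1768 (BT.node 1766 (BT.node 1765 (BT.leaf c1_865) (BT.leaf c1_866)) (BT.node 1767 (BT.leaf c1_867) (BT.leaf c1_868))) (BT.node 1770 (BT.node 1769 (BT.leaf c1_869) (BT.leaf c1_870)) (BT.leaf c1_871))))) (BT.node 1785 (BT.node 1778 (BT.node 1775 (BT.node 1773 (BT.node 1772 (BT.leaf c1_872) (BT.leaf c1_873)) (BT.node 1774 (BT.leaf c1_874) (BT.leaf c1_875))) (BT.node 1777 (BT.node 1776 (BT.leaf c1_876) (BT.leaf c1_877)) (BT.leaf c1_878))) (BT.node 1782 (BT.node 1780 (BT.node 1779 (BT.leaf c1_879) (BT.leaf c1_880)) (BT.node 1781 (BT.leaf c1_881) (BT.leaf c1_882))) (BT.node 1784 (BT.node 1783 (BT.leaf c1_883) (BT.leaf c1_884)) (BT.leaf c1_885)))) (BT.node 1792 (BT.node 1789 (BT.node 1787 (BT.node 1786 (BT.leaf c1_886) (BT.leaf c1_887)) (BT.node 1788 (BT.leaf c1_888)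 (BT.leaf c1_889))) (BT.node 1791 (BT.node 1790 (BT.leaf c1_890) (BT.leaf c1_891)) (BT.leaf c1_892))) (BT.node 1796 (BT.node 1794 (BT.node 1793 (BT.leaf c1_893) (BT.leaf c1_894)) (BT.node 1795 (BT.leaf c1_895) (BT.leaf c1_896))) (BT.node 1798 (BT.node 1797 (BT.leaf c1_897) (BT.leaf c1_898)) (BT.leaf c1_899))))))))))
/-- the chunks of the letter 2 -/
def colL_2 : BT ℕ := (BT.node 2249 (BT.node 2024 (BT.node 1912 (BT.node 1856 (BT.node 1828 (BT.node 1814 (BT.node 1807 (BT.node 1803 (BT.node 1801 (BT.node 1800 (BT.leaf c2_0) (BT.leaf c2_1)) (BT.node 1802 (BT.leaf c2_2) (BT.leaf c2_3))) (BT.node 1805 (BT.node 1804 (BT.leaf c2_4) (BT.leaf c2_5)) (BT.node 1806 (BT.leaf c2_6) (BT.leaf c2_7)))) (BT.node 1811 (BT.node 1809 (BT.node 1808 (BT.leaf c2_8) (BT.leaf c2_9)) (BT.node 1810 (BT.leaf c2_10) (BT.leaf c2_11))) (BT.node 1813 (BT.node 1812 (BT.leaf c2_12) (BT.leaf c2_13)) (BT.leaf c2_14)))) (BT.node 1821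 (BT.node 1818 (BT.node 1816 (BT.node 1815 (BT.leaf c2_15) (BT.leaf c2_16)) (BT.node 1817 (BT.leaf c2_17) (BT.leaf c2_18))) (BT.node 1820 (BT.node 1819 (BT.leaf c2_19) (BT.leaf c2_20)) (BT.leaf c2_21))) (BT.node 1825 (BT.node 1823 (BT.node 1822 (BT.leaf c2_22) (BT.leaf c2_23)) (BT.node 1824 (BT.leaf c2_24) (BT.leaf c2_25))) (BT.node 1827 (BT.node 1826 (BT.leaf c2_26) (BT.leaf c2_27)) (BT.leaf c2_28))))) (BT.node 1842 (BT.node 1835 (BT.node 1832 (BT.node 1830 (BT.node 1829 (BT.leaf c2_29) (BT.leaf c2_30)) (BT.node 1831 (BT.leaf c2_31) (BT.leaf c2_32))) (BT.node 1834 (BT.node 1833 (BT.leaf c2_33) (BT.leaf c2_34)) (BT.leaf c2_35))) (BT.node 1839 (BT.node 1837 (BT.node 1836 (BT.leaf c2_36) (BT.leaf c2_37)) (BT.node 1838 (BT.leaf c2_38) (BT.leaf c2_39))) (BT.node 1841 (BT.node 1840 (BT.leaf c2_40) (BT.leaf c2_41)) (BT.leaf c2_42)))) (BT.node 1849 (BT.node 1846 (BT.node 1844 (BT.node 1843 (BT.leaf c2_43)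 (BT.leaf c2_44)) (BT.node 1845 (BT.leaf c2_45) (BT.leaf c2_46))) (BT.node 1848 (BT.node 1847 (BT.leaf c2_47) (BT.leaf c2_48)) (BT.leaf c2_49))) (BT.node 1853 (BT.node 1851 (BT.node 1850 (BT.leaf c2_50) (BT.leaf c2_51)) (BT.node 1852 (BT.leaf c2_52) (BT.leaf c2_53))) (BT.node 1855 (BT.node 1854 (BT.leaf c2_54) (BT.leaf c2_55)) (BT.leaf c2_56)))))) (BT.node 1884 (BT.node 1870 (BT.node 1863 (BT.node 1860 (BT.node 1858 (BT.node 1857 (BT.leaf c2_57) (BT.leaf c2_58)) (BT.node 1859 (BT.leaf c2_59) (BT.leaf c2_60))) (BT.node 1862 (BT.node 1861 (BT.leaf c2_61) (BT.leaf c2_62)) (BT.leaf c2_63))) (BT.node 1867 (BT.node 1865 (BT.node 1864 (BT.leaf c2_64) (BT.leaf c2_65)) (BT.node 1866 (BT.leaf c2_66) (BT.leaf c2_67))) (BT.node 1869 (BT.node 1868 (BT.leaf c2_68) (BT.leaf c2_69)) (BT.leaf c2_70)))) (BT.node 1877 (BT.node 1874 (BT.node 1872 (BT.node 1871 (BT.leaf c2_71) (BT.leaf c2_72)) (BT.node 1873 (BT.leaf c2_73)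 (BT.leaf c2_74))) (BT.node 1876 (BT.node 1875 (BT.leaf c2_75) (BT.leaf c2_76)) (BT.leaf c2_77))) (BT.node 1881 (BT.node 1879 (BT.node 1878 (BT.leaf c2_78) (BT.leaf c2_79)) (BT.node 1880 (BT.leaf c2_80) (BT.leaf c2_81))) (BT.node 1883 (BT.node 1882 (BT.leaf c2_82) (BT.leaf c2_83)) (BT.leaf c2_84))))) (BT.node 1898 (BT.node 1891 (BT.node 1888 (BT.node 1886 (BT.node 1885 (BT.leaf c2_85) (BT.leaf c2_86)) (BT.node 1887 (BT.leaf c2_87) (BT.leaf c2_88))) (BT.node 1890 (BT.node 1889 (BT.leaf c2_89) (BT.leaf c2_90)) (BT.leaf c2_91))) (BT.node 1895 (BT.node 1893 (BT.node 1892 (BT.leaf c2_92) (BT.leaf c2_93)) (BT.node 1894 (BT.leaf c2_94) (BT.leaf c2_95))) (BT.node 1897 (BT.node 1896 (BT.leaf c2_96) (BT.leaf c2_97)) (BT.leaf c2_98)))) (BT.node 1905 (BT.node 1902 (BT.node 1900 (BT.node 1899 (BT.leaf c2_99) (BT.leaf c2_100)) (BT.node 1901 (BT.leaf c2_101) (BT.leaf c2_102))) (BT.node 1904 (BT.node 1903 (BT.leaf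 c2_103) (BT.leaf c2_104)) (BT.leaf c2_105))) (BT.node 1909 (BT.node 1907 (BT.node 1906 (BT.leaf c2_106) (BT.leaf c2_107)) (BT.node 1908 (BT.leaf c2_108) (BT.leaf c2_109))) (BT.node 1911 (BT.node 1910 (BT.leaf c2_110) (BT.leaf c2_111)) (BT.leaf c2_112))))))) (BT.node 1968 (BT.node 1940 (BT.node 1926 (BT.node 1919 (BT.node 1916 (BT.node 1914 (BT.node 1913 (BT.leaf c2_113) (BT.leaf c2_114)) (BT.node 1915 (BT.leaf c2_115) (BT.leaf c2_116))) (BT.node 1918 (BT.node 1917 (BT.leaf c2_117) (BT.leaf c2_118)) (BT.leaf c2_119))) (BT.node 1923 (BT.node 1921 (BT.node 1920 (BT.leaf c2_120) (BT.leaf c2_121)) (BT.node 1922 (BT.leaf c2_122) (BT.leaf c2_123))) (BT.node 1925 (BT.node 1924 (BT.leaf c2_124) (BT.leaf c2_125)) (BT.leaf c2_126)))) (BT.node 1933 (BT.node 1930 (BT.node 1928 (BT.node 1927 (BT.leaf c2_127) (BT.leaf c2_128)) (BT.node 1929 (BT.leaf c2_129) (BT.leaf c2_130))) (BT.node 1932 (BT.node 1931 (BT.leaf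 c2_131) (BT.leaf c2_132)) (BT.leaf c2_133))) (BT.node 1937 (BT.node 1935 (BT.node 1934 (BT.leaf c2_134) (BT.leaf c2_135)) (BT.node 1936 (BT.leaf c2_136) (BT.leaf c2_137))) (BT.node 1939 (BT.node 1938 (BT.leaf c2_138) (BT.leaf c2_139)) (BT.leaf c2_140))))) (BT.node 1954 (BT.node 1947 (BT.node 1944 (BT.node 1942 (BT.node 1941 (BT.leaf c2_141) (BT.leaf c2_142)) (BT.node 1943 (BT.leaf c2_143) (BT.leaf c2_144))) (BT.node 1946 (BT.node 1945 (BT.leaf c2_145) (BT.leaf c2_146)) (BT.leaf c2_147))) (BT.node 1951 (BT.node 1949 (BT.node 1948 (BT.leaf c2_148) (BT.leaf c2_149)) (BT.node 1950 (BT.leaf c2_150) (BT.leaf c2_151))) (BT.node 1953 (BT.node 1952 (BT.leaf c2_152) (BT.leaf c2_153)) (BT.leaf c2_154)))) (BT.node 1961 (BT.node 1958 (BT.node 1956 (BT.node 1955 (BT.leaf c2_155) (BT.leaf c2_156)) (BT.node 1957 (BT.leaf c2_157) (BT.leaf c2_158))) (BT.node 1960 (BT.node 1959 (BT.leaf c2_159) (BT.leaf c2_160)) (BT.leaf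 c2_161))) (BT.node 1965 (BT.node 1963 (BT.node 1962 (BT.leaf c2_162) (BT.leaf c2_163)) (BT.node 1964 (BT.leaf c2_164) (BT.leaf c2_165))) (BT.node 1967 (BT.node 1966 (BT.leaf c2_166) (BT.leaf c2_167)) (BT.leaf c2_168)))))) (BT.node 1996 (BT.node 1982 (BT.node 1975 (BT.node 1972 (BT.node 1970 (BT.node 1969 (BT.leaf c2_169) (BT.leaf c2_170)) (BT.node 1971 (BT.leaf c2_171) (BT.leaf c2_172))) (BT.node 1974 (BT.node 1973 (BT.leaf c2_173) (BT.leaf c2_174)) (BT.leaf c2_175))) (BT.node 1979 (BT.node 1977 (BT.node 1976 (BT.leaf c2_176) (BT.leaf c2_177)) (BT.node 1978 (BT.leaf c2_178) (BT.leaf c2_179))) (BT.node 1981 (BT.node 1980 (BT.leaf c2_180) (BT.leaf c2_181)) (BT.leaf c2_182)))) (BT.node 1989 (BT.node 1986 (BT.node 1984 (BT.node 1983 (BT.leaf c2_183) (BT.leaf c2_184)) (BT.node 1985 (BT.leaf c2_185) (BT.leaf c2_186))) (BT.node 1988 (BT.node 1987 (BT.leaf c2_187) (BT.leaf c2_188)) (BT.leaf c2_189))) (BT.node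 1993 (BT.node 1991 (BT.node 1990 (BT.leaf c2_190) (BT.leaf c2_191)) (BT.node 1992 (BT.leaf c2_192) (BT.leaf c2_193))) (BT.node 1995 (BT.node 1994 (BT.leaf c2_194) (BT.leaf c2_195)) (BT.leaf c2_196))))) (BT.node 2010 (BT.node 2003 (BT.node 2000 (BT.node 1998 (BT.node 1997 (BT.leaf c2_197) (BT.leaf c2_198)) (BT.node 1999 (BT.leaf c2_199) (BT.leaf c2_200))) (BT.node 2002 (BT.node 2001 (BT.leaf c2_201) (BT.leaf c2_202)) (BT.leaf c2_203))) (BT.node 2007 (BT.node 2005 (BT.node 2004 (BT.leaf c2_204) (BT.leaf c2_205)) (BT.node 2006 (BT.leaf c2_206) (BT.leaf c2_207))) (BT.node 2009 (BT.node 2008 (BT.leaf c2_208) (BT.leaf c2_209)) (BT.leaf c2_210)))) (BT.node 2017 (BT.node 2014 (BT.node 2012 (BT.node 2011 (BT.leaf c2_211) (BT.leaf c2_212)) (BT.node 2013 (BT.leaf c2_213) (BT.leaf c2_214))) (BT.node 2016 (BT.node 2015 (BT.leaf c2_215) (BT.leaf c2_216)) (BT.leaf c2_217))) (BT.node 2021 (BT.node 2019 (BT.node 2018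 (BT.leaf c2_218) (BT.leaf c2_219)) (BT.node 2020 (BT.leaf c2_220) (BT.leaf c2_221))) (BT.node 2023 (BT.node 2022 (BT.leaf c2_222) (BT.leaf c2_223)) (BT.leaf c2_224)))))))) (BT.node 2137 (BT.node 2081 (BT.node 2053 (BT.node 2039 (BT.node 2032 (BT.node 2028 (BT.node 2026 (BT.node 2025 (BT.leaf c2_225) (BT.leaf c2_226)) (BT.node 2027 (BT.leaf c2_227) (BT.leaf c2_228))) (BT.node 2030 (BT.node 2029 (BT.leaf c2_229) (BT.leaf c2_230)) (BT.node 2031 (BT.leaf c2_231) (BT.leaf c2_232)))) (BT.node 2036 (BT.node 2034 (BT.node 2033 (BT.leaf c2_233) (BT.leaf c2_234)) (BT.node 2035 (BT.leaf c2_235) (BT.leaf c2_236))) (BT.node 2038 (BT.node 2037 (BT.leaf c2_237) (BT.leaf c2_238)) (BT.leaf c2_239)))) (BT.node 2046 (BT.node 2043 (BT.node 2041 (BT.node 2040 (BT.leaf c2_240) (BT.leaf c2_241)) (BT.node 2042 (BT.leaf c2_242) (BT.leaf c2_243))) (BT.node 2045 (BT.node 2044 (BT.leaf c2_244) (BT.leaf c2_245)) (BT.leaf c2_246)))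 (BT.node 2050 (BT.node 2048 (BT.node 2047 (BT.leaf c2_247) (BT.leaf c2_248)) (BT.node 2049 (BT.leaf c2_249) (BT.leaf c2_250))) (BT.node 2052 (BT.node 2051 (BT.leaf c2_251) (BT.leaf c2_252)) (BT.leaf c2_253))))) (BT.node 2067 (BT.node 2060 (BT.node 2057 (BT.node 2055 (BT.node 2054 (BT.leaf c2_254) (BT.leaf c2_255)) (BT.node 2056 (BT.leaf c2_256) (BT.leaf c2_257))) (BT.node 2059 (BT.node 2058 (BT.leaf c2_258) (BT.leaf c2_259)) (BT.leaf c2_260))) (BT.node 2064 (BT.node 2062 (BT.node 2061 (BT.leaf c2_261) (BT.leaf c2_262)) (BT.node 2063 (BT.leaf c2_263) (BT.leaf c2_264))) (BT.node 2066 (BT.node 2065 (BT.leaf c2_265) (BT.leaf c2_266)) (BT.leaf c2_267)))) (BT.node 2074 (BT.node 2071 (BT.node 2069 (BT.node 2068 (BT.leaf c2_268) (BT.leaf c2_269)) (BT.node 2070 (BT.leaf c2_270) (BT.leaf c2_271))) (BT.node 2073 (BT.node 2072 (BT.leaf c2_272) (BT.leaf c2_273)) (BT.leaf c2_274))) (BT.node 2078 (BT.node 2076 (BT.node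 2075 (BT.leaf c2_275) (BT.leaf c2_276)) (BT.node 2077 (BT.leaf c2_277) (BT.leaf c2_278))) (BT.node 2080 (BT.node 2079 (BT.leaf c2_279) (BT.leaf c2_280)) (BT.leaf c2_281)))))) (BT.node 2109 (BT.node 2095 (BT.node 2088 (BT.node 2085 (BT.node 2083 (BT.node 2082 (BT.leaf c2_282) (BT.leaf c2_283)) (BT.node 2084 (BT.leaf c2_284) (BT.leaf c2_285))) (BT.node 2087 (BT.node 2086 (BT.leaf c2_286) (BT.leaf c2_287)) (BT.leaf c2_288))) (BT.node 2092 (BT.node 2090 (BT.node 2089 (BT.leaf c2_289) (BT.leaf c2_290)) (BT.node 2091 (BT.leaf c2_291) (BT.leaf c2_292))) (BT.node 2094 (BT.node 2093 (BT.leaf c2_293) (BT.leaf c2_294)) (BT.leaf c2_295)))) (BT.node 2102 (BT.node 2099 (BT.node 2097 (BT.node 2096 (BT.leaf c2_296) (BT.leaf c2_297)) (BT.node 2098 (BT.leaf c2_298) (BT.leaf c2_299))) (BT.node 2101 (BT.node 2100 (BT.leaf c2_300) (BT.leaf c2_301)) (BT.leaf c2_302))) (BT.node 2106 (BT.node 2104 (BT.node 2103 (BT.leaf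 c2_303) (BT.leaf c2_304)) (BT.node 2105 (BT.leaf c2_305) (BT.leaf c2_306))) (BT.node 2108 (BT.node 2107 (BT.leaf c2_307) (BT.leaf c2_308)) (BT.leaf c2_309))))) (BT.node 2123 (BT.node 2116 (BT.node 2113 (BT.node 2111 (BT.node 2110 (BT.leaf c2_310) (BT.leaf c2_311)) (BT.node 2112 (BT.leaf c2_312) (BT.leaf c2_313))) (BT.node 2115 (BT.node 2114 (BT.leaf c2_314) (BT.leaf c2_315)) (BT.leaf c2_316))) (BT.node 2120 (BT.node 2118 (BT.node 2117 (BT.leaf c2_317) (BT.leaf c2_318)) (BT.node 2119 (BT.leaf c2_319) (BT.leaf c2_320))) (BT.node 2122 (BT.node 2121 (BT.leaf c2_321) (BT.leaf c2_322)) (BT.leaf c2_323)))) (BT.node 2130 (BT.node 2127 (BT.node 2125 (BT.node 2124 (BT.leaf c2_324) (BT.leaf c2_325)) (BT.node 2126 (BT.leaf c2_326) (BT.leaf c2_327))) (BT.node 2129 (BT.node 2128 (BT.leaf c2_328) (BT.leaf c2_329)) (BT.leaf c2_330))) (BT.node 2134 (BT.node 2132 (BT.node 2131 (BT.leaf c2_331) (BT.leaf c2_332)) (BT.node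 2133 (BT.leaf c2_333) (BT.leaf c2_334))) (BT.node 2136 (BT.node 2135 (BT.leaf c2_335) (BT.leaf c2_336)) (BT.leaf c2_337))))))) (BT.node 2193 (BT.node 2165 (BT.node 2151 (BT.node 2144 (BT.node 2141 (BT.node 2139 (BT.node 2138 (BT.leaf c2_338) (BT.leaf c2_339)) (BT.node 2140 (BT.leaf c2_340) (BT.leaf c2_341))) (BT.node 2143 (BT.node 2142 (BT.leaf c2_342) (BT.leaf c2_343)) (BT.leaf c2_344))) (BT.node 2148 (BT.node 2146 (BT.node 2145 (BT.leaf c2_345) (BT.leaf c2_346)) (BT.node 2147 (BT.leaf c2_347) (BT.leaf c2_348))) (BT.node 2150 (BT.node 2149 (BT.leaf c2_349) (BT.leaf c2_350)) (BT.leaf c2_351)))) (BT.node 2158 (BT.node 2155 (BT.node 2153 (BT.node 2152 (BT.leaf c2_352) (BT.leaf c2_353)) (BT.node 2154 (BT.leaf c2_354) (BT.leaf c2_355))) (BT.node 2157 (BT.node 2156 (BT.leaf c2_356) (BT.leaf c2_357)) (BT.leaf c2_358))) (BT.node 2162 (BT.node 2160 (BT.node 2159 (BT.leaf c2_359) (BT.leaf c2_360)) (BT.node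 2161 (BT.leaf c2_361) (BT.leaf c2_362))) (BT.node 2164 (BT.node 2163 (BT.leaf c2_363) (BT.leaf c2_364)) (BT.leaf c2_365))))) (BT.node 2179 (BT.node 2172 (BT.node 2169 (BT.node 2167 (BT.node 2166 (BT.leaf c2_366) (BT.leaf c2_367)) (BT.node 2168 (BT.leaf c2_368) (BT.leaf c2_369))) (BT.node 2171 (BT.node 2170 (BT.leaf c2_370) (BT.leaf c2_371)) (BT.leaf c2_372))) (BT.node 2176 (BT.node 2174 (BT.node 2173 (BT.leaf c2_373) (BT.leaf c2_374)) (BT.node 2175 (BT.leaf c2_375) (BT.leaf c2_376))) (BT.node 2178 (BT.node 2177 (BT.leaf c2_377) (BT.leaf c2_378)) (BT.leaf c2_379)))) (BT.node 2186 (BT.node 2183 (BT.node 2181 (BT.node 2180 (BT.leaf c2_380) (BT.leaf c2_381)) (BT.node 2182 (BT.leaf c2_382) (BT.leaf c2_383))) (BT.node 2185 (BT.node 2184 (BT.leaf c2_384) (BT.leaf c2_385)) (BT.leaf c2_386))) (BT.node 2190 (BT.node 2188 (BT.node 2187 (BT.leaf c2_387) (BT.leaf c2_388)) (BT.node 2189 (BT.leaf c2_389) (BT.leaf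 c2_390))) (BT.node 2192 (BT.node 2191 (BT.leaf c2_391) (BT.leaf c2_392)) (BT.leaf c2_393)))))) (BT.node 2221 (BT.node 2207 (BT.node 2200 (BT.node 2197 (BT.node 2195 (BT.node 2194 (BT.leaf c2_394) (BT.leaf c2_395)) (BT.node 2196 (BT.leaf c2_396) (BT.leaf c2_397))) (BT.node 2199 (BT.node 2198 (BT.leaf c2_398) (BT.leaf c2_399)) (BT.leaf c2_400))) (BT.node 2204 (BT.node 2202 (BT.node 2201 (BT.leaf c2_401) (BT.leaf c2_402)) (BT.node 2203 (BT.leaf c2_403) (BT.leaf c2_404))) (BT.node 2206 (BT.node 2205 (BT.leaf c2_405) (BT.leaf c2_406)) (BT.leaf c2_407)))) (BT.node 2214 (BT.node 2211 (BT.node 2209 (BT.node 2208 (BT.leaf c2_408) (BT.leaf c2_409)) (BT.node 2210 (BT.leaf c2_410) (BT.leaf c2_411))) (BT.node 2213 (BT.node 2212 (BT.leaf c2_412) (BT.leaf c2_413)) (BT.leaf c2_414))) (BT.node 2218 (BT.node 2216 (BT.node 2215 (BT.leaf c2_415) (BT.leaf c2_416)) (BT.node 2217 (BT.leaf c2_417) (BT.leaf c2_418))) (BT.node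 2220 (BT.node 2219 (BT.leaf c2_419) (BT.leaf c2_420)) (BT.leaf c2_421))))) (BT.node 2235 (BT.node 2228 (BT.node 2225 (BT.node 2223 (BT.node 2222 (BT.leaf c2_422) (BT.leaf c2_423)) (BT.node 2224 (BT.leaf c2_424) (BT.leaf c2_425))) (BT.node 2227 (BT.node 2226 (BT.leaf c2_426) (BT.leaf c2_427)) (BT.leaf c2_428))) (BT.node 2232 (BT.node 2230 (BT.node 2229 (BT.leaf c2_429) (BT.leaf c2_430)) (BT.node 2231 (BT.leaf c2_431) (BT.leaf c2_432))) (BT.node 2234 (BT.node 2233 (BT.leaf c2_433) (BT.leaf c2_434)) (BT.leaf c2_435)))) (BT.node 2242 (BT.node 2239 (BT.node 2237 (BT.node 2236 (BT.leaf c2_436) (BT.leaf c2_437)) (BT.node 2238 (BT.leaf c2_438) (BT.leaf c2_439))) (BT.node 2241 (BT.node 2240 (BT.leaf c2_440) (BT.leaf c2_441)) (BT.leaf c2_442))) (BT.node 2246 (BT.node 2244 (BT.node 2243 (BT.leaf c2_443) (BT.leaf c2_444)) (BT.node 2245 (BT.leaf c2_445) (BT.leaf c2_446))) (BT.node 2248 (BT.node 2247 (BT.leaf c2_447)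 (BT.leaf c2_448)) (BT.leaf c2_449))))))))) (BT.node 2474 (BT.node 2362 (BT.node 2306 (BT.node 2278 (BT.node 2264 (BT.node 2257 (BT.node 2253 (BT.node 2251 (BT.node 2250 (BT.leaf c2_450) (BT.leaf c2_451)) (BT.node 2252 (BT.leaf c2_452) (BT.leaf c2_453))) (BT.node 2255 (BT.node 2254 (BT.leaf c2_454) (BT.leaf c2_455)) (BT.node 2256 (BT.leaf c2_456) (BT.leaf c2_457)))) (BT.node 2261 (BT.node 2259 (BT.node 2258 (BT.leaf c2_458) (BT.leaf c2_459)) (BT.node 2260 (BT.leaf c2_460) (BT.leaf c2_461))) (BT.node 2263 (BT.node 2262 (BT.leaf c2_462) (BT.leaf c2_463)) (BT.leaf c2_464)))) (BT.node 2271 (BT.node 2268 (BT.node 2266 (BT.node 2265 (BT.leaf c2_465) (BT.leaf c2_466)) (BT.node 2267 (BT.leaf c2_467) (BT.leaf c2_468))) (BT.node 2270 (BT.node 2269 (BT.leaf c2_469) (BT.leaf c2_470)) (BT.leaf c2_471))) (BT.node 2275 (BT.node 2273 (BT.node 2272 (BT.leaf c2_472) (BT.leaf c2_473)) (BT.node 2274 (BT.leaf c2_474) (BT.leaf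 c2_475))) (BT.node 2277 (BT.node 2276 (BT.leaf c2_476) (BT.leaf c2_477)) (BT.leaf c2_478))))) (BT.node 2292 (BT.node 2285 (BT.node 2282 (BT.node 2280 (BT.node 2279 (BT.leaf c2_479) (BT.leaf c2_480)) (BT.node 2281 (BT.leaf c2_481) (BT.leaf c2_482))) (BT.node 2284 (BT.node 2283 (BT.leaf c2_483) (BT.leaf c2_484)) (BT.leaf c2_485))) (BT.node 2289 (BT.node 2287 (BT.node 2286 (BT.leaf c2_486) (BT.leaf c2_487)) (BT.node 2288 (BT.leaf c2_488) (BT.leaf c2_489))) (BT.node 2291 (BT.node 2290 (BT.leaf c2_490) (BT.leaf c2_491)) (BT.leaf c2_492)))) (BT.node 2299 (BT.node 2296 (BT.node 2294 (BT.node 2293 (BT.leaf c2_493) (BT.leaf c2_494)) (BT.node 2295 (BT.leaf c2_495) (BT.leaf c2_496))) (BT.node 2298 (BT.node 2297 (BT.leaf c2_497) (BT.leaf c2_498)) (BT.leaf c2_499))) (BT.node 2303 (BT.node 2301 (BT.node 2300 (BT.leaf c2_500) (BT.leaf c2_501)) (BT.node 2302 (BT.leaf c2_502) (BT.leaf c2_503))) (BT.node 2305 (BT.node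 2304 (BT.leaf c2_504) (BT.leaf c2_505)) (BT.leaf c2_506)))))) (BT.node 2334 (BT.node 2320 (BT.node 2313 (BT.node 2310 (BT.node 2308 (BT.node 2307 (BT.leaf c2_507) (BT.leaf c2_508)) (BT.node 2309 (BT.leaf c2_509) (BT.leaf c2_510))) (BT.node 2312 (BT.node 2311 (BT.leaf c2_511) (BT.leaf c2_512)) (BT.leaf c2_513))) (BT.node 2317 (BT.node 2315 (BT.node 2314 (BT.leaf c2_514) (BT.leaf c2_515)) (BT.node 2316 (BT.leaf c2_516) (BT.leaf c2_517))) (BT.node 2319 (BT.node 2318 (BT.leaf c2_518) (BT.leaf c2_519)) (BT.leaf c2_520)))) (BT.node 2327 (BT.node 2324 (BT.node 2322 (BT.node 2321 (BT.leaf c2_521) (BT.leaf c2_522)) (BT.node 2323 (BT.leaf c2_523) (BT.leaf c2_524))) (BT.node 2326 (BT.node 2325 (BT.leaf c2_525) (BT.leaf c2_526)) (BT.leaf c2_527))) (BT.node 2331 (BT.node 2329 (BT.node 2328 (BT.leaf c2_528) (BT.leaf c2_529)) (BT.node 2330 (BT.leaf c2_530) (BT.leaf c2_531))) (BT.node 2333 (BT.node 2332 (BT.leaf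 c2_532) (BT.leaf c2_533)) (BT.leaf c2_534))))) (BT.node 2348 (BT.node 2341 (BT.node 2338 (BT.node 2336 (BT.node 2335 (BT.leaf c2_535) (BT.leaf c2_536)) (BT.node 2337 (BT.leaf c2_537) (BT.leaf c2_538))) (BT.node 2340 (BT.node 2339 (BT.leaf c2_539) (BT.leaf c2_540)) (BT.leaf c2_541))) (BT.node 2345 (BT.node 2343 (BT.node 2342 (BT.leaf c2_542) (BT.leaf c2_543)) (BT.node 2344 (BT.leaf c2_544) (BT.leaf c2_545))) (BT.node 2347 (BT.node 2346 (BT.leaf c2_546) (BT.leaf c2_547)) (BT.leaf c2_548)))) (BT.node 2355 (BT.node 2352 (BT.node 2350 (BT.node 2349 (BT.leaf c2_549) (BT.leaf c2_550)) (BT.node 2351 (BT.leaf c2_551) (BT.leaf c2_552))) (BT.node 2354 (BT.node 2353 (BT.leaf c2_553) (BT.leaf c2_554)) (BT.leaf c2_555))) (BT.node 2359 (BT.node 2357 (BT.node 2356 (BT.leaf c2_556) (BT.leaf c2_557)) (BT.node 2358 (BT.leaf c2_558) (BT.leaf c2_559))) (BT.node 2361 (BT.node 2360 (BT.leaf c2_560) (BT.leaf c2_561)) (BT.leaf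 c2_562))))))) (BT.node 2418 (BT.node 2390 (BT.node 2376 (BT.node 2369 (BT.node 2366 (BT.node 2364 (BT.node 2363 (BT.leaf c2_563) (BT.leaf c2_564)) (BT.node 2365 (BT.leaf c2_565) (BT.leaf c2_566))) (BT.node 2368 (BT.node 2367 (BT.leaf c2_567) (BT.leaf c2_568)) (BT.leaf c2_569))) (BT.node 2373 (BT.node 2371 (BT.node 2370 (BT.leaf c2_570) (BT.leaf c2_571)) (BT.node 2372 (BT.leaf c2_572) (BT.leaf c2_573))) (BT.node 2375 (BT.node 2374 (BT.leaf c2_574) (BT.leaf c2_575)) (BT.leaf c2_576)))) (BT.node 2383 (BT.node 2380 (BT.node 2378 (BT.node 2377 (BT.leaf c2_577) (BT.leaf c2_578)) (BT.node 2379 (BT.leaf c2_579) (BT.leaf c2_580))) (BT.node 2382 (BT.node 2381 (BT.leaf c2_581) (BT.leaf c2_582)) (BT.leaf c2_583))) (BT.node 2387 (BT.node 2385 (BT.node 2384 (BT.leaf c2_584) (BT.leaf c2_585)) (BT.node 2386 (BT.leaf c2_586) (BT.leaf c2_587))) (BT.node 2389 (BT.node 2388 (BT.leaf c2_588) (BT.leaf c2_589)) (BT.leaf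 c2_590))))) (BT.node 2404 (BT.node 2397 (BT.node 2394 (BT.node 2392 (BT.node 2391 (BT.leaf c2_591) (BT.leaf c2_592)) (BT.node 2393 (BT.leaf c2_593) (BT.leaf c2_594))) (BT.node 2396 (BT.node 2395 (BT.leaf c2_595) (BT.leaf c2_596)) (BT.leaf c2_597))) (BT.node 2401 (BT.node 2399 (BT.node 2398 (BT.leaf c2_598) (BT.leaf c2_599)) (BT.node 2400 (BT.leaf c2_600) (BT.leaf c2_601))) (BT.node 2403 (BT.node 2402 (BT.leaf c2_602) (BT.leaf c2_603)) (BT.leaf c2_604)))) (BT.node 2411 (BT.node 2408 (BT.node 2406 (BT.node 2405 (BT.leaf c2_605) (BT.leaf c2_606)) (BT.node 2407 (BT.leaf c2_607) (BT.leaf c2_608))) (BT.node 2410 (BT.node 2409 (BT.leaf c2_609) (BT.leaf c2_610)) (BT.leaf c2_611))) (BT.node 2415 (BT.node 2413 (BT.node 2412 (BT.leaf c2_612) (BT.leaf c2_613)) (BT.node 2414 (BT.leaf c2_614) (BT.leaf c2_615))) (BT.node 2417 (BT.node 2416 (BT.leaf c2_616) (BT.leaf c2_617)) (BT.leaf c2_618)))))) (BT.node 2446 (BT.node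 2432 (BT.node 2425 (BT.node 2422 (BT.node 2420 (BT.node 2419 (BT.leaf c2_619) (BT.leaf c2_620)) (BT.node 2421 (BT.leaf c2_621) (BT.leaf c2_622))) (BT.node 2424 (BT.node 2423 (BT.leaf c2_623) (BT.leaf c2_624)) (BT.leaf c2_625))) (BT.node 2429 (BT.node 2427 (BT.node 2426 (BT.leaf c2_626) (BT.leaf c2_627)) (BT.node 2428 (BT.leaf c2_628) (BT.leaf c2_629))) (BT.node 2431 (BT.node 2430 (BT.leaf c2_630) (BT.leaf c2_631)) (BT.leaf c2_632)))) (BT.node 2439 (BT.node 2436 (BT.node 2434 (BT.node 2433 (BT.leaf c2_633) (BT.leaf c2_634)) (BT.node 2435 (BT.leaf c2_635) (BT.leaf c2_636))) (BT.node 2438 (BT.node 2437 (BT.leaf c2_637) (BT.leaf c2_638)) (BT.leaf c2_639))) (BT.node 2443 (BT.node 2441 (BT.node 2440 (BT.leaf c2_640) (BT.leaf c2_641)) (BT.node 2442 (BT.leaf c2_642) (BT.leaf c2_643))) (BT.node 2445 (BT.node 2444 (BT.leaf c2_644) (BT.leaf c2_645)) (BT.leaf c2_646))))) (BT.node 2460 (BT.node 2453 (BT.node 2450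 (BT.node 2448 (BT.node 2447 (BT.leaf c2_647) (BT.leaf c2_648)) (BT.node 2449 (BT.leaf c2_649) (BT.leaf c2_650))) (BT.node 2452 (BT.node 2451 (BT.leaf c2_651) (BT.leaf c2_652)) (BT.leaf c2_653))) (BT.node 2457 (BT.node 2455 (BT.node 2454 (BT.leaf c2_654) (BT.leaf c2_655)) (BT.node 2456 (BT.leaf c2_656) (BT.leaf c2_657))) (BT.node 2459 (BT.node 2458 (BT.leaf c2_658) (BT.leaf c2_659)) (BT.leaf c2_660)))) (BT.node 2467 (BT.node 2464 (BT.node 2462 (BT.node 2461 (BT.leaf c2_661) (BT.leaf c2_662)) (BT.node 2463 (BT.leaf c2_663) (BT.leaf c2_664))) (BT.node 2466 (BT.node 2465 (BT.leaf c2_665) (BT.leaf c2_666)) (BT.leaf c2_667))) (BT.node 2471 (BT.node 2469 (BT.node 2468 (BT.leaf c2_668) (BT.leaf c2_669)) (BT.node 2470 (BT.leaf c2_670) (BT.leaf c2_671))) (BT.node 2473 (BT.node 2472 (BT.leaf c2_672) (BT.leaf c2_673)) (BT.leaf c2_674)))))))) (BT.node 2587 (BT.node 2531 (BT.node 2503 (BT.node 2489 (BT.node 2482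 (BT.node 2478 (BT.node 2476 (BT.node 2475 (BT.leaf c2_675) (BT.leaf c2_676)) (BT.node 2477 (BT.leaf c2_677) (BT.leaf c2_678))) (BT.node 2480 (BT.node 2479 (BT.leaf c2_679) (BT.leaf c2_680)) (BT.node 2481 (BT.leaf c2_681) (BT.leaf c2_682)))) (BT.node 2486 (BT.node 2484 (BT.node 2483 (BT.leaf c2_683) (BT.leaf c2_684)) (BT.node 2485 (BT.leaf c2_685) (BT.leaf c2_686))) (BT.node 2488 (BT.node 2487 (BT.leaf c2_687) (BT.leaf c2_688)) (BT.leaf c2_689)))) (BT.node 2496 (BT.node 2493 (BT.node 2491 (BT.node 2490 (BT.leaf c2_690) (BT.leaf c2_691)) (BT.node 2492 (BT.leaf c2_692) (BT.leaf c2_693))) (BT.node 2495 (BT.node 2494 (BT.leaf c2_694) (BT.leaf c2_695)) (BT.leaf c2_696))) (BT.node 2500 (BT.node 2498 (BT.node 2497 (BT.leaf c2_697) (BT.leaf c2_698)) (BT.node 2499 (BT.leaf c2_699) (BT.leaf c2_700))) (BT.node 2502 (BT.node 2501 (BT.leaf c2_701) (BT.leaf c2_702)) (BT.leaf c2_703))))) (BT.node 2517 (BT.node 2510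 (BT.node 2507 (BT.node 2505 (BT.node 2504 (BT.leaf c2_704) (BT.leaf c2_705)) (BT.node 2506 (BT.leaf c2_706) (BT.leaf c2_707))) (BT.node 2509 (BT.node 2508 (BT.leaf c2_708) (BT.leaf c2_709)) (BT.leaf c2_710))) (BT.node 2514 (BT.node 2512 (BT.node 2511 (BT.leaf c2_711) (BT.leaf c2_712)) (BT.node 2513 (BT.leaf c2_713) (BT.leaf c2_714))) (BT.node 2516 (BT.node 2515 (BT.leaf c2_715) (BT.leaf c2_716)) (BT.leaf c2_717)))) (BT.node 2524 (BT.node 2521 (BT.node 2519 (BT.node 2518 (BT.leaf c2_718) (BT.leaf c2_719)) (BT.node 2520 (BT.leaf c2_720) (BT.leaf c2_721))) (BT.node 2523 (BT.node 2522 (BT.leaf c2_722) (BT.leaf c2_723)) (BT.leaf c2_724))) (BT.node 2528 (BT.node 2526 (BT.node 2525 (BT.leaf c2_725) (BT.leaf c2_726)) (BT.node 2527 (BT.leaf c2_727) (BT.leaf c2_728))) (BT.node 2530 (BT.node 2529 (BT.leaf c2_729) (BT.leaf c2_730)) (BT.leaf c2_731)))))) (BT.node 2559 (BT.node 2545 (BT.node 2538 (BT.node 2535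 (BT.node 2533 (BT.node 2532 (BT.leaf c2_732) (BT.leaf c2_733)) (BT.node 2534 (BT.leaf c2_734) (BT.leaf c2_735))) (BT.node 2537 (BT.node 2536 (BT.leaf c2_736) (BT.leaf c2_737)) (BT.leaf c2_738))) (BT.node 2542 (BT.node 2540 (BT.node 2539 (BT.leaf c2_739) (BT.leaf c2_740)) (BT.node 2541 (BT.leaf c2_741) (BT.leaf c2_742))) (BT.node 2544 (BT.node 2543 (BT.leaf c2_743) (BT.leaf c2_744)) (BT.leaf c2_745)))) (BT.node 2552 (BT.node 2549 (BT.node 2547 (BT.node 2546 (BT.leaf c2_746) (BT.leaf c2_747)) (BT.node 2548 (BT.leaf c2_748) (BT.leaf c2_749))) (BT.node 2551 (BT.node 2550 (BT.leaf c2_750) (BT.leaf c2_751)) (BT.leaf c2_752))) (BT.node 2556 (BT.node 2554 (BT.node 2553 (BT.leaf c2_753) (BT.leaf c2_754)) (BT.node 2555 (BT.leaf c2_755) (BT.leaf c2_756))) (BT.node 2558 (BT.node 2557 (BT.leaf c2_757) (BT.leaf c2_758)) (BT.leaf c2_759))))) (BT.node 2573 (BT.node 2566 (BT.node 2563 (BT.node 2561 (BT.node 2560 (BT.leaf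 c2_760) (BT.leaf c2_761)) (BT.node 2562 (BT.leaf c2_762) (BT.leaf c2_763))) (BT.node 2565 (BT.node 2564 (BT.leaf c2_764) (BT.leaf c2_765)) (BT.leaf c2_766))) (BT.node 2570 (BT.node 2568 (BT.node 2567 (BT.leaf c2_767) (BT.leaf c2_768)) (BT.node 2569 (BT.leaf c2_769) (BT.leaf c2_770))) (BT.node 2572 (BT.node 2571 (BT.leaf c2_771) (BT.leaf c2_772)) (BT.leaf c2_773)))) (BT.node 2580 (BT.node 2577 (BT.node 2575 (BT.node 2574 (BT.leaf c2_774) (BT.leaf c2_775)) (BT.node 2576 (BT.leaf c2_776) (BT.leaf c2_777))) (BT.node 2579 (BT.node 2578 (BT.leaf c2_778) (BT.leaf c2_779)) (BT.leaf c2_780))) (BT.node 2584 (BT.node 2582 (BT.node 2581 (BT.leaf c2_781) (BT.leaf c2_782)) (BT.node 2583 (BT.leaf c2_783) (BT.leaf c2_784))) (BT.node 2586 (BT.node 2585 (BT.leaf c2_785) (BT.leaf c2_786)) (BT.leaf c2_787))))))) (BT.node 2643 (BT.node 2615 (BT.node 2601 (BT.node 2594 (BT.node 2591 (BT.node 2589 (BT.node 2588 (BT.leaf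 c2_788) (BT.leaf c2_789)) (BT.node 2590 (BT.leaf c2_790) (BT.leaf c2_791))) (BT.node 2593 (BT.node 2592 (BT.leaf c2_792) (BT.leaf c2_793)) (BT.leaf c2_794))) (BT.node 2598 (BT.node 2596 (BT.node 2595 (BT.leaf c2_795) (BT.leaf c2_796)) (BT.node 2597 (BT.leaf c2_797) (BT.leaf c2_798))) (BT.node 2600 (BT.node 2599 (BT.leaf c2_799) (BT.leaf c2_800)) (BT.leaf c2_801)))) (BT.node 2608 (BT.node 2605 (BT.node 2603 (BT.node 2602 (BT.leaf c2_802) (BT.leaf c2_803)) (BT.node 2604 (BT.leaf c2_804) (BT.leaf c2_805))) (BT.node 2607 (BT.node 2606 (BT.leaf c2_806) (BT.leaf c2_807)) (BT.leaf c2_808))) (BT.node 2612 (BT.node 2610 (BT.node 2609 (BT.leaf c2_809) (BT.leaf c2_810)) (BT.node 2611 (BT.leaf c2_811) (BT.leaf c2_812))) (BT.node 2614 (BT.node 2613 (BT.leaf c2_813) (BT.leaf c2_814)) (BT.leaf c2_815))))) (BT.node 2629 (BT.node 2622 (BT.node 2619 (BT.node 2617 (BT.node 2616 (BT.leaf c2_816) (BT.leaf c2_817)) (BT.node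 2618 (BT.leaf c2_818) (BT.leaf c2_819))) (BT.node 2621 (BT.node 2620 (BT.leaf c2_820) (BT.leaf c2_821)) (BT.leaf c2_822))) (BT.node 2626 (BT.node 2624 (BT.node 2623 (BT.leaf c2_823) (BT.leaf c2_824)) (BT.node 2625 (BT.leaf c2_825) (BT.leaf c2_826))) (BT.node 2628 (BT.node 2627 (BT.leaf c2_827) (BT.leaf c2_828)) (BT.leaf c2_829)))) (BT.node 2636 (BT.node 2633 (BT.node 2631 (BT.node 2630 (BT.leaf c2_830) (BT.leaf c2_831)) (BT.node 2632 (BT.leaf c2_832) (BT.leaf c2_833))) (BT.node 2635 (BT.node 2634 (BT.leaf c2_834) (BT.leaf c2_835)) (BT.leaf c2_836))) (BT.node 2640 (BT.node 2638 (BT.node 2637 (BT.leaf c2_837) (BT.leaf c2_838)) (BT.node 2639 (BT.leaf c2_839) (BT.leaf c2_840))) (BT.node 2642 (BT.node 2641 (BT.leaf c2_841) (BT.leaf c2_842)) (BT.leaf c2_843)))))) (BT.node 2671 (BT.node 2657 (BT.node 2650 (BT.node 2647 (BT.node 2645 (BT.node 2644 (BT.leaf c2_844) (BT.leaf c2_845)) (BT.node 2646 (BT.leaf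 c2_846) (BT.leaf c2_847))) (BT.node 2649 (BT.node 2648 (BT.leaf c2_848) (BT.leaf c2_849)) (BT.leaf c2_850))) (BT.node 2654 (BT.node 2652 (BT.node 2651 (BT.leaf c2_851) (BT.leaf c2_852)) (BT.node 2653 (BT.leaf c2_853) (BT.leaf c2_854))) (BT.node 2656 (BT.node 2655 (BT.leaf c2_855) (BT.leaf c2_856)) (BT.leaf c2_857)))) (BT.node 2664 (BT.node 2661 (BT.node 2659 (BT.node 2658 (BT.leaf c2_858) (BT.leaf c2_859)) (BT.node 2660 (BT.leaf c2_860) (BT.leaf c2_861))) (BT.node 2663 (BT.node 2662 (BT.leaf c2_862) (BT.leaf c2_863)) (BT.leaf c2_864))) (BT.node 2668 (BT.node 2666 (BT.node 2665 (BT.leaf c2_865) (BT.leaf c2_866)) (BT.node 2667 (BT.leaf c2_867) (BT.leaf c2_868))) (BT.node 2670 (BT.node 2669 (BT.leaf c2_869) (BT.leaf c2_870)) (BT.leaf c2_871))))) (BT.node 2685 (BT.node 2678 (BT.node 2675 (BT.node 2673 (BT.node 2672 (BT.leaf c2_872) (BT.leaf c2_873)) (BT.node 2674 (BT.leaf c2_874) (BT.leaf c2_875))) (BT.node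 2677 (BT.node 2676 (BT.leaf c2_876) (BT.leaf c2_877)) (BT.leaf c2_878))) (BT.node 2682 (BT.node 2680 (BT.node 2679 (BT.leaf c2_879) (BT.leaf c2_880)) (BT.node 2681 (BT.leaf c2_881) (BT.leaf c2_882))) (BT.node 2684 (BT.node 2683 (BT.leaf c2_883) (BT.leaf c2_884)) (BT.leaf c2_885)))) (BT.node 2692 (BT.node 2689 (BT.node 2687 (BT.node 2686 (BT.leaf c2_886) (BT.leaf c2_887)) (BT.node 2688 (BT.leaf c2_888) (BT.leaf c2_889))) (BT.node 2691 (BT.node 2690 (BT.leaf c2_890) (BT.leaf c2_891)) (BT.leaf c2_892))) (BT.node 2696 (BT.node 2694 (BT.node 2693 (BT.leaf c2_893) (BT.leaf c2_894)) (BT.node 2695 (BT.leaf c2_895) (BT.leaf c2_896))) (BT.node 2698 (BT.node 2697 (BT.leaf c2_897) (BT.leaf c2_898)) (BT.leaf c2_899))))))))))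
/-- the chunks of the letter 3 -/
def colL_3 : BT ℕ := (BT.node 3149 (BT.node 2924 (BT.node 2812 (BT.node 2756 (BT.node 2728 (BT.node 2714 (BT.node 2707 (BT.node 2703 (BT.node 2701 (BT.node 2700 (BT.leaf c2_0) (BT.leaf c2_1)) (BT.node 2702 (BT.leaf c2_2) (BT.leaf c2_3))) (BT.node 2705 (BT.node 2704 (BT.leaf c2_4) (BT.leaf c2_5)) (BT.node 2706 (BT.leaf c2_6) (BT.leaf c2_7)))) (BT.node 2711 (BT.node 2709 (BT.node 2708 (BT.leaf c2_8) (BT.leaf c2_9)) (BT.node 2710 (BT.leaf c2_10) (BT.leaf c2_11))) (BT.node 2713 (BT.node 2712 (BT.leaf c2_12) (BT.leaf c2_13)) (BT.leaf c2_14)))) (BT.node 2721 (BT.node 2718 (BT.node 2716 (BT.node 2715 (BT.leaf c2_15) (BT.leaf c2_16)) (BT.node 2717 (BT.leaf c2_17) (BT.leaf c2_18))) (BT.node 2720 (BT.node 2719 (BT.leaf c2_19) (BT.leaf c2_20)) (BT.leaf c2_21))) (BT.node 2725 (BT.node 2723 (BT.node 2722 (BT.leaf c2_22) (BT.leaf c2_23)) (BT.node 2724 (BT.leaf c2_24) (BT.leaf c2_25)))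 (BT.node 2727 (BT.node 2726 (BT.leaf c2_26) (BT.leaf c2_27)) (BT.leaf c2_28))))) (BT.node 2742 (BT.node 2735 (BT.node 2732 (BT.node 2730 (BT.node 2729 (BT.leaf c2_29) (BT.leaf c2_30)) (BT.node 2731 (BT.leaf c2_31) (BT.leaf c2_32))) (BT.node 2734 (BT.node 2733 (BT.leaf c2_33) (BT.leaf c2_34)) (BT.leaf c2_35))) (BT.node 2739 (BT.node 2737 (BT.node 2736 (BT.leaf c2_36) (BT.leaf c2_37)) (BT.node 2738 (BT.leaf c2_38) (BT.leaf c2_39))) (BT.node 2741 (BT.node 2740 (BT.leaf c2_40) (BT.leaf c2_41)) (BT.leaf c2_42)))) (BT.node 2749 (BT.node 2746 (BT.node 2744 (BT.node 2743 (BT.leaf c2_43) (BT.leaf c2_44)) (BT.node 2745 (BT.leaf c2_45) (BT.leaf c2_46))) (BT.node 2748 (BT.node 2747 (BT.leaf c2_47) (BT.leaf c2_48)) (BT.leaf c2_49))) (BT.node 2753 (BT.node 2751 (BT.node 2750 (BT.leaf c2_50) (BT.leaf c2_51)) (BT.node 2752 (BT.leaf c2_52) (BT.leaf c2_53))) (BT.node 2755 (BT.node 2754 (BT.leaf c2_54) (BT.leaf c2_55))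 (BT.leaf c2_56)))))) (BT.node 2784 (BT.node 2770 (BT.node 2763 (BT.node 2760 (BT.node 2758 (BT.node 2757 (BT.leaf c2_57) (BT.leaf c2_58)) (BT.node 2759 (BT.leaf c2_59) (BT.leaf c2_60))) (BT.node 2762 (BT.node 2761 (BT.leaf c2_61) (BT.leaf c2_62)) (BT.leaf c2_63))) (BT.node 2767 (BT.node 2765 (BT.node 2764 (BT.leaf c2_64) (BT.leaf c2_65)) (BT.node 2766 (BT.leaf c2_66) (BT.leaf c2_67))) (BT.node 2769 (BT.node 2768 (BT.leaf c2_68) (BT.leaf c2_69)) (BT.leaf c2_70)))) (BT.node 2777 (BT.node 2774 (BT.node 2772 (BT.node 2771 (BT.leaf c2_71) (BT.leaf c2_72)) (BT.node 2773 (BT.leaf c2_73) (BT.leaf c2_74))) (BT.node 2776 (BT.node 2775 (BT.leaf c2_75) (BT.leaf c2_76)) (BT.leaf c2_77))) (BT.node 2781 (BT.node 2779 (BT.node 2778 (BT.leaf c2_78) (BT.leaf c2_79)) (BT.node 2780 (BT.leaf c2_80) (BT.leaf c2_81))) (BT.node 2783 (BT.node 2782 (BT.leaf c2_82) (BT.leaf c2_83)) (BT.leaf c2_84))))) (BT.node 2798 (BT.node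 2791 (BT.node 2788 (BT.node 2786 (BT.node 2785 (BT.leaf c2_85) (BT.leaf c2_86)) (BT.node 2787 (BT.leaf c2_87) (BT.leaf c2_88))) (BT.node 2790 (BT.node 2789 (BT.leaf c2_89) (BT.leaf c2_90)) (BT.leaf c2_91))) (BT.node 2795 (BT.node 2793 (BT.node 2792 (BT.leaf c2_92) (BT.leaf c2_93)) (BT.node 2794 (BT.leaf c2_94) (BT.leaf c2_95))) (BT.node 2797 (BT.node 2796 (BT.leaf c2_96) (BT.leaf c2_97)) (BT.leaf c2_98)))) (BT.node 2805 (BT.node 2802 (BT.node 2800 (BT.node 2799 (BT.leaf c2_99) (BT.leaf c2_100)) (BT.node 2801 (BT.leaf c2_101) (BT.leaf c2_102))) (BT.node 2804 (BT.node 2803 (BT.leaf c2_103) (BT.leaf c2_104)) (BT.leaf c2_105))) (BT.node 2809 (BT.node 2807 (BT.node 2806 (BT.leaf c2_106) (BT.leaf c2_107)) (BT.node 2808 (BT.leaf c2_108) (BT.leaf c2_109))) (BT.node 2811 (BT.node 2810 (BT.leaf c2_110) (BT.leaf c2_111)) (BT.leaf c2_112))))))) (BT.node 2868 (BT.node 2840 (BT.node 2826 (BT.node 2819 (BT.node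 2816 (BT.node 2814 (BT.node 2813 (BT.leaf c2_113) (BT.leaf c2_114)) (BT.node 2815 (BT.leaf c2_115) (BT.leaf c2_116))) (BT.node 2818 (BT.node 2817 (BT.leaf c2_117) (BT.leaf c2_118)) (BT.leaf c2_119))) (BT.node 2823 (BT.node 2821 (BT.node 2820 (BT.leaf c2_120) (BT.leaf c2_121)) (BT.node 2822 (BT.leaf c2_122) (BT.leaf c2_123))) (BT.node 2825 (BT.node 2824 (BT.leaf c2_124) (BT.leaf c2_125)) (BT.leaf c2_126)))) (BT.node 2833 (BT.node 2830 (BT.node 2828 (BT.node 2827 (BT.leaf c2_127) (BT.leaf c2_128)) (BT.node 2829 (BT.leaf c2_129) (BT.leaf c2_130))) (BT.node 2832 (BT.node 2831 (BT.leaf c2_131) (BT.leaf c2_132)) (BT.leaf c2_133))) (BT.node 2837 (BT.node 2835 (BT.node 2834 (BT.leaf c2_134) (BT.leaf c2_135)) (BT.node 2836 (BT.leaf c2_136) (BT.leaf c2_137))) (BT.node 2839 (BT.node 2838 (BT.leaf c2_138) (BT.leaf c2_139)) (BT.leaf c2_140))))) (BT.node 2854 (BT.node 2847 (BT.node 2844 (BT.node 2842 (BT.node 2841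 (BT.leaf c2_141) (BT.leaf c2_142)) (BT.node 2843 (BT.leaf c2_143) (BT.leaf c2_144))) (BT.node 2846 (BT.node 2845 (BT.leaf c2_145) (BT.leaf c2_146)) (BT.leaf c2_147))) (BT.node 2851 (BT.node 2849 (BT.node 2848 (BT.leaf c2_148) (BT.leaf c2_149)) (BT.node 2850 (BT.leaf c2_150) (BT.leaf c2_151))) (BT.node 2853 (BT.node 2852 (BT.leaf c2_152) (BT.leaf c2_153)) (BT.leaf c2_154)))) (BT.node 2861 (BT.node 2858 (BT.node 2856 (BT.node 2855 (BT.leaf c2_155) (BT.leaf c2_156)) (BT.node 2857 (BT.leaf c2_157) (BT.leaf c2_158))) (BT.node 2860 (BT.node 2859 (BT.leaf c2_159) (BT.leaf c2_160)) (BT.leaf c2_161))) (BT.node 2865 (BT.node 2863 (BT.node 2862 (BT.leaf c2_162) (BT.leaf c2_163)) (BT.node 2864 (BT.leaf c2_164) (BT.leaf c2_165))) (BT.node 2867 (BT.node 2866 (BT.leaf c2_166) (BT.leaf c2_167)) (BT.leaf c2_168)))))) (BT.node 2896 (BT.node 2882 (BT.node 2875 (BT.node 2872 (BT.node 2870 (BT.node 2869 (BT.leaf c2_169)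 (BT.leaf c2_170)) (BT.node 2871 (BT.leaf c2_171) (BT.leaf c2_172))) (BT.node 2874 (BT.node 2873 (BT.leaf c2_173) (BT.leaf c2_174)) (BT.leaf c2_175))) (BT.node 2879 (BT.node 2877 (BT.node 2876 (BT.leaf c2_176) (BT.leaf c2_177)) (BT.node 2878 (BT.leaf c2_178) (BT.leaf c2_179))) (BT.node 2881 (BT.node 2880 (BT.leaf c2_180) (BT.leaf c2_181)) (BT.leaf c2_182)))) (BT.node 2889 (BT.node 2886 (BT.node 2884 (BT.node 2883 (BT.leaf c2_183) (BT.leaf c2_184)) (BT.node 2885 (BT.leaf c2_185) (BT.leaf c2_186))) (BT.node 2888 (BT.node 2887 (BT.leaf c2_187) (BT.leaf c2_188)) (BT.leaf c2_189))) (BT.node 2893 (BT.node 2891 (BT.node 2890 (BT.leaf c2_190) (BT.leaf c2_191)) (BT.node 2892 (BT.leaf c2_192) (BT.leaf c2_193))) (BT.node 2895 (BT.node 2894 (BT.leaf c2_194) (BT.leaf c2_195)) (BT.leaf c2_196))))) (BT.node 2910 (BT.node 2903 (BT.node 2900 (BT.node 2898 (BT.node 2897 (BT.leaf c2_197) (BT.leaf c2_198)) (BT.node 2899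 (BT.leaf c2_199) (BT.leaf c2_200))) (BT.node 2902 (BT.node 2901 (BT.leaf c2_201) (BT.leaf c2_202)) (BT.leaf c2_203))) (BT.node 2907 (BT.node 2905 (BT.node 2904 (BT.leaf c2_204) (BT.leaf c2_205)) (BT.node 2906 (BT.leaf c2_206) (BT.leaf c2_207))) (BT.node 2909 (BT.node 2908 (BT.leaf c2_208) (BT.leaf c2_209)) (BT.leaf c2_210)))) (BT.node 2917 (BT.node 2914 (BT.node 2912 (BT.node 2911 (BT.leaf c2_211) (BT.leaf c2_212)) (BT.node 2913 (BT.leaf c2_213) (BT.leaf c2_214))) (BT.node 2916 (BT.node 2915 (BT.leaf c2_215) (BT.leaf c2_216)) (BT.leaf c2_217))) (BT.node 2921 (BT.node 2919 (BT.node 2918 (BT.leaf c2_218) (BT.leaf c2_219)) (BT.node 2920 (BT.leaf c2_220) (BT.leaf c2_221))) (BT.node 2923 (BT.node 2922 (BT.leaf c2_222) (BT.leaf c2_223)) (BT.leaf c2_224)))))))) (BT.node 3037 (BT.node 2981 (BT.node 2953 (BT.node 2939 (BT.node 2932 (BT.node 2928 (BT.node 2926 (BT.node 2925 (BT.leaf c2_225) (BT.leaf c2_226))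 (BT.node 2927 (BT.leaf c2_227) (BT.leaf c2_228))) (BT.node 2930 (BT.node 2929 (BT.leaf c2_229) (BT.leaf c2_230)) (BT.node 2931 (BT.leaf c2_231) (BT.leaf c2_232)))) (BT.node 2936 (BT.node 2934 (BT.node 2933 (BT.leaf c2_233) (BT.leaf c2_234)) (BT.node 2935 (BT.leaf c2_235) (BT.leaf c2_236))) (BT.node 2938 (BT.node 2937 (BT.leaf c2_237) (BT.leaf c2_238)) (BT.leaf c2_239)))) (BT.node 2946 (BT.node 2943 (BT.node 2941 (BT.node 2940 (BT.leaf c2_240) (BT.leaf c2_241)) (BT.node 2942 (BT.leaf c2_242) (BT.leaf c2_243))) (BT.node 2945 (BT.node 2944 (BT.leaf c2_244) (BT.leaf c2_245)) (BT.leaf c2_246))) (BT.node 2950 (BT.node 2948 (BT.node 2947 (BT.leaf c2_247) (BT.leaf c2_248)) (BT.node 2949 (BT.leaf c2_249) (BT.leaf c2_250))) (BT.node 2952 (BT.node 2951 (BT.leaf c2_251) (BT.leaf c2_252)) (BT.leaf c2_253))))) (BT.node 2967 (BT.node 2960 (BT.node 2957 (BT.node 2955 (BT.node 2954 (BT.leaf c2_254) (BT.leaf c2_255))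 (BT.node 2956 (BT.leaf c2_256) (BT.leaf c2_257))) (BT.node 2959 (BT.node 2958 (BT.leaf c2_258) (BT.leaf c2_259)) (BT.leaf c2_260))) (BT.node 2964 (BT.node 2962 (BT.node 2961 (BT.leaf c2_261) (BT.leaf c2_262)) (BT.node 2963 (BT.leaf c2_263) (BT.leaf c2_264))) (BT.node 2966 (BT.node 2965 (BT.leaf c2_265) (BT.leaf c2_266)) (BT.leaf c2_267)))) (BT.node 2974 (BT.node 2971 (BT.node 2969 (BT.node 2968 (BT.leaf c2_268) (BT.leaf c2_269)) (BT.node 2970 (BT.leaf c2_270) (BT.leaf c2_271))) (BT.node 2973 (BT.node 2972 (BT.leaf c2_272) (BT.leaf c2_273)) (BT.leaf c2_274))) (BT.node 2978 (BT.node 2976 (BT.node 2975 (BT.leaf c2_275) (BT.leaf c2_276)) (BT.node 2977 (BT.leaf c2_277) (BT.leaf c2_278))) (BT.node 2980 (BT.node 2979 (BT.leaf c2_279) (BT.leaf c2_280)) (BT.leaf c2_281)))))) (BT.node 3009 (BT.node 2995 (BT.node 2988 (BT.node 2985 (BT.node 2983 (BT.node 2982 (BT.leaf c2_282) (BT.leaf c2_283)) (BT.node 2984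 (BT.leaf c2_284) (BT.leaf c2_285))) (BT.node 2987 (BT.node 2986 (BT.leaf c2_286) (BT.leaf c2_287)) (BT.leaf c2_288))) (BT.node 2992 (BT.node 2990 (BT.node 2989 (BT.leaf c2_289) (BT.leaf c2_290)) (BT.node 2991 (BT.leaf c2_291) (BT.leaf c2_292))) (BT.node 2994 (BT.node 2993 (BT.leaf c2_293) (BT.leaf c2_294)) (BT.leaf c2_295)))) (BT.node 3002 (BT.node 2999 (BT.node 2997 (BT.node 2996 (BT.leaf c2_296) (BT.leaf c2_297)) (BT.node 2998 (BT.leaf c2_298) (BT.leaf c2_299))) (BT.node 3001 (BT.node 3000 (BT.leaf c2_300) (BT.leaf c2_301)) (BT.leaf c2_302))) (BT.node 3006 (BT.node 3004 (BT.node 3003 (BT.leaf c2_303) (BT.leaf c2_304)) (BT.node 3005 (BT.leaf c2_305) (BT.leaf c2_306))) (BT.node 3008 (BT.node 3007 (BT.leaf c2_307) (BT.leaf c2_308)) (BT.leaf c2_309))))) (BT.node 3023 (BT.node 3016 (BT.node 3013 (BT.node 3011 (BT.node 3010 (BT.leaf c2_310) (BT.leaf c2_311)) (BT.node 3012 (BT.leaf c2_312) (BT.leaf c2_313)))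 (BT.node 3015 (BT.node 3014 (BT.leaf c2_314) (BT.leaf c2_315)) (BT.leaf c2_316))) (BT.node 3020 (BT.node 3018 (BT.node 3017 (BT.leaf c2_317) (BT.leaf c2_318)) (BT.node 3019 (BT.leaf c2_319) (BT.leaf c2_320))) (BT.node 3022 (BT.node 3021 (BT.leaf c2_321) (BT.leaf c2_322)) (BT.leaf c2_323)))) (BT.node 3030 (BT.node 3027 (BT.node 3025 (BT.node 3024 (BT.leaf c2_324) (BT.leaf c2_325)) (BT.node 3026 (BT.leaf c2_326) (BT.leaf c2_327))) (BT.node 3029 (BT.node 3028 (BT.leaf c2_328) (BT.leaf c2_329)) (BT.leaf c2_330))) (BT.node 3034 (BT.node 3032 (BT.node 3031 (BT.leaf c2_331) (BT.leaf c2_332)) (BT.node 3033 (BT.leaf c2_333) (BT.leaf c2_334))) (BT.node 3036 (BT.node 3035 (BT.leaf c2_335) (BT.leaf c2_336)) (BT.leaf c2_337))))))) (BT.node 3093 (BT.node 3065 (BT.node 3051 (BT.node 3044 (BT.node 3041 (BT.node 3039 (BT.node 3038 (BT.leaf c2_338) (BT.leaf c2_339)) (BT.node 3040 (BT.leaf c2_340) (BT.leaf c2_341)))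 (BT.node 3043 (BT.node 3042 (BT.leaf c2_342) (BT.leaf c2_343)) (BT.leaf c2_344))) (BT.node 3048 (BT.node 3046 (BT.node 3045 (BT.leaf c2_345) (BT.leaf c2_346)) (BT.node 3047 (BT.leaf c2_347) (BT.leaf c2_348))) (BT.node 3050 (BT.node 3049 (BT.leaf c2_349) (BT.leaf c2_350)) (BT.leaf c2_351)))) (BT.node 3058 (BT.node 3055 (BT.node 3053 (BT.node 3052 (BT.leaf c2_352) (BT.leaf c2_353)) (BT.node 3054 (BT.leaf c2_354) (BT.leaf c2_355))) (BT.node 3057 (BT.node 3056 (BT.leaf c2_356) (BT.leaf c2_357)) (BT.leaf c2_358))) (BT.node 3062 (BT.node 3060 (BT.node 3059 (BT.leaf c2_359) (BT.leaf c2_360)) (BT.node 3061 (BT.leaf c2_361) (BT.leaf c2_362))) (BT.node 3064 (BT.node 3063 (BT.leaf c2_363) (BT.leaf c2_364)) (BT.leaf c2_365))))) (BT.node 3079 (BT.node 3072 (BT.node 3069 (BT.node 3067 (BT.node 3066 (BT.leaf c2_366) (BT.leaf c2_367)) (BT.node 3068 (BT.leaf c2_368) (BT.leaf c2_369))) (BT.node 3071 (BT.node 3070 (BT.leaf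 c2_370) (BT.leaf c2_371)) (BT.leaf c2_372))) (BT.node 3076 (BT.node 3074 (BT.node 3073 (BT.leaf c2_373) (BT.leaf c2_374)) (BT.node 3075 (BT.leaf c2_375) (BT.leaf c2_376))) (BT.node 3078 (BT.node 3077 (BT.leaf c2_377) (BT.leaf c2_378)) (BT.leaf c2_379)))) (BT.node 3086 (BT.node 3083 (BT.node 3081 (BT.node 3080 (BT.leaf c2_380) (BT.leaf c2_381)) (BT.node 3082 (BT.leaf c2_382) (BT.leaf c2_383))) (BT.node 3085 (BT.node 3084 (BT.leaf c2_384) (BT.leaf c2_385)) (BT.leaf c2_386))) (BT.node 3090 (BT.node 3088 (BT.node 3087 (BT.leaf c2_387) (BT.leaf c2_388)) (BT.node 3089 (BT.leaf c2_389) (BT.leaf c2_390))) (BT.node 3092 (BT.node 3091 (BT.leaf c2_391) (BT.leaf c2_392)) (BT.leaf c2_393)))))) (BT.node 3121 (BT.node 3107 (BT.node 3100 (BT.node 3097 (BT.node 3095 (BT.node 3094 (BT.leaf c2_394) (BT.leaf c2_395)) (BT.node 3096 (BT.leaf c2_396) (BT.leaf c2_397))) (BT.node 3099 (BT.node 3098 (BT.leaf c2_398) (BT.leaf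 c2_399)) (BT.leaf c2_400))) (BT.node 3104 (BT.node 3102 (BT.node 3101 (BT.leaf c2_401) (BT.leaf c2_402)) (BT.node 3103 (BT.leaf c2_403) (BT.leaf c2_404))) (BT.node 3106 (BT.node 3105 (BT.leaf c2_405) (BT.leaf c2_406)) (BT.leaf c2_407)))) (BT.node 3114 (BT.node 3111 (BT.node 3109 (BT.node 3108 (BT.leaf c2_408) (BT.leaf c2_409)) (BT.node 3110 (BT.leaf c2_410) (BT.leaf c2_411))) (BT.node 3113 (BT.node 3112 (BT.leaf c2_412) (BT.leaf c2_413)) (BT.leaf c2_414))) (BT.node 3118 (BT.node 3116 (BT.node 3115 (BT.leaf c2_415) (BT.leaf c2_416)) (BT.node 3117 (BT.leaf c2_417) (BT.leaf c2_418))) (BT.node 3120 (BT.node 3119 (BT.leaf c2_419) (BT.leaf c2_420)) (BT.leaf c2_421))))) (BT.node 3135 (BT.node 3128 (BT.node 3125 (BT.node 3123 (BT.node 3122 (BT.leaf c2_422) (BT.leaf c2_423)) (BT.node 3124 (BT.leaf c2_424) (BT.leaf c2_425))) (BT.node 3127 (BT.node 3126 (BT.leaf c2_426) (BT.leaf c2_427)) (BT.leaf c2_428))) (BT.node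 3132 (BT.node 3130 (BT.node 3129 (BT.leaf c2_429) (BT.leaf c2_430)) (BT.node 3131 (BT.leaf c2_431) (BT.leaf c2_432))) (BT.node 3134 (BT.node 3133 (BT.leaf c2_433) (BT.leaf c2_434)) (BT.leaf c2_435)))) (BT.node 3142 (BT.node 3139 (BT.node 3137 (BT.node 3136 (BT.leaf c2_436) (BT.leaf c2_437)) (BT.node 3138 (BT.leaf c2_438) (BT.leaf c2_439))) (BT.node 3141 (BT.node 3140 (BT.leaf c2_440) (BT.leaf c2_441)) (BT.leaf c2_442))) (BT.node 3146 (BT.node 3144 (BT.node 3143 (BT.leaf c2_443) (BT.leaf c2_444)) (BT.node 3145 (BT.leaf c2_445) (BT.leaf c2_446))) (BT.node 3148 (BT.node 3147 (BT.leaf c2_447) (BT.leaf c2_448)) (BT.leaf c2_449))))))))) (BT.node 3374 (BT.node 3262 (BT.node 3206 (BT.node 3178 (BT.node 3164 (BT.node 3157 (BT.node 3153 (BT.node 3151 (BT.node 3150 (BT.leaf c2_450) (BT.leaf c2_451)) (BT.node 3152 (BT.leaf c2_452) (BT.leaf c2_453))) (BT.node 3155 (BT.node 3154 (BT.leaf c2_454) (BT.leaf c2_455))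 (BT.node 3156 (BT.leaf c2_456) (BT.leaf c2_457)))) (BT.node 3161 (BT.node 3159 (BT.node 3158 (BT.leaf c2_458) (BT.leaf c2_459)) (BT.node 3160 (BT.leaf c2_460) (BT.leaf c2_461))) (BT.node 3163 (BT.node 3162 (BT.leaf c2_462) (BT.leaf c2_463)) (BT.leaf c2_464)))) (BT.node 3171 (BT.node 3168 (BT.node 3166 (BT.node 3165 (BT.leaf c2_465) (BT.leaf c2_466)) (BT.node 3167 (BT.leaf c2_467) (BT.leaf c2_468))) (BT.node 3170 (BT.node 3169 (BT.leaf c2_469) (BT.leaf c2_470)) (BT.leaf c2_471))) (BT.node 3175 (BT.node 3173 (BT.node 3172 (BT.leaf c2_472) (BT.leaf c2_473)) (BT.node 3174 (BT.leaf c2_474) (BT.leaf c2_475))) (BT.node 3177 (BT.node 3176 (BT.leaf c2_476) (BT.leaf c2_477)) (BT.leaf c2_478))))) (BT.node 3192 (BT.node 3185 (BT.node 3182 (BT.node 3180 (BT.node 3179 (BT.leaf c2_479) (BT.leaf c2_480)) (BT.node 3181 (BT.leaf c2_481) (BT.leaf c2_482))) (BT.node 3184 (BT.node 3183 (BT.leaf c2_483) (BT.leaf c2_484))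 (BT.leaf c2_485))) (BT.node 3189 (BT.node 3187 (BT.node 3186 (BT.leaf c2_486) (BT.leaf c2_487)) (BT.node 3188 (BT.leaf c2_488) (BT.leaf c2_489))) (BT.node 3191 (BT.node 3190 (BT.leaf c2_490) (BT.leaf c2_491)) (BT.leaf c2_492)))) (BT.node 3199 (BT.node 3196 (BT.node 3194 (BT.node 3193 (BT.leaf c2_493) (BT.leaf c2_494)) (BT.node 3195 (BT.leaf c2_495) (BT.leaf c2_496))) (BT.node 3198 (BT.node 3197 (BT.leaf c2_497) (BT.leaf c2_498)) (BT.leaf c2_499))) (BT.node 3203 (BT.node 3201 (BT.node 3200 (BT.leaf c2_500) (BT.leaf c2_501)) (BT.node 3202 (BT.leaf c2_502) (BT.leaf c2_503))) (BT.node 3205 (BT.node 3204 (BT.leaf c2_504) (BT.leaf c2_505)) (BT.leaf c2_506)))))) (BT.node 3234 (BT.node 3220 (BT.node 3213 (BT.node 3210 (BT.node 3208 (BT.node 3207 (BT.leaf c2_507) (BT.leaf c2_508)) (BT.node 3209 (BT.leaf c2_509) (BT.leaf c2_510))) (BT.node 3212 (BT.node 3211 (BT.leaf c2_511) (BT.leaf c2_512)) (BT.leaf c2_513)))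 (BT.node 3217 (BT.node 3215 (BT.node 3214 (BT.leaf c2_514) (BT.leaf c2_515)) (BT.node 3216 (BT.leaf c2_516) (BT.leaf c2_517))) (BT.node 3219 (BT.node 3218 (BT.leaf c2_518) (BT.leaf c2_519)) (BT.leaf c2_520)))) (BT.node 3227 (BT.node 3224 (BT.node 3222 (BT.node 3221 (BT.leaf c2_521) (BT.leaf c2_522)) (BT.node 3223 (BT.leaf c2_523) (BT.leaf c2_524))) (BT.node 3226 (BT.node 3225 (BT.leaf c2_525) (BT.leaf c2_526)) (BT.leaf c2_527))) (BT.node 3231 (BT.node 3229 (BT.node 3228 (BT.leaf c2_528) (BT.leaf c2_529)) (BT.node 3230 (BT.leaf c2_530) (BT.leaf c2_531))) (BT.node 3233 (BT.node 3232 (BT.leaf c2_532) (BT.leaf c2_533)) (BT.leaf c2_534))))) (BT.node 3248 (BT.node 3241 (BT.node 3238 (BT.node 3236 (BT.node 3235 (BT.leaf c2_535) (BT.leaf c2_536)) (BT.node 3237 (BT.leaf c2_537) (BT.leaf c2_538))) (BT.node 3240 (BT.node 3239 (BT.leaf c2_539) (BT.leaf c2_540)) (BT.leaf c2_541))) (BT.node 3245 (BT.node 3243 (BT.node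 3242 (BT.leaf c2_542) (BT.leaf c2_543)) (BT.node 3244 (BT.leaf c2_544) (BT.leaf c2_545))) (BT.node 3247 (BT.node 3246 (BT.leaf c2_546) (BT.leaf c2_547)) (BT.leaf c2_548)))) (BT.node 3255 (BT.node 3252 (BT.node 3250 (BT.node 3249 (BT.leaf c2_549) (BT.leaf c2_550)) (BT.node 3251 (BT.leaf c2_551) (BT.leaf c2_552))) (BT.node 3254 (BT.node 3253 (BT.leaf c2_553) (BT.leaf c2_554)) (BT.leaf c2_555))) (BT.node 3259 (BT.node 3257 (BT.node 3256 (BT.leaf c2_556) (BT.leaf c2_557)) (BT.node 3258 (BT.leaf c2_558) (BT.leaf c2_559))) (BT.node 3261 (BT.node 3260 (BT.leaf c2_560) (BT.leaf c2_561)) (BT.leaf c2_562))))))) (BT.node 3318 (BT.node 3290 (BT.node 3276 (BT.node 3269 (BT.node 3266 (BT.node 3264 (BT.node 3263 (BT.leaf c2_563) (BT.leaf c2_564)) (BT.node 3265 (BT.leaf c2_565) (BT.leaf c2_566))) (BT.node 3268 (BT.node 3267 (BT.leaf c2_567) (BT.leaf c2_568)) (BT.leaf c2_569))) (BT.node 3273 (BT.node 3271 (BT.node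 3270 (BT.leaf c2_570) (BT.leaf c2_571)) (BT.node 3272 (BT.leaf c2_572) (BT.leaf c2_573))) (BT.node 3275 (BT.node 3274 (BT.leaf c2_574) (BT.leaf c2_575)) (BT.leaf c2_576)))) (BT.node 3283 (BT.node 3280 (BT.node 3278 (BT.node 3277 (BT.leaf c2_577) (BT.leaf c2_578)) (BT.node 3279 (BT.leaf c2_579) (BT.leaf c2_580))) (BT.node 3282 (BT.node 3281 (BT.leaf c2_581) (BT.leaf c2_582)) (BT.leaf c2_583))) (BT.node 3287 (BT.node 3285 (BT.node 3284 (BT.leaf c2_584) (BT.leaf c2_585)) (BT.node 3286 (BT.leaf c2_586) (BT.leaf c2_587))) (BT.node 3289 (BT.node 3288 (BT.leaf c2_588) (BT.leaf c2_589)) (BT.leaf c2_590))))) (BT.node 3304 (BT.node 3297 (BT.node 3294 (BT.node 3292 (BT.node 3291 (BT.leaf c2_591) (BT.leaf c2_592)) (BT.node 3293 (BT.leaf c2_593) (BT.leaf c2_594))) (BT.node 3296 (BT.node 3295 (BT.leaf c2_595) (BT.leaf c2_596)) (BT.leaf c2_597))) (BT.node 3301 (BT.node 3299 (BT.node 3298 (BT.leaf c2_598) (BT.leaf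 c2_599)) (BT.node 3300 (BT.leaf c2_600) (BT.leaf c2_601))) (BT.node 3303 (BT.node 3302 (BT.leaf c2_602) (BT.leaf c2_603)) (BT.leaf c2_604)))) (BT.node 3311 (BT.node 3308 (BT.node 3306 (BT.node 3305 (BT.leaf c2_605) (BT.leaf c2_606)) (BT.node 3307 (BT.leaf c2_607) (BT.leaf c2_608))) (BT.node 3310 (BT.node 3309 (BT.leaf c2_609) (BT.leaf c2_610)) (BT.leaf c2_611))) (BT.node 3315 (BT.node 3313 (BT.node 3312 (BT.leaf c2_612) (BT.leaf c2_613)) (BT.node 3314 (BT.leaf c2_614) (BT.leaf c2_615))) (BT.node 3317 (BT.node 3316 (BT.leaf c2_616) (BT.leaf c2_617)) (BT.leaf c2_618)))))) (BT.node 3346 (BT.node 3332 (BT.node 3325 (BT.node 3322 (BT.node 3320 (BT.node 3319 (BT.leaf c2_619) (BT.leaf c2_620)) (BT.node 3321 (BT.leaf c2_621) (BT.leaf c2_622))) (BT.node 3324 (BT.node 3323 (BT.leaf c2_623) (BT.leaf c2_624)) (BT.leaf c2_625))) (BT.node 3329 (BT.node 3327 (BT.node 3326 (BT.leaf c2_626) (BT.leaf c2_627)) (BT.node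 3328 (BT.leaf c2_628) (BT.leaf c2_629))) (BT.node 3331 (BT.node 3330 (BT.leaf c2_630) (BT.leaf c2_631)) (BT.leaf c2_632)))) (BT.node 3339 (BT.node 3336 (BT.node 3334 (BT.node 3333 (BT.leaf c2_633) (BT.leaf c2_634)) (BT.node 3335 (BT.leaf c2_635) (BT.leaf c2_636))) (BT.node 3338 (BT.node 3337 (BT.leaf c2_637) (BT.leaf c2_638)) (BT.leaf c2_639))) (BT.node 3343 (BT.node 3341 (BT.node 3340 (BT.leaf c2_640) (BT.leaf c2_641)) (BT.node 3342 (BT.leaf c2_642) (BT.leaf c2_643))) (BT.node 3345 (BT.node 3344 (BT.leaf c2_644) (BT.leaf c2_645)) (BT.leaf c2_646))))) (BT.node 3360 (BT.node 3353 (BT.node 3350 (BT.node 3348 (BT.node 3347 (BT.leaf c2_647) (BT.leaf c2_648)) (BT.node 3349 (BT.leaf c2_649) (BT.leaf c2_650))) (BT.node 3352 (BT.node 3351 (BT.leaf c2_651) (BT.leaf c2_652)) (BT.leaf c2_653))) (BT.node 3357 (BT.node 3355 (BT.node 3354 (BT.leaf c2_654) (BT.leaf c2_655)) (BT.node 3356 (BT.leaf c2_656) (BT.leaf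 c2_657))) (BT.node 3359 (BT.node 3358 (BT.leaf c2_658) (BT.leaf c2_659)) (BT.leaf c2_660)))) (BT.node 3367 (BT.node 3364 (BT.node 3362 (BT.node 3361 (BT.leaf c2_661) (BT.leaf c2_662)) (BT.node 3363 (BT.leaf c2_663) (BT.leaf c2_664))) (BT.node 3366 (BT.node 3365 (BT.leaf c2_665) (BT.leaf c2_666)) (BT.leaf c2_667))) (BT.node 3371 (BT.node 3369 (BT.node 3368 (BT.leaf c2_668) (BT.leaf c2_669)) (BT.node 3370 (BT.leaf c2_670) (BT.leaf c2_671))) (BT.node 3373 (BT.node 3372 (BT.leaf c2_672) (BT.leaf c2_673)) (BT.leaf c2_674)))))))) (BT.node 3487 (BT.node 3431 (BT.node 3403 (BT.node 3389 (BT.node 3382 (BT.node 3378 (BT.node 3376 (BT.node 3375 (BT.leaf c2_675) (BT.leaf c2_676)) (BT.node 3377 (BT.leaf c2_677) (BT.leaf c2_678))) (BT.node 3380 (BT.node 3379 (BT.leaf c2_679) (BT.leaf c2_680)) (BT.node 3381 (BT.leaf c2_681) (BT.leaf c2_682)))) (BT.node 3386 (BT.node 3384 (BT.node 3383 (BT.leaf c2_683) (BT.leaf c2_684))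 (BT.node 3385 (BT.leaf c2_685) (BT.leaf c2_686))) (BT.node 3388 (BT.node 3387 (BT.leaf c2_687) (BT.leaf c2_688)) (BT.leaf c2_689)))) (BT.node 3396 (BT.node 3393 (BT.node 3391 (BT.node 3390 (BT.leaf c2_690) (BT.leaf c2_691)) (BT.node 3392 (BT.leaf c2_692) (BT.leaf c2_693))) (BT.node 3395 (BT.node 3394 (BT.leaf c2_694) (BT.leaf c2_695)) (BT.leaf c2_696))) (BT.node 3400 (BT.node 3398 (BT.node 3397 (BT.leaf c2_697) (BT.leaf c2_698)) (BT.node 3399 (BT.leaf c2_699) (BT.leaf c2_700))) (BT.node 3402 (BT.node 3401 (BT.leaf c2_701) (BT.leaf c2_702)) (BT.leaf c2_703))))) (BT.node 3417 (BT.node 3410 (BT.node 3407 (BT.node 3405 (BT.node 3404 (BT.leaf c2_704) (BT.leaf c2_705)) (BT.node 3406 (BT.leaf c2_706) (BT.leaf c2_707))) (BT.node 3409 (BT.node 3408 (BT.leaf c2_708) (BT.leaf c2_709)) (BT.leaf c2_710))) (BT.node 3414 (BT.node 3412 (BT.node 3411 (BT.leaf c2_711) (BT.leaf c2_712)) (BT.node 3413 (BT.leaf c2_713)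 (BT.leaf c2_714))) (BT.node 3416 (BT.node 3415 (BT.leaf c2_715) (BT.leaf c2_716)) (BT.leaf c2_717)))) (BT.node 3424 (BT.node 3421 (BT.node 3419 (BT.node 3418 (BT.leaf c2_718) (BT.leaf c2_719)) (BT.node 3420 (BT.leaf c2_720) (BT.leaf c2_721))) (BT.node 3423 (BT.node 3422 (BT.leaf c2_722) (BT.leaf c2_723)) (BT.leaf c2_724))) (BT.node 3428 (BT.node 3426 (BT.node 3425 (BT.leaf c2_725) (BT.leaf c2_726)) (BT.node 3427 (BT.leaf c2_727) (BT.leaf c2_728))) (BT.node 3430 (BT.node 3429 (BT.leaf c2_729) (BT.leaf c2_730)) (BT.leaf c2_731)))))) (BT.node 3459 (BT.node 3445 (BT.node 3438 (BT.node 3435 (BT.node 3433 (BT.node 3432 (BT.leaf c2_732) (BT.leaf c2_733)) (BT.node 3434 (BT.leaf c2_734) (BT.leaf c2_735))) (BT.node 3437 (BT.node 3436 (BT.leaf c2_736) (BT.leaf c2_737)) (BT.leaf c2_738))) (BT.node 3442 (BT.node 3440 (BT.node 3439 (BT.leaf c2_739) (BT.leaf c2_740)) (BT.node 3441 (BT.leaf c2_741) (BT.leaf c2_742)))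 (BT.node 3444 (BT.node 3443 (BT.leaf c2_743) (BT.leaf c2_744)) (BT.leaf c2_745)))) (BT.node 3452 (BT.node 3449 (BT.node 3447 (BT.node 3446 (BT.leaf c2_746) (BT.leaf c2_747)) (BT.node 3448 (BT.leaf c2_748) (BT.leaf c2_749))) (BT.node 3451 (BT.node 3450 (BT.leaf c2_750) (BT.leaf c2_751)) (BT.leaf c2_752))) (BT.node 3456 (BT.node 3454 (BT.node 3453 (BT.leaf c2_753) (BT.leaf c2_754)) (BT.node 3455 (BT.leaf c2_755) (BT.leaf c2_756))) (BT.node 3458 (BT.node 3457 (BT.leaf c2_757) (BT.leaf c2_758)) (BT.leaf c2_759))))) (BT.node 3473 (BT.node 3466 (BT.node 3463 (BT.node 3461 (BT.node 3460 (BT.leaf c2_760) (BT.leaf c2_761)) (BT.node 3462 (BT.leaf c2_762) (BT.leaf c2_763))) (BT.node 3465 (BT.node 3464 (BT.leaf c2_764) (BT.leaf c2_765)) (BT.leaf c2_766))) (BT.node 3470 (BT.node 3468 (BT.node 3467 (BT.leaf c2_767) (BT.leaf c2_768)) (BT.node 3469 (BT.leaf c2_769) (BT.leaf c2_770))) (BT.node 3472 (BT.node 3471 (BT.leaf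 c2_771) (BT.leaf c2_772)) (BT.leaf c2_773)))) (BT.node 3480 (BT.node 3477 (BT.node 3475 (BT.node 3474 (BT.leaf c2_774) (BT.leaf c2_775)) (BT.node 3476 (BT.leaf c2_776) (BT.leaf c2_777))) (BT.node 3479 (BT.node 3478 (BT.leaf c2_778) (BT.leaf c2_779)) (BT.leaf c2_780))) (BT.node 3484 (BT.node 3482 (BT.node 3481 (BT.leaf c2_781) (BT.leaf c2_782)) (BT.node 3483 (BT.leaf c2_783) (BT.leaf c2_784))) (BT.node 3486 (BT.node 3485 (BT.leaf c2_785) (BT.leaf c2_786)) (BT.leaf c2_787))))))) (BT.node 3543 (BT.node 3515 (BT.node 3501 (BT.node 3494 (BT.node 3491 (BT.node 3489 (BT.node 3488 (BT.leaf c2_788) (BT.leaf c2_789)) (BT.node 3490 (BT.leaf c2_790) (BT.leaf c2_791))) (BT.node 3493 (BT.node 3492 (BT.leaf c2_792) (BT.leaf c2_793)) (BT.leaf c2_794))) (BT.node 3498 (BT.node 3496 (BT.node 3495 (BT.leaf c2_795) (BT.leaf c2_796)) (BT.node 3497 (BT.leaf c2_797) (BT.leaf c2_798))) (BT.node 3500 (BT.node 3499 (BT.leaf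 c2_799) (BT.leaf c2_800)) (BT.leaf c2_801)))) (BT.node 3508 (BT.node 3505 (BT.node 3503 (BT.node 3502 (BT.leaf c2_802) (BT.leaf c2_803)) (BT.node 3504 (BT.leaf c2_804) (BT.leaf c2_805))) (BT.node 3507 (BT.node 3506 (BT.leaf c2_806) (BT.leaf c2_807)) (BT.leaf c2_808))) (BT.node 3512 (BT.node 3510 (BT.node 3509 (BT.leaf c2_809) (BT.leaf c2_810)) (BT.node 3511 (BT.leaf c2_811) (BT.leaf c2_812))) (BT.node 3514 (BT.node 3513 (BT.leaf c2_813) (BT.leaf c2_814)) (BT.leaf c2_815))))) (BT.node 3529 (BT.node 3522 (BT.node 3519 (BT.node 3517 (BT.node 3516 (BT.leaf c2_816) (BT.leaf c2_817)) (BT.node 3518 (BT.leaf c2_818) (BT.leaf c2_819))) (BT.node 3521 (BT.node 3520 (BT.leaf c2_820) (BT.leaf c2_821)) (BT.leaf c2_822))) (BT.node 3526 (BT.node 3524 (BT.node 3523 (BT.leaf c2_823) (BT.leaf c2_824)) (BT.node 3525 (BT.leaf c2_825) (BT.leaf c2_826))) (BT.node 3528 (BT.node 3527 (BT.leaf c2_827) (BT.leaf c2_828)) (BT.leaf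 c2_829)))) (BT.node 3536 (BT.node 3533 (BT.node 3531 (BT.node 3530 (BT.leaf c2_830) (BT.leaf c2_831)) (BT.node 3532 (BT.leaf c2_832) (BT.leaf c2_833))) (BT.node 3535 (BT.node 3534 (BT.leaf c2_834) (BT.leaf c2_835)) (BT.leaf c2_836))) (BT.node 3540 (BT.node 3538 (BT.node 3537 (BT.leaf c2_837) (BT.leaf c2_838)) (BT.node 3539 (BT.leaf c2_839) (BT.leaf c2_840))) (BT.node 3542 (BT.node 3541 (BT.leaf c2_841) (BT.leaf c2_842)) (BT.leaf c2_843)))))) (BT.node 3571 (BT.node 3557 (BT.node 3550 (BT.node 3547 (BT.node 3545 (BT.node 3544 (BT.leaf c2_844) (BT.leaf c2_845)) (BT.node 3546 (BT.leaf c2_846) (BT.leaf c2_847))) (BT.node 3549 (BT.node 3548 (BT.leaf c2_848) (BT.leaf c2_849)) (BT.leaf c2_850))) (BT.node 3554 (BT.node 3552 (BT.node 3551 (BT.leaf c2_851) (BT.leaf c2_852)) (BT.node 3553 (BT.leaf c2_853) (BT.leaf c2_854))) (BT.node 3556 (BT.node 3555 (BT.leaf c2_855) (BT.leaf c2_856)) (BT.leaf c2_857)))) (BT.node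 3564 (BT.node 3561 (BT.node 3559 (BT.node 3558 (BT.leaf c2_858) (BT.leaf c2_859)) (BT.node 3560 (BT.leaf c2_860) (BT.leaf c2_861))) (BT.node 3563 (BT.node 3562 (BT.leaf c2_862) (BT.leaf c2_863)) (BT.leaf c2_864))) (BT.node 3568 (BT.node 3566 (BT.node 3565 (BT.leaf c2_865) (BT.leaf c2_866)) (BT.node 3567 (BT.leaf c2_867) (BT.leaf c2_868))) (BT.node 3570 (BT.node 3569 (BT.leaf c2_869) (BT.leaf c2_870)) (BT.leaf c2_871))))) (BT.node 3585 (BT.node 3578 (BT.node 3575 (BT.node 3573 (BT.node 3572 (BT.leaf c2_872) (BT.leaf c2_873)) (BT.node 3574 (BT.leaf c2_874) (BT.leaf c2_875))) (BT.node 3577 (BT.node 3576 (BT.leaf c2_876) (BT.leaf c2_877)) (BT.leaf c2_878))) (BT.node 3582 (BT.node 3580 (BT.node 3579 (BT.leaf c2_879) (BT.leaf c2_880)) (BT.node 3581 (BT.leaf c2_881) (BT.leaf c2_882))) (BT.node 3584 (BT.node 3583 (BT.leaf c2_883) (BT.leaf c2_884)) (BT.leaf c2_885)))) (BT.node 3592 (BT.node 3589 (BT.node 3587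 (BT.node 3586 (BT.leaf c2_886) (BT.leaf c2_887)) (BT.node 3588 (BT.leaf c2_888) (BT.leaf c2_889))) (BT.node 3591 (BT.node 3590 (BT.leaf c2_890) (BT.leaf c2_891)) (BT.leaf c2_892))) (BT.node 3596 (BT.node 3594 (BT.node 3593 (BT.leaf c2_893) (BT.leaf c2_894)) (BT.node 3595 (BT.leaf c2_895) (BT.leaf c2_896))) (BT.node 3598 (BT.node 3597 (BT.leaf c2_897) (BT.leaf c2_898)) (BT.leaf c2_899))))))))))
/-- the chunks of the letter 4 -/
def colL_4 : BT ℕ := (BT.node 4049 (BT.node 3824 (BT.node 3712 (BT.node 3656 (BT.node 3628 (BT.node 3614 (BT.node 3607 (BT.node 3603 (BT.node 3601 (BT.node 3600 (BT.leaf c3_0) (BT.leaf c3_1)) (BT.node 3602 (BT.leaf c3_2) (BT.leaf c3_3))) (BT.node 3605 (BT.node 3604 (BT.leaf c3_4) (BT.leaf c3_5)) (BT.node 3606 (BT.leaf c3_6) (BT.leaf c3_7)))) (BT.node 3611 (BT.node 3609 (BT.node 3608 (BT.leaf c3_8) (BT.leaf c3_9)) (BT.node 3610 (BT.leaf c3_10) (BT.leaf c3_11))) (BT.node 3613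 (BT.node 3612 (BT.leaf c3_12) (BT.leaf c3_13)) (BT.leaf c3_14)))) (BT.node 3621 (BT.node 3618 (BT.node 3616 (BT.node 3615 (BT.leaf c3_15) (BT.leaf c3_16)) (BT.node 3617 (BT.leaf c3_17) (BT.leaf c3_18))) (BT.node 3620 (BT.node 3619 (BT.leaf c3_19) (BT.leaf c3_20)) (BT.leaf c3_21))) (BT.node 3625 (BT.node 3623 (BT.node 3622 (BT.leaf c3_22) (BT.leaf c3_23)) (BT.node 3624 (BT.leaf c3_24) (BT.leaf c3_25))) (BT.node 3627 (BT.node 3626 (BT.leaf c3_26) (BT.leaf c3_27)) (BT.leaf c3_28))))) (BT.node 3642 (BT.node 3635 (BT.node 3632 (BT.node 3630 (BT.node 3629 (BT.leaf c3_29) (BT.leaf c3_30)) (BT.node 3631 (BT.leaf c3_31) (BT.leaf c3_32))) (BT.node 3634 (BT.node 3633 (BT.leaf c3_33) (BT.leaf c3_34)) (BT.leaf c3_35))) (BT.node 3639 (BT.node 3637 (BT.node 3636 (BT.leaf c3_36) (BT.leaf c3_37)) (BT.node 3638 (BT.leaf c3_38) (BT.leaf c3_39))) (BT.node 3641 (BT.node 3640 (BT.leaf c3_40) (BT.leaf c3_41)) (BT.leaf c3_42))))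 (BT.node 3649 (BT.node 3646 (BT.node 3644 (BT.node 3643 (BT.leaf c3_43) (BT.leaf c3_44)) (BT.node 3645 (BT.leaf c3_45) (BT.leaf c3_46))) (BT.node 3648 (BT.node 3647 (BT.leaf c3_47) (BT.leaf c3_48)) (BT.leaf c3_49))) (BT.node 3653 (BT.node 3651 (BT.node 3650 (BT.leaf c3_50) (BT.leaf c3_51)) (BT.node 3652 (BT.leaf c3_52) (BT.leaf c3_53))) (BT.node 3655 (BT.node 3654 (BT.leaf c3_54) (BT.leaf c3_55)) (BT.leaf c3_56)))))) (BT.node 3684 (BT.node 3670 (BT.node 3663 (BT.node 3660 (BT.node 3658 (BT.node 3657 (BT.leaf c3_57) (BT.leaf c3_58)) (BT.node 3659 (BT.leaf c3_59) (BT.leaf c3_60))) (BT.node 3662 (BT.node 3661 (BT.leaf c3_61) (BT.leaf c3_62)) (BT.leaf c3_63))) (BT.node 3667 (BT.node 3665 (BT.node 3664 (BT.leaf c3_64) (BT.leaf c3_65)) (BT.node 3666 (BT.leaf c3_66) (BT.leaf c3_67))) (BT.node 3669 (BT.node 3668 (BT.leaf c3_68) (BT.leaf c3_69)) (BT.leaf c3_70)))) (BT.node 3677 (BT.node 3674 (BT.node 3672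 (BT.node 3671 (BT.leaf c3_71) (BT.leaf c3_72)) (BT.node 3673 (BT.leaf c3_73) (BT.leaf c3_74))) (BT.node 3676 (BT.node 3675 (BT.leaf c3_75) (BT.leaf c3_76)) (BT.leaf c3_77))) (BT.node 3681 (BT.node 3679 (BT.node 3678 (BT.leaf c3_78) (BT.leaf c3_79)) (BT.node 3680 (BT.leaf c3_80) (BT.leaf c3_81))) (BT.node 3683 (BT.node 3682 (BT.leaf c3_82) (BT.leaf c3_83)) (BT.leaf c3_84))))) (BT.node 3698 (BT.node 3691 (BT.node 3688 (BT.node 3686 (BT.node 3685 (BT.leaf c3_85) (BT.leaf c3_86)) (BT.node 3687 (BT.leaf c3_87) (BT.leaf c3_88))) (BT.node 3690 (BT.node 3689 (BT.leaf c3_89) (BT.leaf c3_90)) (BT.leaf c3_91))) (BT.node 3695 (BT.node 3693 (BT.node 3692 (BT.leaf c3_92) (BT.leaf c3_93)) (BT.node 3694 (BT.leaf c3_94) (BT.leaf c3_95))) (BT.node 3697 (BT.node 3696 (BT.leaf c3_96) (BT.leaf c3_97)) (BT.leaf c3_98)))) (BT.node 3705 (BT.node 3702 (BT.node 3700 (BT.node 3699 (BT.leaf c3_99) (BT.leaf c3_100)) (BT.node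 3701 (BT.leaf c3_101) (BT.leaf c3_102))) (BT.node 3704 (BT.node 3703 (BT.leaf c3_103) (BT.leaf c3_104)) (BT.leaf c3_105))) (BT.node 3709 (BT.node 3707 (BT.node 3706 (BT.leaf c3_106) (BT.leaf c3_107)) (BT.node 3708 (BT.leaf c3_108) (BT.leaf c3_109))) (BT.node 3711 (BT.node 3710 (BT.leaf c3_110) (BT.leaf c3_111)) (BT.leaf c3_112))))))) (BT.node 3768 (BT.node 3740 (BT.node 3726 (BT.node 3719 (BT.node 3716 (BT.node 3714 (BT.node 3713 (BT.leaf c3_113) (BT.leaf c3_114)) (BT.node 3715 (BT.leaf c3_115) (BT.leaf c3_116))) (BT.node 3718 (BT.node 3717 (BT.leaf c3_117) (BT.leaf c3_118)) (BT.leaf c3_119))) (BT.node 3723 (BT.node 3721 (BT.node 3720 (BT.leaf c3_120) (BT.leaf c3_121)) (BT.node 3722 (BT.leaf c3_122) (BT.leaf c3_123))) (BT.node 3725 (BT.node 3724 (BT.leaf c3_124) (BT.leaf c3_125)) (BT.leaf c3_126)))) (BT.node 3733 (BT.node 3730 (BT.node 3728 (BT.node 3727 (BT.leaf c3_127) (BT.leaf c3_128)) (BT.node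 3729 (BT.leaf c3_129) (BT.leaf c3_130))) (BT.node 3732 (BT.node 3731 (BT.leaf c3_131) (BT.leaf c3_132)) (BT.leaf c3_133))) (BT.node 3737 (BT.node 3735 (BT.node 3734 (BT.leaf c3_134) (BT.leaf c3_135)) (BT.node 3736 (BT.leaf c3_136) (BT.leaf c3_137))) (BT.node 3739 (BT.node 3738 (BT.leaf c3_138) (BT.leaf c3_139)) (BT.leaf c3_140))))) (BT.node 3754 (BT.node 3747 (BT.node 3744 (BT.node 3742 (BT.node 3741 (BT.leaf c3_141) (BT.leaf c3_142)) (BT.node 3743 (BT.leaf c3_143) (BT.leaf c3_144))) (BT.node 3746 (BT.node 3745 (BT.leaf c3_145) (BT.leaf c3_146)) (BT.leaf c3_147))) (BT.node 3751 (BT.node 3749 (BT.node 3748 (BT.leaf c3_148) (BT.leaf c3_149)) (BT.node 3750 (BT.leaf c3_150) (BT.leaf c3_151))) (BT.node 3753 (BT.node 3752 (BT.leaf c3_152) (BT.leaf c3_153)) (BT.leaf c3_154)))) (BT.node 3761 (BT.node 3758 (BT.node 3756 (BT.node 3755 (BT.leaf c3_155) (BT.leaf c3_156)) (BT.node 3757 (BT.leaf c3_157) (BT.leaf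 c3_158))) (BT.node 3760 (BT.node 3759 (BT.leaf c3_159) (BT.leaf c3_160)) (BT.leaf c3_161))) (BT.node 3765 (BT.node 3763 (BT.node 3762 (BT.leaf c3_162) (BT.leaf c3_163)) (BT.node 3764 (BT.leaf c3_164) (BT.leaf c3_165))) (BT.node 3767 (BT.node 3766 (BT.leaf c3_166) (BT.leaf c3_167)) (BT.leaf c3_168)))))) (BT.node 3796 (BT.node 3782 (BT.node 3775 (BT.node 3772 (BT.node 3770 (BT.node 3769 (BT.leaf c3_169) (BT.leaf c3_170)) (BT.node 3771 (BT.leaf c3_171) (BT.leaf c3_172))) (BT.node 3774 (BT.node 3773 (BT.leaf c3_173) (BT.leaf c3_174)) (BT.leaf c3_175))) (BT.node 3779 (BT.node 3777 (BT.node 3776 (BT.leaf c3_176) (BT.leaf c3_177)) (BT.node 3778 (BT.leaf c3_178) (BT.leaf c3_179))) (BT.node 3781 (BT.node 3780 (BT.leaf c3_180) (BT.leaf c3_181)) (BT.leaf c3_182)))) (BT.node 3789 (BT.node 3786 (BT.node 3784 (BT.node 3783 (BT.leaf c3_183) (BT.leaf c3_184)) (BT.node 3785 (BT.leaf c3_185) (BT.leaf c3_186))) (BT.node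 3788 (BT.node 3787 (BT.leaf c3_187) (BT.leaf c3_188)) (BT.leaf c3_189))) (BT.node 3793 (BT.node 3791 (BT.node 3790 (BT.leaf c3_190) (BT.leaf c3_191)) (BT.node 3792 (BT.leaf c3_192) (BT.leaf c3_193))) (BT.node 3795 (BT.node 3794 (BT.leaf c3_194) (BT.leaf c3_195)) (BT.leaf c3_196))))) (BT.node 3810 (BT.node 3803 (BT.node 3800 (BT.node 3798 (BT.node 3797 (BT.leaf c3_197) (BT.leaf c3_198)) (BT.node 3799 (BT.leaf c3_199) (BT.leaf c3_200))) (BT.node 3802 (BT.node 3801 (BT.leaf c3_201) (BT.leaf c3_202)) (BT.leaf c3_203))) (BT.node 3807 (BT.node 3805 (BT.node 3804 (BT.leaf c3_204) (BT.leaf c3_205)) (BT.node 3806 (BT.leaf c3_206) (BT.leaf c3_207))) (BT.node 3809 (BT.node 3808 (BT.leaf c3_208) (BT.leaf c3_209)) (BT.leaf c3_210)))) (BT.node 3817 (BT.node 3814 (BT.node 3812 (BT.node 3811 (BT.leaf c3_211) (BT.leaf c3_212)) (BT.node 3813 (BT.leaf c3_213) (BT.leaf c3_214))) (BT.node 3816 (BT.node 3815 (BT.leaf c3_215)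 (BT.leaf c3_216)) (BT.leaf c3_217))) (BT.node 3821 (BT.node 3819 (BT.node 3818 (BT.leaf c3_218) (BT.leaf c3_219)) (BT.node 3820 (BT.leaf c3_220) (BT.leaf c3_221))) (BT.node 3823 (BT.node 3822 (BT.leaf c3_222) (BT.leaf c3_223)) (BT.leaf c3_224)))))))) (BT.node 3937 (BT.node 3881 (BT.node 3853 (BT.node 3839 (BT.node 3832 (BT.node 3828 (BT.node 3826 (BT.node 3825 (BT.leaf c3_225) (BT.leaf c3_226)) (BT.node 3827 (BT.leaf c3_227) (BT.leaf c3_228))) (BT.node 3830 (BT.node 3829 (BT.leaf c3_229) (BT.leaf c3_230)) (BT.node 3831 (BT.leaf c3_231) (BT.leaf c3_232)))) (BT.node 3836 (BT.node 3834 (BT.node 3833 (BT.leaf c3_233) (BT.leaf c3_234)) (BT.node 3835 (BT.leaf c3_235) (BT.leaf c3_236))) (BT.node 3838 (BT.node 3837 (BT.leaf c3_237) (BT.leaf c3_238)) (BT.leaf c3_239)))) (BT.node 3846 (BT.node 3843 (BT.node 3841 (BT.node 3840 (BT.leaf c3_240) (BT.leaf c3_241)) (BT.node 3842 (BT.leaf c3_242) (BT.leaf c3_243)))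 (BT.node 3845 (BT.node 3844 (BT.leaf c3_244) (BT.leaf c3_245)) (BT.leaf c3_246))) (BT.node 3850 (BT.node 3848 (BT.node 3847 (BT.leaf c3_247) (BT.leaf c3_248)) (BT.node 3849 (BT.leaf c3_249) (BT.leaf c3_250))) (BT.node 3852 (BT.node 3851 (BT.leaf c3_251) (BT.leaf c3_252)) (BT.leaf c3_253))))) (BT.node 3867 (BT.node 3860 (BT.node 3857 (BT.node 3855 (BT.node 3854 (BT.leaf c3_254) (BT.leaf c3_255)) (BT.node 3856 (BT.leaf c3_256) (BT.leaf c3_257))) (BT.node 3859 (BT.node 3858 (BT.leaf c3_258) (BT.leaf c3_259)) (BT.leaf c3_260))) (BT.node 3864 (BT.node 3862 (BT.node 3861 (BT.leaf c3_261) (BT.leaf c3_262)) (BT.node 3863 (BT.leaf c3_263) (BT.leaf c3_264))) (BT.node 3866 (BT.node 3865 (BT.leaf c3_265) (BT.leaf c3_266)) (BT.leaf c3_267)))) (BT.node 3874 (BT.node 3871 (BT.node 3869 (BT.node 3868 (BT.leaf c3_268) (BT.leaf c3_269)) (BT.node 3870 (BT.leaf c3_270) (BT.leaf c3_271))) (BT.node 3873 (BT.node 3872 (BT.leaf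 c3_272) (BT.leaf c3_273)) (BT.leaf c3_274))) (BT.node 3878 (BT.node 3876 (BT.node 3875 (BT.leaf c3_275) (BT.leaf c3_276)) (BT.node 3877 (BT.leaf c3_277) (BT.leaf c3_278))) (BT.node 3880 (BT.node 3879 (BT.leaf c3_279) (BT.leaf c3_280)) (BT.leaf c3_281)))))) (BT.node 3909 (BT.node 3895 (BT.node 3888 (BT.node 3885 (BT.node 3883 (BT.node 3882 (BT.leaf c3_282) (BT.leaf c3_283)) (BT.node 3884 (BT.leaf c3_284) (BT.leaf c3_285))) (BT.node 3887 (BT.node 3886 (BT.leaf c3_286) (BT.leaf c3_287)) (BT.leaf c3_288))) (BT.node 3892 (BT.node 3890 (BT.node 3889 (BT.leaf c3_289) (BT.leaf c3_290)) (BT.node 3891 (BT.leaf c3_291) (BT.leaf c3_292))) (BT.node 3894 (BT.node 3893 (BT.leaf c3_293) (BT.leaf c3_294)) (BT.leaf c3_295)))) (BT.node 3902 (BT.node 3899 (BT.node 3897 (BT.node 3896 (BT.leaf c3_296) (BT.leaf c3_297)) (BT.node 3898 (BT.leaf c3_298) (BT.leaf c3_299))) (BT.node 3901 (BT.node 3900 (BT.leaf c3_300) (BT.leaf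 c3_301)) (BT.leaf c3_302))) (BT.node 3906 (BT.node 3904 (BT.node 3903 (BT.leaf c3_303) (BT.leaf c3_304)) (BT.node 3905 (BT.leaf c3_305) (BT.leaf c3_306))) (BT.node 3908 (BT.node 3907 (BT.leaf c3_307) (BT.leaf c3_308)) (BT.leaf c3_309))))) (BT.node 3923 (BT.node 3916 (BT.node 3913 (BT.node 3911 (BT.node 3910 (BT.leaf c3_310) (BT.leaf c3_311)) (BT.node 3912 (BT.leaf c3_312) (BT.leaf c3_313))) (BT.node 3915 (BT.node 3914 (BT.leaf c3_314) (BT.leaf c3_315)) (BT.leaf c3_316))) (BT.node 3920 (BT.node 3918 (BT.node 3917 (BT.leaf c3_317) (BT.leaf c3_318)) (BT.node 3919 (BT.leaf c3_319) (BT.leaf c3_320))) (BT.node 3922 (BT.node 3921 (BT.leaf c3_321) (BT.leaf c3_322)) (BT.leaf c3_323)))) (BT.node 3930 (BT.node 3927 (BT.node 3925 (BT.node 3924 (BT.leaf c3_324) (BT.leaf c3_325)) (BT.node 3926 (BT.leaf c3_326) (BT.leaf c3_327))) (BT.node 3929 (BT.node 3928 (BT.leaf c3_328) (BT.leaf c3_329)) (BT.leaf c3_330))) (BT.node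 3934 (BT.node 3932 (BT.node 3931 (BT.leaf c3_331) (BT.leaf c3_332)) (BT.node 3933 (BT.leaf c3_333) (BT.leaf c3_334))) (BT.node 3936 (BT.node 3935 (BT.leaf c3_335) (BT.leaf c3_336)) (BT.leaf c3_337))))))) (BT.node 3993 (BT.node 3965 (BT.node 3951 (BT.node 3944 (BT.node 3941 (BT.node 3939 (BT.node 3938 (BT.leaf c3_338) (BT.leaf c3_339)) (BT.node 3940 (BT.leaf c3_340) (BT.leaf c3_341))) (BT.node 3943 (BT.node 3942 (BT.leaf c3_342) (BT.leaf c3_343)) (BT.leaf c3_344))) (BT.node 3948 (BT.node 3946 (BT.node 3945 (BT.leaf c3_345) (BT.leaf c3_346)) (BT.node 3947 (BT.leaf c3_347) (BT.leaf c3_348))) (BT.node 3950 (BT.node 3949 (BT.leaf c3_349) (BT.leaf c3_350)) (BT.leaf c3_351)))) (BT.node 3958 (BT.node 3955 (BT.node 3953 (BT.node 3952 (BT.leaf c3_352) (BT.leaf c3_353)) (BT.node 3954 (BT.leaf c3_354) (BT.leaf c3_355))) (BT.node 3957 (BT.node 3956 (BT.leaf c3_356) (BT.leaf c3_357)) (BT.leaf c3_358))) (BT.node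 3962 (BT.node 3960 (BT.node 3959 (BT.leaf c3_359) (BT.leaf c3_360)) (BT.node 3961 (BT.leaf c3_361) (BT.leaf c3_362))) (BT.node 3964 (BT.node 3963 (BT.leaf c3_363) (BT.leaf c3_364)) (BT.leaf c3_365))))) (BT.node 3979 (BT.node 3972 (BT.node 3969 (BT.node 3967 (BT.node 3966 (BT.leaf c3_366) (BT.leaf c3_367)) (BT.node 3968 (BT.leaf c3_368) (BT.leaf c3_369))) (BT.node 3971 (BT.node 3970 (BT.leaf c3_370) (BT.leaf c3_371)) (BT.leaf c3_372))) (BT.node 3976 (BT.node 3974 (BT.node 3973 (BT.leaf c3_373) (BT.leaf c3_374)) (BT.node 3975 (BT.leaf c3_375) (BT.leaf c3_376))) (BT.node 3978 (BT.node 3977 (BT.leaf c3_377) (BT.leaf c3_378)) (BT.leaf c3_379)))) (BT.node 3986 (BT.node 3983 (BT.node 3981 (BT.node 3980 (BT.leaf c3_380) (BT.leaf c3_381)) (BT.node 3982 (BT.leaf c3_382) (BT.leaf c3_383))) (BT.node 3985 (BT.node 3984 (BT.leaf c3_384) (BT.leaf c3_385)) (BT.leaf c3_386))) (BT.node 3990 (BT.node 3988 (BT.node 3987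 (BT.leaf c3_387) (BT.leaf c3_388)) (BT.node 3989 (BT.leaf c3_389) (BT.leaf c3_390))) (BT.node 3992 (BT.node 3991 (BT.leaf c3_391) (BT.leaf c3_392)) (BT.leaf c3_393)))))) (BT.node 4021 (BT.node 4007 (BT.node 4000 (BT.node 3997 (BT.node 3995 (BT.node 3994 (BT.leaf c3_394) (BT.leaf c3_395)) (BT.node 3996 (BT.leaf c3_396) (BT.leaf c3_397))) (BT.node 3999 (BT.node 3998 (BT.leaf c3_398) (BT.leaf c3_399)) (BT.leaf c3_400))) (BT.node 4004 (BT.node 4002 (BT.node 4001 (BT.leaf c3_401) (BT.leaf c3_402)) (BT.node 4003 (BT.leaf c3_403) (BT.leaf c3_404))) (BT.node 4006 (BT.node 4005 (BT.leaf c3_405) (BT.leaf c3_406)) (BT.leaf c3_407)))) (BT.node 4014 (BT.node 4011 (BT.node 4009 (BT.node 4008 (BT.leaf c3_408) (BT.leaf c3_409)) (BT.node 4010 (BT.leaf c3_410) (BT.leaf c3_411))) (BT.node 4013 (BT.node 4012 (BT.leaf c3_412) (BT.leaf c3_413)) (BT.leaf c3_414))) (BT.node 4018 (BT.node 4016 (BT.node 4015 (BT.leaf c3_415)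 (BT.leaf c3_416)) (BT.node 4017 (BT.leaf c3_417) (BT.leaf c3_418))) (BT.node 4020 (BT.node 4019 (BT.leaf c3_419) (BT.leaf c3_420)) (BT.leaf c3_421))))) (BT.node 4035 (BT.node 4028 (BT.node 4025 (BT.node 4023 (BT.node 4022 (BT.leaf c3_422) (BT.leaf c3_423)) (BT.node 4024 (BT.leaf c3_424) (BT.leaf c3_425))) (BT.node 4027 (BT.node 4026 (BT.leaf c3_426) (BT.leaf c3_427)) (BT.leaf c3_428))) (BT.node 4032 (BT.node 4030 (BT.node 4029 (BT.leaf c3_429) (BT.leaf c3_430)) (BT.node 4031 (BT.leaf c3_431) (BT.leaf c3_432))) (BT.node 4034 (BT.node 4033 (BT.leaf c3_433) (BT.leaf c3_434)) (BT.leaf c3_435)))) (BT.node 4042 (BT.node 4039 (BT.node 4037 (BT.node 4036 (BT.leaf c3_436) (BT.leaf c3_437)) (BT.node 4038 (BT.leaf c3_438) (BT.leaf c3_439))) (BT.node 4041 (BT.node 4040 (BT.leaf c3_440) (BT.leaf c3_441)) (BT.leaf c3_442))) (BT.node 4046 (BT.node 4044 (BT.node 4043 (BT.leaf c3_443) (BT.leaf c3_444)) (BT.node 4045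 (BT.leaf c3_445) (BT.leaf c3_446))) (BT.node 4048 (BT.node 4047 (BT.leaf c3_447) (BT.leaf c3_448)) (BT.leaf c3_449))))))))) (BT.node 4274 (BT.node 4162 (BT.node 4106 (BT.node 4078 (BT.node 4064 (BT.node 4057 (BT.node 4053 (BT.node 4051 (BT.node 4050 (BT.leaf c3_450) (BT.leaf c3_451)) (BT.node 4052 (BT.leaf c3_452) (BT.leaf c3_453))) (BT.node 4055 (BT.node 4054 (BT.leaf c3_454) (BT.leaf c3_455)) (BT.node 4056 (BT.leaf c3_456) (BT.leaf c3_457)))) (BT.node 4061 (BT.node 4059 (BT.node 4058 (BT.leaf c3_458) (BT.leaf c3_459)) (BT.node 4060 (BT.leaf c3_460) (BT.leaf c3_461))) (BT.node 4063 (BT.node 4062 (BT.leaf c3_462) (BT.leaf c3_463)) (BT.leaf c3_464)))) (BT.node 4071 (BT.node 4068 (BT.node 4066 (BT.node 4065 (BT.leaf c3_465) (BT.leaf c3_466)) (BT.node 4067 (BT.leaf c3_467) (BT.leaf c3_468))) (BT.node 4070 (BT.node 4069 (BT.leaf c3_469) (BT.leaf c3_470)) (BT.leaf c3_471))) (BT.node 4075 (BT.node 4073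 (BT.node 4072 (BT.leaf c3_472) (BT.leaf c3_473)) (BT.node 4074 (BT.leaf c3_474) (BT.leaf c3_475))) (BT.node 4077 (BT.node 4076 (BT.leaf c3_476) (BT.leaf c3_477)) (BT.leaf c3_478))))) (BT.node 4092 (BT.node 4085 (BT.node 4082 (BT.node 4080 (BT.node 4079 (BT.leaf c3_479) (BT.leaf c3_480)) (BT.node 4081 (BT.leaf c3_481) (BT.leaf c3_482))) (BT.node 4084 (BT.node 4083 (BT.leaf c3_483) (BT.leaf c3_484)) (BT.leaf c3_485))) (BT.node 4089 (BT.node 4087 (BT.node 4086 (BT.leaf c3_486) (BT.leaf c3_487)) (BT.node 4088 (BT.leaf c3_488) (BT.leaf c3_489))) (BT.node 4091 (BT.node 4090 (BT.leaf c3_490) (BT.leaf c3_491)) (BT.leaf c3_492)))) (BT.node 4099 (BT.node 4096 (BT.node 4094 (BT.node 4093 (BT.leaf c3_493) (BT.leaf c3_494)) (BT.node 4095 (BT.leaf c3_495) (BT.leaf c3_496))) (BT.node 4098 (BT.node 4097 (BT.leaf c3_497) (BT.leaf c3_498)) (BT.leaf c3_499))) (BT.node 4103 (BT.node 4101 (BT.node 4100 (BT.leaf c3_500)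 (BT.leaf c3_501)) (BT.node 4102 (BT.leaf c3_502) (BT.leaf c3_503))) (BT.node 4105 (BT.node 4104 (BT.leaf c3_504) (BT.leaf c3_505)) (BT.leaf c3_506)))))) (BT.node 4134 (BT.node 4120 (BT.node 4113 (BT.node 4110 (BT.node 4108 (BT.node 4107 (BT.leaf c3_507) (BT.leaf c3_508)) (BT.node 4109 (BT.leaf c3_509) (BT.leaf c3_510))) (BT.node 4112 (BT.node 4111 (BT.leaf c3_511) (BT.leaf c3_512)) (BT.leaf c3_513))) (BT.node 4117 (BT.node 4115 (BT.node 4114 (BT.leaf c3_514) (BT.leaf c3_515)) (BT.node 4116 (BT.leaf c3_516) (BT.leaf c3_517))) (BT.node 4119 (BT.node 4118 (BT.leaf c3_518) (BT.leaf c3_519)) (BT.leaf c3_520)))) (BT.node 4127 (BT.node 4124 (BT.node 4122 (BT.node 4121 (BT.leaf c3_521) (BT.leaf c3_522)) (BT.node 4123 (BT.leaf c3_523) (BT.leaf c3_524))) (BT.node 4126 (BT.node 4125 (BT.leaf c3_525) (BT.leaf c3_526)) (BT.leaf c3_527))) (BT.node 4131 (BT.node 4129 (BT.node 4128 (BT.leaf c3_528) (BT.leaf c3_529))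 (BT.node 4130 (BT.leaf c3_530) (BT.leaf c3_531))) (BT.node 4133 (BT.node 4132 (BT.leaf c3_532) (BT.leaf c3_533)) (BT.leaf c3_534))))) (BT.node 4148 (BT.node 4141 (BT.node 4138 (BT.node 4136 (BT.node 4135 (BT.leaf c3_535) (BT.leaf c3_536)) (BT.node 4137 (BT.leaf c3_537) (BT.leaf c3_538))) (BT.node 4140 (BT.node 4139 (BT.leaf c3_539) (BT.leaf c3_540)) (BT.leaf c3_541))) (BT.node 4145 (BT.node 4143 (BT.node 4142 (BT.leaf c3_542) (BT.leaf c3_543)) (BT.node 4144 (BT.leaf c3_544) (BT.leaf c3_545))) (BT.node 4147 (BT.node 4146 (BT.leaf c3_546) (BT.leaf c3_547)) (BT.leaf c3_548)))) (BT.node 4155 (BT.node 4152 (BT.node 4150 (BT.node 4149 (BT.leaf c3_549) (BT.leaf c3_550)) (BT.node 4151 (BT.leaf c3_551) (BT.leaf c3_552))) (BT.node 4154 (BT.node 4153 (BT.leaf c3_553) (BT.leaf c3_554)) (BT.leaf c3_555))) (BT.node 4159 (BT.node 4157 (BT.node 4156 (BT.leaf c3_556) (BT.leaf c3_557)) (BT.node 4158 (BT.leaf c3_558)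 (BT.leaf c3_559))) (BT.node 4161 (BT.node 4160 (BT.leaf c3_560) (BT.leaf c3_561)) (BT.leaf c3_562))))))) (BT.node 4218 (BT.node 4190 (BT.node 4176 (BT.node 4169 (BT.node 4166 (BT.node 4164 (BT.node 4163 (BT.leaf c3_563) (BT.leaf c3_564)) (BT.node 4165 (BT.leaf c3_565) (BT.leaf c3_566))) (BT.node 4168 (BT.node 4167 (BT.leaf c3_567) (BT.leaf c3_568)) (BT.leaf c3_569))) (BT.node 4173 (BT.node 4171 (BT.node 4170 (BT.leaf c3_570) (BT.leaf c3_571)) (BT.node 4172 (BT.leaf c3_572) (BT.leaf c3_573))) (BT.node 4175 (BT.node 4174 (BT.leaf c3_574) (BT.leaf c3_575)) (BT.leaf c3_576)))) (BT.node 4183 (BT.node 4180 (BT.node 4178 (BT.node 4177 (BT.leaf c3_577) (BT.leaf c3_578)) (BT.node 4179 (BT.leaf c3_579) (BT.leaf c3_580))) (BT.node 4182 (BT.node 4181 (BT.leaf c3_581) (BT.leaf c3_582)) (BT.leaf c3_583))) (BT.node 4187 (BT.node 4185 (BT.node 4184 (BT.leaf c3_584) (BT.leaf c3_585)) (BT.node 4186 (BT.leaf c3_586)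 (BT.leaf c3_587))) (BT.node 4189 (BT.node 4188 (BT.leaf c3_588) (BT.leaf c3_589)) (BT.leaf c3_590))))) (BT.node 4204 (BT.node 4197 (BT.node 4194 (BT.node 4192 (BT.node 4191 (BT.leaf c3_591) (BT.leaf c3_592)) (BT.node 4193 (BT.leaf c3_593) (BT.leaf c3_594))) (BT.node 4196 (BT.node 4195 (BT.leaf c3_595) (BT.leaf c3_596)) (BT.leaf c3_597))) (BT.node 4201 (BT.node 4199 (BT.node 4198 (BT.leaf c3_598) (BT.leaf c3_599)) (BT.node 4200 (BT.leaf c3_600) (BT.leaf c3_601))) (BT.node 4203 (BT.node 4202 (BT.leaf c3_602) (BT.leaf c3_603)) (BT.leaf c3_604)))) (BT.node 4211 (BT.node 4208 (BT.node 4206 (BT.node 4205 (BT.leaf c3_605) (BT.leaf c3_606)) (BT.node 4207 (BT.leaf c3_607) (BT.leaf c3_608))) (BT.node 4210 (BT.node 4209 (BT.leaf c3_609) (BT.leaf c3_610)) (BT.leaf c3_611))) (BT.node 4215 (BT.node 4213 (BT.node 4212 (BT.leaf c3_612) (BT.leaf c3_613)) (BT.node 4214 (BT.leaf c3_614) (BT.leaf c3_615))) (BT.node 4217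 (BT.node 4216 (BT.leaf c3_616) (BT.leaf c3_617)) (BT.leaf c3_618)))))) (BT.node 4246 (BT.node 4232 (BT.node 4225 (BT.node 4222 (BT.node 4220 (BT.node 4219 (BT.leaf c3_619) (BT.leaf c3_620)) (BT.node 4221 (BT.leaf c3_621) (BT.leaf c3_622))) (BT.node 4224 (BT.node 4223 (BT.leaf c3_623) (BT.leaf c3_624)) (BT.leaf c3_625))) (BT.node 4229 (BT.node 4227 (BT.node 4226 (BT.leaf c3_626) (BT.leaf c3_627)) (BT.node 4228 (BT.leaf c3_628) (BT.leaf c3_629))) (BT.node 4231 (BT.node 4230 (BT.leaf c3_630) (BT.leaf c3_631)) (BT.leaf c3_632)))) (BT.node 4239 (BT.node 4236 (BT.node 4234 (BT.node 4233 (BT.leaf c3_633) (BT.leaf c3_634)) (BT.node 4235 (BT.leaf c3_635) (BT.leaf c3_636))) (BT.node 4238 (BT.node 4237 (BT.leaf c3_637) (BT.leaf c3_638)) (BT.leaf c3_639))) (BT.node 4243 (BT.node 4241 (BT.node 4240 (BT.leaf c3_640) (BT.leaf c3_641)) (BT.node 4242 (BT.leaf c3_642) (BT.leaf c3_643))) (BT.node 4245 (BT.node 4244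 (BT.leaf c3_644) (BT.leaf c3_645)) (BT.leaf c3_646))))) (BT.node 4260 (BT.node 4253 (BT.node 4250 (BT.node 4248 (BT.node 4247 (BT.leaf c3_647) (BT.leaf c3_648)) (BT.node 4249 (BT.leaf c3_649) (BT.leaf c3_650))) (BT.node 4252 (BT.node 4251 (BT.leaf c3_651) (BT.leaf c3_652)) (BT.leaf c3_653))) (BT.node 4257 (BT.node 4255 (BT.node 4254 (BT.leaf c3_654) (BT.leaf c3_655)) (BT.node 4256 (BT.leaf c3_656) (BT.leaf c3_657))) (BT.node 4259 (BT.node 4258 (BT.leaf c3_658) (BT.leaf c3_659)) (BT.leaf c3_660)))) (BT.node 4267 (BT.node 4264 (BT.node 4262 (BT.node 4261 (BT.leaf c3_661) (BT.leaf c3_662)) (BT.node 4263 (BT.leaf c3_663) (BT.leaf c3_664))) (BT.node 4266 (BT.node 4265 (BT.leaf c3_665) (BT.leaf c3_666)) (BT.leaf c3_667))) (BT.node 4271 (BT.node 4269 (BT.node 4268 (BT.leaf c3_668) (BT.leaf c3_669)) (BT.node 4270 (BT.leaf c3_670) (BT.leaf c3_671))) (BT.node 4273 (BT.node 4272 (BT.leaf c3_672) (BT.leaf c3_673))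 (BT.leaf c3_674)))))))) (BT.node 4387 (BT.node 4331 (BT.node 4303 (BT.node 4289 (BT.node 4282 (BT.node 4278 (BT.node 4276 (BT.node 4275 (BT.leaf c3_675) (BT.leaf c3_676)) (BT.node 4277 (BT.leaf c3_677) (BT.leaf c3_678))) (BT.node 4280 (BT.node 4279 (BT.leaf c3_679) (BT.leaf c3_680)) (BT.node 4281 (BT.leaf c3_681) (BT.leaf c3_682)))) (BT.node 4286 (BT.node 4284 (BT.node 4283 (BT.leaf c3_683) (BT.leaf c3_684)) (BT.node 4285 (BT.leaf c3_685) (BT.leaf c3_686))) (BT.node 4288 (BT.node 4287 (BT.leaf c3_687) (BT.leaf c3_688)) (BT.leaf c3_689)))) (BT.node 4296 (BT.node 4293 (BT.node 4291 (BT.node 4290 (BT.leaf c3_690) (BT.leaf c3_691)) (BT.node 4292 (BT.leaf c3_692) (BT.leaf c3_693))) (BT.node 4295 (BT.node 4294 (BT.leaf c3_694) (BT.leaf c3_695)) (BT.leaf c3_696))) (BT.node 4300 (BT.node 4298 (BT.node 4297 (BT.leaf c3_697) (BT.leaf c3_698)) (BT.node 4299 (BT.leaf c3_699) (BT.leaf c3_700))) (BT.node 4302 (BT.node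 4301 (BT.leaf c3_701) (BT.leaf c3_702)) (BT.leaf c3_703))))) (BT.node 4317 (BT.node 4310 (BT.node 4307 (BT.node 4305 (BT.node 4304 (BT.leaf c3_704) (BT.leaf c3_705)) (BT.node 4306 (BT.leaf c3_706) (BT.leaf c3_707))) (BT.node 4309 (BT.node 4308 (BT.leaf c3_708) (BT.leaf c3_709)) (BT.leaf c3_710))) (BT.node 4314 (BT.node 4312 (BT.node 4311 (BT.leaf c3_711) (BT.leaf c3_712)) (BT.node 4313 (BT.leaf c3_713) (BT.leaf c3_714))) (BT.node 4316 (BT.node 4315 (BT.leaf c3_715) (BT.leaf c3_716)) (BT.leaf c3_717)))) (BT.node 4324 (BT.node 4321 (BT.node 4319 (BT.node 4318 (BT.leaf c3_718) (BT.leaf c3_719)) (BT.node 4320 (BT.leaf c3_720) (BT.leaf c3_721))) (BT.node 4323 (BT.node 4322 (BT.leaf c3_722) (BT.leaf c3_723)) (BT.leaf c3_724))) (BT.node 4328 (BT.node 4326 (BT.node 4325 (BT.leaf c3_725) (BT.leaf c3_726)) (BT.node 4327 (BT.leaf c3_727) (BT.leaf c3_728))) (BT.node 4330 (BT.node 4329 (BT.leaf c3_729) (BT.leaf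 c3_730)) (BT.leaf c3_731)))))) (BT.node 4359 (BT.node 4345 (BT.node 4338 (BT.node 4335 (BT.node 4333 (BT.node 4332 (BT.leaf c3_732) (BT.leaf c3_733)) (BT.node 4334 (BT.leaf c3_734) (BT.leaf c3_735))) (BT.node 4337 (BT.node 4336 (BT.leaf c3_736) (BT.leaf c3_737)) (BT.leaf c3_738))) (BT.node 4342 (BT.node 4340 (BT.node 4339 (BT.leaf c3_739) (BT.leaf c3_740)) (BT.node 4341 (BT.leaf c3_741) (BT.leaf c3_742))) (BT.node 4344 (BT.node 4343 (BT.leaf c3_743) (BT.leaf c3_744)) (BT.leaf c3_745)))) (BT.node 4352 (BT.node 4349 (BT.node 4347 (BT.node 4346 (BT.leaf c3_746) (BT.leaf c3_747)) (BT.node 4348 (BT.leaf c3_748) (BT.leaf c3_749))) (BT.node 4351 (BT.node 4350 (BT.leaf c3_750) (BT.leaf c3_751)) (BT.leaf c3_752))) (BT.node 4356 (BT.node 4354 (BT.node 4353 (BT.leaf c3_753) (BT.leaf c3_754)) (BT.node 4355 (BT.leaf c3_755) (BT.leaf c3_756))) (BT.node 4358 (BT.node 4357 (BT.leaf c3_757) (BT.leaf c3_758)) (BT.leaf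 c3_759))))) (BT.node 4373 (BT.node 4366 (BT.node 4363 (BT.node 4361 (BT.node 4360 (BT.leaf c3_760) (BT.leaf c3_761)) (BT.node 4362 (BT.leaf c3_762) (BT.leaf c3_763))) (BT.node 4365 (BT.node 4364 (BT.leaf c3_764) (BT.leaf c3_765)) (BT.leaf c3_766))) (BT.node 4370 (BT.node 4368 (BT.node 4367 (BT.leaf c3_767) (BT.leaf c3_768)) (BT.node 4369 (BT.leaf c3_769) (BT.leaf c3_770))) (BT.node 4372 (BT.node 4371 (BT.leaf c3_771) (BT.leaf c3_772)) (BT.leaf c3_773)))) (BT.node 4380 (BT.node 4377 (BT.node 4375 (BT.node 4374 (BT.leaf c3_774) (BT.leaf c3_775)) (BT.node 4376 (BT.leaf c3_776) (BT.leaf c3_777))) (BT.node 4379 (BT.node 4378 (BT.leaf c3_778) (BT.leaf c3_779)) (BT.leaf c3_780))) (BT.node 4384 (BT.node 4382 (BT.node 4381 (BT.leaf c3_781) (BT.leaf c3_782)) (BT.node 4383 (BT.leaf c3_783) (BT.leaf c3_784))) (BT.node 4386 (BT.node 4385 (BT.leaf c3_785) (BT.leaf c3_786)) (BT.leaf c3_787))))))) (BT.node 4443 (BT.node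 4415 (BT.node 4401 (BT.node 4394 (BT.node 4391 (BT.node 4389 (BT.node 4388 (BT.leaf c3_788) (BT.leaf c3_789)) (BT.node 4390 (BT.leaf c3_790) (BT.leaf c3_791))) (BT.node 4393 (BT.node 4392 (BT.leaf c3_792) (BT.leaf c3_793)) (BT.leaf c3_794))) (BT.node 4398 (BT.node 4396 (BT.node 4395 (BT.leaf c3_795) (BT.leaf c3_796)) (BT.node 4397 (BT.leaf c3_797) (BT.leaf c3_798))) (BT.node 4400 (BT.node 4399 (BT.leaf c3_799) (BT.leaf c3_800)) (BT.leaf c3_801)))) (BT.node 4408 (BT.node 4405 (BT.node 4403 (BT.node 4402 (BT.leaf c3_802) (BT.leaf c3_803)) (BT.node 4404 (BT.leaf c3_804) (BT.leaf c3_805))) (BT.node 4407 (BT.node 4406 (BT.leaf c3_806) (BT.leaf c3_807)) (BT.leaf c3_808))) (BT.node 4412 (BT.node 4410 (BT.node 4409 (BT.leaf c3_809) (BT.leaf c3_810)) (BT.node 4411 (BT.leaf c3_811) (BT.leaf c3_812))) (BT.node 4414 (BT.node 4413 (BT.leaf c3_813) (BT.leaf c3_814)) (BT.leaf c3_815))))) (BT.node 4429 (BT.node 4422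 (BT.node 4419 (BT.node 4417 (BT.node 4416 (BT.leaf c3_816) (BT.leaf c3_817)) (BT.node 4418 (BT.leaf c3_818) (BT.leaf c3_819))) (BT.node 4421 (BT.node 4420 (BT.leaf c3_820) (BT.leaf c3_821)) (BT.leaf c3_822))) (BT.node 4426 (BT.node 4424 (BT.node 4423 (BT.leaf c3_823) (BT.leaf c3_824)) (BT.node 4425 (BT.leaf c3_825) (BT.leaf c3_826))) (BT.node 4428 (BT.node 4427 (BT.leaf c3_827) (BT.leaf c3_828)) (BT.leaf c3_829)))) (BT.node 4436 (BT.node 4433 (BT.node 4431 (BT.node 4430 (BT.leaf c3_830) (BT.leaf c3_831)) (BT.node 4432 (BT.leaf c3_832) (BT.leaf c3_833))) (BT.node 4435 (BT.node 4434 (BT.leaf c3_834) (BT.leaf c3_835)) (BT.leaf c3_836))) (BT.node 4440 (BT.node 4438 (BT.node 4437 (BT.leaf c3_837) (BT.leaf c3_838)) (BT.node 4439 (BT.leaf c3_839) (BT.leaf c3_840))) (BT.node 4442 (BT.node 4441 (BT.leaf c3_841) (BT.leaf c3_842)) (BT.leaf c3_843)))))) (BT.node 4471 (BT.node 4457 (BT.node 4450 (BT.node 4447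 (BT.node 4445 (BT.node 4444 (BT.leaf c3_844) (BT.leaf c3_845)) (BT.node 4446 (BT.leaf c3_846) (BT.leaf c3_847))) (BT.node 4449 (BT.node 4448 (BT.leaf c3_848) (BT.leaf c3_849)) (BT.leaf c3_850))) (BT.node 4454 (BT.node 4452 (BT.node 4451 (BT.leaf c3_851) (BT.leaf c3_852)) (BT.node 4453 (BT.leaf c3_853) (BT.leaf c3_854))) (BT.node 4456 (BT.node 4455 (BT.leaf c3_855) (BT.leaf c3_856)) (BT.leaf c3_857)))) (BT.node 4464 (BT.node 4461 (BT.node 4459 (BT.node 4458 (BT.leaf c3_858) (BT.leaf c3_859)) (BT.node 4460 (BT.leaf c3_860) (BT.leaf c3_861))) (BT.node 4463 (BT.node 4462 (BT.leaf c3_862) (BT.leaf c3_863)) (BT.leaf c3_864))) (BT.node 4468 (BT.node 4466 (BT.node 4465 (BT.leaf c3_865) (BT.leaf c3_866)) (BT.node 4467 (BT.leaf c3_867) (BT.leaf c3_868))) (BT.node 4470 (BT.node 4469 (BT.leaf c3_869) (BT.leaf c3_870)) (BT.leaf c3_871))))) (BT.node 4485 (BT.node 4478 (BT.node 4475 (BT.node 4473 (BT.node 4472 (BT.leaf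 c3_872) (BT.leaf c3_873)) (BT.node 4474 (BT.leaf c3_874) (BT.leaf c3_875))) (BT.node 4477 (BT.node 4476 (BT.leaf c3_876) (BT.leaf c3_877)) (BT.leaf c3_878))) (BT.node 4482 (BT.node 4480 (BT.node 4479 (BT.leaf c3_879) (BT.leaf c3_880)) (BT.node 4481 (BT.leaf c3_881) (BT.leaf c3_882))) (BT.node 4484 (BT.node 4483 (BT.leaf c3_883) (BT.leaf c3_884)) (BT.leaf c3_885)))) (BT.node 4492 (BT.node 4489 (BT.node 4487 (BT.node 4486 (BT.leaf c3_886) (BT.leaf c3_887)) (BT.node 4488 (BT.leaf c3_888) (BT.leaf c3_889))) (BT.node 4491 (BT.node 4490 (BT.leaf c3_890) (BT.leaf c3_891)) (BT.leaf c3_892))) (BT.node 4496 (BT.node 4494 (BT.node 4493 (BT.leaf c3_893) (BT.leaf c3_894)) (BT.node 4495 (BT.leaf c3_895) (BT.leaf c3_896))) (BT.node 4498 (BT.node 4497 (BT.leaf c3_897) (BT.leaf c3_898)) (BT.leaf c3_899))))))))))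
/-- the chunks of the letter 5 -/
def colL_5 : BT ℕ := (BT.node 4949 (BT.node 4724 (BT.node 4612 (BT.node 4556 (BT.node 4528 (BT.node 4514 (BT.node 4507 (BT.node 4503 (BT.node 4501 (BT.node 4500 (BT.leaf c3_0) (BT.leaf c3_1)) (BT.node 4502 (BT.leaf c3_2) (BT.leaf c3_3))) (BT.node 4505 (BT.node 4504 (BT.leaf c3_4) (BT.leaf c3_5)) (BT.node 4506 (BT.leaf c3_6) (BT.leaf c3_7)))) (BT.node 4511 (BT.node 4509 (BT.node 4508 (BT.leaf c3_8) (BT.leaf c3_9)) (BT.node 4510 (BT.leaf c3_10) (BT.leaf c3_11))) (BT.node 4513 (BT.node 4512 (BT.leaf c3_12) (BT.leaf c3_13)) (BT.leaf c3_14)))) (BT.node 4521 (BT.node 4518 (BT.node 4516 (BT.node 4515 (BT.leaf c3_15) (BT.leaf c3_16)) (BT.node 4517 (BT.leaf c3_17) (BT.leaf c3_18))) (BT.node 4520 (BT.node 4519 (BT.leaf c3_19) (BT.leaf c3_20)) (BT.leaf c3_21))) (BT.node 4525 (BT.node 4523 (BT.node 4522 (BT.leaf c3_22) (BT.leaf c3_23)) (BT.node 4524 (BT.leaf c3_24) (BT.leaf c3_25)))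 (BT.node 4527 (BT.node 4526 (BT.leaf c3_26) (BT.leaf c3_27)) (BT.leaf c3_28))))) (BT.node 4542 (BT.node 4535 (BT.node 4532 (BT.node 4530 (BT.node 4529 (BT.leaf c3_29) (BT.leaf c3_30)) (BT.node 4531 (BT.leaf c3_31) (BT.leaf c3_32))) (BT.node 4534 (BT.node 4533 (BT.leaf c3_33) (BT.leaf c3_34)) (BT.leaf c3_35))) (BT.node 4539 (BT.node 4537 (BT.node 4536 (BT.leaf c3_36) (BT.leaf c3_37)) (BT.node 4538 (BT.leaf c3_38) (BT.leaf c3_39))) (BT.node 4541 (BT.node 4540 (BT.leaf c3_40) (BT.leaf c3_41)) (BT.leaf c3_42)))) (BT.node 4549 (BT.node 4546 (BT.node 4544 (BT.node 4543 (BT.leaf c3_43) (BT.leaf c3_44)) (BT.node 4545 (BT.leaf c3_45) (BT.leaf c3_46))) (BT.node 4548 (BT.node 4547 (BT.leaf c3_47) (BT.leaf c3_48)) (BT.leaf c3_49))) (BT.node 4553 (BT.node 4551 (BT.node 4550 (BT.leaf c3_50) (BT.leaf c3_51)) (BT.node 4552 (BT.leaf c3_52) (BT.leaf c3_53))) (BT.node 4555 (BT.node 4554 (BT.leaf c3_54) (BT.leaf c3_55))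 (BT.leaf c3_56)))))) (BT.node 4584 (BT.node 4570 (BT.node 4563 (BT.node 4560 (BT.node 4558 (BT.node 4557 (BT.leaf c3_57) (BT.leaf c3_58)) (BT.node 4559 (BT.leaf c3_59) (BT.leaf c3_60))) (BT.node 4562 (BT.node 4561 (BT.leaf c3_61) (BT.leaf c3_62)) (BT.leaf c3_63))) (BT.node 4567 (BT.node 4565 (BT.node 4564 (BT.leaf c3_64) (BT.leaf c3_65)) (BT.node 4566 (BT.leaf c3_66) (BT.leaf c3_67))) (BT.node 4569 (BT.node 4568 (BT.leaf c3_68) (BT.leaf c3_69)) (BT.leaf c3_70)))) (BT.node 4577 (BT.node 4574 (BT.node 4572 (BT.node 4571 (BT.leaf c3_71) (BT.leaf c3_72)) (BT.node 4573 (BT.leaf c3_73) (BT.leaf c3_74))) (BT.node 4576 (BT.node 4575 (BT.leaf c3_75) (BT.leaf c3_76)) (BT.leaf c3_77))) (BT.node 4581 (BT.node 4579 (BT.node 4578 (BT.leaf c3_78) (BT.leaf c3_79)) (BT.node 4580 (BT.leaf c3_80) (BT.leaf c3_81))) (BT.node 4583 (BT.node 4582 (BT.leaf c3_82) (BT.leaf c3_83)) (BT.leaf c3_84))))) (BT.node 4598 (BT.node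 4591 (BT.node 4588 (BT.node 4586 (BT.node 4585 (BT.leaf c3_85) (BT.leaf c3_86)) (BT.node 4587 (BT.leaf c3_87) (BT.leaf c3_88))) (BT.node 4590 (BT.node 4589 (BT.leaf c3_89) (BT.leaf c3_90)) (BT.leaf c3_91))) (BT.node 4595 (BT.node 4593 (BT.node 4592 (BT.leaf c3_92) (BT.leaf c3_93)) (BT.node 4594 (BT.leaf c3_94) (BT.leaf c3_95))) (BT.node 4597 (BT.node 4596 (BT.leaf c3_96) (BT.leaf c3_97)) (BT.leaf c3_98)))) (BT.node 4605 (BT.node 4602 (BT.node 4600 (BT.node 4599 (BT.leaf c3_99) (BT.leaf c3_100)) (BT.node 4601 (BT.leaf c3_101) (BT.leaf c3_102))) (BT.node 4604 (BT.node 4603 (BT.leaf c3_103) (BT.leaf c3_104)) (BT.leaf c3_105))) (BT.node 4609 (BT.node 4607 (BT.node 4606 (BT.leaf c3_106) (BT.leaf c3_107)) (BT.node 4608 (BT.leaf c3_108) (BT.leaf c3_109))) (BT.node 4611 (BT.node 4610 (BT.leaf c3_110) (BT.leaf c3_111)) (BT.leaf c3_112))))))) (BT.node 4668 (BT.node 4640 (BT.node 4626 (BT.node 4619 (BT.node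 4616 (BT.node 4614 (BT.node 4613 (BT.leaf c3_113) (BT.leaf c3_114)) (BT.node 4615 (BT.leaf c3_115) (BT.leaf c3_116))) (BT.node 4618 (BT.node 4617 (BT.leaf c3_117) (BT.leaf c3_118)) (BT.leaf c3_119))) (BT.node 4623 (BT.node 4621 (BT.node 4620 (BT.leaf c3_120) (BT.leaf c3_121)) (BT.node 4622 (BT.leaf c3_122) (BT.leaf c3_123))) (BT.node 4625 (BT.node 4624 (BT.leaf c3_124) (BT.leaf c3_125)) (BT.leaf c3_126)))) (BT.node 4633 (BT.node 4630 (BT.node 4628 (BT.node 4627 (BT.leaf c3_127) (BT.leaf c3_128)) (BT.node 4629 (BT.leaf c3_129) (BT.leaf c3_130))) (BT.node 4632 (BT.node 4631 (BT.leaf c3_131) (BT.leaf c3_132)) (BT.leaf c3_133))) (BT.node 4637 (BT.node 4635 (BT.node 4634 (BT.leaf c3_134) (BT.leaf c3_135)) (BT.node 4636 (BT.leaf c3_136) (BT.leaf c3_137))) (BT.node 4639 (BT.node 4638 (BT.leaf c3_138) (BT.leaf c3_139)) (BT.leaf c3_140))))) (BT.node 4654 (BT.node 4647 (BT.node 4644 (BT.node 4642 (BT.node 4641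 (BT.leaf c3_141) (BT.leaf c3_142)) (BT.node 4643 (BT.leaf c3_143) (BT.leaf c3_144))) (BT.node 4646 (BT.node 4645 (BT.leaf c3_145) (BT.leaf c3_146)) (BT.leaf c3_147))) (BT.node 4651 (BT.node 4649 (BT.node 4648 (BT.leaf c3_148) (BT.leaf c3_149)) (BT.node 4650 (BT.leaf c3_150) (BT.leaf c3_151))) (BT.node 4653 (BT.node 4652 (BT.leaf c3_152) (BT.leaf c3_153)) (BT.leaf c3_154)))) (BT.node 4661 (BT.node 4658 (BT.node 4656 (BT.node 4655 (BT.leaf c3_155) (BT.leaf c3_156)) (BT.node 4657 (BT.leaf c3_157) (BT.leaf c3_158))) (BT.node 4660 (BT.node 4659 (BT.leaf c3_159) (BT.leaf c3_160)) (BT.leaf c3_161))) (BT.node 4665 (BT.node 4663 (BT.node 4662 (BT.leaf c3_162) (BT.leaf c3_163)) (BT.node 4664 (BT.leaf c3_164) (BT.leaf c3_165))) (BT.node 4667 (BT.node 4666 (BT.leaf c3_166) (BT.leaf c3_167)) (BT.leaf c3_168)))))) (BT.node 4696 (BT.node 4682 (BT.node 4675 (BT.node 4672 (BT.node 4670 (BT.node 4669 (BT.leaf c3_169)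 (BT.leaf c3_170)) (BT.node 4671 (BT.leaf c3_171) (BT.leaf c3_172))) (BT.node 4674 (BT.node 4673 (BT.leaf c3_173) (BT.leaf c3_174)) (BT.leaf c3_175))) (BT.node 4679 (BT.node 4677 (BT.node 4676 (BT.leaf c3_176) (BT.leaf c3_177)) (BT.node 4678 (BT.leaf c3_178) (BT.leaf c3_179))) (BT.node 4681 (BT.node 4680 (BT.leaf c3_180) (BT.leaf c3_181)) (BT.leaf c3_182)))) (BT.node 4689 (BT.node 4686 (BT.node 4684 (BT.node 4683 (BT.leaf c3_183) (BT.leaf c3_184)) (BT.node 4685 (BT.leaf c3_185) (BT.leaf c3_186))) (BT.node 4688 (BT.node 4687 (BT.leaf c3_187) (BT.leaf c3_188)) (BT.leaf c3_189))) (BT.node 4693 (BT.node 4691 (BT.node 4690 (BT.leaf c3_190) (BT.leaf c3_191)) (BT.node 4692 (BT.leaf c3_192) (BT.leaf c3_193))) (BT.node 4695 (BT.node 4694 (BT.leaf c3_194) (BT.leaf c3_195)) (BT.leaf c3_196))))) (BT.node 4710 (BT.node 4703 (BT.node 4700 (BT.node 4698 (BT.node 4697 (BT.leaf c3_197) (BT.leaf c3_198)) (BT.node 4699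 (BT.leaf c3_199) (BT.leaf c3_200))) (BT.node 4702 (BT.node 4701 (BT.leaf c3_201) (BT.leaf c3_202)) (BT.leaf c3_203))) (BT.node 4707 (BT.node 4705 (BT.node 4704 (BT.leaf c3_204) (BT.leaf c3_205)) (BT.node 4706 (BT.leaf c3_206) (BT.leaf c3_207))) (BT.node 4709 (BT.node 4708 (BT.leaf c3_208) (BT.leaf c3_209)) (BT.leaf c3_210)))) (BT.node 4717 (BT.node 4714 (BT.node 4712 (BT.node 4711 (BT.leaf c3_211) (BT.leaf c3_212)) (BT.node 4713 (BT.leaf c3_213) (BT.leaf c3_214))) (BT.node 4716 (BT.node 4715 (BT.leaf c3_215) (BT.leaf c3_216)) (BT.leaf c3_217))) (BT.node 4721 (BT.node 4719 (BT.node 4718 (BT.leaf c3_218) (BT.leaf c3_219)) (BT.node 4720 (BT.leaf c3_220) (BT.leaf c3_221))) (BT.node 4723 (BT.node 4722 (BT.leaf c3_222) (BT.leaf c3_223)) (BT.leaf c3_224)))))))) (BT.node 4837 (BT.node 4781 (BT.node 4753 (BT.node 4739 (BT.node 4732 (BT.node 4728 (BT.node 4726 (BT.node 4725 (BT.leaf c3_225) (BT.leaf c3_226))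 (BT.node 4727 (BT.leaf c3_227) (BT.leaf c3_228))) (BT.node 4730 (BT.node 4729 (BT.leaf c3_229) (BT.leaf c3_230)) (BT.node 4731 (BT.leaf c3_231) (BT.leaf c3_232)))) (BT.node 4736 (BT.node 4734 (BT.node 4733 (BT.leaf c3_233) (BT.leaf c3_234)) (BT.node 4735 (BT.leaf c3_235) (BT.leaf c3_236))) (BT.node 4738 (BT.node 4737 (BT.leaf c3_237) (BT.leaf c3_238)) (BT.leaf c3_239)))) (BT.node 4746 (BT.node 4743 (BT.node 4741 (BT.node 4740 (BT.leaf c3_240) (BT.leaf c3_241)) (BT.node 4742 (BT.leaf c3_242) (BT.leaf c3_243))) (BT.node 4745 (BT.node 4744 (BT.leaf c3_244) (BT.leaf c3_245)) (BT.leaf c3_246))) (BT.node 4750 (BT.node 4748 (BT.node 4747 (BT.leaf c3_247) (BT.leaf c3_248)) (BT.node 4749 (BT.leaf c3_249) (BT.leaf c3_250))) (BT.node 4752 (BT.node 4751 (BT.leaf c3_251) (BT.leaf c3_252)) (BT.leaf c3_253))))) (BT.node 4767 (BT.node 4760 (BT.node 4757 (BT.node 4755 (BT.node 4754 (BT.leaf c3_254) (BT.leaf c3_255))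 (BT.node 4756 (BT.leaf c3_256) (BT.leaf c3_257))) (BT.node 4759 (BT.node 4758 (BT.leaf c3_258) (BT.leaf c3_259)) (BT.leaf c3_260))) (BT.node 4764 (BT.node 4762 (BT.node 4761 (BT.leaf c3_261) (BT.leaf c3_262)) (BT.node 4763 (BT.leaf c3_263) (BT.leaf c3_264))) (BT.node 4766 (BT.node 4765 (BT.leaf c3_265) (BT.leaf c3_266)) (BT.leaf c3_267)))) (BT.node 4774 (BT.node 4771 (BT.node 4769 (BT.node 4768 (BT.leaf c3_268) (BT.leaf c3_269)) (BT.node 4770 (BT.leaf c3_270) (BT.leaf c3_271))) (BT.node 4773 (BT.node 4772 (BT.leaf c3_272) (BT.leaf c3_273)) (BT.leaf c3_274))) (BT.node 4778 (BT.node 4776 (BT.node 4775 (BT.leaf c3_275) (BT.leaf c3_276)) (BT.node 4777 (BT.leaf c3_277) (BT.leaf c3_278))) (BT.node 4780 (BT.node 4779 (BT.leaf c3_279) (BT.leaf c3_280)) (BT.leaf c3_281)))))) (BT.node 4809 (BT.node 4795 (BT.node 4788 (BT.node 4785 (BT.node 4783 (BT.node 4782 (BT.leaf c3_282) (BT.leaf c3_283)) (BT.node 4784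 (BT.leaf c3_284) (BT.leaf c3_285))) (BT.node 4787 (BT.node 4786 (BT.leaf c3_286) (BT.leaf c3_287)) (BT.leaf c3_288))) (BT.node 4792 (BT.node 4790 (BT.node 4789 (BT.leaf c3_289) (BT.leaf c3_290)) (BT.node 4791 (BT.leaf c3_291) (BT.leaf c3_292))) (BT.node 4794 (BT.node 4793 (BT.leaf c3_293) (BT.leaf c3_294)) (BT.leaf c3_295)))) (BT.node 4802 (BT.node 4799 (BT.node 4797 (BT.node 4796 (BT.leaf c3_296) (BT.leaf c3_297)) (BT.node 4798 (BT.leaf c3_298) (BT.leaf c3_299))) (BT.node 4801 (BT.node 4800 (BT.leaf c3_300) (BT.leaf c3_301)) (BT.leaf c3_302))) (BT.node 4806 (BT.node 4804 (BT.node 4803 (BT.leaf c3_303) (BT.leaf c3_304)) (BT.node 4805 (BT.leaf c3_305) (BT.leaf c3_306))) (BT.node 4808 (BT.node 4807 (BT.leaf c3_307) (BT.leaf c3_308)) (BT.leaf c3_309))))) (BT.node 4823 (BT.node 4816 (BT.node 4813 (BT.node 4811 (BT.node 4810 (BT.leaf c3_310) (BT.leaf c3_311)) (BT.node 4812 (BT.leaf c3_312) (BT.leaf c3_313)))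 (BT.node 4815 (BT.node 4814 (BT.leaf c3_314) (BT.leaf c3_315)) (BT.leaf c3_316))) (BT.node 4820 (BT.node 4818 (BT.node 4817 (BT.leaf c3_317) (BT.leaf c3_318)) (BT.node 4819 (BT.leaf c3_319) (BT.leaf c3_320))) (BT.node 4822 (BT.node 4821 (BT.leaf c3_321) (BT.leaf c3_322)) (BT.leaf c3_323)))) (BT.node 4830 (BT.node 4827 (BT.node 4825 (BT.node 4824 (BT.leaf c3_324) (BT.leaf c3_325)) (BT.node 4826 (BT.leaf c3_326) (BT.leaf c3_327))) (BT.node 4829 (BT.node 4828 (BT.leaf c3_328) (BT.leaf c3_329)) (BT.leaf c3_330))) (BT.node 4834 (BT.node 4832 (BT.node 4831 (BT.leaf c3_331) (BT.leaf c3_332)) (BT.node 4833 (BT.leaf c3_333) (BT.leaf c3_334))) (BT.node 4836 (BT.node 4835 (BT.leaf c3_335) (BT.leaf c3_336)) (BT.leaf c3_337))))))) (BT.node 4893 (BT.node 4865 (BT.node 4851 (BT.node 4844 (BT.node 4841 (BT.node 4839 (BT.node 4838 (BT.leaf c3_338) (BT.leaf c3_339)) (BT.node 4840 (BT.leaf c3_340) (BT.leaf c3_341)))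 (BT.node 4843 (BT.node 4842 (BT.leaf c3_342) (BT.leaf c3_343)) (BT.leaf c3_344))) (BT.node 4848 (BT.node 4846 (BT.node 4845 (BT.leaf c3_345) (BT.leaf c3_346)) (BT.node 4847 (BT.leaf c3_347) (BT.leaf c3_348))) (BT.node 4850 (BT.node 4849 (BT.leaf c3_349) (BT.leaf c3_350)) (BT.leaf c3_351)))) (BT.node 4858 (BT.node 4855 (BT.node 4853 (BT.node 4852 (BT.leaf c3_352) (BT.leaf c3_353)) (BT.node 4854 (BT.leaf c3_354) (BT.leaf c3_355))) (BT.node 4857 (BT.node 4856 (BT.leaf c3_356) (BT.leaf c3_357)) (BT.leaf c3_358))) (BT.node 4862 (BT.node 4860 (BT.node 4859 (BT.leaf c3_359) (BT.leaf c3_360)) (BT.node 4861 (BT.leaf c3_361) (BT.leaf c3_362))) (BT.node 4864 (BT.node 4863 (BT.leaf c3_363) (BT.leaf c3_364)) (BT.leaf c3_365))))) (BT.node 4879 (BT.node 4872 (BT.node 4869 (BT.node 4867 (BT.node 4866 (BT.leaf c3_366) (BT.leaf c3_367)) (BT.node 4868 (BT.leaf c3_368) (BT.leaf c3_369))) (BT.node 4871 (BT.node 4870 (BT.leaf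 c3_370) (BT.leaf c3_371)) (BT.leaf c3_372))) (BT.node 4876 (BT.node 4874 (BT.node 4873 (BT.leaf c3_373) (BT.leaf c3_374)) (BT.node 4875 (BT.leaf c3_375) (BT.leaf c3_376))) (BT.node 4878 (BT.node 4877 (BT.leaf c3_377) (BT.leaf c3_378)) (BT.leaf c3_379)))) (BT.node 4886 (BT.node 4883 (BT.node 4881 (BT.node 4880 (BT.leaf c3_380) (BT.leaf c3_381)) (BT.node 4882 (BT.leaf c3_382) (BT.leaf c3_383))) (BT.node 4885 (BT.node 4884 (BT.leaf c3_384) (BT.leaf c3_385)) (BT.leaf c3_386))) (BT.node 4890 (BT.node 4888 (BT.node 4887 (BT.leaf c3_387) (BT.leaf c3_388)) (BT.node 4889 (BT.leaf c3_389) (BT.leaf c3_390))) (BT.node 4892 (BT.node 4891 (BT.leaf c3_391) (BT.leaf c3_392)) (BT.leaf c3_393)))))) (BT.node 4921 (BT.node 4907 (BT.node 4900 (BT.node 4897 (BT.node 4895 (BT.node 4894 (BT.leaf c3_394) (BT.leaf c3_395)) (BT.node 4896 (BT.leaf c3_396) (BT.leaf c3_397))) (BT.node 4899 (BT.node 4898 (BT.leaf c3_398) (BT.leaf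 c3_399)) (BT.leaf c3_400))) (BT.node 4904 (BT.node 4902 (BT.node 4901 (BT.leaf c3_401) (BT.leaf c3_402)) (BT.node 4903 (BT.leaf c3_403) (BT.leaf c3_404))) (BT.node 4906 (BT.node 4905 (BT.leaf c3_405) (BT.leaf c3_406)) (BT.leaf c3_407)))) (BT.node 4914 (BT.node 4911 (BT.node 4909 (BT.node 4908 (BT.leaf c3_408) (BT.leaf c3_409)) (BT.node 4910 (BT.leaf c3_410) (BT.leaf c3_411))) (BT.node 4913 (BT.node 4912 (BT.leaf c3_412) (BT.leaf c3_413)) (BT.leaf c3_414))) (BT.node 4918 (BT.node 4916 (BT.node 4915 (BT.leaf c3_415) (BT.leaf c3_416)) (BT.node 4917 (BT.leaf c3_417) (BT.leaf c3_418))) (BT.node 4920 (BT.node 4919 (BT.leaf c3_419) (BT.leaf c3_420)) (BT.leaf c3_421))))) (BT.node 4935 (BT.node 4928 (BT.node 4925 (BT.node 4923 (BT.node 4922 (BT.leaf c3_422) (BT.leaf c3_423)) (BT.node 4924 (BT.leaf c3_424) (BT.leaf c3_425))) (BT.node 4927 (BT.node 4926 (BT.leaf c3_426) (BT.leaf c3_427)) (BT.leaf c3_428))) (BT.node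 4932 (BT.node 4930 (BT.node 4929 (BT.leaf c3_429) (BT.leaf c3_430)) (BT.node 4931 (BT.leaf c3_431) (BT.leaf c3_432))) (BT.node 4934 (BT.node 4933 (BT.leaf c3_433) (BT.leaf c3_434)) (BT.leaf c3_435)))) (BT.node 4942 (BT.node 4939 (BT.node 4937 (BT.node 4936 (BT.leaf c3_436) (BT.leaf c3_437)) (BT.node 4938 (BT.leaf c3_438) (BT.leaf c3_439))) (BT.node 4941 (BT.node 4940 (BT.leaf c3_440) (BT.leaf c3_441)) (BT.leaf c3_442))) (BT.node 4946 (BT.node 4944 (BT.node 4943 (BT.leaf c3_443) (BT.leaf c3_444)) (BT.node 4945 (BT.leaf c3_445) (BT.leaf c3_446))) (BT.node 4948 (BT.node 4947 (BT.leaf c3_447) (BT.leaf c3_448)) (BT.leaf c3_449))))))))) (BT.node 5174 (BT.node 5062 (BT.node 5006 (BT.node 4978 (BT.node 4964 (BT.node 4957 (BT.node 4953 (BT.node 4951 (BT.node 4950 (BT.leaf c3_450) (BT.leaf c3_451)) (BT.node 4952 (BT.leaf c3_452) (BT.leaf c3_453))) (BT.node 4955 (BT.node 4954 (BT.leaf c3_454) (BT.leaf c3_455))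 (BT.node 4956 (BT.leaf c3_456) (BT.leaf c3_457)))) (BT.node 4961 (BT.node 4959 (BT.node 4958 (BT.leaf c3_458) (BT.leaf c3_459)) (BT.node 4960 (BT.leaf c3_460) (BT.leaf c3_461))) (BT.node 4963 (BT.node 4962 (BT.leaf c3_462) (BT.leaf c3_463)) (BT.leaf c3_464)))) (BT.node 4971 (BT.node 4968 (BT.node 4966 (BT.node 4965 (BT.leaf c3_465) (BT.leaf c3_466)) (BT.node 4967 (BT.leaf c3_467) (BT.leaf c3_468))) (BT.node 4970 (BT.node 4969 (BT.leaf c3_469) (BT.leaf c3_470)) (BT.leaf c3_471))) (BT.node 4975 (BT.node 4973 (BT.node 4972 (BT.leaf c3_472) (BT.leaf c3_473)) (BT.node 4974 (BT.leaf c3_474) (BT.leaf c3_475))) (BT.node 4977 (BT.node 4976 (BT.leaf c3_476) (BT.leaf c3_477)) (BT.leaf c3_478))))) (BT.node 4992 (BT.node 4985 (BT.node 4982 (BT.node 4980 (BT.node 4979 (BT.leaf c3_479) (BT.leaf c3_480)) (BT.node 4981 (BT.leaf c3_481) (BT.leaf c3_482))) (BT.node 4984 (BT.node 4983 (BT.leaf c3_483) (BT.leaf c3_484))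 (BT.leaf c3_485))) (BT.node 4989 (BT.node 4987 (BT.node 4986 (BT.leaf c3_486) (BT.leaf c3_487)) (BT.node 4988 (BT.leaf c3_488) (BT.leaf c3_489))) (BT.node 4991 (BT.node 4990 (BT.leaf c3_490) (BT.leaf c3_491)) (BT.leaf c3_492)))) (BT.node 4999 (BT.node 4996 (BT.node 4994 (BT.node 4993 (BT.leaf c3_493) (BT.leaf c3_494)) (BT.node 4995 (BT.leaf c3_495) (BT.leaf c3_496))) (BT.node 4998 (BT.node 4997 (BT.leaf c3_497) (BT.leaf c3_498)) (BT.leaf c3_499))) (BT.node 5003 (BT.node 5001 (BT.node 5000 (BT.leaf c3_500) (BT.leaf c3_501)) (BT.node 5002 (BT.leaf c3_502) (BT.leaf c3_503))) (BT.node 5005 (BT.node 5004 (BT.leaf c3_504) (BT.leaf c3_505)) (BT.leaf c3_506)))))) (BT.node 5034 (BT.node 5020 (BT.node 5013 (BT.node 5010 (BT.node 5008 (BT.node 5007 (BT.leaf c3_507) (BT.leaf c3_508)) (BT.node 5009 (BT.leaf c3_509) (BT.leaf c3_510))) (BT.node 5012 (BT.node 5011 (BT.leaf c3_511) (BT.leaf c3_512)) (BT.leaf c3_513)))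 (BT.node 5017 (BT.node 5015 (BT.node 5014 (BT.leaf c3_514) (BT.leaf c3_515)) (BT.node 5016 (BT.leaf c3_516) (BT.leaf c3_517))) (BT.node 5019 (BT.node 5018 (BT.leaf c3_518) (BT.leaf c3_519)) (BT.leaf c3_520)))) (BT.node 5027 (BT.node 5024 (BT.node 5022 (BT.node 5021 (BT.leaf c3_521) (BT.leaf c3_522)) (BT.node 5023 (BT.leaf c3_523) (BT.leaf c3_524))) (BT.node 5026 (BT.node 5025 (BT.leaf c3_525) (BT.leaf c3_526)) (BT.leaf c3_527))) (BT.node 5031 (BT.node 5029 (BT.node 5028 (BT.leaf c3_528) (BT.leaf c3_529)) (BT.node 5030 (BT.leaf c3_530) (BT.leaf c3_531))) (BT.node 5033 (BT.node 5032 (BT.leaf c3_532) (BT.leaf c3_533)) (BT.leaf c3_534))))) (BT.node 5048 (BT.node 5041 (BT.node 5038 (BT.node 5036 (BT.node 5035 (BT.leaf c3_535) (BT.leaf c3_536)) (BT.node 5037 (BT.leaf c3_537) (BT.leaf c3_538))) (BT.node 5040 (BT.node 5039 (BT.leaf c3_539) (BT.leaf c3_540)) (BT.leaf c3_541))) (BT.node 5045 (BT.node 5043 (BT.node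 5042 (BT.leaf c3_542) (BT.leaf c3_543)) (BT.node 5044 (BT.leaf c3_544) (BT.leaf c3_545))) (BT.node 5047 (BT.node 5046 (BT.leaf c3_546) (BT.leaf c3_547)) (BT.leaf c3_548)))) (BT.node 5055 (BT.node 5052 (BT.node 5050 (BT.node 5049 (BT.leaf c3_549) (BT.leaf c3_550)) (BT.node 5051 (BT.leaf c3_551) (BT.leaf c3_552))) (BT.node 5054 (BT.node 5053 (BT.leaf c3_553) (BT.leaf c3_554)) (BT.leaf c3_555))) (BT.node 5059 (BT.node 5057 (BT.node 5056 (BT.leaf c3_556) (BT.leaf c3_557)) (BT.node 5058 (BT.leaf c3_558) (BT.leaf c3_559))) (BT.node 5061 (BT.node 5060 (BT.leaf c3_560) (BT.leaf c3_561)) (BT.leaf c3_562))))))) (BT.node 5118 (BT.node 5090 (BT.node 5076 (BT.node 5069 (BT.node 5066 (BT.node 5064 (BT.node 5063 (BT.leaf c3_563) (BT.leaf c3_564)) (BT.node 5065 (BT.leaf c3_565) (BT.leaf c3_566))) (BT.node 5068 (BT.node 5067 (BT.leaf c3_567) (BT.leaf c3_568)) (BT.leaf c3_569))) (BT.node 5073 (BT.node 5071 (BT.node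 5070 (BT.leaf c3_570) (BT.leaf c3_571)) (BT.node 5072 (BT.leaf c3_572) (BT.leaf c3_573))) (BT.node 5075 (BT.node 5074 (BT.leaf c3_574) (BT.leaf c3_575)) (BT.leaf c3_576)))) (BT.node 5083 (BT.node 5080 (BT.node 5078 (BT.node 5077 (BT.leaf c3_577) (BT.leaf c3_578)) (BT.node 5079 (BT.leaf c3_579) (BT.leaf c3_580))) (BT.node 5082 (BT.node 5081 (BT.leaf c3_581) (BT.leaf c3_582)) (BT.leaf c3_583))) (BT.node 5087 (BT.node 5085 (BT.node 5084 (BT.leaf c3_584) (BT.leaf c3_585)) (BT.node 5086 (BT.leaf c3_586) (BT.leaf c3_587))) (BT.node 5089 (BT.node 5088 (BT.leaf c3_588) (BT.leaf c3_589)) (BT.leaf c3_590))))) (BT.node 5104 (BT.node 5097 (BT.node 5094 (BT.node 5092 (BT.node 5091 (BT.leaf c3_591) (BT.leaf c3_592)) (BT.node 5093 (BT.leaf c3_593) (BT.leaf c3_594))) (BT.node 5096 (BT.node 5095 (BT.leaf c3_595) (BT.leaf c3_596)) (BT.leaf c3_597))) (BT.node 5101 (BT.node 5099 (BT.node 5098 (BT.leaf c3_598) (BT.leaf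 c3_599)) (BT.node 5100 (BT.leaf c3_600) (BT.leaf c3_601))) (BT.node 5103 (BT.node 5102 (BT.leaf c3_602) (BT.leaf c3_603)) (BT.leaf c3_604)))) (BT.node 5111 (BT.node 5108 (BT.node 5106 (BT.node 5105 (BT.leaf c3_605) (BT.leaf c3_606)) (BT.node 5107 (BT.leaf c3_607) (BT.leaf c3_608))) (BT.node 5110 (BT.node 5109 (BT.leaf c3_609) (BT.leaf c3_610)) (BT.leaf c3_611))) (BT.node 5115 (BT.node 5113 (BT.node 5112 (BT.leaf c3_612) (BT.leaf c3_613)) (BT.node 5114 (BT.leaf c3_614) (BT.leaf c3_615))) (BT.node 5117 (BT.node 5116 (BT.leaf c3_616) (BT.leaf c3_617)) (BT.leaf c3_618)))))) (BT.node 5146 (BT.node 5132 (BT.node 5125 (BT.node 5122 (BT.node 5120 (BT.node 5119 (BT.leaf c3_619) (BT.leaf c3_620)) (BT.node 5121 (BT.leaf c3_621) (BT.leaf c3_622))) (BT.node 5124 (BT.node 5123 (BT.leaf c3_623) (BT.leaf c3_624)) (BT.leaf c3_625))) (BT.node 5129 (BT.node 5127 (BT.node 5126 (BT.leaf c3_626) (BT.leaf c3_627)) (BT.node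 5128 (BT.leaf c3_628) (BT.leaf c3_629))) (BT.node 5131 (BT.node 5130 (BT.leaf c3_630) (BT.leaf c3_631)) (BT.leaf c3_632)))) (BT.node 5139 (BT.node 5136 (BT.node 5134 (BT.node 5133 (BT.leaf c3_633) (BT.leaf c3_634)) (BT.node 5135 (BT.leaf c3_635) (BT.leaf c3_636))) (BT.node 5138 (BT.node 5137 (BT.leaf c3_637) (BT.leaf c3_638)) (BT.leaf c3_639))) (BT.node 5143 (BT.node 5141 (BT.node 5140 (BT.leaf c3_640) (BT.leaf c3_641)) (BT.node 5142 (BT.leaf c3_642) (BT.leaf c3_643))) (BT.node 5145 (BT.node 5144 (BT.leaf c3_644) (BT.leaf c3_645)) (BT.leaf c3_646))))) (BT.node 5160 (BT.node 5153 (BT.node 5150 (BT.node 5148 (BT.node 5147 (BT.leaf c3_647) (BT.leaf c3_648)) (BT.node 5149 (BT.leaf c3_649) (BT.leaf c3_650))) (BT.node 5152 (BT.node 5151 (BT.leaf c3_651) (BT.leaf c3_652)) (BT.leaf c3_653))) (BT.node 5157 (BT.node 5155 (BT.node 5154 (BT.leaf c3_654) (BT.leaf c3_655)) (BT.node 5156 (BT.leaf c3_656) (BT.leaf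 c3_657))) (BT.node 5159 (BT.node 5158 (BT.leaf c3_658) (BT.leaf c3_659)) (BT.leaf c3_660)))) (BT.node 5167 (BT.node 5164 (BT.node 5162 (BT.node 5161 (BT.leaf c3_661) (BT.leaf c3_662)) (BT.node 5163 (BT.leaf c3_663) (BT.leaf c3_664))) (BT.node 5166 (BT.node 5165 (BT.leaf c3_665) (BT.leaf c3_666)) (BT.leaf c3_667))) (BT.node 5171 (BT.node 5169 (BT.node 5168 (BT.leaf c3_668) (BT.leaf c3_669)) (BT.node 5170 (BT.leaf c3_670) (BT.leaf c3_671))) (BT.node 5173 (BT.node 5172 (BT.leaf c3_672) (BT.leaf c3_673)) (BT.leaf c3_674)))))))) (BT.node 5287 (BT.node 5231 (BT.node 5203 (BT.node 5189 (BT.node 5182 (BT.node 5178 (BT.node 5176 (BT.node 5175 (BT.leaf c3_675) (BT.leaf c3_676)) (BT.node 5177 (BT.leaf c3_677) (BT.leaf c3_678))) (BT.node 5180 (BT.node 5179 (BT.leaf c3_679) (BT.leaf c3_680)) (BT.node 5181 (BT.leaf c3_681) (BT.leaf c3_682)))) (BT.node 5186 (BT.node 5184 (BT.node 5183 (BT.leaf c3_683) (BT.leaf c3_684))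 (BT.node 5185 (BT.leaf c3_685) (BT.leaf c3_686))) (BT.node 5188 (BT.node 5187 (BT.leaf c3_687) (BT.leaf c3_688)) (BT.leaf c3_689)))) (BT.node 5196 (BT.node 5193 (BT.node 5191 (BT.node 5190 (BT.leaf c3_690) (BT.leaf c3_691)) (BT.node 5192 (BT.leaf c3_692) (BT.leaf c3_693))) (BT.node 5195 (BT.node 5194 (BT.leaf c3_694) (BT.leaf c3_695)) (BT.leaf c3_696))) (BT.node 5200 (BT.node 5198 (BT.node 5197 (BT.leaf c3_697) (BT.leaf c3_698)) (BT.node 5199 (BT.leaf c3_699) (BT.leaf c3_700))) (BT.node 5202 (BT.node 5201 (BT.leaf c3_701) (BT.leaf c3_702)) (BT.leaf c3_703))))) (BT.node 5217 (BT.node 5210 (BT.node 5207 (BT.node 5205 (BT.node 5204 (BT.leaf c3_704) (BT.leaf c3_705)) (BT.node 5206 (BT.leaf c3_706) (BT.leaf c3_707))) (BT.node 5209 (BT.node 5208 (BT.leaf c3_708) (BT.leaf c3_709)) (BT.leaf c3_710))) (BT.node 5214 (BT.node 5212 (BT.node 5211 (BT.leaf c3_711) (BT.leaf c3_712)) (BT.node 5213 (BT.leaf c3_713)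 (BT.leaf c3_714))) (BT.node 5216 (BT.node 5215 (BT.leaf c3_715) (BT.leaf c3_716)) (BT.leaf c3_717)))) (BT.node 5224 (BT.node 5221 (BT.node 5219 (BT.node 5218 (BT.leaf c3_718) (BT.leaf c3_719)) (BT.node 5220 (BT.leaf c3_720) (BT.leaf c3_721))) (BT.node 5223 (BT.node 5222 (BT.leaf c3_722) (BT.leaf c3_723)) (BT.leaf c3_724))) (BT.node 5228 (BT.node 5226 (BT.node 5225 (BT.leaf c3_725) (BT.leaf c3_726)) (BT.node 5227 (BT.leaf c3_727) (BT.leaf c3_728))) (BT.node 5230 (BT.node 5229 (BT.leaf c3_729) (BT.leaf c3_730)) (BT.leaf c3_731)))))) (BT.node 5259 (BT.node 5245 (BT.node 5238 (BT.node 5235 (BT.node 5233 (BT.node 5232 (BT.leaf c3_732) (BT.leaf c3_733)) (BT.node 5234 (BT.leaf c3_734) (BT.leaf c3_735))) (BT.node 5237 (BT.node 5236 (BT.leaf c3_736) (BT.leaf c3_737)) (BT.leaf c3_738))) (BT.node 5242 (BT.node 5240 (BT.node 5239 (BT.leaf c3_739) (BT.leaf c3_740)) (BT.node 5241 (BT.leaf c3_741) (BT.leaf c3_742)))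 (BT.node 5244 (BT.node 5243 (BT.leaf c3_743) (BT.leaf c3_744)) (BT.leaf c3_745)))) (BT.node 5252 (BT.node 5249 (BT.node 5247 (BT.node 5246 (BT.leaf c3_746) (BT.leaf c3_747)) (BT.node 5248 (BT.leaf c3_748) (BT.leaf c3_749))) (BT.node 5251 (BT.node 5250 (BT.leaf c3_750) (BT.leaf c3_751)) (BT.leaf c3_752))) (BT.node 5256 (BT.node 5254 (BT.node 5253 (BT.leaf c3_753) (BT.leaf c3_754)) (BT.node 5255 (BT.leaf c3_755) (BT.leaf c3_756))) (BT.node 5258 (BT.node 5257 (BT.leaf c3_757) (BT.leaf c3_758)) (BT.leaf c3_759))))) (BT.node 5273 (BT.node 5266 (BT.node 5263 (BT.node 5261 (BT.node 5260 (BT.leaf c3_760) (BT.leaf c3_761)) (BT.node 5262 (BT.leaf c3_762) (BT.leaf c3_763))) (BT.node 5265 (BT.node 5264 (BT.leaf c3_764) (BT.leaf c3_765)) (BT.leaf c3_766))) (BT.node 5270 (BT.node 5268 (BT.node 5267 (BT.leaf c3_767) (BT.leaf c3_768)) (BT.node 5269 (BT.leaf c3_769) (BT.leaf c3_770))) (BT.node 5272 (BT.node 5271 (BT.leaf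 c3_771) (BT.leaf c3_772)) (BT.leaf c3_773)))) (BT.node 5280 (BT.node 5277 (BT.node 5275 (BT.node 5274 (BT.leaf c3_774) (BT.leaf c3_775)) (BT.node 5276 (BT.leaf c3_776) (BT.leaf c3_777))) (BT.node 5279 (BT.node 5278 (BT.leaf c3_778) (BT.leaf c3_779)) (BT.leaf c3_780))) (BT.node 5284 (BT.node 5282 (BT.node 5281 (BT.leaf c3_781) (BT.leaf c3_782)) (BT.node 5283 (BT.leaf c3_783) (BT.leaf c3_784))) (BT.node 5286 (BT.node 5285 (BT.leaf c3_785) (BT.leaf c3_786)) (BT.leaf c3_787))))))) (BT.node 5343 (BT.node 5315 (BT.node 5301 (BT.node 5294 (BT.node 5291 (BT.node 5289 (BT.node 5288 (BT.leaf c3_788) (BT.leaf c3_789)) (BT.node 5290 (BT.leaf c3_790) (BT.leaf c3_791))) (BT.node 5293 (BT.node 5292 (BT.leaf c3_792) (BT.leaf c3_793)) (BT.leaf c3_794))) (BT.node 5298 (BT.node 5296 (BT.node 5295 (BT.leaf c3_795) (BT.leaf c3_796)) (BT.node 5297 (BT.leaf c3_797) (BT.leaf c3_798))) (BT.node 5300 (BT.node 5299 (BT.leaf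 c3_799) (BT.leaf c3_800)) (BT.leaf c3_801)))) (BT.node 5308 (BT.node 5305 (BT.node 5303 (BT.node 5302 (BT.leaf c3_802) (BT.leaf c3_803)) (BT.node 5304 (BT.leaf c3_804) (BT.leaf c3_805))) (BT.node 5307 (BT.node 5306 (BT.leaf c3_806) (BT.leaf c3_807)) (BT.leaf c3_808))) (BT.node 5312 (BT.node 5310 (BT.node 5309 (BT.leaf c3_809) (BT.leaf c3_810)) (BT.node 5311 (BT.leaf c3_811) (BT.leaf c3_812))) (BT.node 5314 (BT.node 5313 (BT.leaf c3_813) (BT.leaf c3_814)) (BT.leaf c3_815))))) (BT.node 5329 (BT.node 5322 (BT.node 5319 (BT.node 5317 (BT.node 5316 (BT.leaf c3_816) (BT.leaf c3_817)) (BT.node 5318 (BT.leaf c3_818) (BT.leaf c3_819))) (BT.node 5321 (BT.node 5320 (BT.leaf c3_820) (BT.leaf c3_821)) (BT.leaf c3_822))) (BT.node 5326 (BT.node 5324 (BT.node 5323 (BT.leaf c3_823) (BT.leaf c3_824)) (BT.node 5325 (BT.leaf c3_825) (BT.leaf c3_826))) (BT.node 5328 (BT.node 5327 (BT.leaf c3_827) (BT.leaf c3_828)) (BT.leaf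 c3_829)))) (BT.node 5336 (BT.node 5333 (BT.node 5331 (BT.node 5330 (BT.leaf c3_830) (BT.leaf c3_831)) (BT.node 5332 (BT.leaf c3_832) (BT.leaf c3_833))) (BT.node 5335 (BT.node 5334 (BT.leaf c3_834) (BT.leaf c3_835)) (BT.leaf c3_836))) (BT.node 5340 (BT.node 5338 (BT.node 5337 (BT.leaf c3_837) (BT.leaf c3_838)) (BT.node 5339 (BT.leaf c3_839) (BT.leaf c3_840))) (BT.node 5342 (BT.node 5341 (BT.leaf c3_841) (BT.leaf c3_842)) (BT.leaf c3_843)))))) (BT.node 5371 (BT.node 5357 (BT.node 5350 (BT.node 5347 (BT.node 5345 (BT.node 5344 (BT.leaf c3_844) (BT.leaf c3_845)) (BT.node 5346 (BT.leaf c3_846) (BT.leaf c3_847))) (BT.node 5349 (BT.node 5348 (BT.leaf c3_848) (BT.leaf c3_849)) (BT.leaf c3_850))) (BT.node 5354 (BT.node 5352 (BT.node 5351 (BT.leaf c3_851) (BT.leaf c3_852)) (BT.node 5353 (BT.leaf c3_853) (BT.leaf c3_854))) (BT.node 5356 (BT.node 5355 (BT.leaf c3_855) (BT.leaf c3_856)) (BT.leaf c3_857)))) (BT.node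 5364 (BT.node 5361 (BT.node 5359 (BT.node 5358 (BT.leaf c3_858) (BT.leaf c3_859)) (BT.node 5360 (BT.leaf c3_860) (BT.leaf c3_861))) (BT.node 5363 (BT.node 5362 (BT.leaf c3_862) (BT.leaf c3_863)) (BT.leaf c3_864))) (BT.node 5368 (BT.node 5366 (BT.node 5365 (BT.leaf c3_865) (BT.leaf c3_866)) (BT.node 5367 (BT.leaf c3_867) (BT.leaf c3_868))) (BT.node 5370 (BT.node 5369 (BT.leaf c3_869) (BT.leaf c3_870)) (BT.leaf c3_871))))) (BT.node 5385 (BT.node 5378 (BT.node 5375 (BT.node 5373 (BT.node 5372 (BT.leaf c3_872) (BT.leaf c3_873)) (BT.node 5374 (BT.leaf c3_874) (BT.leaf c3_875))) (BT.node 5377 (BT.node 5376 (BT.leaf c3_876) (BT.leaf c3_877)) (BT.leaf c3_878))) (BT.node 5382 (BT.node 5380 (BT.node 5379 (BT.leaf c3_879) (BT.leaf c3_880)) (BT.node 5381 (BT.leaf c3_881) (BT.leaf c3_882))) (BT.node 5384 (BT.node 5383 (BT.leaf c3_883) (BT.leaf c3_884)) (BT.leaf c3_885)))) (BT.node 5392 (BT.node 5389 (BT.node 5387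 (BT.node 5386 (BT.leaf c3_886) (BT.leaf c3_887)) (BT.node 5388 (BT.leaf c3_888) (BT.leaf c3_889))) (BT.node 5391 (BT.node 5390 (BT.leaf c3_890) (BT.leaf c3_891)) (BT.leaf c3_892))) (BT.node 5396 (BT.node 5394 (BT.node 5393 (BT.leaf c3_893) (BT.leaf c3_894)) (BT.node 5395 (BT.leaf c3_895) (BT.leaf c3_896))) (BT.node 5398 (BT.node 5397 (BT.leaf c3_897) (BT.leaf c3_898)) (BT.leaf c3_899))))))))))
/-- the chunks of the letter 6 -/
def colL_6 : BT ℕ := (BT.node 5849 (BT.node 5624 (BT.node 5512 (BT.node 5456 (BT.node 5428 (BT.node 5414 (BT.node 5407 (BT.node 5403 (BT.node 5401 (BT.node 5400 (BT.leaf c4_0) (BT.leaf c4_1)) (BT.node 5402 (BT.leaf c4_2) (BT.leaf c4_3))) (BT.node 5405 (BT.node 5404 (BT.leaf c4_4) (BT.leaf c4_5)) (BT.node 5406 (BT.leaf c4_6) (BT.leaf c4_7)))) (BT.node 5411 (BT.node 5409 (BT.node 5408 (BT.leaf c4_8) (BT.leaf c4_9)) (BT.node 5410 (BT.leaf c4_10) (BT.leaf c4_11))) (BT.node 5413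 (BT.node 5412 (BT.leaf c4_12) (BT.leaf c4_13)) (BT.leaf c4_14)))) (BT.node 5421 (BT.node 5418 (BT.node 5416 (BT.node 5415 (BT.leaf c4_15) (BT.leaf c4_16)) (BT.node 5417 (BT.leaf c4_17) (BT.leaf c4_18))) (BT.node 5420 (BT.node 5419 (BT.leaf c4_19) (BT.leaf c4_20)) (BT.leaf c4_21))) (BT.node 5425 (BT.node 5423 (BT.node 5422 (BT.leaf c4_22) (BT.leaf c4_23)) (BT.node 5424 (BT.leaf c4_24) (BT.leaf c4_25))) (BT.node 5427 (BT.node 5426 (BT.leaf c4_26) (BT.leaf c4_27)) (BT.leaf c4_28))))) (BT.node 5442 (BT.node 5435 (BT.node 5432 (BT.node 5430 (BT.node 5429 (BT.leaf c4_29) (BT.leaf c4_30)) (BT.node 5431 (BT.leaf c4_31) (BT.leaf c4_32))) (BT.node 5434 (BT.node 5433 (BT.leaf c4_33) (BT.leaf c4_34)) (BT.leaf c4_35))) (BT.node 5439 (BT.node 5437 (BT.node 5436 (BT.leaf c4_36) (BT.leaf c4_37)) (BT.node 5438 (BT.leaf c4_38) (BT.leaf c4_39))) (BT.node 5441 (BT.node 5440 (BT.leaf c4_40) (BT.leaf c4_41)) (BT.leaf c4_42))))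 (BT.node 5449 (BT.node 5446 (BT.node 5444 (BT.node 5443 (BT.leaf c4_43) (BT.leaf c4_44)) (BT.node 5445 (BT.leaf c4_45) (BT.leaf c4_46))) (BT.node 5448 (BT.node 5447 (BT.leaf c4_47) (BT.leaf c4_48)) (BT.leaf c4_49))) (BT.node 5453 (BT.node 5451 (BT.node 5450 (BT.leaf c4_50) (BT.leaf c4_51)) (BT.node 5452 (BT.leaf c4_52) (BT.leaf c4_53))) (BT.node 5455 (BT.node 5454 (BT.leaf c4_54) (BT.leaf c4_55)) (BT.leaf c4_56)))))) (BT.node 5484 (BT.node 5470 (BT.node 5463 (BT.node 5460 (BT.node 5458 (BT.node 5457 (BT.leaf c4_57) (BT.leaf c4_58)) (BT.node 5459 (BT.leaf c4_59) (BT.leaf c4_60))) (BT.node 5462 (BT.node 5461 (BT.leaf c4_61) (BT.leaf c4_62)) (BT.leaf c4_63))) (BT.node 5467 (BT.node 5465 (BT.node 5464 (BT.leaf c4_64) (BT.leaf c4_65)) (BT.node 5466 (BT.leaf c4_66) (BT.leaf c4_67))) (BT.node 5469 (BT.node 5468 (BT.leaf c4_68) (BT.leaf c4_69)) (BT.leaf c4_70)))) (BT.node 5477 (BT.node 5474 (BT.node 5472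 (BT.node 5471 (BT.leaf c4_71) (BT.leaf c4_72)) (BT.node 5473 (BT.leaf c4_73) (BT.leaf c4_74))) (BT.node 5476 (BT.node 5475 (BT.leaf c4_75) (BT.leaf c4_76)) (BT.leaf c4_77))) (BT.node 5481 (BT.node 5479 (BT.node 5478 (BT.leaf c4_78) (BT.leaf c4_79)) (BT.node 5480 (BT.leaf c4_80) (BT.leaf c4_81))) (BT.node 5483 (BT.node 5482 (BT.leaf c4_82) (BT.leaf c4_83)) (BT.leaf c4_84))))) (BT.node 5498 (BT.node 5491 (BT.node 5488 (BT.node 5486 (BT.node 5485 (BT.leaf c4_85) (BT.leaf c4_86)) (BT.node 5487 (BT.leaf c4_87) (BT.leaf c4_88))) (BT.node 5490 (BT.node 5489 (BT.leaf c4_89) (BT.leaf c4_90)) (BT.leaf c4_91))) (BT.node 5495 (BT.node 5493 (BT.node 5492 (BT.leaf c4_92) (BT.leaf c4_93)) (BT.node 5494 (BT.leaf c4_94) (BT.leaf c4_95))) (BT.node 5497 (BT.node 5496 (BT.leaf c4_96) (BT.leaf c4_97)) (BT.leaf c4_98)))) (BT.node 5505 (BT.node 5502 (BT.node 5500 (BT.node 5499 (BT.leaf c4_99) (BT.leaf c4_100)) (BT.node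 5501 (BT.leaf c4_101) (BT.leaf c4_102))) (BT.node 5504 (BT.node 5503 (BT.leaf c4_103) (BT.leaf c4_104)) (BT.leaf c4_105))) (BT.node 5509 (BT.node 5507 (BT.node 5506 (BT.leaf c4_106) (BT.leaf c4_107)) (BT.node 5508 (BT.leaf c4_108) (BT.leaf c4_109))) (BT.node 5511 (BT.node 5510 (BT.leaf c4_110) (BT.leaf c4_111)) (BT.leaf c4_112))))))) (BT.node 5568 (BT.node 5540 (BT.node 5526 (BT.node 5519 (BT.node 5516 (BT.node 5514 (BT.node 5513 (BT.leaf c4_113) (BT.leaf c4_114)) (BT.node 5515 (BT.leaf c4_115) (BT.leaf c4_116))) (BT.node 5518 (BT.node 5517 (BT.leaf c4_117) (BT.leaf c4_118)) (BT.leaf c4_119))) (BT.node 5523 (BT.node 5521 (BT.node 5520 (BT.leaf c4_120) (BT.leaf c4_121)) (BT.node 5522 (BT.leaf c4_122) (BT.leaf c4_123))) (BT.node 5525 (BT.node 5524 (BT.leaf c4_124) (BT.leaf c4_125)) (BT.leaf c4_126)))) (BT.node 5533 (BT.node 5530 (BT.node 5528 (BT.node 5527 (BT.leaf c4_127) (BT.leaf c4_128)) (BT.node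 5529 (BT.leaf c4_129) (BT.leaf c4_130))) (BT.node 5532 (BT.node 5531 (BT.leaf c4_131) (BT.leaf c4_132)) (BT.leaf c4_133))) (BT.node 5537 (BT.node 5535 (BT.node 5534 (BT.leaf c4_134) (BT.leaf c4_135)) (BT.node 5536 (BT.leaf c4_136) (BT.leaf c4_137))) (BT.node 5539 (BT.node 5538 (BT.leaf c4_138) (BT.leaf c4_139)) (BT.leaf c4_140))))) (BT.node 5554 (BT.node 5547 (BT.node 5544 (BT.node 5542 (BT.node 5541 (BT.leaf c4_141) (BT.leaf c4_142)) (BT.node 5543 (BT.leaf c4_143) (BT.leaf c4_144))) (BT.node 5546 (BT.node 5545 (BT.leaf c4_145) (BT.leaf c4_146)) (BT.leaf c4_147))) (BT.node 5551 (BT.node 5549 (BT.node 5548 (BT.leaf c4_148) (BT.leaf c4_149)) (BT.node 5550 (BT.leaf c4_150) (BT.leaf c4_151))) (BT.node 5553 (BT.node 5552 (BT.leaf c4_152) (BT.leaf c4_153)) (BT.leaf c4_154)))) (BT.node 5561 (BT.node 5558 (BT.node 5556 (BT.node 5555 (BT.leaf c4_155) (BT.leaf c4_156)) (BT.node 5557 (BT.leaf c4_157) (BT.leaf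 c4_158))) (BT.node 5560 (BT.node 5559 (BT.leaf c4_159) (BT.leaf c4_160)) (BT.leaf c4_161))) (BT.node 5565 (BT.node 5563 (BT.node 5562 (BT.leaf c4_162) (BT.leaf c4_163)) (BT.node 5564 (BT.leaf c4_164) (BT.leaf c4_165))) (BT.node 5567 (BT.node 5566 (BT.leaf c4_166) (BT.leaf c4_167)) (BT.leaf c4_168)))))) (BT.node 5596 (BT.node 5582 (BT.node 5575 (BT.node 5572 (BT.node 5570 (BT.node 5569 (BT.leaf c4_169) (BT.leaf c4_170)) (BT.node 5571 (BT.leaf c4_171) (BT.leaf c4_172))) (BT.node 5574 (BT.node 5573 (BT.leaf c4_173) (BT.leaf c4_174)) (BT.leaf c4_175))) (BT.node 5579 (BT.node 5577 (BT.node 5576 (BT.leaf c4_176) (BT.leaf c4_177)) (BT.node 5578 (BT.leaf c4_178) (BT.leaf c4_179))) (BT.node 5581 (BT.node 5580 (BT.leaf c4_180) (BT.leaf c4_181)) (BT.leaf c4_182)))) (BT.node 5589 (BT.node 5586 (BT.node 5584 (BT.node 5583 (BT.leaf c4_183) (BT.leaf c4_184)) (BT.node 5585 (BT.leaf c4_185) (BT.leaf c4_186))) (BT.node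 5588 (BT.node 5587 (BT.leaf c4_187) (BT.leaf c4_188)) (BT.leaf c4_189))) (BT.node 5593 (BT.node 5591 (BT.node 5590 (BT.leaf c4_190) (BT.leaf c4_191)) (BT.node 5592 (BT.leaf c4_192) (BT.leaf c4_193))) (BT.node 5595 (BT.node 5594 (BT.leaf c4_194) (BT.leaf c4_195)) (BT.leaf c4_196))))) (BT.node 5610 (BT.node 5603 (BT.node 5600 (BT.node 5598 (BT.node 5597 (BT.leaf c4_197) (BT.leaf c4_198)) (BT.node 5599 (BT.leaf c4_199) (BT.leaf c4_200))) (BT.node 5602 (BT.node 5601 (BT.leaf c4_201) (BT.leaf c4_202)) (BT.leaf c4_203))) (BT.node 5607 (BT.node 5605 (BT.node 5604 (BT.leaf c4_204) (BT.leaf c4_205)) (BT.node 5606 (BT.leaf c4_206) (BT.leaf c4_207))) (BT.node 5609 (BT.node 5608 (BT.leaf c4_208) (BT.leaf c4_209)) (BT.leaf c4_210)))) (BT.node 5617 (BT.node 5614 (BT.node 5612 (BT.node 5611 (BT.leaf c4_211) (BT.leaf c4_212)) (BT.node 5613 (BT.leaf c4_213) (BT.leaf c4_214))) (BT.node 5616 (BT.node 5615 (BT.leaf c4_215)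 (BT.leaf c4_216)) (BT.leaf c4_217))) (BT.node 5621 (BT.node 5619 (BT.node 5618 (BT.leaf c4_218) (BT.leaf c4_219)) (BT.node 5620 (BT.leaf c4_220) (BT.leaf c4_221))) (BT.node 5623 (BT.node 5622 (BT.leaf c4_222) (BT.leaf c4_223)) (BT.leaf c4_224)))))))) (BT.node 5737 (BT.node 5681 (BT.node 5653 (BT.node 5639 (BT.node 5632 (BT.node 5628 (BT.node 5626 (BT.node 5625 (BT.leaf c4_225) (BT.leaf c4_226)) (BT.node 5627 (BT.leaf c4_227) (BT.leaf c4_228))) (BT.node 5630 (BT.node 5629 (BT.leaf c4_229) (BT.leaf c4_230)) (BT.node 5631 (BT.leaf c4_231) (BT.leaf c4_232)))) (BT.node 5636 (BT.node 5634 (BT.node 5633 (BT.leaf c4_233) (BT.leaf c4_234)) (BT.node 5635 (BT.leaf c4_235) (BT.leaf c4_236))) (BT.node 5638 (BT.node 5637 (BT.leaf c4_237) (BT.leaf c4_238)) (BT.leaf c4_239)))) (BT.node 5646 (BT.node 5643 (BT.node 5641 (BT.node 5640 (BT.leaf c4_240) (BT.leaf c4_241)) (BT.node 5642 (BT.leaf c4_242) (BT.leaf c4_243)))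 (BT.node 5645 (BT.node 5644 (BT.leaf c4_244) (BT.leaf c4_245)) (BT.leaf c4_246))) (BT.node 5650 (BT.node 5648 (BT.node 5647 (BT.leaf c4_247) (BT.leaf c4_248)) (BT.node 5649 (BT.leaf c4_249) (BT.leaf c4_250))) (BT.node 5652 (BT.node 5651 (BT.leaf c4_251) (BT.leaf c4_252)) (BT.leaf c4_253))))) (BT.node 5667 (BT.node 5660 (BT.node 5657 (BT.node 5655 (BT.node 5654 (BT.leaf c4_254) (BT.leaf c4_255)) (BT.node 5656 (BT.leaf c4_256) (BT.leaf c4_257))) (BT.node 5659 (BT.node 5658 (BT.leaf c4_258) (BT.leaf c4_259)) (BT.leaf c4_260))) (BT.node 5664 (BT.node 5662 (BT.node 5661 (BT.leaf c4_261) (BT.leaf c4_262)) (BT.node 5663 (BT.leaf c4_263) (BT.leaf c4_264))) (BT.node 5666 (BT.node 5665 (BT.leaf c4_265) (BT.leaf c4_266)) (BT.leaf c4_267)))) (BT.node 5674 (BT.node 5671 (BT.node 5669 (BT.node 5668 (BT.leaf c4_268) (BT.leaf c4_269)) (BT.node 5670 (BT.leaf c4_270) (BT.leaf c4_271))) (BT.node 5673 (BT.node 5672 (BT.leaf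 c4_272) (BT.leaf c4_273)) (BT.leaf c4_274))) (BT.node 5678 (BT.node 5676 (BT.node 5675 (BT.leaf c4_275) (BT.leaf c4_276)) (BT.node 5677 (BT.leaf c4_277) (BT.leaf c4_278))) (BT.node 5680 (BT.node 5679 (BT.leaf c4_279) (BT.leaf c4_280)) (BT.leaf c4_281)))))) (BT.node 5709 (BT.node 5695 (BT.node 5688 (BT.node 5685 (BT.node 5683 (BT.node 5682 (BT.leaf c4_282) (BT.leaf c4_283)) (BT.node 5684 (BT.leaf c4_284) (BT.leaf c4_285))) (BT.node 5687 (BT.node 5686 (BT.leaf c4_286) (BT.leaf c4_287)) (BT.leaf c4_288))) (BT.node 5692 (BT.node 5690 (BT.node 5689 (BT.leaf c4_289) (BT.leaf c4_290)) (BT.node 5691 (BT.leaf c4_291) (BT.leaf c4_292))) (BT.node 5694 (BT.node 5693 (BT.leaf c4_293) (BT.leaf c4_294)) (BT.leaf c4_295)))) (BT.node 5702 (BT.node 5699 (BT.node 5697 (BT.node 5696 (BT.leaf c4_296) (BT.leaf c4_297)) (BT.node 5698 (BT.leaf c4_298) (BT.leaf c4_299))) (BT.node 5701 (BT.node 5700 (BT.leaf c4_300) (BT.leaf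 c4_301)) (BT.leaf c4_302))) (BT.node 5706 (BT.node 5704 (BT.node 5703 (BT.leaf c4_303) (BT.leaf c4_304)) (BT.node 5705 (BT.leaf c4_305) (BT.leaf c4_306))) (BT.node 5708 (BT.node 5707 (BT.leaf c4_307) (BT.leaf c4_308)) (BT.leaf c4_309))))) (BT.node 5723 (BT.node 5716 (BT.node 5713 (BT.node 5711 (BT.node 5710 (BT.leaf c4_310) (BT.leaf c4_311)) (BT.node 5712 (BT.leaf c4_312) (BT.leaf c4_313))) (BT.node 5715 (BT.node 5714 (BT.leaf c4_314) (BT.leaf c4_315)) (BT.leaf c4_316))) (BT.node 5720 (BT.node 5718 (BT.node 5717 (BT.leaf c4_317) (BT.leaf c4_318)) (BT.node 5719 (BT.leaf c4_319) (BT.leaf c4_320))) (BT.node 5722 (BT.node 5721 (BT.leaf c4_321) (BT.leaf c4_322)) (BT.leaf c4_323)))) (BT.node 5730 (BT.node 5727 (BT.node 5725 (BT.node 5724 (BT.leaf c4_324) (BT.leaf c4_325)) (BT.node 5726 (BT.leaf c4_326) (BT.leaf c4_327))) (BT.node 5729 (BT.node 5728 (BT.leaf c4_328) (BT.leaf c4_329)) (BT.leaf c4_330))) (BT.node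 5734 (BT.node 5732 (BT.node 5731 (BT.leaf c4_331) (BT.leaf c4_332)) (BT.node 5733 (BT.leaf c4_333) (BT.leaf c4_334))) (BT.node 5736 (BT.node 5735 (BT.leaf c4_335) (BT.leaf c4_336)) (BT.leaf c4_337))))))) (BT.node 5793 (BT.node 5765 (BT.node 5751 (BT.node 5744 (BT.node 5741 (BT.node 5739 (BT.node 5738 (BT.leaf c4_338) (BT.leaf c4_339)) (BT.node 5740 (BT.leaf c4_340) (BT.leaf c4_341))) (BT.node 5743 (BT.node 5742 (BT.leaf c4_342) (BT.leaf c4_343)) (BT.leaf c4_344))) (BT.node 5748 (BT.node 5746 (BT.node 5745 (BT.leaf c4_345) (BT.leaf c4_346)) (BT.node 5747 (BT.leaf c4_347) (BT.leaf c4_348))) (BT.node 5750 (BT.node 5749 (BT.leaf c4_349) (BT.leaf c4_350)) (BT.leaf c4_351)))) (BT.node 5758 (BT.node 5755 (BT.node 5753 (BT.node 5752 (BT.leaf c4_352) (BT.leaf c4_353)) (BT.node 5754 (BT.leaf c4_354) (BT.leaf c4_355))) (BT.node 5757 (BT.node 5756 (BT.leaf c4_356) (BT.leaf c4_357)) (BT.leaf c4_358))) (BT.node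 5762 (BT.node 5760 (BT.node 5759 (BT.leaf c4_359) (BT.leaf c4_360)) (BT.node 5761 (BT.leaf c4_361) (BT.leaf c4_362))) (BT.node 5764 (BT.node 5763 (BT.leaf c4_363) (BT.leaf c4_364)) (BT.leaf c4_365))))) (BT.node 5779 (BT.node 5772 (BT.node 5769 (BT.node 5767 (BT.node 5766 (BT.leaf c4_366) (BT.leaf c4_367)) (BT.node 5768 (BT.leaf c4_368) (BT.leaf c4_369))) (BT.node 5771 (BT.node 5770 (BT.leaf c4_370) (BT.leaf c4_371)) (BT.leaf c4_372))) (BT.node 5776 (BT.node 5774 (BT.node 5773 (BT.leaf c4_373) (BT.leaf c4_374)) (BT.node 5775 (BT.leaf c4_375) (BT.leaf c4_376))) (BT.node 5778 (BT.node 5777 (BT.leaf c4_377) (BT.leaf c4_378)) (BT.leaf c4_379)))) (BT.node 5786 (BT.node 5783 (BT.node 5781 (BT.node 5780 (BT.leaf c4_380) (BT.leaf c4_381)) (BT.node 5782 (BT.leaf c4_382) (BT.leaf c4_383))) (BT.node 5785 (BT.node 5784 (BT.leaf c4_384) (BT.leaf c4_385)) (BT.leaf c4_386))) (BT.node 5790 (BT.node 5788 (BT.node 5787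 (BT.leaf c4_387) (BT.leaf c4_388)) (BT.node 5789 (BT.leaf c4_389) (BT.leaf c4_390))) (BT.node 5792 (BT.node 5791 (BT.leaf c4_391) (BT.leaf c4_392)) (BT.leaf c4_393)))))) (BT.node 5821 (BT.node 5807 (BT.node 5800 (BT.node 5797 (BT.node 5795 (BT.node 5794 (BT.leaf c4_394) (BT.leaf c4_395)) (BT.node 5796 (BT.leaf c4_396) (BT.leaf c4_397))) (BT.node 5799 (BT.node 5798 (BT.leaf c4_398) (BT.leaf c4_399)) (BT.leaf c4_400))) (BT.node 5804 (BT.node 5802 (BT.node 5801 (BT.leaf c4_401) (BT.leaf c4_402)) (BT.node 5803 (BT.leaf c4_403) (BT.leaf c4_404))) (BT.node 5806 (BT.node 5805 (BT.leaf c4_405) (BT.leaf c4_406)) (BT.leaf c4_407)))) (BT.node 5814 (BT.node 5811 (BT.node 5809 (BT.node 5808 (BT.leaf c4_408) (BT.leaf c4_409)) (BT.node 5810 (BT.leaf c4_410) (BT.leaf c4_411))) (BT.node 5813 (BT.node 5812 (BT.leaf c4_412) (BT.leaf c4_413)) (BT.leaf c4_414))) (BT.node 5818 (BT.node 5816 (BT.node 5815 (BT.leaf c4_415)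 (BT.leaf c4_416)) (BT.node 5817 (BT.leaf c4_417) (BT.leaf c4_418))) (BT.node 5820 (BT.node 5819 (BT.leaf c4_419) (BT.leaf c4_420)) (BT.leaf c4_421))))) (BT.node 5835 (BT.node 5828 (BT.node 5825 (BT.node 5823 (BT.node 5822 (BT.leaf c4_422) (BT.leaf c4_423)) (BT.node 5824 (BT.leaf c4_424) (BT.leaf c4_425))) (BT.node 5827 (BT.node 5826 (BT.leaf c4_426) (BT.leaf c4_427)) (BT.leaf c4_428))) (BT.node 5832 (BT.node 5830 (BT.node 5829 (BT.leaf c4_429) (BT.leaf c4_430)) (BT.node 5831 (BT.leaf c4_431) (BT.leaf c4_432))) (BT.node 5834 (BT.node 5833 (BT.leaf c4_433) (BT.leaf c4_434)) (BT.leaf c4_435)))) (BT.node 5842 (BT.node 5839 (BT.node 5837 (BT.node 5836 (BT.leaf c4_436) (BT.leaf c4_437)) (BT.node 5838 (BT.leaf c4_438) (BT.leaf c4_439))) (BT.node 5841 (BT.node 5840 (BT.leaf c4_440) (BT.leaf c4_441)) (BT.leaf c4_442))) (BT.node 5846 (BT.node 5844 (BT.node 5843 (BT.leaf c4_443) (BT.leaf c4_444)) (BT.node 5845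 (BT.leaf c4_445) (BT.leaf c4_446))) (BT.node 5848 (BT.node 5847 (BT.leaf c4_447) (BT.leaf c4_448)) (BT.leaf c4_449))))))))) (BT.node 6074 (BT.node 5962 (BT.node 5906 (BT.node 5878 (BT.node 5864 (BT.node 5857 (BT.node 5853 (BT.node 5851 (BT.node 5850 (BT.leaf c4_450) (BT.leaf c4_451)) (BT.node 5852 (BT.leaf c4_452) (BT.leaf c4_453))) (BT.node 5855 (BT.node 5854 (BT.leaf c4_454) (BT.leaf c4_455)) (BT.node 5856 (BT.leaf c4_456) (BT.leaf c4_457)))) (BT.node 5861 (BT.node 5859 (BT.node 5858 (BT.leaf c4_458) (BT.leaf c4_459)) (BT.node 5860 (BT.leaf c4_460) (BT.leaf c4_461))) (BT.node 5863 (BT.node 5862 (BT.leaf c4_462) (BT.leaf c4_463)) (BT.leaf c4_464)))) (BT.node 5871 (BT.node 5868 (BT.node 5866 (BT.node 5865 (BT.leaf c4_465) (BT.leaf c4_466)) (BT.node 5867 (BT.leaf c4_467) (BT.leaf c4_468))) (BT.node 5870 (BT.node 5869 (BT.leaf c4_469) (BT.leaf c4_470)) (BT.leaf c4_471))) (BT.node 5875 (BT.node 5873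 (BT.node 5872 (BT.leaf c4_472) (BT.leaf c4_473)) (BT.node 5874 (BT.leaf c4_474) (BT.leaf c4_475))) (BT.node 5877 (BT.node 5876 (BT.leaf c4_476) (BT.leaf c4_477)) (BT.leaf c4_478))))) (BT.node 5892 (BT.node 5885 (BT.node 5882 (BT.node 5880 (BT.node 5879 (BT.leaf c4_479) (BT.leaf c4_480)) (BT.node 5881 (BT.leaf c4_481) (BT.leaf c4_482))) (BT.node 5884 (BT.node 5883 (BT.leaf c4_483) (BT.leaf c4_484)) (BT.leaf c4_485))) (BT.node 5889 (BT.node 5887 (BT.node 5886 (BT.leaf c4_486) (BT.leaf c4_487)) (BT.node 5888 (BT.leaf c4_488) (BT.leaf c4_489))) (BT.node 5891 (BT.node 5890 (BT.leaf c4_490) (BT.leaf c4_491)) (BT.leaf c4_492)))) (BT.node 5899 (BT.node 5896 (BT.node 5894 (BT.node 5893 (BT.leaf c4_493) (BT.leaf c4_494)) (BT.node 5895 (BT.leaf c4_495) (BT.leaf c4_496))) (BT.node 5898 (BT.node 5897 (BT.leaf c4_497) (BT.leaf c4_498)) (BT.leaf c4_499))) (BT.node 5903 (BT.node 5901 (BT.node 5900 (BT.leaf c4_500)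 (BT.leaf c4_501)) (BT.node 5902 (BT.leaf c4_502) (BT.leaf c4_503))) (BT.node 5905 (BT.node 5904 (BT.leaf c4_504) (BT.leaf c4_505)) (BT.leaf c4_506)))))) (BT.node 5934 (BT.node 5920 (BT.node 5913 (BT.node 5910 (BT.node 5908 (BT.node 5907 (BT.leaf c4_507) (BT.leaf c4_508)) (BT.node 5909 (BT.leaf c4_509) (BT.leaf c4_510))) (BT.node 5912 (BT.node 5911 (BT.leaf c4_511) (BT.leaf c4_512)) (BT.leaf c4_513))) (BT.node 5917 (BT.node 5915 (BT.node 5914 (BT.leaf c4_514) (BT.leaf c4_515)) (BT.node 5916 (BT.leaf c4_516) (BT.leaf c4_517))) (BT.node 5919 (BT.node 5918 (BT.leaf c4_518) (BT.leaf c4_519)) (BT.leaf c4_520)))) (BT.node 5927 (BT.node 5924 (BT.node 5922 (BT.node 5921 (BT.leaf c4_521) (BT.leaf c4_522)) (BT.node 5923 (BT.leaf c4_523) (BT.leaf c4_524))) (BT.node 5926 (BT.node 5925 (BT.leaf c4_525) (BT.leaf c4_526)) (BT.leaf c4_527))) (BT.node 5931 (BT.node 5929 (BT.node 5928 (BT.leaf c4_528) (BT.leaf c4_529))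 (BT.node 5930 (BT.leaf c4_530) (BT.leaf c4_531))) (BT.node 5933 (BT.node 5932 (BT.leaf c4_532) (BT.leaf c4_533)) (BT.leaf c4_534))))) (BT.node 5948 (BT.node 5941 (BT.node 5938 (BT.node 5936 (BT.node 5935 (BT.leaf c4_535) (BT.leaf c4_536)) (BT.node 5937 (BT.leaf c4_537) (BT.leaf c4_538))) (BT.node 5940 (BT.node 5939 (BT.leaf c4_539) (BT.leaf c4_540)) (BT.leaf c4_541))) (BT.node 5945 (BT.node 5943 (BT.node 5942 (BT.leaf c4_542) (BT.leaf c4_543)) (BT.node 5944 (BT.leaf c4_544) (BT.leaf c4_545))) (BT.node 5947 (BT.node 5946 (BT.leaf c4_546) (BT.leaf c4_547)) (BT.leaf c4_548)))) (BT.node 5955 (BT.node 5952 (BT.node 5950 (BT.node 5949 (BT.leaf c4_549) (BT.leaf c4_550)) (BT.node 5951 (BT.leaf c4_551) (BT.leaf c4_552))) (BT.node 5954 (BT.node 5953 (BT.leaf c4_553) (BT.leaf c4_554)) (BT.leaf c4_555))) (BT.node 5959 (BT.node 5957 (BT.node 5956 (BT.leaf c4_556) (BT.leaf c4_557)) (BT.node 5958 (BT.leaf c4_558)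 (BT.leaf c4_559))) (BT.node 5961 (BT.node 5960 (BT.leaf c4_560) (BT.leaf c4_561)) (BT.leaf c4_562))))))) (BT.node 6018 (BT.node 5990 (BT.node 5976 (BT.node 5969 (BT.node 5966 (BT.node 5964 (BT.node 5963 (BT.leaf c4_563) (BT.leaf c4_564)) (BT.node 5965 (BT.leaf c4_565) (BT.leaf c4_566))) (BT.node 5968 (BT.node 5967 (BT.leaf c4_567) (BT.leaf c4_568)) (BT.leaf c4_569))) (BT.node 5973 (BT.node 5971 (BT.node 5970 (BT.leaf c4_570) (BT.leaf c4_571)) (BT.node 5972 (BT.leaf c4_572) (BT.leaf c4_573))) (BT.node 5975 (BT.node 5974 (BT.leaf c4_574) (BT.leaf c4_575)) (BT.leaf c4_576)))) (BT.node 5983 (BT.node 5980 (BT.node 5978 (BT.node 5977 (BT.leaf c4_577) (BT.leaf c4_578)) (BT.node 5979 (BT.leaf c4_579) (BT.leaf c4_580))) (BT.node 5982 (BT.node 5981 (BT.leaf c4_581) (BT.leaf c4_582)) (BT.leaf c4_583))) (BT.node 5987 (BT.node 5985 (BT.node 5984 (BT.leaf c4_584) (BT.leaf c4_585)) (BT.node 5986 (BT.leaf c4_586)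 (BT.leaf c4_587))) (BT.node 5989 (BT.node 5988 (BT.leaf c4_588) (BT.leaf c4_589)) (BT.leaf c4_590))))) (BT.node 6004 (BT.node 5997 (BT.node 5994 (BT.node 5992 (BT.node 5991 (BT.leaf c4_591) (BT.leaf c4_592)) (BT.node 5993 (BT.leaf c4_593) (BT.leaf c4_594))) (BT.node 5996 (BT.node 5995 (BT.leaf c4_595) (BT.leaf c4_596)) (BT.leaf c4_597))) (BT.node 6001 (BT.node 5999 (BT.node 5998 (BT.leaf c4_598) (BT.leaf c4_599)) (BT.node 6000 (BT.leaf c4_600) (BT.leaf c4_601))) (BT.node 6003 (BT.node 6002 (BT.leaf c4_602) (BT.leaf c4_603)) (BT.leaf c4_604)))) (BT.node 6011 (BT.node 6008 (BT.node 6006 (BT.node 6005 (BT.leaf c4_605) (BT.leaf c4_606)) (BT.node 6007 (BT.leaf c4_607) (BT.leaf c4_608))) (BT.node 6010 (BT.node 6009 (BT.leaf c4_609) (BT.leaf c4_610)) (BT.leaf c4_611))) (BT.node 6015 (BT.node 6013 (BT.node 6012 (BT.leaf c4_612) (BT.leaf c4_613)) (BT.node 6014 (BT.leaf c4_614) (BT.leaf c4_615))) (BT.node 6017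 (BT.node 6016 (BT.leaf c4_616) (BT.leaf c4_617)) (BT.leaf c4_618)))))) (BT.node 6046 (BT.node 6032 (BT.node 6025 (BT.node 6022 (BT.node 6020 (BT.node 6019 (BT.leaf c4_619) (BT.leaf c4_620)) (BT.node 6021 (BT.leaf c4_621) (BT.leaf c4_622))) (BT.node 6024 (BT.node 6023 (BT.leaf c4_623) (BT.leaf c4_624)) (BT.leaf c4_625))) (BT.node 6029 (BT.node 6027 (BT.node 6026 (BT.leaf c4_626) (BT.leaf c4_627)) (BT.node 6028 (BT.leaf c4_628) (BT.leaf c4_629))) (BT.node 6031 (BT.node 6030 (BT.leaf c4_630) (BT.leaf c4_631)) (BT.leaf c4_632)))) (BT.node 6039 (BT.node 6036 (BT.node 6034 (BT.node 6033 (BT.leaf c4_633) (BT.leaf c4_634)) (BT.node 6035 (BT.leaf c4_635) (BT.leaf c4_636))) (BT.node 6038 (BT.node 6037 (BT.leaf c4_637) (BT.leaf c4_638)) (BT.leaf c4_639))) (BT.node 6043 (BT.node 6041 (BT.node 6040 (BT.leaf c4_640) (BT.leaf c4_641)) (BT.node 6042 (BT.leaf c4_642) (BT.leaf c4_643))) (BT.node 6045 (BT.node 6044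 (BT.leaf c4_644) (BT.leaf c4_645)) (BT.leaf c4_646))))) (BT.node 6060 (BT.node 6053 (BT.node 6050 (BT.node 6048 (BT.node 6047 (BT.leaf c4_647) (BT.leaf c4_648)) (BT.node 6049 (BT.leaf c4_649) (BT.leaf c4_650))) (BT.node 6052 (BT.node 6051 (BT.leaf c4_651) (BT.leaf c4_652)) (BT.leaf c4_653))) (BT.node 6057 (BT.node 6055 (BT.node 6054 (BT.leaf c4_654) (BT.leaf c4_655)) (BT.node 6056 (BT.leaf c4_656) (BT.leaf c4_657))) (BT.node 6059 (BT.node 6058 (BT.leaf c4_658) (BT.leaf c4_659)) (BT.leaf c4_660)))) (BT.node 6067 (BT.node 6064 (BT.node 6062 (BT.node 6061 (BT.leaf c4_661) (BT.leaf c4_662)) (BT.node 6063 (BT.leaf c4_663) (BT.leaf c4_664))) (BT.node 6066 (BT.node 6065 (BT.leaf c4_665) (BT.leaf c4_666)) (BT.leaf c4_667))) (BT.node 6071 (BT.node 6069 (BT.node 6068 (BT.leaf c4_668) (BT.leaf c4_669)) (BT.node 6070 (BT.leaf c4_670) (BT.leaf c4_671))) (BT.node 6073 (BT.node 6072 (BT.leaf c4_672) (BT.leaf c4_673))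 (BT.leaf c4_674)))))))) (BT.node 6187 (BT.node 6131 (BT.node 6103 (BT.node 6089 (BT.node 6082 (BT.node 6078 (BT.node 6076 (BT.node 6075 (BT.leaf c4_675) (BT.leaf c4_676)) (BT.node 6077 (BT.leaf c4_677) (BT.leaf c4_678))) (BT.node 6080 (BT.node 6079 (BT.leaf c4_679) (BT.leaf c4_680)) (BT.node 6081 (BT.leaf c4_681) (BT.leaf c4_682)))) (BT.node 6086 (BT.node 6084 (BT.node 6083 (BT.leaf c4_683) (BT.leaf c4_684)) (BT.node 6085 (BT.leaf c4_685) (BT.leaf c4_686))) (BT.node 6088 (BT.node 6087 (BT.leaf c4_687) (BT.leaf c4_688)) (BT.leaf c4_689)))) (BT.node 6096 (BT.node 6093 (BT.node 6091 (BT.node 6090 (BT.leaf c4_690) (BT.leaf c4_691)) (BT.node 6092 (BT.leaf c4_692) (BT.leaf c4_693))) (BT.node 6095 (BT.node 6094 (BT.leaf c4_694) (BT.leaf c4_695)) (BT.leaf c4_696))) (BT.node 6100 (BT.node 6098 (BT.node 6097 (BT.leaf c4_697) (BT.leaf c4_698)) (BT.node 6099 (BT.leaf c4_699) (BT.leaf c4_700))) (BT.node 6102 (BT.node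 6101 (BT.leaf c4_701) (BT.leaf c4_702)) (BT.leaf c4_703))))) (BT.node 6117 (BT.node 6110 (BT.node 6107 (BT.node 6105 (BT.node 6104 (BT.leaf c4_704) (BT.leaf c4_705)) (BT.node 6106 (BT.leaf c4_706) (BT.leaf c4_707))) (BT.node 6109 (BT.node 6108 (BT.leaf c4_708) (BT.leaf c4_709)) (BT.leaf c4_710))) (BT.node 6114 (BT.node 6112 (BT.node 6111 (BT.leaf c4_711) (BT.leaf c4_712)) (BT.node 6113 (BT.leaf c4_713) (BT.leaf c4_714))) (BT.node 6116 (BT.node 6115 (BT.leaf c4_715) (BT.leaf c4_716)) (BT.leaf c4_717)))) (BT.node 6124 (BT.node 6121 (BT.node 6119 (BT.node 6118 (BT.leaf c4_718) (BT.leaf c4_719)) (BT.node 6120 (BT.leaf c4_720) (BT.leaf c4_721))) (BT.node 6123 (BT.node 6122 (BT.leaf c4_722) (BT.leaf c4_723)) (BT.leaf c4_724))) (BT.node 6128 (BT.node 6126 (BT.node 6125 (BT.leaf c4_725) (BT.leaf c4_726)) (BT.node 6127 (BT.leaf c4_727) (BT.leaf c4_728))) (BT.node 6130 (BT.node 6129 (BT.leaf c4_729) (BT.leaf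 c4_730)) (BT.leaf c4_731)))))) (BT.node 6159 (BT.node 6145 (BT.node 6138 (BT.node 6135 (BT.node 6133 (BT.node 6132 (BT.leaf c4_732) (BT.leaf c4_733)) (BT.node 6134 (BT.leaf c4_734) (BT.leaf c4_735))) (BT.node 6137 (BT.node 6136 (BT.leaf c4_736) (BT.leaf c4_737)) (BT.leaf c4_738))) (BT.node 6142 (BT.node 6140 (BT.node 6139 (BT.leaf c4_739) (BT.leaf c4_740)) (BT.node 6141 (BT.leaf c4_741) (BT.leaf c4_742))) (BT.node 6144 (BT.node 6143 (BT.leaf c4_743) (BT.leaf c4_744)) (BT.leaf c4_745)))) (BT.node 6152 (BT.node 6149 (BT.node 6147 (BT.node 6146 (BT.leaf c4_746) (BT.leaf c4_747)) (BT.node 6148 (BT.leaf c4_748) (BT.leaf c4_749))) (BT.node 6151 (BT.node 6150 (BT.leaf c4_750) (BT.leaf c4_751)) (BT.leaf c4_752))) (BT.node 6156 (BT.node 6154 (BT.node 6153 (BT.leaf c4_753) (BT.leaf c4_754)) (BT.node 6155 (BT.leaf c4_755) (BT.leaf c4_756))) (BT.node 6158 (BT.node 6157 (BT.leaf c4_757) (BT.leaf c4_758)) (BT.leaf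 c4_759))))) (BT.node 6173 (BT.node 6166 (BT.node 6163 (BT.node 6161 (BT.node 6160 (BT.leaf c4_760) (BT.leaf c4_761)) (BT.node 6162 (BT.leaf c4_762) (BT.leaf c4_763))) (BT.node 6165 (BT.node 6164 (BT.leaf c4_764) (BT.leaf c4_765)) (BT.leaf c4_766))) (BT.node 6170 (BT.node 6168 (BT.node 6167 (BT.leaf c4_767) (BT.leaf c4_768)) (BT.node 6169 (BT.leaf c4_769) (BT.leaf c4_770))) (BT.node 6172 (BT.node 6171 (BT.leaf c4_771) (BT.leaf c4_772)) (BT.leaf c4_773)))) (BT.node 6180 (BT.node 6177 (BT.node 6175 (BT.node 6174 (BT.leaf c4_774) (BT.leaf c4_775)) (BT.node 6176 (BT.leaf c4_776) (BT.leaf c4_777))) (BT.node 6179 (BT.node 6178 (BT.leaf c4_778) (BT.leaf c4_779)) (BT.leaf c4_780))) (BT.node 6184 (BT.node 6182 (BT.node 6181 (BT.leaf c4_781) (BT.leaf c4_782)) (BT.node 6183 (BT.leaf c4_783) (BT.leaf c4_784))) (BT.node 6186 (BT.node 6185 (BT.leaf c4_785) (BT.leaf c4_786)) (BT.leaf c4_787))))))) (BT.node 6243 (BT.node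 6215 (BT.node 6201 (BT.node 6194 (BT.node 6191 (BT.node 6189 (BT.node 6188 (BT.leaf c4_788) (BT.leaf c4_789)) (BT.node 6190 (BT.leaf c4_790) (BT.leaf c4_791))) (BT.node 6193 (BT.node 6192 (BT.leaf c4_792) (BT.leaf c4_793)) (BT.leaf c4_794))) (BT.node 6198 (BT.node 6196 (BT.node 6195 (BT.leaf c4_795) (BT.leaf c4_796)) (BT.node 6197 (BT.leaf c4_797) (BT.leaf c4_798))) (BT.node 6200 (BT.node 6199 (BT.leaf c4_799) (BT.leaf c4_800)) (BT.leaf c4_801)))) (BT.node 6208 (BT.node 6205 (BT.node 6203 (BT.node 6202 (BT.leaf c4_802) (BT.leaf c4_803)) (BT.node 6204 (BT.leaf c4_804) (BT.leaf c4_805))) (BT.node 6207 (BT.node 6206 (BT.leaf c4_806) (BT.leaf c4_807)) (BT.leaf c4_808))) (BT.node 6212 (BT.node 6210 (BT.node 6209 (BT.leaf c4_809) (BT.leaf c4_810)) (BT.node 6211 (BT.leaf c4_811) (BT.leaf c4_812))) (BT.node 6214 (BT.node 6213 (BT.leaf c4_813) (BT.leaf c4_814)) (BT.leaf c4_815))))) (BT.node 6229 (BT.node 6222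 (BT.node 6219 (BT.node 6217 (BT.node 6216 (BT.leaf c4_816) (BT.leaf c4_817)) (BT.node 6218 (BT.leaf c4_818) (BT.leaf c4_819))) (BT.node 6221 (BT.node 6220 (BT.leaf c4_820) (BT.leaf c4_821)) (BT.leaf c4_822))) (BT.node 6226 (BT.node 6224 (BT.node 6223 (BT.leaf c4_823) (BT.leaf c4_824)) (BT.node 6225 (BT.leaf c4_825) (BT.leaf c4_826))) (BT.node 6228 (BT.node 6227 (BT.leaf c4_827) (BT.leaf c4_828)) (BT.leaf c4_829)))) (BT.node 6236 (BT.node 6233 (BT.node 6231 (BT.node 6230 (BT.leaf c4_830) (BT.leaf c4_831)) (BT.node 6232 (BT.leaf c4_832) (BT.leaf c4_833))) (BT.node 6235 (BT.node 6234 (BT.leaf c4_834) (BT.leaf c4_835)) (BT.leaf c4_836))) (BT.node 6240 (BT.node 6238 (BT.node 6237 (BT.leaf c4_837) (BT.leaf c4_838)) (BT.node 6239 (BT.leaf c4_839) (BT.leaf c4_840))) (BT.node 6242 (BT.node 6241 (BT.leaf c4_841) (BT.leaf c4_842)) (BT.leaf c4_843)))))) (BT.node 6271 (BT.node 6257 (BT.node 6250 (BT.node 6247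 (BT.node 6245 (BT.node 6244 (BT.leaf c4_844) (BT.leaf c4_845)) (BT.node 6246 (BT.leaf c4_846) (BT.leaf c4_847))) (BT.node 6249 (BT.node 6248 (BT.leaf c4_848) (BT.leaf c4_849)) (BT.leaf c4_850))) (BT.node 6254 (BT.node 6252 (BT.node 6251 (BT.leaf c4_851) (BT.leaf c4_852)) (BT.node 6253 (BT.leaf c4_853) (BT.leaf c4_854))) (BT.node 6256 (BT.node 6255 (BT.leaf c4_855) (BT.leaf c4_856)) (BT.leaf c4_857)))) (BT.node 6264 (BT.node 6261 (BT.node 6259 (BT.node 6258 (BT.leaf c4_858) (BT.leaf c4_859)) (BT.node 6260 (BT.leaf c4_860) (BT.leaf c4_861))) (BT.node 6263 (BT.node 6262 (BT.leaf c4_862) (BT.leaf c4_863)) (BT.leaf c4_864))) (BT.node 6268 (BT.node 6266 (BT.node 6265 (BT.leaf c4_865) (BT.leaf c4_866)) (BT.node 6267 (BT.leaf c4_867) (BT.leaf c4_868))) (BT.node 6270 (BT.node 6269 (BT.leaf c4_869) (BT.leaf c4_870)) (BT.leaf c4_871))))) (BT.node 6285 (BT.node 6278 (BT.node 6275 (BT.node 6273 (BT.node 6272 (BT.leaf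 c4_872) (BT.leaf c4_873)) (BT.node 6274 (BT.leaf c4_874) (BT.leaf c4_875))) (BT.node 6277 (BT.node 6276 (BT.leaf c4_876) (BT.leaf c4_877)) (BT.leaf c4_878))) (BT.node 6282 (BT.node 6280 (BT.node 6279 (BT.leaf c4_879) (BT.leaf c4_880)) (BT.node 6281 (BT.leaf c4_881) (BT.leaf c4_882))) (BT.node 6284 (BT.node 6283 (BT.leaf c4_883) (BT.leaf c4_884)) (BT.leaf c4_885)))) (BT.node 6292 (BT.node 6289 (BT.node 6287 (BT.node 6286 (BT.leaf c4_886) (BT.leaf c4_887)) (BT.node 6288 (BT.leaf c4_888) (BT.leaf c4_889))) (BT.node 6291 (BT.node 6290 (BT.leaf c4_890) (BT.leaf c4_891)) (BT.leaf c4_892))) (BT.node 6296 (BT.node 6294 (BT.node 6293 (BT.leaf c4_893) (BT.leaf c4_894)) (BT.node 6295 (BT.leaf c4_895) (BT.leaf c4_896))) (BT.node 6298 (BT.node 6297 (BT.leaf c4_897) (BT.leaf c4_898)) (BT.leaf c4_899))))))))))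
/-- the chunks of the letter 7 -/
def colL_7 : BT ℕ := (BT.node 6749 (BT.node 6524 (BT.node 6412 (BT.node 6356 (BT.node 6328 (BT.node 6314 (BT.node 6307 (BT.node 6303 (BT.node 6301 (BT.node 6300 (BT.leaf c4_0) (BT.leaf c4_1)) (BT.node 6302 (BT.leaf c4_2) (BT.leaf c4_3))) (BT.node 6305 (BT.node 6304 (BT.leaf c4_4) (BT.leaf c4_5)) (BT.node 6306 (BT.leaf c4_6) (BT.leaf c4_7)))) (BT.node 6311 (BT.node 6309 (BT.node 6308 (BT.leaf c4_8) (BT.leaf c4_9)) (BT.node 6310 (BT.leaf c4_10) (BT.leaf c4_11))) (BT.node 6313 (BT.node 6312 (BT.leaf c4_12) (BT.leaf c4_13)) (BT.leaf c4_14)))) (BT.node 6321 (BT.node 6318 (BT.node 6316 (BT.node 6315 (BT.leaf c4_15) (BT.leaf c4_16)) (BT.node 6317 (BT.leaf c4_17) (BT.leaf c4_18))) (BT.node 6320 (BT.node 6319 (BT.leaf c4_19) (BT.leaf c4_20)) (BT.leaf c4_21))) (BT.node 6325 (BT.node 6323 (BT.node 6322 (BT.leaf c4_22) (BT.leaf c4_23)) (BT.node 6324 (BT.leaf c4_24) (BT.leaf c4_25)))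 (BT.node 6327 (BT.node 6326 (BT.leaf c4_26) (BT.leaf c4_27)) (BT.leaf c4_28))))) (BT.node 6342 (BT.node 6335 (BT.node 6332 (BT.node 6330 (BT.node 6329 (BT.leaf c4_29) (BT.leaf c4_30)) (BT.node 6331 (BT.leaf c4_31) (BT.leaf c4_32))) (BT.node 6334 (BT.node 6333 (BT.leaf c4_33) (BT.leaf c4_34)) (BT.leaf c4_35))) (BT.node 6339 (BT.node 6337 (BT.node 6336 (BT.leaf c4_36) (BT.leaf c4_37)) (BT.node 6338 (BT.leaf c4_38) (BT.leaf c4_39))) (BT.node 6341 (BT.node 6340 (BT.leaf c4_40) (BT.leaf c4_41)) (BT.leaf c4_42)))) (BT.node 6349 (BT.node 6346 (BT.node 6344 (BT.node 6343 (BT.leaf c4_43) (BT.leaf c4_44)) (BT.node 6345 (BT.leaf c4_45) (BT.leaf c4_46))) (BT.node 6348 (BT.node 6347 (BT.leaf c4_47) (BT.leaf c4_48)) (BT.leaf c4_49))) (BT.node 6353 (BT.node 6351 (BT.node 6350 (BT.leaf c4_50) (BT.leaf c4_51)) (BT.node 6352 (BT.leaf c4_52) (BT.leaf c4_53))) (BT.node 6355 (BT.node 6354 (BT.leaf c4_54) (BT.leaf c4_55))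 (BT.leaf c4_56)))))) (BT.node 6384 (BT.node 6370 (BT.node 6363 (BT.node 6360 (BT.node 6358 (BT.node 6357 (BT.leaf c4_57) (BT.leaf c4_58)) (BT.node 6359 (BT.leaf c4_59) (BT.leaf c4_60))) (BT.node 6362 (BT.node 6361 (BT.leaf c4_61) (BT.leaf c4_62)) (BT.leaf c4_63))) (BT.node 6367 (BT.node 6365 (BT.node 6364 (BT.leaf c4_64) (BT.leaf c4_65)) (BT.node 6366 (BT.leaf c4_66) (BT.leaf c4_67))) (BT.node 6369 (BT.node 6368 (BT.leaf c4_68) (BT.leaf c4_69)) (BT.leaf c4_70)))) (BT.node 6377 (BT.node 6374 (BT.node 6372 (BT.node 6371 (BT.leaf c4_71) (BT.leaf c4_72)) (BT.node 6373 (BT.leaf c4_73) (BT.leaf c4_74))) (BT.node 6376 (BT.node 6375 (BT.leaf c4_75) (BT.leaf c4_76)) (BT.leaf c4_77))) (BT.node 6381 (BT.node 6379 (BT.node 6378 (BT.leaf c4_78) (BT.leaf c4_79)) (BT.node 6380 (BT.leaf c4_80) (BT.leaf c4_81))) (BT.node 6383 (BT.node 6382 (BT.leaf c4_82) (BT.leaf c4_83)) (BT.leaf c4_84))))) (BT.node 6398 (BT.node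 6391 (BT.node 6388 (BT.node 6386 (BT.node 6385 (BT.leaf c4_85) (BT.leaf c4_86)) (BT.node 6387 (BT.leaf c4_87) (BT.leaf c4_88))) (BT.node 6390 (BT.node 6389 (BT.leaf c4_89) (BT.leaf c4_90)) (BT.leaf c4_91))) (BT.node 6395 (BT.node 6393 (BT.node 6392 (BT.leaf c4_92) (BT.leaf c4_93)) (BT.node 6394 (BT.leaf c4_94) (BT.leaf c4_95))) (BT.node 6397 (BT.node 6396 (BT.leaf c4_96) (BT.leaf c4_97)) (BT.leaf c4_98)))) (BT.node 6405 (BT.node 6402 (BT.node 6400 (BT.node 6399 (BT.leaf c4_99) (BT.leaf c4_100)) (BT.node 6401 (BT.leaf c4_101) (BT.leaf c4_102))) (BT.node 6404 (BT.node 6403 (BT.leaf c4_103) (BT.leaf c4_104)) (BT.leaf c4_105))) (BT.node 6409 (BT.node 6407 (BT.node 6406 (BT.leaf c4_106) (BT.leaf c4_107)) (BT.node 6408 (BT.leaf c4_108) (BT.leaf c4_109))) (BT.node 6411 (BT.node 6410 (BT.leaf c4_110) (BT.leaf c4_111)) (BT.leaf c4_112))))))) (BT.node 6468 (BT.node 6440 (BT.node 6426 (BT.node 6419 (BT.node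 6416 (BT.node 6414 (BT.node 6413 (BT.leaf c4_113) (BT.leaf c4_114)) (BT.node 6415 (BT.leaf c4_115) (BT.leaf c4_116))) (BT.node 6418 (BT.node 6417 (BT.leaf c4_117) (BT.leaf c4_118)) (BT.leaf c4_119))) (BT.node 6423 (BT.node 6421 (BT.node 6420 (BT.leaf c4_120) (BT.leaf c4_121)) (BT.node 6422 (BT.leaf c4_122) (BT.leaf c4_123))) (BT.node 6425 (BT.node 6424 (BT.leaf c4_124) (BT.leaf c4_125)) (BT.leaf c4_126)))) (BT.node 6433 (BT.node 6430 (BT.node 6428 (BT.node 6427 (BT.leaf c4_127) (BT.leaf c4_128)) (BT.node 6429 (BT.leaf c4_129) (BT.leaf c4_130))) (BT.node 6432 (BT.node 6431 (BT.leaf c4_131) (BT.leaf c4_132)) (BT.leaf c4_133))) (BT.node 6437 (BT.node 6435 (BT.node 6434 (BT.leaf c4_134) (BT.leaf c4_135)) (BT.node 6436 (BT.leaf c4_136) (BT.leaf c4_137))) (BT.node 6439 (BT.node 6438 (BT.leaf c4_138) (BT.leaf c4_139)) (BT.leaf c4_140))))) (BT.node 6454 (BT.node 6447 (BT.node 6444 (BT.node 6442 (BT.node 6441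 (BT.leaf c4_141) (BT.leaf c4_142)) (BT.node 6443 (BT.leaf c4_143) (BT.leaf c4_144))) (BT.node 6446 (BT.node 6445 (BT.leaf c4_145) (BT.leaf c4_146)) (BT.leaf c4_147))) (BT.node 6451 (BT.node 6449 (BT.node 6448 (BT.leaf c4_148) (BT.leaf c4_149)) (BT.node 6450 (BT.leaf c4_150) (BT.leaf c4_151))) (BT.node 6453 (BT.node 6452 (BT.leaf c4_152) (BT.leaf c4_153)) (BT.leaf c4_154)))) (BT.node 6461 (BT.node 6458 (BT.node 6456 (BT.node 6455 (BT.leaf c4_155) (BT.leaf c4_156)) (BT.node 6457 (BT.leaf c4_157) (BT.leaf c4_158))) (BT.node 6460 (BT.node 6459 (BT.leaf c4_159) (BT.leaf c4_160)) (BT.leaf c4_161))) (BT.node 6465 (BT.node 6463 (BT.node 6462 (BT.leaf c4_162) (BT.leaf c4_163)) (BT.node 6464 (BT.leaf c4_164) (BT.leaf c4_165))) (BT.node 6467 (BT.node 6466 (BT.leaf c4_166) (BT.leaf c4_167)) (BT.leaf c4_168)))))) (BT.node 6496 (BT.node 6482 (BT.node 6475 (BT.node 6472 (BT.node 6470 (BT.node 6469 (BT.leaf c4_169)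 (BT.leaf c4_170)) (BT.node 6471 (BT.leaf c4_171) (BT.leaf c4_172))) (BT.node 6474 (BT.node 6473 (BT.leaf c4_173) (BT.leaf c4_174)) (BT.leaf c4_175))) (BT.node 6479 (BT.node 6477 (BT.node 6476 (BT.leaf c4_176) (BT.leaf c4_177)) (BT.node 6478 (BT.leaf c4_178) (BT.leaf c4_179))) (BT.node 6481 (BT.node 6480 (BT.leaf c4_180) (BT.leaf c4_181)) (BT.leaf c4_182)))) (BT.node 6489 (BT.node 6486 (BT.node 6484 (BT.node 6483 (BT.leaf c4_183) (BT.leaf c4_184)) (BT.node 6485 (BT.leaf c4_185) (BT.leaf c4_186))) (BT.node 6488 (BT.node 6487 (BT.leaf c4_187) (BT.leaf c4_188)) (BT.leaf c4_189))) (BT.node 6493 (BT.node 6491 (BT.node 6490 (BT.leaf c4_190) (BT.leaf c4_191)) (BT.node 6492 (BT.leaf c4_192) (BT.leaf c4_193))) (BT.node 6495 (BT.node 6494 (BT.leaf c4_194) (BT.leaf c4_195)) (BT.leaf c4_196))))) (BT.node 6510 (BT.node 6503 (BT.node 6500 (BT.node 6498 (BT.node 6497 (BT.leaf c4_197) (BT.leaf c4_198)) (BT.node 6499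 (BT.leaf c4_199) (BT.leaf c4_200))) (BT.node 6502 (BT.node 6501 (BT.leaf c4_201) (BT.leaf c4_202)) (BT.leaf c4_203))) (BT.node 6507 (BT.node 6505 (BT.node 6504 (BT.leaf c4_204) (BT.leaf c4_205)) (BT.node 6506 (BT.leaf c4_206) (BT.leaf c4_207))) (BT.node 6509 (BT.node 6508 (BT.leaf c4_208) (BT.leaf c4_209)) (BT.leaf c4_210)))) (BT.node 6517 (BT.node 6514 (BT.node 6512 (BT.node 6511 (BT.leaf c4_211) (BT.leaf c4_212)) (BT.node 6513 (BT.leaf c4_213) (BT.leaf c4_214))) (BT.node 6516 (BT.node 6515 (BT.leaf c4_215) (BT.leaf c4_216)) (BT.leaf c4_217))) (BT.node 6521 (BT.node 6519 (BT.node 6518 (BT.leaf c4_218) (BT.leaf c4_219)) (BT.node 6520 (BT.leaf c4_220) (BT.leaf c4_221))) (BT.node 6523 (BT.node 6522 (BT.leaf c4_222) (BT.leaf c4_223)) (BT.leaf c4_224)))))))) (BT.node 6637 (BT.node 6581 (BT.node 6553 (BT.node 6539 (BT.node 6532 (BT.node 6528 (BT.node 6526 (BT.node 6525 (BT.leaf c4_225) (BT.leaf c4_226))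 (BT.node 6527 (BT.leaf c4_227) (BT.leaf c4_228))) (BT.node 6530 (BT.node 6529 (BT.leaf c4_229) (BT.leaf c4_230)) (BT.node 6531 (BT.leaf c4_231) (BT.leaf c4_232)))) (BT.node 6536 (BT.node 6534 (BT.node 6533 (BT.leaf c4_233) (BT.leaf c4_234)) (BT.node 6535 (BT.leaf c4_235) (BT.leaf c4_236))) (BT.node 6538 (BT.node 6537 (BT.leaf c4_237) (BT.leaf c4_238)) (BT.leaf c4_239)))) (BT.node 6546 (BT.node 6543 (BT.node 6541 (BT.node 6540 (BT.leaf c4_240) (BT.leaf c4_241)) (BT.node 6542 (BT.leaf c4_242) (BT.leaf c4_243))) (BT.node 6545 (BT.node 6544 (BT.leaf c4_244) (BT.leaf c4_245)) (BT.leaf c4_246))) (BT.node 6550 (BT.node 6548 (BT.node 6547 (BT.leaf c4_247) (BT.leaf c4_248)) (BT.node 6549 (BT.leaf c4_249) (BT.leaf c4_250))) (BT.node 6552 (BT.node 6551 (BT.leaf c4_251) (BT.leaf c4_252)) (BT.leaf c4_253))))) (BT.node 6567 (BT.node 6560 (BT.node 6557 (BT.node 6555 (BT.node 6554 (BT.leaf c4_254) (BT.leaf c4_255))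 (BT.node 6556 (BT.leaf c4_256) (BT.leaf c4_257))) (BT.node 6559 (BT.node 6558 (BT.leaf c4_258) (BT.leaf c4_259)) (BT.leaf c4_260))) (BT.node 6564 (BT.node 6562 (BT.node 6561 (BT.leaf c4_261) (BT.leaf c4_262)) (BT.node 6563 (BT.leaf c4_263) (BT.leaf c4_264))) (BT.node 6566 (BT.node 6565 (BT.leaf c4_265) (BT.leaf c4_266)) (BT.leaf c4_267)))) (BT.node 6574 (BT.node 6571 (BT.node 6569 (BT.node 6568 (BT.leaf c4_268) (BT.leaf c4_269)) (BT.node 6570 (BT.leaf c4_270) (BT.leaf c4_271))) (BT.node 6573 (BT.node 6572 (BT.leaf c4_272) (BT.leaf c4_273)) (BT.leaf c4_274))) (BT.node 6578 (BT.node 6576 (BT.node 6575 (BT.leaf c4_275) (BT.leaf c4_276)) (BT.node 6577 (BT.leaf c4_277) (BT.leaf c4_278))) (BT.node 6580 (BT.node 6579 (BT.leaf c4_279) (BT.leaf c4_280)) (BT.leaf c4_281)))))) (BT.node 6609 (BT.node 6595 (BT.node 6588 (BT.node 6585 (BT.node 6583 (BT.node 6582 (BT.leaf c4_282) (BT.leaf c4_283)) (BT.node 6584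 (BT.leaf c4_284) (BT.leaf c4_285))) (BT.node 6587 (BT.node 6586 (BT.leaf c4_286) (BT.leaf c4_287)) (BT.leaf c4_288))) (BT.node 6592 (BT.node 6590 (BT.node 6589 (BT.leaf c4_289) (BT.leaf c4_290)) (BT.node 6591 (BT.leaf c4_291) (BT.leaf c4_292))) (BT.node 6594 (BT.node 6593 (BT.leaf c4_293) (BT.leaf c4_294)) (BT.leaf c4_295)))) (BT.node 6602 (BT.node 6599 (BT.node 6597 (BT.node 6596 (BT.leaf c4_296) (BT.leaf c4_297)) (BT.node 6598 (BT.leaf c4_298) (BT.leaf c4_299))) (BT.node 6601 (BT.node 6600 (BT.leaf c4_300) (BT.leaf c4_301)) (BT.leaf c4_302))) (BT.node 6606 (BT.node 6604 (BT.node 6603 (BT.leaf c4_303) (BT.leaf c4_304)) (BT.node 6605 (BT.leaf c4_305) (BT.leaf c4_306))) (BT.node 6608 (BT.node 6607 (BT.leaf c4_307) (BT.leaf c4_308)) (BT.leaf c4_309))))) (BT.node 6623 (BT.node 6616 (BT.node 6613 (BT.node 6611 (BT.node 6610 (BT.leaf c4_310) (BT.leaf c4_311)) (BT.node 6612 (BT.leaf c4_312) (BT.leaf c4_313)))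 (BT.node 6615 (BT.node 6614 (BT.leaf c4_314) (BT.leaf c4_315)) (BT.leaf c4_316))) (BT.node 6620 (BT.node 6618 (BT.node 6617 (BT.leaf c4_317) (BT.leaf c4_318)) (BT.node 6619 (BT.leaf c4_319) (BT.leaf c4_320))) (BT.node 6622 (BT.node 6621 (BT.leaf c4_321) (BT.leaf c4_322)) (BT.leaf c4_323)))) (BT.node 6630 (BT.node 6627 (BT.node 6625 (BT.node 6624 (BT.leaf c4_324) (BT.leaf c4_325)) (BT.node 6626 (BT.leaf c4_326) (BT.leaf c4_327))) (BT.node 6629 (BT.node 6628 (BT.leaf c4_328) (BT.leaf c4_329)) (BT.leaf c4_330))) (BT.node 6634 (BT.node 6632 (BT.node 6631 (BT.leaf c4_331) (BT.leaf c4_332)) (BT.node 6633 (BT.leaf c4_333) (BT.leaf c4_334))) (BT.node 6636 (BT.node 6635 (BT.leaf c4_335) (BT.leaf c4_336)) (BT.leaf c4_337))))))) (BT.node 6693 (BT.node 6665 (BT.node 6651 (BT.node 6644 (BT.node 6641 (BT.node 6639 (BT.node 6638 (BT.leaf c4_338) (BT.leaf c4_339)) (BT.node 6640 (BT.leaf c4_340) (BT.leaf c4_341)))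 (BT.node 6643 (BT.node 6642 (BT.leaf c4_342) (BT.leaf c4_343)) (BT.leaf c4_344))) (BT.node 6648 (BT.node 6646 (BT.node 6645 (BT.leaf c4_345) (BT.leaf c4_346)) (BT.node 6647 (BT.leaf c4_347) (BT.leaf c4_348))) (BT.node 6650 (BT.node 6649 (BT.leaf c4_349) (BT.leaf c4_350)) (BT.leaf c4_351)))) (BT.node 6658 (BT.node 6655 (BT.node 6653 (BT.node 6652 (BT.leaf c4_352) (BT.leaf c4_353)) (BT.node 6654 (BT.leaf c4_354) (BT.leaf c4_355))) (BT.node 6657 (BT.node 6656 (BT.leaf c4_356) (BT.leaf c4_357)) (BT.leaf c4_358))) (BT.node 6662 (BT.node 6660 (BT.node 6659 (BT.leaf c4_359) (BT.leaf c4_360)) (BT.node 6661 (BT.leaf c4_361) (BT.leaf c4_362))) (BT.node 6664 (BT.node 6663 (BT.leaf c4_363) (BT.leaf c4_364)) (BT.leaf c4_365))))) (BT.node 6679 (BT.node 6672 (BT.node 6669 (BT.node 6667 (BT.node 6666 (BT.leaf c4_366) (BT.leaf c4_367)) (BT.node 6668 (BT.leaf c4_368) (BT.leaf c4_369))) (BT.node 6671 (BT.node 6670 (BT.leaf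 c4_370) (BT.leaf c4_371)) (BT.leaf c4_372))) (BT.node 6676 (BT.node 6674 (BT.node 6673 (BT.leaf c4_373) (BT.leaf c4_374)) (BT.node 6675 (BT.leaf c4_375) (BT.leaf c4_376))) (BT.node 6678 (BT.node 6677 (BT.leaf c4_377) (BT.leaf c4_378)) (BT.leaf c4_379)))) (BT.node 6686 (BT.node 6683 (BT.node 6681 (BT.node 6680 (BT.leaf c4_380) (BT.leaf c4_381)) (BT.node 6682 (BT.leaf c4_382) (BT.leaf c4_383))) (BT.node 6685 (BT.node 6684 (BT.leaf c4_384) (BT.leaf c4_385)) (BT.leaf c4_386))) (BT.node 6690 (BT.node 6688 (BT.node 6687 (BT.leaf c4_387) (BT.leaf c4_388)) (BT.node 6689 (BT.leaf c4_389) (BT.leaf c4_390))) (BT.node 6692 (BT.node 6691 (BT.leaf c4_391) (BT.leaf c4_392)) (BT.leaf c4_393)))))) (BT.node 6721 (BT.node 6707 (BT.node 6700 (BT.node 6697 (BT.node 6695 (BT.node 6694 (BT.leaf c4_394) (BT.leaf c4_395)) (BT.node 6696 (BT.leaf c4_396) (BT.leaf c4_397))) (BT.node 6699 (BT.node 6698 (BT.leaf c4_398) (BT.leaf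 c4_399)) (BT.leaf c4_400))) (BT.node 6704 (BT.node 6702 (BT.node 6701 (BT.leaf c4_401) (BT.leaf c4_402)) (BT.node 6703 (BT.leaf c4_403) (BT.leaf c4_404))) (BT.node 6706 (BT.node 6705 (BT.leaf c4_405) (BT.leaf c4_406)) (BT.leaf c4_407)))) (BT.node 6714 (BT.node 6711 (BT.node 6709 (BT.node 6708 (BT.leaf c4_408) (BT.leaf c4_409)) (BT.node 6710 (BT.leaf c4_410) (BT.leaf c4_411))) (BT.node 6713 (BT.node 6712 (BT.leaf c4_412) (BT.leaf c4_413)) (BT.leaf c4_414))) (BT.node 6718 (BT.node 6716 (BT.node 6715 (BT.leaf c4_415) (BT.leaf c4_416)) (BT.node 6717 (BT.leaf c4_417) (BT.leaf c4_418))) (BT.node 6720 (BT.node 6719 (BT.leaf c4_419) (BT.leaf c4_420)) (BT.leaf c4_421))))) (BT.node 6735 (BT.node 6728 (BT.node 6725 (BT.node 6723 (BT.node 6722 (BT.leaf c4_422) (BT.leaf c4_423)) (BT.node 6724 (BT.leaf c4_424) (BT.leaf c4_425))) (BT.node 6727 (BT.node 6726 (BT.leaf c4_426) (BT.leaf c4_427)) (BT.leaf c4_428))) (BT.node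 6732 (BT.node 6730 (BT.node 6729 (BT.leaf c4_429) (BT.leaf c4_430)) (BT.node 6731 (BT.leaf c4_431) (BT.leaf c4_432))) (BT.node 6734 (BT.node 6733 (BT.leaf c4_433) (BT.leaf c4_434)) (BT.leaf c4_435)))) (BT.node 6742 (BT.node 6739 (BT.node 6737 (BT.node 6736 (BT.leaf c4_436) (BT.leaf c4_437)) (BT.node 6738 (BT.leaf c4_438) (BT.leaf c4_439))) (BT.node 6741 (BT.node 6740 (BT.leaf c4_440) (BT.leaf c4_441)) (BT.leaf c4_442))) (BT.node 6746 (BT.node 6744 (BT.node 6743 (BT.leaf c4_443) (BT.leaf c4_444)) (BT.node 6745 (BT.leaf c4_445) (BT.leaf c4_446))) (BT.node 6748 (BT.node 6747 (BT.leaf c4_447) (BT.leaf c4_448)) (BT.leaf c4_449))))))))) (BT.node 6974 (BT.node 6862 (BT.node 6806 (BT.node 6778 (BT.node 6764 (BT.node 6757 (BT.node 6753 (BT.node 6751 (BT.node 6750 (BT.leaf c4_450) (BT.leaf c4_451)) (BT.node 6752 (BT.leaf c4_452) (BT.leaf c4_453))) (BT.node 6755 (BT.node 6754 (BT.leaf c4_454) (BT.leaf c4_455))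 (BT.node 6756 (BT.leaf c4_456) (BT.leaf c4_457)))) (BT.node 6761 (BT.node 6759 (BT.node 6758 (BT.leaf c4_458) (BT.leaf c4_459)) (BT.node 6760 (BT.leaf c4_460) (BT.leaf c4_461))) (BT.node 6763 (BT.node 6762 (BT.leaf c4_462) (BT.leaf c4_463)) (BT.leaf c4_464)))) (BT.node 6771 (BT.node 6768 (BT.node 6766 (BT.node 6765 (BT.leaf c4_465) (BT.leaf c4_466)) (BT.node 6767 (BT.leaf c4_467) (BT.leaf c4_468))) (BT.node 6770 (BT.node 6769 (BT.leaf c4_469) (BT.leaf c4_470)) (BT.leaf c4_471))) (BT.node 6775 (BT.node 6773 (BT.node 6772 (BT.leaf c4_472) (BT.leaf c4_473)) (BT.node 6774 (BT.leaf c4_474) (BT.leaf c4_475))) (BT.node 6777 (BT.node 6776 (BT.leaf c4_476) (BT.leaf c4_477)) (BT.leaf c4_478))))) (BT.node 6792 (BT.node 6785 (BT.node 6782 (BT.node 6780 (BT.node 6779 (BT.leaf c4_479) (BT.leaf c4_480)) (BT.node 6781 (BT.leaf c4_481) (BT.leaf c4_482))) (BT.node 6784 (BT.node 6783 (BT.leaf c4_483) (BT.leaf c4_484))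 (BT.leaf c4_485))) (BT.node 6789 (BT.node 6787 (BT.node 6786 (BT.leaf c4_486) (BT.leaf c4_487)) (BT.node 6788 (BT.leaf c4_488) (BT.leaf c4_489))) (BT.node 6791 (BT.node 6790 (BT.leaf c4_490) (BT.leaf c4_491)) (BT.leaf c4_492)))) (BT.node 6799 (BT.node 6796 (BT.node 6794 (BT.node 6793 (BT.leaf c4_493) (BT.leaf c4_494)) (BT.node 6795 (BT.leaf c4_495) (BT.leaf c4_496))) (BT.node 6798 (BT.node 6797 (BT.leaf c4_497) (BT.leaf c4_498)) (BT.leaf c4_499))) (BT.node 6803 (BT.node 6801 (BT.node 6800 (BT.leaf c4_500) (BT.leaf c4_501)) (BT.node 6802 (BT.leaf c4_502) (BT.leaf c4_503))) (BT.node 6805 (BT.node 6804 (BT.leaf c4_504) (BT.leaf c4_505)) (BT.leaf c4_506)))))) (BT.node 6834 (BT.node 6820 (BT.node 6813 (BT.node 6810 (BT.node 6808 (BT.node 6807 (BT.leaf c4_507) (BT.leaf c4_508)) (BT.node 6809 (BT.leaf c4_509) (BT.leaf c4_510))) (BT.node 6812 (BT.node 6811 (BT.leaf c4_511) (BT.leaf c4_512)) (BT.leaf c4_513)))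 (BT.node 6817 (BT.node 6815 (BT.node 6814 (BT.leaf c4_514) (BT.leaf c4_515)) (BT.node 6816 (BT.leaf c4_516) (BT.leaf c4_517))) (BT.node 6819 (BT.node 6818 (BT.leaf c4_518) (BT.leaf c4_519)) (BT.leaf c4_520)))) (BT.node 6827 (BT.node 6824 (BT.node 6822 (BT.node 6821 (BT.leaf c4_521) (BT.leaf c4_522)) (BT.node 6823 (BT.leaf c4_523) (BT.leaf c4_524))) (BT.node 6826 (BT.node 6825 (BT.leaf c4_525) (BT.leaf c4_526)) (BT.leaf c4_527))) (BT.node 6831 (BT.node 6829 (BT.node 6828 (BT.leaf c4_528) (BT.leaf c4_529)) (BT.node 6830 (BT.leaf c4_530) (BT.leaf c4_531))) (BT.node 6833 (BT.node 6832 (BT.leaf c4_532) (BT.leaf c4_533)) (BT.leaf c4_534))))) (BT.node 6848 (BT.node 6841 (BT.node 6838 (BT.node 6836 (BT.node 6835 (BT.leaf c4_535) (BT.leaf c4_536)) (BT.node 6837 (BT.leaf c4_537) (BT.leaf c4_538))) (BT.node 6840 (BT.node 6839 (BT.leaf c4_539) (BT.leaf c4_540)) (BT.leaf c4_541))) (BT.node 6845 (BT.node 6843 (BT.node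 6842 (BT.leaf c4_542) (BT.leaf c4_543)) (BT.node 6844 (BT.leaf c4_544) (BT.leaf c4_545))) (BT.node 6847 (BT.node 6846 (BT.leaf c4_546) (BT.leaf c4_547)) (BT.leaf c4_548)))) (BT.node 6855 (BT.node 6852 (BT.node 6850 (BT.node 6849 (BT.leaf c4_549) (BT.leaf c4_550)) (BT.node 6851 (BT.leaf c4_551) (BT.leaf c4_552))) (BT.node 6854 (BT.node 6853 (BT.leaf c4_553) (BT.leaf c4_554)) (BT.leaf c4_555))) (BT.node 6859 (BT.node 6857 (BT.node 6856 (BT.leaf c4_556) (BT.leaf c4_557)) (BT.node 6858 (BT.leaf c4_558) (BT.leaf c4_559))) (BT.node 6861 (BT.node 6860 (BT.leaf c4_560) (BT.leaf c4_561)) (BT.leaf c4_562))))))) (BT.node 6918 (BT.node 6890 (BT.node 6876 (BT.node 6869 (BT.node 6866 (BT.node 6864 (BT.node 6863 (BT.leaf c4_563) (BT.leaf c4_564)) (BT.node 6865 (BT.leaf c4_565) (BT.leaf c4_566))) (BT.node 6868 (BT.node 6867 (BT.leaf c4_567) (BT.leaf c4_568)) (BT.leaf c4_569))) (BT.node 6873 (BT.node 6871 (BT.node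 6870 (BT.leaf c4_570) (BT.leaf c4_571)) (BT.node 6872 (BT.leaf c4_572) (BT.leaf c4_573))) (BT.node 6875 (BT.node 6874 (BT.leaf c4_574) (BT.leaf c4_575)) (BT.leaf c4_576)))) (BT.node 6883 (BT.node 6880 (BT.node 6878 (BT.node 6877 (BT.leaf c4_577) (BT.leaf c4_578)) (BT.node 6879 (BT.leaf c4_579) (BT.leaf c4_580))) (BT.node 6882 (BT.node 6881 (BT.leaf c4_581) (BT.leaf c4_582)) (BT.leaf c4_583))) (BT.node 6887 (BT.node 6885 (BT.node 6884 (BT.leaf c4_584) (BT.leaf c4_585)) (BT.node 6886 (BT.leaf c4_586) (BT.leaf c4_587))) (BT.node 6889 (BT.node 6888 (BT.leaf c4_588) (BT.leaf c4_589)) (BT.leaf c4_590))))) (BT.node 6904 (BT.node 6897 (BT.node 6894 (BT.node 6892 (BT.node 6891 (BT.leaf c4_591) (BT.leaf c4_592)) (BT.node 6893 (BT.leaf c4_593) (BT.leaf c4_594))) (BT.node 6896 (BT.node 6895 (BT.leaf c4_595) (BT.leaf c4_596)) (BT.leaf c4_597))) (BT.node 6901 (BT.node 6899 (BT.node 6898 (BT.leaf c4_598) (BT.leaf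 c4_599)) (BT.node 6900 (BT.leaf c4_600) (BT.leaf c4_601))) (BT.node 6903 (BT.node 6902 (BT.leaf c4_602) (BT.leaf c4_603)) (BT.leaf c4_604)))) (BT.node 6911 (BT.node 6908 (BT.node 6906 (BT.node 6905 (BT.leaf c4_605) (BT.leaf c4_606)) (BT.node 6907 (BT.leaf c4_607) (BT.leaf c4_608))) (BT.node 6910 (BT.node 6909 (BT.leaf c4_609) (BT.leaf c4_610)) (BT.leaf c4_611))) (BT.node 6915 (BT.node 6913 (BT.node 6912 (BT.leaf c4_612) (BT.leaf c4_613)) (BT.node 6914 (BT.leaf c4_614) (BT.leaf c4_615))) (BT.node 6917 (BT.node 6916 (BT.leaf c4_616) (BT.leaf c4_617)) (BT.leaf c4_618)))))) (BT.node 6946 (BT.node 6932 (BT.node 6925 (BT.node 6922 (BT.node 6920 (BT.node 6919 (BT.leaf c4_619) (BT.leaf c4_620)) (BT.node 6921 (BT.leaf c4_621) (BT.leaf c4_622))) (BT.node 6924 (BT.node 6923 (BT.leaf c4_623) (BT.leaf c4_624)) (BT.leaf c4_625))) (BT.node 6929 (BT.node 6927 (BT.node 6926 (BT.leaf c4_626) (BT.leaf c4_627)) (BT.node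 6928 (BT.leaf c4_628) (BT.leaf c4_629))) (BT.node 6931 (BT.node 6930 (BT.leaf c4_630) (BT.leaf c4_631)) (BT.leaf c4_632)))) (BT.node 6939 (BT.node 6936 (BT.node 6934 (BT.node 6933 (BT.leaf c4_633) (BT.leaf c4_634)) (BT.node 6935 (BT.leaf c4_635) (BT.leaf c4_636))) (BT.node 6938 (BT.node 6937 (BT.leaf c4_637) (BT.leaf c4_638)) (BT.leaf c4_639))) (BT.node 6943 (BT.node 6941 (BT.node 6940 (BT.leaf c4_640) (BT.leaf c4_641)) (BT.node 6942 (BT.leaf c4_642) (BT.leaf c4_643))) (BT.node 6945 (BT.node 6944 (BT.leaf c4_644) (BT.leaf c4_645)) (BT.leaf c4_646))))) (BT.node 6960 (BT.node 6953 (BT.node 6950 (BT.node 6948 (BT.node 6947 (BT.leaf c4_647) (BT.leaf c4_648)) (BT.node 6949 (BT.leaf c4_649) (BT.leaf c4_650))) (BT.node 6952 (BT.node 6951 (BT.leaf c4_651) (BT.leaf c4_652)) (BT.leaf c4_653))) (BT.node 6957 (BT.node 6955 (BT.node 6954 (BT.leaf c4_654) (BT.leaf c4_655)) (BT.node 6956 (BT.leaf c4_656) (BT.leaf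 c4_657))) (BT.node 6959 (BT.node 6958 (BT.leaf c4_658) (BT.leaf c4_659)) (BT.leaf c4_660)))) (BT.node 6967 (BT.node 6964 (BT.node 6962 (BT.node 6961 (BT.leaf c4_661) (BT.leaf c4_662)) (BT.node 6963 (BT.leaf c4_663) (BT.leaf c4_664))) (BT.node 6966 (BT.node 6965 (BT.leaf c4_665) (BT.leaf c4_666)) (BT.leaf c4_667))) (BT.node 6971 (BT.node 6969 (BT.node 6968 (BT.leaf c4_668) (BT.leaf c4_669)) (BT.node 6970 (BT.leaf c4_670) (BT.leaf c4_671))) (BT.node 6973 (BT.node 6972 (BT.leaf c4_672) (BT.leaf c4_673)) (BT.leaf c4_674)))))))) (BT.node 7087 (BT.node 7031 (BT.node 7003 (BT.node 6989 (BT.node 6982 (BT.node 6978 (BT.node 6976 (BT.node 6975 (BT.leaf c4_675) (BT.leaf c4_676)) (BT.node 6977 (BT.leaf c4_677) (BT.leaf c4_678))) (BT.node 6980 (BT.node 6979 (BT.leaf c4_679) (BT.leaf c4_680)) (BT.node 6981 (BT.leaf c4_681) (BT.leaf c4_682)))) (BT.node 6986 (BT.node 6984 (BT.node 6983 (BT.leaf c4_683) (BT.leaf c4_684))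 (BT.node 6985 (BT.leaf c4_685) (BT.leaf c4_686))) (BT.node 6988 (BT.node 6987 (BT.leaf c4_687) (BT.leaf c4_688)) (BT.leaf c4_689)))) (BT.node 6996 (BT.node 6993 (BT.node 6991 (BT.node 6990 (BT.leaf c4_690) (BT.leaf c4_691)) (BT.node 6992 (BT.leaf c4_692) (BT.leaf c4_693))) (BT.node 6995 (BT.node 6994 (BT.leaf c4_694) (BT.leaf c4_695)) (BT.leaf c4_696))) (BT.node 7000 (BT.node 6998 (BT.node 6997 (BT.leaf c4_697) (BT.leaf c4_698)) (BT.node 6999 (BT.leaf c4_699) (BT.leaf c4_700))) (BT.node 7002 (BT.node 7001 (BT.leaf c4_701) (BT.leaf c4_702)) (BT.leaf c4_703))))) (BT.node 7017 (BT.node 7010 (BT.node 7007 (BT.node 7005 (BT.node 7004 (BT.leaf c4_704) (BT.leaf c4_705)) (BT.node 7006 (BT.leaf c4_706) (BT.leaf c4_707))) (BT.node 7009 (BT.node 7008 (BT.leaf c4_708) (BT.leaf c4_709)) (BT.leaf c4_710))) (BT.node 7014 (BT.node 7012 (BT.node 7011 (BT.leaf c4_711) (BT.leaf c4_712)) (BT.node 7013 (BT.leaf c4_713)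 (BT.leaf c4_714))) (BT.node 7016 (BT.node 7015 (BT.leaf c4_715) (BT.leaf c4_716)) (BT.leaf c4_717)))) (BT.node 7024 (BT.node 7021 (BT.node 7019 (BT.node 7018 (BT.leaf c4_718) (BT.leaf c4_719)) (BT.node 7020 (BT.leaf c4_720) (BT.leaf c4_721))) (BT.node 7023 (BT.node 7022 (BT.leaf c4_722) (BT.leaf c4_723)) (BT.leaf c4_724))) (BT.node 7028 (BT.node 7026 (BT.node 7025 (BT.leaf c4_725) (BT.leaf c4_726)) (BT.node 7027 (BT.leaf c4_727) (BT.leaf c4_728))) (BT.node 7030 (BT.node 7029 (BT.leaf c4_729) (BT.leaf c4_730)) (BT.leaf c4_731)))))) (BT.node 7059 (BT.node 7045 (BT.node 7038 (BT.node 7035 (BT.node 7033 (BT.node 7032 (BT.leaf c4_732) (BT.leaf c4_733)) (BT.node 7034 (BT.leaf c4_734) (BT.leaf c4_735))) (BT.node 7037 (BT.node 7036 (BT.leaf c4_736) (BT.leaf c4_737)) (BT.leaf c4_738))) (BT.node 7042 (BT.node 7040 (BT.node 7039 (BT.leaf c4_739) (BT.leaf c4_740)) (BT.node 7041 (BT.leaf c4_741) (BT.leaf c4_742)))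 (BT.node 7044 (BT.node 7043 (BT.leaf c4_743) (BT.leaf c4_744)) (BT.leaf c4_745)))) (BT.node 7052 (BT.node 7049 (BT.node 7047 (BT.node 7046 (BT.leaf c4_746) (BT.leaf c4_747)) (BT.node 7048 (BT.leaf c4_748) (BT.leaf c4_749))) (BT.node 7051 (BT.node 7050 (BT.leaf c4_750) (BT.leaf c4_751)) (BT.leaf c4_752))) (BT.node 7056 (BT.node 7054 (BT.node 7053 (BT.leaf c4_753) (BT.leaf c4_754)) (BT.node 7055 (BT.leaf c4_755) (BT.leaf c4_756))) (BT.node 7058 (BT.node 7057 (BT.leaf c4_757) (BT.leaf c4_758)) (BT.leaf c4_759))))) (BT.node 7073 (BT.node 7066 (BT.node 7063 (BT.node 7061 (BT.node 7060 (BT.leaf c4_760) (BT.leaf c4_761)) (BT.node 7062 (BT.leaf c4_762) (BT.leaf c4_763))) (BT.node 7065 (BT.node 7064 (BT.leaf c4_764) (BT.leaf c4_765)) (BT.leaf c4_766))) (BT.node 7070 (BT.node 7068 (BT.node 7067 (BT.leaf c4_767) (BT.leaf c4_768)) (BT.node 7069 (BT.leaf c4_769) (BT.leaf c4_770))) (BT.node 7072 (BT.node 7071 (BT.leaf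 c4_771) (BT.leaf c4_772)) (BT.leaf c4_773)))) (BT.node 7080 (BT.node 7077 (BT.node 7075 (BT.node 7074 (BT.leaf c4_774) (BT.leaf c4_775)) (BT.node 7076 (BT.leaf c4_776) (BT.leaf c4_777))) (BT.node 7079 (BT.node 7078 (BT.leaf c4_778) (BT.leaf c4_779)) (BT.leaf c4_780))) (BT.node 7084 (BT.node 7082 (BT.node 7081 (BT.leaf c4_781) (BT.leaf c4_782)) (BT.node 7083 (BT.leaf c4_783) (BT.leaf c4_784))) (BT.node 7086 (BT.node 7085 (BT.leaf c4_785) (BT.leaf c4_786)) (BT.leaf c4_787))))))) (BT.node 7143 (BT.node 7115 (BT.node 7101 (BT.node 7094 (BT.node 7091 (BT.node 7089 (BT.node 7088 (BT.leaf c4_788) (BT.leaf c4_789)) (BT.node 7090 (BT.leaf c4_790) (BT.leaf c4_791))) (BT.node 7093 (BT.node 7092 (BT.leaf c4_792) (BT.leaf c4_793)) (BT.leaf c4_794))) (BT.node 7098 (BT.node 7096 (BT.node 7095 (BT.leaf c4_795) (BT.leaf c4_796)) (BT.node 7097 (BT.leaf c4_797) (BT.leaf c4_798))) (BT.node 7100 (BT.node 7099 (BT.leaf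 c4_799) (BT.leaf c4_800)) (BT.leaf c4_801)))) (BT.node 7108 (BT.node 7105 (BT.node 7103 (BT.node 7102 (BT.leaf c4_802) (BT.leaf c4_803)) (BT.node 7104 (BT.leaf c4_804) (BT.leaf c4_805))) (BT.node 7107 (BT.node 7106 (BT.leaf c4_806) (BT.leaf c4_807)) (BT.leaf c4_808))) (BT.node 7112 (BT.node 7110 (BT.node 7109 (BT.leaf c4_809) (BT.leaf c4_810)) (BT.node 7111 (BT.leaf c4_811) (BT.leaf c4_812))) (BT.node 7114 (BT.node 7113 (BT.leaf c4_813) (BT.leaf c4_814)) (BT.leaf c4_815))))) (BT.node 7129 (BT.node 7122 (BT.node 7119 (BT.node 7117 (BT.node 7116 (BT.leaf c4_816) (BT.leaf c4_817)) (BT.node 7118 (BT.leaf c4_818) (BT.leaf c4_819))) (BT.node 7121 (BT.node 7120 (BT.leaf c4_820) (BT.leaf c4_821)) (BT.leaf c4_822))) (BT.node 7126 (BT.node 7124 (BT.node 7123 (BT.leaf c4_823) (BT.leaf c4_824)) (BT.node 7125 (BT.leaf c4_825) (BT.leaf c4_826))) (BT.node 7128 (BT.node 7127 (BT.leaf c4_827) (BT.leaf c4_828)) (BT.leaf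 c4_829)))) (BT.node 7136 (BT.node 7133 (BT.node 7131 (BT.node 7130 (BT.leaf c4_830) (BT.leaf c4_831)) (BT.node 7132 (BT.leaf c4_832) (BT.leaf c4_833))) (BT.node 7135 (BT.node 7134 (BT.leaf c4_834) (BT.leaf c4_835)) (BT.leaf c4_836))) (BT.node 7140 (BT.node 7138 (BT.node 7137 (BT.leaf c4_837) (BT.leaf c4_838)) (BT.node 7139 (BT.leaf c4_839) (BT.leaf c4_840))) (BT.node 7142 (BT.node 7141 (BT.leaf c4_841) (BT.leaf c4_842)) (BT.leaf c4_843)))))) (BT.node 7171 (BT.node 7157 (BT.node 7150 (BT.node 7147 (BT.node 7145 (BT.node 7144 (BT.leaf c4_844) (BT.leaf c4_845)) (BT.node 7146 (BT.leaf c4_846) (BT.leaf c4_847))) (BT.node 7149 (BT.node 7148 (BT.leaf c4_848) (BT.leaf c4_849)) (BT.leaf c4_850))) (BT.node 7154 (BT.node 7152 (BT.node 7151 (BT.leaf c4_851) (BT.leaf c4_852)) (BT.node 7153 (BT.leaf c4_853) (BT.leaf c4_854))) (BT.node 7156 (BT.node 7155 (BT.leaf c4_855) (BT.leaf c4_856)) (BT.leaf c4_857)))) (BT.node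 7164 (BT.node 7161 (BT.node 7159 (BT.node 7158 (BT.leaf c4_858) (BT.leaf c4_859)) (BT.node 7160 (BT.leaf c4_860) (BT.leaf c4_861))) (BT.node 7163 (BT.node 7162 (BT.leaf c4_862) (BT.leaf c4_863)) (BT.leaf c4_864))) (BT.node 7168 (BT.node 7166 (BT.node 7165 (BT.leaf c4_865) (BT.leaf c4_866)) (BT.node 7167 (BT.leaf c4_867) (BT.leaf c4_868))) (BT.node 7170 (BT.node 7169 (BT.leaf c4_869) (BT.leaf c4_870)) (BT.leaf c4_871))))) (BT.node 7185 (BT.node 7178 (BT.node 7175 (BT.node 7173 (BT.node 7172 (BT.leaf c4_872) (BT.leaf c4_873)) (BT.node 7174 (BT.leaf c4_874) (BT.leaf c4_875))) (BT.node 7177 (BT.node 7176 (BT.leaf c4_876) (BT.leaf c4_877)) (BT.leaf c4_878))) (BT.node 7182 (BT.node 7180 (BT.node 7179 (BT.leaf c4_879) (BT.leaf c4_880)) (BT.node 7181 (BT.leaf c4_881) (BT.leaf c4_882))) (BT.node 7184 (BT.node 7183 (BT.leaf c4_883) (BT.leaf c4_884)) (BT.leaf c4_885)))) (BT.node 7192 (BT.node 7189 (BT.node 7187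 (BT.node 7186 (BT.leaf c4_886) (BT.leaf c4_887)) (BT.node 7188 (BT.leaf c4_888) (BT.leaf c4_889))) (BT.node 7191 (BT.node 7190 (BT.leaf c4_890) (BT.leaf c4_891)) (BT.leaf c4_892))) (BT.node 7196 (BT.node 7194 (BT.node 7193 (BT.leaf c4_893) (BT.leaf c4_894)) (BT.node 7195 (BT.leaf c4_895) (BT.leaf c4_896))) (BT.node 7198 (BT.node 7197 (BT.leaf c4_897) (BT.leaf c4_898)) (BT.leaf c4_899))))))))))
/-- the chunks of the letter 8 -/
def colL_8 : BT ℕ := (BT.node 7649 (BT.node 7424 (BT.node 7312 (BT.node 7256 (BT.node 7228 (BT.node 7214 (BT.node 7207 (BT.node 7203 (BT.node 7201 (BT.node 7200 (BT.leaf c5_0) (BT.leaf c5_1)) (BT.node 7202 (BT.leaf c5_2) (BT.leaf c5_3))) (BT.node 7205 (BT.node 7204 (BT.leaf c5_4) (BT.leaf c5_5)) (BT.node 7206 (BT.leaf c5_6) (BT.leaf c5_7)))) (BT.node 7211 (BT.node 7209 (BT.node 7208 (BT.leaf c5_8) (BT.leaf c5_9)) (BT.node 7210 (BT.leaf c5_10) (BT.leaf c5_11))) (BT.node 7213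 (BT.node 7212 (BT.leaf c5_12) (BT.leaf c5_13)) (BT.leaf c5_14)))) (BT.node 7221 (BT.node 7218 (BT.node 7216 (BT.node 7215 (BT.leaf c5_15) (BT.leaf c5_16)) (BT.node 7217 (BT.leaf c5_17) (BT.leaf c5_18))) (BT.node 7220 (BT.node 7219 (BT.leaf c5_19) (BT.leaf c5_20)) (BT.leaf c5_21))) (BT.node 7225 (BT.node 7223 (BT.node 7222 (BT.leaf c5_22) (BT.leaf c5_23)) (BT.node 7224 (BT.leaf c5_24) (BT.leaf c5_25))) (BT.node 7227 (BT.node 7226 (BT.leaf c5_26) (BT.leaf c5_27)) (BT.leaf c5_28))))) (BT.node 7242 (BT.node 7235 (BT.node 7232 (BT.node 7230 (BT.node 7229 (BT.leaf c5_29) (BT.leaf c5_30)) (BT.node 7231 (BT.leaf c5_31) (BT.leaf c5_32))) (BT.node 7234 (BT.node 7233 (BT.leaf c5_33) (BT.leaf c5_34)) (BT.leaf c5_35))) (BT.node 7239 (BT.node 7237 (BT.node 7236 (BT.leaf c5_36) (BT.leaf c5_37)) (BT.node 7238 (BT.leaf c5_38) (BT.leaf c5_39))) (BT.node 7241 (BT.node 7240 (BT.leaf c5_40) (BT.leaf c5_41)) (BT.leaf c5_42))))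 (BT.node 7249 (BT.node 7246 (BT.node 7244 (BT.node 7243 (BT.leaf c5_43) (BT.leaf c5_44)) (BT.node 7245 (BT.leaf c5_45) (BT.leaf c5_46))) (BT.node 7248 (BT.node 7247 (BT.leaf c5_47) (BT.leaf c5_48)) (BT.leaf c5_49))) (BT.node 7253 (BT.node 7251 (BT.node 7250 (BT.leaf c5_50) (BT.leaf c5_51)) (BT.node 7252 (BT.leaf c5_52) (BT.leaf c5_53))) (BT.node 7255 (BT.node 7254 (BT.leaf c5_54) (BT.leaf c5_55)) (BT.leaf c5_56)))))) (BT.node 7284 (BT.node 7270 (BT.node 7263 (BT.node 7260 (BT.node 7258 (BT.node 7257 (BT.leaf c5_57) (BT.leaf c5_58)) (BT.node 7259 (BT.leaf c5_59) (BT.leaf c5_60))) (BT.node 7262 (BT.node 7261 (BT.leaf c5_61) (BT.leaf c5_62)) (BT.leaf c5_63))) (BT.node 7267 (BT.node 7265 (BT.node 7264 (BT.leaf c5_64) (BT.leaf c5_65)) (BT.node 7266 (BT.leaf c5_66) (BT.leaf c5_67))) (BT.node 7269 (BT.node 7268 (BT.leaf c5_68) (BT.leaf c5_69)) (BT.leaf c5_70)))) (BT.node 7277 (BT.node 7274 (BT.node 7272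 (BT.node 7271 (BT.leaf c5_71) (BT.leaf c5_72)) (BT.node 7273 (BT.leaf c5_73) (BT.leaf c5_74))) (BT.node 7276 (BT.node 7275 (BT.leaf c5_75) (BT.leaf c5_76)) (BT.leaf c5_77))) (BT.node 7281 (BT.node 7279 (BT.node 7278 (BT.leaf c5_78) (BT.leaf c5_79)) (BT.node 7280 (BT.leaf c5_80) (BT.leaf c5_81))) (BT.node 7283 (BT.node 7282 (BT.leaf c5_82) (BT.leaf c5_83)) (BT.leaf c5_84))))) (BT.node 7298 (BT.node 7291 (BT.node 7288 (BT.node 7286 (BT.node 7285 (BT.leaf c5_85) (BT.leaf c5_86)) (BT.node 7287 (BT.leaf c5_87) (BT.leaf c5_88))) (BT.node 7290 (BT.node 7289 (BT.leaf c5_89) (BT.leaf c5_90)) (BT.leaf c5_91))) (BT.node 7295 (BT.node 7293 (BT.node 7292 (BT.leaf c5_92) (BT.leaf c5_93)) (BT.node 7294 (BT.leaf c5_94) (BT.leaf c5_95))) (BT.node 7297 (BT.node 7296 (BT.leaf c5_96) (BT.leaf c5_97)) (BT.leaf c5_98)))) (BT.node 7305 (BT.node 7302 (BT.node 7300 (BT.node 7299 (BT.leaf c5_99) (BT.leaf c5_100)) (BT.node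 7301 (BT.leaf c5_101) (BT.leaf c5_102))) (BT.node 7304 (BT.node 7303 (BT.leaf c5_103) (BT.leaf c5_104)) (BT.leaf c5_105))) (BT.node 7309 (BT.node 7307 (BT.node 7306 (BT.leaf c5_106) (BT.leaf c5_107)) (BT.node 7308 (BT.leaf c5_108) (BT.leaf c5_109))) (BT.node 7311 (BT.node 7310 (BT.leaf c5_110) (BT.leaf c5_111)) (BT.leaf c5_112))))))) (BT.node 7368 (BT.node 7340 (BT.node 7326 (BT.node 7319 (BT.node 7316 (BT.node 7314 (BT.node 7313 (BT.leaf c5_113) (BT.leaf c5_114)) (BT.node 7315 (BT.leaf c5_115) (BT.leaf c5_116))) (BT.node 7318 (BT.node 7317 (BT.leaf c5_117) (BT.leaf c5_118)) (BT.leaf c5_119))) (BT.node 7323 (BT.node 7321 (BT.node 7320 (BT.leaf c5_120) (BT.leaf c5_121)) (BT.node 7322 (BT.leaf c5_122) (BT.leaf c5_123))) (BT.node 7325 (BT.node 7324 (BT.leaf c5_124) (BT.leaf c5_125)) (BT.leaf c5_126)))) (BT.node 7333 (BT.node 7330 (BT.node 7328 (BT.node 7327 (BT.leaf c5_127) (BT.leaf c5_128)) (BT.node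 7329 (BT.leaf c5_129) (BT.leaf c5_130))) (BT.node 7332 (BT.node 7331 (BT.leaf c5_131) (BT.leaf c5_132)) (BT.leaf c5_133))) (BT.node 7337 (BT.node 7335 (BT.node 7334 (BT.leaf c5_134) (BT.leaf c5_135)) (BT.node 7336 (BT.leaf c5_136) (BT.leaf c5_137))) (BT.node 7339 (BT.node 7338 (BT.leaf c5_138) (BT.leaf c5_139)) (BT.leaf c5_140))))) (BT.node 7354 (BT.node 7347 (BT.node 7344 (BT.node 7342 (BT.node 7341 (BT.leaf c5_141) (BT.leaf c5_142)) (BT.node 7343 (BT.leaf c5_143) (BT.leaf c5_144))) (BT.node 7346 (BT.node 7345 (BT.leaf c5_145) (BT.leaf c5_146)) (BT.leaf c5_147))) (BT.node 7351 (BT.node 7349 (BT.node 7348 (BT.leaf c5_148) (BT.leaf c5_149)) (BT.node 7350 (BT.leaf c5_150) (BT.leaf c5_151))) (BT.node 7353 (BT.node 7352 (BT.leaf c5_152) (BT.leaf c5_153)) (BT.leaf c5_154)))) (BT.node 7361 (BT.node 7358 (BT.node 7356 (BT.node 7355 (BT.leaf c5_155) (BT.leaf c5_156)) (BT.node 7357 (BT.leaf c5_157) (BT.leaf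 c5_158))) (BT.node 7360 (BT.node 7359 (BT.leaf c5_159) (BT.leaf c5_160)) (BT.leaf c5_161))) (BT.node 7365 (BT.node 7363 (BT.node 7362 (BT.leaf c5_162) (BT.leaf c5_163)) (BT.node 7364 (BT.leaf c5_164) (BT.leaf c5_165))) (BT.node 7367 (BT.node 7366 (BT.leaf c5_166) (BT.leaf c5_167)) (BT.leaf c5_168)))))) (BT.node 7396 (BT.node 7382 (BT.node 7375 (BT.node 7372 (BT.node 7370 (BT.node 7369 (BT.leaf c5_169) (BT.leaf c5_170)) (BT.node 7371 (BT.leaf c5_171) (BT.leaf c5_172))) (BT.node 7374 (BT.node 7373 (BT.leaf c5_173) (BT.leaf c5_174)) (BT.leaf c5_175))) (BT.node 7379 (BT.node 7377 (BT.node 7376 (BT.leaf c5_176) (BT.leaf c5_177)) (BT.node 7378 (BT.leaf c5_178) (BT.leaf c5_179))) (BT.node 7381 (BT.node 7380 (BT.leaf c5_180) (BT.leaf c5_181)) (BT.leaf c5_182)))) (BT.node 7389 (BT.node 7386 (BT.node 7384 (BT.node 7383 (BT.leaf c5_183) (BT.leaf c5_184)) (BT.node 7385 (BT.leaf c5_185) (BT.leaf c5_186))) (BT.node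 7388 (BT.node 7387 (BT.leaf c5_187) (BT.leaf c5_188)) (BT.leaf c5_189))) (BT.node 7393 (BT.node 7391 (BT.node 7390 (BT.leaf c5_190) (BT.leaf c5_191)) (BT.node 7392 (BT.leaf c5_192) (BT.leaf c5_193))) (BT.node 7395 (BT.node 7394 (BT.leaf c5_194) (BT.leaf c5_195)) (BT.leaf c5_196))))) (BT.node 7410 (BT.node 7403 (BT.node 7400 (BT.node 7398 (BT.node 7397 (BT.leaf c5_197) (BT.leaf c5_198)) (BT.node 7399 (BT.leaf c5_199) (BT.leaf c5_200))) (BT.node 7402 (BT.node 7401 (BT.leaf c5_201) (BT.leaf c5_202)) (BT.leaf c5_203))) (BT.node 7407 (BT.node 7405 (BT.node 7404 (BT.leaf c5_204) (BT.leaf c5_205)) (BT.node 7406 (BT.leaf c5_206) (BT.leaf c5_207))) (BT.node 7409 (BT.node 7408 (BT.leaf c5_208) (BT.leaf c5_209)) (BT.leaf c5_210)))) (BT.node 7417 (BT.node 7414 (BT.node 7412 (BT.node 7411 (BT.leaf c5_211) (BT.leaf c5_212)) (BT.node 7413 (BT.leaf c5_213) (BT.leaf c5_214))) (BT.node 7416 (BT.node 7415 (BT.leaf c5_215)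 (BT.leaf c5_216)) (BT.leaf c5_217))) (BT.node 7421 (BT.node 7419 (BT.node 7418 (BT.leaf c5_218) (BT.leaf c5_219)) (BT.node 7420 (BT.leaf c5_220) (BT.leaf c5_221))) (BT.node 7423 (BT.node 7422 (BT.leaf c5_222) (BT.leaf c5_223)) (BT.leaf c5_224)))))))) (BT.node 7537 (BT.node 7481 (BT.node 7453 (BT.node 7439 (BT.node 7432 (BT.node 7428 (BT.node 7426 (BT.node 7425 (BT.leaf c5_225) (BT.leaf c5_226)) (BT.node 7427 (BT.leaf c5_227) (BT.leaf c5_228))) (BT.node 7430 (BT.node 7429 (BT.leaf c5_229) (BT.leaf c5_230)) (BT.node 7431 (BT.leaf c5_231) (BT.leaf c5_232)))) (BT.node 7436 (BT.node 7434 (BT.node 7433 (BT.leaf c5_233) (BT.leaf c5_234)) (BT.node 7435 (BT.leaf c5_235) (BT.leaf c5_236))) (BT.node 7438 (BT.node 7437 (BT.leaf c5_237) (BT.leaf c5_238)) (BT.leaf c5_239)))) (BT.node 7446 (BT.node 7443 (BT.node 7441 (BT.node 7440 (BT.leaf c5_240) (BT.leaf c5_241)) (BT.node 7442 (BT.leaf c5_242) (BT.leaf c5_243)))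 (BT.node 7445 (BT.node 7444 (BT.leaf c5_244) (BT.leaf c5_245)) (BT.leaf c5_246))) (BT.node 7450 (BT.node 7448 (BT.node 7447 (BT.leaf c5_247) (BT.leaf c5_248)) (BT.node 7449 (BT.leaf c5_249) (BT.leaf c5_250))) (BT.node 7452 (BT.node 7451 (BT.leaf c5_251) (BT.leaf c5_252)) (BT.leaf c5_253))))) (BT.node 7467 (BT.node 7460 (BT.node 7457 (BT.node 7455 (BT.node 7454 (BT.leaf c5_254) (BT.leaf c5_255)) (BT.node 7456 (BT.leaf c5_256) (BT.leaf c5_257))) (BT.node 7459 (BT.node 7458 (BT.leaf c5_258) (BT.leaf c5_259)) (BT.leaf c5_260))) (BT.node 7464 (BT.node 7462 (BT.node 7461 (BT.leaf c5_261) (BT.leaf c5_262)) (BT.node 7463 (BT.leaf c5_263) (BT.leaf c5_264))) (BT.node 7466 (BT.node 7465 (BT.leaf c5_265) (BT.leaf c5_266)) (BT.leaf c5_267)))) (BT.node 7474 (BT.node 7471 (BT.node 7469 (BT.node 7468 (BT.leaf c5_268) (BT.leaf c5_269)) (BT.node 7470 (BT.leaf c5_270) (BT.leaf c5_271))) (BT.node 7473 (BT.node 7472 (BT.leaf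 c5_272) (BT.leaf c5_273)) (BT.leaf c5_274))) (BT.node 7478 (BT.node 7476 (BT.node 7475 (BT.leaf c5_275) (BT.leaf c5_276)) (BT.node 7477 (BT.leaf c5_277) (BT.leaf c5_278))) (BT.node 7480 (BT.node 7479 (BT.leaf c5_279) (BT.leaf c5_280)) (BT.leaf c5_281)))))) (BT.node 7509 (BT.node 7495 (BT.node 7488 (BT.node 7485 (BT.node 7483 (BT.node 7482 (BT.leaf c5_282) (BT.leaf c5_283)) (BT.node 7484 (BT.leaf c5_284) (BT.leaf c5_285))) (BT.node 7487 (BT.node 7486 (BT.leaf c5_286) (BT.leaf c5_287)) (BT.leaf c5_288))) (BT.node 7492 (BT.node 7490 (BT.node 7489 (BT.leaf c5_289) (BT.leaf c5_290)) (BT.node 7491 (BT.leaf c5_291) (BT.leaf c5_292))) (BT.node 7494 (BT.node 7493 (BT.leaf c5_293) (BT.leaf c5_294)) (BT.leaf c5_295)))) (BT.node 7502 (BT.node 7499 (BT.node 7497 (BT.node 7496 (BT.leaf c5_296) (BT.leaf c5_297)) (BT.node 7498 (BT.leaf c5_298) (BT.leaf c5_299))) (BT.node 7501 (BT.node 7500 (BT.leaf c5_300) (BT.leaf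 c5_301)) (BT.leaf c5_302))) (BT.node 7506 (BT.node 7504 (BT.node 7503 (BT.leaf c5_303) (BT.leaf c5_304)) (BT.node 7505 (BT.leaf c5_305) (BT.leaf c5_306))) (BT.node 7508 (BT.node 7507 (BT.leaf c5_307) (BT.leaf c5_308)) (BT.leaf c5_309))))) (BT.node 7523 (BT.node 7516 (BT.node 7513 (BT.node 7511 (BT.node 7510 (BT.leaf c5_310) (BT.leaf c5_311)) (BT.node 7512 (BT.leaf c5_312) (BT.leaf c5_313))) (BT.node 7515 (BT.node 7514 (BT.leaf c5_314) (BT.leaf c5_315)) (BT.leaf c5_316))) (BT.node 7520 (BT.node 7518 (BT.node 7517 (BT.leaf c5_317) (BT.leaf c5_318)) (BT.node 7519 (BT.leaf c5_319) (BT.leaf c5_320))) (BT.node 7522 (BT.node 7521 (BT.leaf c5_321) (BT.leaf c5_322)) (BT.leaf c5_323)))) (BT.node 7530 (BT.node 7527 (BT.node 7525 (BT.node 7524 (BT.leaf c5_324) (BT.leaf c5_325)) (BT.node 7526 (BT.leaf c5_326) (BT.leaf c5_327))) (BT.node 7529 (BT.node 7528 (BT.leaf c5_328) (BT.leaf c5_329)) (BT.leaf c5_330))) (BT.node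 7534 (BT.node 7532 (BT.node 7531 (BT.leaf c5_331) (BT.leaf c5_332)) (BT.node 7533 (BT.leaf c5_333) (BT.leaf c5_334))) (BT.node 7536 (BT.node 7535 (BT.leaf c5_335) (BT.leaf c5_336)) (BT.leaf c5_337))))))) (BT.node 7593 (BT.node 7565 (BT.node 7551 (BT.node 7544 (BT.node 7541 (BT.node 7539 (BT.node 7538 (BT.leaf c5_338) (BT.leaf c5_339)) (BT.node 7540 (BT.leaf c5_340) (BT.leaf c5_341))) (BT.node 7543 (BT.node 7542 (BT.leaf c5_342) (BT.leaf c5_343)) (BT.leaf c5_344))) (BT.node 7548 (BT.node 7546 (BT.node 7545 (BT.leaf c5_345) (BT.leaf c5_346)) (BT.node 7547 (BT.leaf c5_347) (BT.leaf c5_348))) (BT.node 7550 (BT.node 7549 (BT.leaf c5_349) (BT.leaf c5_350)) (BT.leaf c5_351)))) (BT.node 7558 (BT.node 7555 (BT.node 7553 (BT.node 7552 (BT.leaf c5_352) (BT.leaf c5_353)) (BT.node 7554 (BT.leaf c5_354) (BT.leaf c5_355))) (BT.node 7557 (BT.node 7556 (BT.leaf c5_356) (BT.leaf c5_357)) (BT.leaf c5_358))) (BT.node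 7562 (BT.node 7560 (BT.node 7559 (BT.leaf c5_359) (BT.leaf c5_360)) (BT.node 7561 (BT.leaf c5_361) (BT.leaf c5_362))) (BT.node 7564 (BT.node 7563 (BT.leaf c5_363) (BT.leaf c5_364)) (BT.leaf c5_365))))) (BT.node 7579 (BT.node 7572 (BT.node 7569 (BT.node 7567 (BT.node 7566 (BT.leaf c5_366) (BT.leaf c5_367)) (BT.node 7568 (BT.leaf c5_368) (BT.leaf c5_369))) (BT.node 7571 (BT.node 7570 (BT.leaf c5_370) (BT.leaf c5_371)) (BT.leaf c5_372))) (BT.node 7576 (BT.node 7574 (BT.node 7573 (BT.leaf c5_373) (BT.leaf c5_374)) (BT.node 7575 (BT.leaf c5_375) (BT.leaf c5_376))) (BT.node 7578 (BT.node 7577 (BT.leaf c5_377) (BT.leaf c5_378)) (BT.leaf c5_379)))) (BT.node 7586 (BT.node 7583 (BT.node 7581 (BT.node 7580 (BT.leaf c5_380) (BT.leaf c5_381)) (BT.node 7582 (BT.leaf c5_382) (BT.leaf c5_383))) (BT.node 7585 (BT.node 7584 (BT.leaf c5_384) (BT.leaf c5_385)) (BT.leaf c5_386))) (BT.node 7590 (BT.node 7588 (BT.node 7587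 (BT.leaf c5_387) (BT.leaf c5_388)) (BT.node 7589 (BT.leaf c5_389) (BT.leaf c5_390))) (BT.node 7592 (BT.node 7591 (BT.leaf c5_391) (BT.leaf c5_392)) (BT.leaf c5_393)))))) (BT.node 7621 (BT.node 7607 (BT.node 7600 (BT.node 7597 (BT.node 7595 (BT.node 7594 (BT.leaf c5_394) (BT.leaf c5_395)) (BT.node 7596 (BT.leaf c5_396) (BT.leaf c5_397))) (BT.node 7599 (BT.node 7598 (BT.leaf c5_398) (BT.leaf c5_399)) (BT.leaf c5_400))) (BT.node 7604 (BT.node 7602 (BT.node 7601 (BT.leaf c5_401) (BT.leaf c5_402)) (BT.node 7603 (BT.leaf c5_403) (BT.leaf c5_404))) (BT.node 7606 (BT.node 7605 (BT.leaf c5_405) (BT.leaf c5_406)) (BT.leaf c5_407)))) (BT.node 7614 (BT.node 7611 (BT.node 7609 (BT.node 7608 (BT.leaf c5_408) (BT.leaf c5_409)) (BT.node 7610 (BT.leaf c5_410) (BT.leaf c5_411))) (BT.node 7613 (BT.node 7612 (BT.leaf c5_412) (BT.leaf c5_413)) (BT.leaf c5_414))) (BT.node 7618 (BT.node 7616 (BT.node 7615 (BT.leaf c5_415)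 (BT.leaf c5_416)) (BT.node 7617 (BT.leaf c5_417) (BT.leaf c5_418))) (BT.node 7620 (BT.node 7619 (BT.leaf c5_419) (BT.leaf c5_420)) (BT.leaf c5_421))))) (BT.node 7635 (BT.node 7628 (BT.node 7625 (BT.node 7623 (BT.node 7622 (BT.leaf c5_422) (BT.leaf c5_423)) (BT.node 7624 (BT.leaf c5_424) (BT.leaf c5_425))) (BT.node 7627 (BT.node 7626 (BT.leaf c5_426) (BT.leaf c5_427)) (BT.leaf c5_428))) (BT.node 7632 (BT.node 7630 (BT.node 7629 (BT.leaf c5_429) (BT.leaf c5_430)) (BT.node 7631 (BT.leaf c5_431) (BT.leaf c5_432))) (BT.node 7634 (BT.node 7633 (BT.leaf c5_433) (BT.leaf c5_434)) (BT.leaf c5_435)))) (BT.node 7642 (BT.node 7639 (BT.node 7637 (BT.node 7636 (BT.leaf c5_436) (BT.leaf c5_437)) (BT.node 7638 (BT.leaf c5_438) (BT.leaf c5_439))) (BT.node 7641 (BT.node 7640 (BT.leaf c5_440) (BT.leaf c5_441)) (BT.leaf c5_442))) (BT.node 7646 (BT.node 7644 (BT.node 7643 (BT.leaf c5_443) (BT.leaf c5_444)) (BT.node 7645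 (BT.leaf c5_445) (BT.leaf c5_446))) (BT.node 7648 (BT.node 7647 (BT.leaf c5_447) (BT.leaf c5_448)) (BT.leaf c5_449))))))))) (BT.node 7874 (BT.node 7762 (BT.node 7706 (BT.node 7678 (BT.node 7664 (BT.node 7657 (BT.node 7653 (BT.node 7651 (BT.node 7650 (BT.leaf c5_450) (BT.leaf c5_451)) (BT.node 7652 (BT.leaf c5_452) (BT.leaf c5_453))) (BT.node 7655 (BT.node 7654 (BT.leaf c5_454) (BT.leaf c5_455)) (BT.node 7656 (BT.leaf c5_456) (BT.leaf c5_457)))) (BT.node 7661 (BT.node 7659 (BT.node 7658 (BT.leaf c5_458) (BT.leaf c5_459)) (BT.node 7660 (BT.leaf c5_460) (BT.leaf c5_461))) (BT.node 7663 (BT.node 7662 (BT.leaf c5_462) (BT.leaf c5_463)) (BT.leaf c5_464)))) (BT.node 7671 (BT.node 7668 (BT.node 7666 (BT.node 7665 (BT.leaf c5_465) (BT.leaf c5_466)) (BT.node 7667 (BT.leaf c5_467) (BT.leaf c5_468))) (BT.node 7670 (BT.node 7669 (BT.leaf c5_469) (BT.leaf c5_470)) (BT.leaf c5_471))) (BT.node 7675 (BT.node 7673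 (BT.node 7672 (BT.leaf c5_472) (BT.leaf c5_473)) (BT.node 7674 (BT.leaf c5_474) (BT.leaf c5_475))) (BT.node 7677 (BT.node 7676 (BT.leaf c5_476) (BT.leaf c5_477)) (BT.leaf c5_478))))) (BT.node 7692 (BT.node 7685 (BT.node 7682 (BT.node 7680 (BT.node 7679 (BT.leaf c5_479) (BT.leaf c5_480)) (BT.node 7681 (BT.leaf c5_481) (BT.leaf c5_482))) (BT.node 7684 (BT.node 7683 (BT.leaf c5_483) (BT.leaf c5_484)) (BT.leaf c5_485))) (BT.node 7689 (BT.node 7687 (BT.node 7686 (BT.leaf c5_486) (BT.leaf c5_487)) (BT.node 7688 (BT.leaf c5_488) (BT.leaf c5_489))) (BT.node 7691 (BT.node 7690 (BT.leaf c5_490) (BT.leaf c5_491)) (BT.leaf c5_492)))) (BT.node 7699 (BT.node 7696 (BT.node 7694 (BT.node 7693 (BT.leaf c5_493) (BT.leaf c5_494)) (BT.node 7695 (BT.leaf c5_495) (BT.leaf c5_496))) (BT.node 7698 (BT.node 7697 (BT.leaf c5_497) (BT.leaf c5_498)) (BT.leaf c5_499))) (BT.node 7703 (BT.node 7701 (BT.node 7700 (BT.leaf c5_500)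 (BT.leaf c5_501)) (BT.node 7702 (BT.leaf c5_502) (BT.leaf c5_503))) (BT.node 7705 (BT.node 7704 (BT.leaf c5_504) (BT.leaf c5_505)) (BT.leaf c5_506)))))) (BT.node 7734 (BT.node 7720 (BT.node 7713 (BT.node 7710 (BT.node 7708 (BT.node 7707 (BT.leaf c5_507) (BT.leaf c5_508)) (BT.node 7709 (BT.leaf c5_509) (BT.leaf c5_510))) (BT.node 7712 (BT.node 7711 (BT.leaf c5_511) (BT.leaf c5_512)) (BT.leaf c5_513))) (BT.node 7717 (BT.node 7715 (BT.node 7714 (BT.leaf c5_514) (BT.leaf c5_515)) (BT.node 7716 (BT.leaf c5_516) (BT.leaf c5_517))) (BT.node 7719 (BT.node 7718 (BT.leaf c5_518) (BT.leaf c5_519)) (BT.leaf c5_520)))) (BT.node 7727 (BT.node 7724 (BT.node 7722 (BT.node 7721 (BT.leaf c5_521) (BT.leaf c5_522)) (BT.node 7723 (BT.leaf c5_523) (BT.leaf c5_524))) (BT.node 7726 (BT.node 7725 (BT.leaf c5_525) (BT.leaf c5_526)) (BT.leaf c5_527))) (BT.node 7731 (BT.node 7729 (BT.node 7728 (BT.leaf c5_528) (BT.leaf c5_529))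 (BT.node 7730 (BT.leaf c5_530) (BT.leaf c5_531))) (BT.node 7733 (BT.node 7732 (BT.leaf c5_532) (BT.leaf c5_533)) (BT.leaf c5_534))))) (BT.node 7748 (BT.node 7741 (BT.node 7738 (BT.node 7736 (BT.node 7735 (BT.leaf c5_535) (BT.leaf c5_536)) (BT.node 7737 (BT.leaf c5_537) (BT.leaf c5_538))) (BT.node 7740 (BT.node 7739 (BT.leaf c5_539) (BT.leaf c5_540)) (BT.leaf c5_541))) (BT.node 7745 (BT.node 7743 (BT.node 7742 (BT.leaf c5_542) (BT.leaf c5_543)) (BT.node 7744 (BT.leaf c5_544) (BT.leaf c5_545))) (BT.node 7747 (BT.node 7746 (BT.leaf c5_546) (BT.leaf c5_547)) (BT.leaf c5_548)))) (BT.node 7755 (BT.node 7752 (BT.node 7750 (BT.node 7749 (BT.leaf c5_549) (BT.leaf c5_550)) (BT.node 7751 (BT.leaf c5_551) (BT.leaf c5_552))) (BT.node 7754 (BT.node 7753 (BT.leaf c5_553) (BT.leaf c5_554)) (BT.leaf c5_555))) (BT.node 7759 (BT.node 7757 (BT.node 7756 (BT.leaf c5_556) (BT.leaf c5_557)) (BT.node 7758 (BT.leaf c5_558)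 (BT.leaf c5_559))) (BT.node 7761 (BT.node 7760 (BT.leaf c5_560) (BT.leaf c5_561)) (BT.leaf c5_562))))))) (BT.node 7818 (BT.node 7790 (BT.node 7776 (BT.node 7769 (BT.node 7766 (BT.node 7764 (BT.node 7763 (BT.leaf c5_563) (BT.leaf c5_564)) (BT.node 7765 (BT.leaf c5_565) (BT.leaf c5_566))) (BT.node 7768 (BT.node 7767 (BT.leaf c5_567) (BT.leaf c5_568)) (BT.leaf c5_569))) (BT.node 7773 (BT.node 7771 (BT.node 7770 (BT.leaf c5_570) (BT.leaf c5_571)) (BT.node 7772 (BT.leaf c5_572) (BT.leaf c5_573))) (BT.node 7775 (BT.node 7774 (BT.leaf c5_574) (BT.leaf c5_575)) (BT.leaf c5_576)))) (BT.node 7783 (BT.node 7780 (BT.node 7778 (BT.node 7777 (BT.leaf c5_577) (BT.leaf c5_578)) (BT.node 7779 (BT.leaf c5_579) (BT.leaf c5_580))) (BT.node 7782 (BT.node 7781 (BT.leaf c5_581) (BT.leaf c5_582)) (BT.leaf c5_583))) (BT.node 7787 (BT.node 7785 (BT.node 7784 (BT.leaf c5_584) (BT.leaf c5_585)) (BT.node 7786 (BT.leaf c5_586)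 (BT.leaf c5_587))) (BT.node 7789 (BT.node 7788 (BT.leaf c5_588) (BT.leaf c5_589)) (BT.leaf c5_590))))) (BT.node 7804 (BT.node 7797 (BT.node 7794 (BT.node 7792 (BT.node 7791 (BT.leaf c5_591) (BT.leaf c5_592)) (BT.node 7793 (BT.leaf c5_593) (BT.leaf c5_594))) (BT.node 7796 (BT.node 7795 (BT.leaf c5_595) (BT.leaf c5_596)) (BT.leaf c5_597))) (BT.node 7801 (BT.node 7799 (BT.node 7798 (BT.leaf c5_598) (BT.leaf c5_599)) (BT.node 7800 (BT.leaf c5_600) (BT.leaf c5_601))) (BT.node 7803 (BT.node 7802 (BT.leaf c5_602) (BT.leaf c5_603)) (BT.leaf c5_604)))) (BT.node 7811 (BT.node 7808 (BT.node 7806 (BT.node 7805 (BT.leaf c5_605) (BT.leaf c5_606)) (BT.node 7807 (BT.leaf c5_607) (BT.leaf c5_608))) (BT.node 7810 (BT.node 7809 (BT.leaf c5_609) (BT.leaf c5_610)) (BT.leaf c5_611))) (BT.node 7815 (BT.node 7813 (BT.node 7812 (BT.leaf c5_612) (BT.leaf c5_613)) (BT.node 7814 (BT.leaf c5_614) (BT.leaf c5_615))) (BT.node 7817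 (BT.node 7816 (BT.leaf c5_616) (BT.leaf c5_617)) (BT.leaf c5_618)))))) (BT.node 7846 (BT.node 7832 (BT.node 7825 (BT.node 7822 (BT.node 7820 (BT.node 7819 (BT.leaf c5_619) (BT.leaf c5_620)) (BT.node 7821 (BT.leaf c5_621) (BT.leaf c5_622))) (BT.node 7824 (BT.node 7823 (BT.leaf c5_623) (BT.leaf c5_624)) (BT.leaf c5_625))) (BT.node 7829 (BT.node 7827 (BT.node 7826 (BT.leaf c5_626) (BT.leaf c5_627)) (BT.node 7828 (BT.leaf c5_628) (BT.leaf c5_629))) (BT.node 7831 (BT.node 7830 (BT.leaf c5_630) (BT.leaf c5_631)) (BT.leaf c5_632)))) (BT.node 7839 (BT.node 7836 (BT.node 7834 (BT.node 7833 (BT.leaf c5_633) (BT.leaf c5_634)) (BT.node 7835 (BT.leaf c5_635) (BT.leaf c5_636))) (BT.node 7838 (BT.node 7837 (BT.leaf c5_637) (BT.leaf c5_638)) (BT.leaf c5_639))) (BT.node 7843 (BT.node 7841 (BT.node 7840 (BT.leaf c5_640) (BT.leaf c5_641)) (BT.node 7842 (BT.leaf c5_642) (BT.leaf c5_643))) (BT.node 7845 (BT.node 7844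 (BT.leaf c5_644) (BT.leaf c5_645)) (BT.leaf c5_646))))) (BT.node 7860 (BT.node 7853 (BT.node 7850 (BT.node 7848 (BT.node 7847 (BT.leaf c5_647) (BT.leaf c5_648)) (BT.node 7849 (BT.leaf c5_649) (BT.leaf c5_650))) (BT.node 7852 (BT.node 7851 (BT.leaf c5_651) (BT.leaf c5_652)) (BT.leaf c5_653))) (BT.node 7857 (BT.node 7855 (BT.node 7854 (BT.leaf c5_654) (BT.leaf c5_655)) (BT.node 7856 (BT.leaf c5_656) (BT.leaf c5_657))) (BT.node 7859 (BT.node 7858 (BT.leaf c5_658) (BT.leaf c5_659)) (BT.leaf c5_660)))) (BT.node 7867 (BT.node 7864 (BT.node 7862 (BT.node 7861 (BT.leaf c5_661) (BT.leaf c5_662)) (BT.node 7863 (BT.leaf c5_663) (BT.leaf c5_664))) (BT.node 7866 (BT.node 7865 (BT.leaf c5_665) (BT.leaf c5_666)) (BT.leaf c5_667))) (BT.node 7871 (BT.node 7869 (BT.node 7868 (BT.leaf c5_668) (BT.leaf c5_669)) (BT.node 7870 (BT.leaf c5_670) (BT.leaf c5_671))) (BT.node 7873 (BT.node 7872 (BT.leaf c5_672) (BT.leaf c5_673))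 (BT.leaf c5_674)))))))) (BT.node 7987 (BT.node 7931 (BT.node 7903 (BT.node 7889 (BT.node 7882 (BT.node 7878 (BT.node 7876 (BT.node 7875 (BT.leaf c5_675) (BT.leaf c5_676)) (BT.node 7877 (BT.leaf c5_677) (BT.leaf c5_678))) (BT.node 7880 (BT.node 7879 (BT.leaf c5_679) (BT.leaf c5_680)) (BT.node 7881 (BT.leaf c5_681) (BT.leaf c5_682)))) (BT.node 7886 (BT.node 7884 (BT.node 7883 (BT.leaf c5_683) (BT.leaf c5_684)) (BT.node 7885 (BT.leaf c5_685) (BT.leaf c5_686))) (BT.node 7888 (BT.node 7887 (BT.leaf c5_687) (BT.leaf c5_688)) (BT.leaf c5_689)))) (BT.node 7896 (BT.node 7893 (BT.node 7891 (BT.node 7890 (BT.leaf c5_690) (BT.leaf c5_691)) (BT.node 7892 (BT.leaf c5_692) (BT.leaf c5_693))) (BT.node 7895 (BT.node 7894 (BT.leaf c5_694) (BT.leaf c5_695)) (BT.leaf c5_696))) (BT.node 7900 (BT.node 7898 (BT.node 7897 (BT.leaf c5_697) (BT.leaf c5_698)) (BT.node 7899 (BT.leaf c5_699) (BT.leaf c5_700))) (BT.node 7902 (BT.node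 7901 (BT.leaf c5_701) (BT.leaf c5_702)) (BT.leaf c5_703))))) (BT.node 7917 (BT.node 7910 (BT.node 7907 (BT.node 7905 (BT.node 7904 (BT.leaf c5_704) (BT.leaf c5_705)) (BT.node 7906 (BT.leaf c5_706) (BT.leaf c5_707))) (BT.node 7909 (BT.node 7908 (BT.leaf c5_708) (BT.leaf c5_709)) (BT.leaf c5_710))) (BT.node 7914 (BT.node 7912 (BT.node 7911 (BT.leaf c5_711) (BT.leaf c5_712)) (BT.node 7913 (BT.leaf c5_713) (BT.leaf c5_714))) (BT.node 7916 (BT.node 7915 (BT.leaf c5_715) (BT.leaf c5_716)) (BT.leaf c5_717)))) (BT.node 7924 (BT.node 7921 (BT.node 7919 (BT.node 7918 (BT.leaf c5_718) (BT.leaf c5_719)) (BT.node 7920 (BT.leaf c5_720) (BT.leaf c5_721))) (BT.node 7923 (BT.node 7922 (BT.leaf c5_722) (BT.leaf c5_723)) (BT.leaf c5_724))) (BT.node 7928 (BT.node 7926 (BT.node 7925 (BT.leaf c5_725) (BT.leaf c5_726)) (BT.node 7927 (BT.leaf c5_727) (BT.leaf c5_728))) (BT.node 7930 (BT.node 7929 (BT.leaf c5_729) (BT.leaf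 c5_730)) (BT.leaf c5_731)))))) (BT.node 7959 (BT.node 7945 (BT.node 7938 (BT.node 7935 (BT.node 7933 (BT.node 7932 (BT.leaf c5_732) (BT.leaf c5_733)) (BT.node 7934 (BT.leaf c5_734) (BT.leaf c5_735))) (BT.node 7937 (BT.node 7936 (BT.leaf c5_736) (BT.leaf c5_737)) (BT.leaf c5_738))) (BT.node 7942 (BT.node 7940 (BT.node 7939 (BT.leaf c5_739) (BT.leaf c5_740)) (BT.node 7941 (BT.leaf c5_741) (BT.leaf c5_742))) (BT.node 7944 (BT.node 7943 (BT.leaf c5_743) (BT.leaf c5_744)) (BT.leaf c5_745)))) (BT.node 7952 (BT.node 7949 (BT.node 7947 (BT.node 7946 (BT.leaf c5_746) (BT.leaf c5_747)) (BT.node 7948 (BT.leaf c5_748) (BT.leaf c5_749))) (BT.node 7951 (BT.node 7950 (BT.leaf c5_750) (BT.leaf c5_751)) (BT.leaf c5_752))) (BT.node 7956 (BT.node 7954 (BT.node 7953 (BT.leaf c5_753) (BT.leaf c5_754)) (BT.node 7955 (BT.leaf c5_755) (BT.leaf c5_756))) (BT.node 7958 (BT.node 7957 (BT.leaf c5_757) (BT.leaf c5_758)) (BT.leaf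 c5_759))))) (BT.node 7973 (BT.node 7966 (BT.node 7963 (BT.node 7961 (BT.node 7960 (BT.leaf c5_760) (BT.leaf c5_761)) (BT.node 7962 (BT.leaf c5_762) (BT.leaf c5_763))) (BT.node 7965 (BT.node 7964 (BT.leaf c5_764) (BT.leaf c5_765)) (BT.leaf c5_766))) (BT.node 7970 (BT.node 7968 (BT.node 7967 (BT.leaf c5_767) (BT.leaf c5_768)) (BT.node 7969 (BT.leaf c5_769) (BT.leaf c5_770))) (BT.node 7972 (BT.node 7971 (BT.leaf c5_771) (BT.leaf c5_772)) (BT.leaf c5_773)))) (BT.node 7980 (BT.node 7977 (BT.node 7975 (BT.node 7974 (BT.leaf c5_774) (BT.leaf c5_775)) (BT.node 7976 (BT.leaf c5_776) (BT.leaf c5_777))) (BT.node 7979 (BT.node 7978 (BT.leaf c5_778) (BT.leaf c5_779)) (BT.leaf c5_780))) (BT.node 7984 (BT.node 7982 (BT.node 7981 (BT.leaf c5_781) (BT.leaf c5_782)) (BT.node 7983 (BT.leaf c5_783) (BT.leaf c5_784))) (BT.node 7986 (BT.node 7985 (BT.leaf c5_785) (BT.leaf c5_786)) (BT.leaf c5_787))))))) (BT.node 8043 (BT.node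 8015 (BT.node 8001 (BT.node 7994 (BT.node 7991 (BT.node 7989 (BT.node 7988 (BT.leaf c5_788) (BT.leaf c5_789)) (BT.node 7990 (BT.leaf c5_790) (BT.leaf c5_791))) (BT.node 7993 (BT.node 7992 (BT.leaf c5_792) (BT.leaf c5_793)) (BT.leaf c5_794))) (BT.node 7998 (BT.node 7996 (BT.node 7995 (BT.leaf c5_795) (BT.leaf c5_796)) (BT.node 7997 (BT.leaf c5_797) (BT.leaf c5_798))) (BT.node 8000 (BT.node 7999 (BT.leaf c5_799) (BT.leaf c5_800)) (BT.leaf c5_801)))) (BT.node 8008 (BT.node 8005 (BT.node 8003 (BT.node 8002 (BT.leaf c5_802) (BT.leaf c5_803)) (BT.node 8004 (BT.leaf c5_804) (BT.leaf c5_805))) (BT.node 8007 (BT.node 8006 (BT.leaf c5_806) (BT.leaf c5_807)) (BT.leaf c5_808))) (BT.node 8012 (BT.node 8010 (BT.node 8009 (BT.leaf c5_809) (BT.leaf c5_810)) (BT.node 8011 (BT.leaf c5_811) (BT.leaf c5_812))) (BT.node 8014 (BT.node 8013 (BT.leaf c5_813) (BT.leaf c5_814)) (BT.leaf c5_815))))) (BT.node 8029 (BT.node 8022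 (BT.node 8019 (BT.node 8017 (BT.node 8016 (BT.leaf c5_816) (BT.leaf c5_817)) (BT.node 8018 (BT.leaf c5_818) (BT.leaf c5_819))) (BT.node 8021 (BT.node 8020 (BT.leaf c5_820) (BT.leaf c5_821)) (BT.leaf c5_822))) (BT.node 8026 (BT.node 8024 (BT.node 8023 (BT.leaf c5_823) (BT.leaf c5_824)) (BT.node 8025 (BT.leaf c5_825) (BT.leaf c5_826))) (BT.node 8028 (BT.node 8027 (BT.leaf c5_827) (BT.leaf c5_828)) (BT.leaf c5_829)))) (BT.node 8036 (BT.node 8033 (BT.node 8031 (BT.node 8030 (BT.leaf c5_830) (BT.leaf c5_831)) (BT.node 8032 (BT.leaf c5_832) (BT.leaf c5_833))) (BT.node 8035 (BT.node 8034 (BT.leaf c5_834) (BT.leaf c5_835)) (BT.leaf c5_836))) (BT.node 8040 (BT.node 8038 (BT.node 8037 (BT.leaf c5_837) (BT.leaf c5_838)) (BT.node 8039 (BT.leaf c5_839) (BT.leaf c5_840))) (BT.node 8042 (BT.node 8041 (BT.leaf c5_841) (BT.leaf c5_842)) (BT.leaf c5_843)))))) (BT.node 8071 (BT.node 8057 (BT.node 8050 (BT.node 8047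 (BT.node 8045 (BT.node 8044 (BT.leaf c5_844) (BT.leaf c5_845)) (BT.node 8046 (BT.leaf c5_846) (BT.leaf c5_847))) (BT.node 8049 (BT.node 8048 (BT.leaf c5_848) (BT.leaf c5_849)) (BT.leaf c5_850))) (BT.node 8054 (BT.node 8052 (BT.node 8051 (BT.leaf c5_851) (BT.leaf c5_852)) (BT.node 8053 (BT.leaf c5_853) (BT.leaf c5_854))) (BT.node 8056 (BT.node 8055 (BT.leaf c5_855) (BT.leaf c5_856)) (BT.leaf c5_857)))) (BT.node 8064 (BT.node 8061 (BT.node 8059 (BT.node 8058 (BT.leaf c5_858) (BT.leaf c5_859)) (BT.node 8060 (BT.leaf c5_860) (BT.leaf c5_861))) (BT.node 8063 (BT.node 8062 (BT.leaf c5_862) (BT.leaf c5_863)) (BT.leaf c5_864))) (BT.node 8068 (BT.node 8066 (BT.node 8065 (BT.leaf c5_865) (BT.leaf c5_866)) (BT.node 8067 (BT.leaf c5_867) (BT.leaf c5_868))) (BT.node 8070 (BT.node 8069 (BT.leaf c5_869) (BT.leaf c5_870)) (BT.leaf c5_871))))) (BT.node 8085 (BT.node 8078 (BT.node 8075 (BT.node 8073 (BT.node 8072 (BT.leaf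 c5_872) (BT.leaf c5_873)) (BT.node 8074 (BT.leaf c5_874) (BT.leaf c5_875))) (BT.node 8077 (BT.node 8076 (BT.leaf c5_876) (BT.leaf c5_877)) (BT.leaf c5_878))) (BT.node 8082 (BT.node 8080 (BT.node 8079 (BT.leaf c5_879) (BT.leaf c5_880)) (BT.node 8081 (BT.leaf c5_881) (BT.leaf c5_882))) (BT.node 8084 (BT.node 8083 (BT.leaf c5_883) (BT.leaf c5_884)) (BT.leaf c5_885)))) (BT.node 8092 (BT.node 8089 (BT.node 8087 (BT.node 8086 (BT.leaf c5_886) (BT.leaf c5_887)) (BT.node 8088 (BT.leaf c5_888) (BT.leaf c5_889))) (BT.node 8091 (BT.node 8090 (BT.leaf c5_890) (BT.leaf c5_891)) (BT.leaf c5_892))) (BT.node 8096 (BT.node 8094 (BT.node 8093 (BT.leaf c5_893) (BT.leaf c5_894)) (BT.node 8095 (BT.leaf c5_895) (BT.leaf c5_896))) (BT.node 8098 (BT.node 8097 (BT.leaf c5_897) (BT.leaf c5_898)) (BT.leaf c5_899))))))))))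
/-- the chunks of the letter 9 -/
def colL_9 : BT ℕ := (BT.node 8549 (BT.node 8324 (BT.node 8212 (BT.node 8156 (BT.node 8128 (BT.node 8114 (BT.node 8107 (BT.node 8103 (BT.node 8101 (BT.node 8100 (BT.leaf c5_0) (BT.leaf c5_1)) (BT.node 8102 (BT.leaf c5_2) (BT.leaf c5_3))) (BT.node 8105 (BT.node 8104 (BT.leaf c5_4) (BT.leaf c5_5)) (BT.node 8106 (BT.leaf c5_6) (BT.leaf c5_7)))) (BT.node 8111 (BT.node 8109 (BT.node 8108 (BT.leaf c5_8) (BT.leaf c5_9)) (BT.node 8110 (BT.leaf c5_10) (BT.leaf c5_11))) (BT.node 8113 (BT.node 8112 (BT.leaf c5_12) (BT.leaf c5_13)) (BT.leaf c5_14)))) (BT.node 8121 (BT.node 8118 (BT.node 8116 (BT.node 8115 (BT.leaf c5_15) (BT.leaf c5_16)) (BT.node 8117 (BT.leaf c5_17) (BT.leaf c5_18))) (BT.node 8120 (BT.node 8119 (BT.leaf c5_19) (BT.leaf c5_20)) (BT.leaf c5_21))) (BT.node 8125 (BT.node 8123 (BT.node 8122 (BT.leaf c5_22) (BT.leaf c5_23)) (BT.node 8124 (BT.leaf c5_24) (BT.leaf c5_25)))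 (BT.node 8127 (BT.node 8126 (BT.leaf c5_26) (BT.leaf c5_27)) (BT.leaf c5_28))))) (BT.node 8142 (BT.node 8135 (BT.node 8132 (BT.node 8130 (BT.node 8129 (BT.leaf c5_29) (BT.leaf c5_30)) (BT.node 8131 (BT.leaf c5_31) (BT.leaf c5_32))) (BT.node 8134 (BT.node 8133 (BT.leaf c5_33) (BT.leaf c5_34)) (BT.leaf c5_35))) (BT.node 8139 (BT.node 8137 (BT.node 8136 (BT.leaf c5_36) (BT.leaf c5_37)) (BT.node 8138 (BT.leaf c5_38) (BT.leaf c5_39))) (BT.node 8141 (BT.node 8140 (BT.leaf c5_40) (BT.leaf c5_41)) (BT.leaf c5_42)))) (BT.node 8149 (BT.node 8146 (BT.node 8144 (BT.node 8143 (BT.leaf c5_43) (BT.leaf c5_44)) (BT.node 8145 (BT.leaf c5_45) (BT.leaf c5_46))) (BT.node 8148 (BT.node 8147 (BT.leaf c5_47) (BT.leaf c5_48)) (BT.leaf c5_49))) (BT.node 8153 (BT.node 8151 (BT.node 8150 (BT.leaf c5_50) (BT.leaf c5_51)) (BT.node 8152 (BT.leaf c5_52) (BT.leaf c5_53))) (BT.node 8155 (BT.node 8154 (BT.leaf c5_54) (BT.leaf c5_55))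 (BT.leaf c5_56)))))) (BT.node 8184 (BT.node 8170 (BT.node 8163 (BT.node 8160 (BT.node 8158 (BT.node 8157 (BT.leaf c5_57) (BT.leaf c5_58)) (BT.node 8159 (BT.leaf c5_59) (BT.leaf c5_60))) (BT.node 8162 (BT.node 8161 (BT.leaf c5_61) (BT.leaf c5_62)) (BT.leaf c5_63))) (BT.node 8167 (BT.node 8165 (BT.node 8164 (BT.leaf c5_64) (BT.leaf c5_65)) (BT.node 8166 (BT.leaf c5_66) (BT.leaf c5_67))) (BT.node 8169 (BT.node 8168 (BT.leaf c5_68) (BT.leaf c5_69)) (BT.leaf c5_70)))) (BT.node 8177 (BT.node 8174 (BT.node 8172 (BT.node 8171 (BT.leaf c5_71) (BT.leaf c5_72)) (BT.node 8173 (BT.leaf c5_73) (BT.leaf c5_74))) (BT.node 8176 (BT.node 8175 (BT.leaf c5_75) (BT.leaf c5_76)) (BT.leaf c5_77))) (BT.node 8181 (BT.node 8179 (BT.node 8178 (BT.leaf c5_78) (BT.leaf c5_79)) (BT.node 8180 (BT.leaf c5_80) (BT.leaf c5_81))) (BT.node 8183 (BT.node 8182 (BT.leaf c5_82) (BT.leaf c5_83)) (BT.leaf c5_84))))) (BT.node 8198 (BT.node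 8191 (BT.node 8188 (BT.node 8186 (BT.node 8185 (BT.leaf c5_85) (BT.leaf c5_86)) (BT.node 8187 (BT.leaf c5_87) (BT.leaf c5_88))) (BT.node 8190 (BT.node 8189 (BT.leaf c5_89) (BT.leaf c5_90)) (BT.leaf c5_91))) (BT.node 8195 (BT.node 8193 (BT.node 8192 (BT.leaf c5_92) (BT.leaf c5_93)) (BT.node 8194 (BT.leaf c5_94) (BT.leaf c5_95))) (BT.node 8197 (BT.node 8196 (BT.leaf c5_96) (BT.leaf c5_97)) (BT.leaf c5_98)))) (BT.node 8205 (BT.node 8202 (BT.node 8200 (BT.node 8199 (BT.leaf c5_99) (BT.leaf c5_100)) (BT.node 8201 (BT.leaf c5_101) (BT.leaf c5_102))) (BT.node 8204 (BT.node 8203 (BT.leaf c5_103) (BT.leaf c5_104)) (BT.leaf c5_105))) (BT.node 8209 (BT.node 8207 (BT.node 8206 (BT.leaf c5_106) (BT.leaf c5_107)) (BT.node 8208 (BT.leaf c5_108) (BT.leaf c5_109))) (BT.node 8211 (BT.node 8210 (BT.leaf c5_110) (BT.leaf c5_111)) (BT.leaf c5_112))))))) (BT.node 8268 (BT.node 8240 (BT.node 8226 (BT.node 8219 (BT.node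 8216 (BT.node 8214 (BT.node 8213 (BT.leaf c5_113) (BT.leaf c5_114)) (BT.node 8215 (BT.leaf c5_115) (BT.leaf c5_116))) (BT.node 8218 (BT.node 8217 (BT.leaf c5_117) (BT.leaf c5_118)) (BT.leaf c5_119))) (BT.node 8223 (BT.node 8221 (BT.node 8220 (BT.leaf c5_120) (BT.leaf c5_121)) (BT.node 8222 (BT.leaf c5_122) (BT.leaf c5_123))) (BT.node 8225 (BT.node 8224 (BT.leaf c5_124) (BT.leaf c5_125)) (BT.leaf c5_126)))) (BT.node 8233 (BT.node 8230 (BT.node 8228 (BT.node 8227 (BT.leaf c5_127) (BT.leaf c5_128)) (BT.node 8229 (BT.leaf c5_129) (BT.leaf c5_130))) (BT.node 8232 (BT.node 8231 (BT.leaf c5_131) (BT.leaf c5_132)) (BT.leaf c5_133))) (BT.node 8237 (BT.node 8235 (BT.node 8234 (BT.leaf c5_134) (BT.leaf c5_135)) (BT.node 8236 (BT.leaf c5_136) (BT.leaf c5_137))) (BT.node 8239 (BT.node 8238 (BT.leaf c5_138) (BT.leaf c5_139)) (BT.leaf c5_140))))) (BT.node 8254 (BT.node 8247 (BT.node 8244 (BT.node 8242 (BT.node 8241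 (BT.leaf c5_141) (BT.leaf c5_142)) (BT.node 8243 (BT.leaf c5_143) (BT.leaf c5_144))) (BT.node 8246 (BT.node 8245 (BT.leaf c5_145) (BT.leaf c5_146)) (BT.leaf c5_147))) (BT.node 8251 (BT.node 8249 (BT.node 8248 (BT.leaf c5_148) (BT.leaf c5_149)) (BT.node 8250 (BT.leaf c5_150) (BT.leaf c5_151))) (BT.node 8253 (BT.node 8252 (BT.leaf c5_152) (BT.leaf c5_153)) (BT.leaf c5_154)))) (BT.node 8261 (BT.node 8258 (BT.node 8256 (BT.node 8255 (BT.leaf c5_155) (BT.leaf c5_156)) (BT.node 8257 (BT.leaf c5_157) (BT.leaf c5_158))) (BT.node 8260 (BT.node 8259 (BT.leaf c5_159) (BT.leaf c5_160)) (BT.leaf c5_161))) (BT.node 8265 (BT.node 8263 (BT.node 8262 (BT.leaf c5_162) (BT.leaf c5_163)) (BT.node 8264 (BT.leaf c5_164) (BT.leaf c5_165))) (BT.node 8267 (BT.node 8266 (BT.leaf c5_166) (BT.leaf c5_167)) (BT.leaf c5_168)))))) (BT.node 8296 (BT.node 8282 (BT.node 8275 (BT.node 8272 (BT.node 8270 (BT.node 8269 (BT.leaf c5_169)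 (BT.leaf c5_170)) (BT.node 8271 (BT.leaf c5_171) (BT.leaf c5_172))) (BT.node 8274 (BT.node 8273 (BT.leaf c5_173) (BT.leaf c5_174)) (BT.leaf c5_175))) (BT.node 8279 (BT.node 8277 (BT.node 8276 (BT.leaf c5_176) (BT.leaf c5_177)) (BT.node 8278 (BT.leaf c5_178) (BT.leaf c5_179))) (BT.node 8281 (BT.node 8280 (BT.leaf c5_180) (BT.leaf c5_181)) (BT.leaf c5_182)))) (BT.node 8289 (BT.node 8286 (BT.node 8284 (BT.node 8283 (BT.leaf c5_183) (BT.leaf c5_184)) (BT.node 8285 (BT.leaf c5_185) (BT.leaf c5_186))) (BT.node 8288 (BT.node 8287 (BT.leaf c5_187) (BT.leaf c5_188)) (BT.leaf c5_189))) (BT.node 8293 (BT.node 8291 (BT.node 8290 (BT.leaf c5_190) (BT.leaf c5_191)) (BT.node 8292 (BT.leaf c5_192) (BT.leaf c5_193))) (BT.node 8295 (BT.node 8294 (BT.leaf c5_194) (BT.leaf c5_195)) (BT.leaf c5_196))))) (BT.node 8310 (BT.node 8303 (BT.node 8300 (BT.node 8298 (BT.node 8297 (BT.leaf c5_197) (BT.leaf c5_198)) (BT.node 8299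 (BT.leaf c5_199) (BT.leaf c5_200))) (BT.node 8302 (BT.node 8301 (BT.leaf c5_201) (BT.leaf c5_202)) (BT.leaf c5_203))) (BT.node 8307 (BT.node 8305 (BT.node 8304 (BT.leaf c5_204) (BT.leaf c5_205)) (BT.node 8306 (BT.leaf c5_206) (BT.leaf c5_207))) (BT.node 8309 (BT.node 8308 (BT.leaf c5_208) (BT.leaf c5_209)) (BT.leaf c5_210)))) (BT.node 8317 (BT.node 8314 (BT.node 8312 (BT.node 8311 (BT.leaf c5_211) (BT.leaf c5_212)) (BT.node 8313 (BT.leaf c5_213) (BT.leaf c5_214))) (BT.node 8316 (BT.node 8315 (BT.leaf c5_215) (BT.leaf c5_216)) (BT.leaf c5_217))) (BT.node 8321 (BT.node 8319 (BT.node 8318 (BT.leaf c5_218) (BT.leaf c5_219)) (BT.node 8320 (BT.leaf c5_220) (BT.leaf c5_221))) (BT.node 8323 (BT.node 8322 (BT.leaf c5_222) (BT.leaf c5_223)) (BT.leaf c5_224)))))))) (BT.node 8437 (BT.node 8381 (BT.node 8353 (BT.node 8339 (BT.node 8332 (BT.node 8328 (BT.node 8326 (BT.node 8325 (BT.leaf c5_225) (BT.leaf c5_226))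 (BT.node 8327 (BT.leaf c5_227) (BT.leaf c5_228))) (BT.node 8330 (BT.node 8329 (BT.leaf c5_229) (BT.leaf c5_230)) (BT.node 8331 (BT.leaf c5_231) (BT.leaf c5_232)))) (BT.node 8336 (BT.node 8334 (BT.node 8333 (BT.leaf c5_233) (BT.leaf c5_234)) (BT.node 8335 (BT.leaf c5_235) (BT.leaf c5_236))) (BT.node 8338 (BT.node 8337 (BT.leaf c5_237) (BT.leaf c5_238)) (BT.leaf c5_239)))) (BT.node 8346 (BT.node 8343 (BT.node 8341 (BT.node 8340 (BT.leaf c5_240) (BT.leaf c5_241)) (BT.node 8342 (BT.leaf c5_242) (BT.leaf c5_243))) (BT.node 8345 (BT.node 8344 (BT.leaf c5_244) (BT.leaf c5_245)) (BT.leaf c5_246))) (BT.node 8350 (BT.node 8348 (BT.node 8347 (BT.leaf c5_247) (BT.leaf c5_248)) (BT.node 8349 (BT.leaf c5_249) (BT.leaf c5_250))) (BT.node 8352 (BT.node 8351 (BT.leaf c5_251) (BT.leaf c5_252)) (BT.leaf c5_253))))) (BT.node 8367 (BT.node 8360 (BT.node 8357 (BT.node 8355 (BT.node 8354 (BT.leaf c5_254) (BT.leaf c5_255))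 (BT.node 8356 (BT.leaf c5_256) (BT.leaf c5_257))) (BT.node 8359 (BT.node 8358 (BT.leaf c5_258) (BT.leaf c5_259)) (BT.leaf c5_260))) (BT.node 8364 (BT.node 8362 (BT.node 8361 (BT.leaf c5_261) (BT.leaf c5_262)) (BT.node 8363 (BT.leaf c5_263) (BT.leaf c5_264))) (BT.node 8366 (BT.node 8365 (BT.leaf c5_265) (BT.leaf c5_266)) (BT.leaf c5_267)))) (BT.node 8374 (BT.node 8371 (BT.node 8369 (BT.node 8368 (BT.leaf c5_268) (BT.leaf c5_269)) (BT.node 8370 (BT.leaf c5_270) (BT.leaf c5_271))) (BT.node 8373 (BT.node 8372 (BT.leaf c5_272) (BT.leaf c5_273)) (BT.leaf c5_274))) (BT.node 8378 (BT.node 8376 (BT.node 8375 (BT.leaf c5_275) (BT.leaf c5_276)) (BT.node 8377 (BT.leaf c5_277) (BT.leaf c5_278))) (BT.node 8380 (BT.node 8379 (BT.leaf c5_279) (BT.leaf c5_280)) (BT.leaf c5_281)))))) (BT.node 8409 (BT.node 8395 (BT.node 8388 (BT.node 8385 (BT.node 8383 (BT.node 8382 (BT.leaf c5_282) (BT.leaf c5_283)) (BT.node 8384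 (BT.leaf c5_284) (BT.leaf c5_285))) (BT.node 8387 (BT.node 8386 (BT.leaf c5_286) (BT.leaf c5_287)) (BT.leaf c5_288))) (BT.node 8392 (BT.node 8390 (BT.node 8389 (BT.leaf c5_289) (BT.leaf c5_290)) (BT.node 8391 (BT.leaf c5_291) (BT.leaf c5_292))) (BT.node 8394 (BT.node 8393 (BT.leaf c5_293) (BT.leaf c5_294)) (BT.leaf c5_295)))) (BT.node 8402 (BT.node 8399 (BT.node 8397 (BT.node 8396 (BT.leaf c5_296) (BT.leaf c5_297)) (BT.node 8398 (BT.leaf c5_298) (BT.leaf c5_299))) (BT.node 8401 (BT.node 8400 (BT.leaf c5_300) (BT.leaf c5_301)) (BT.leaf c5_302))) (BT.node 8406 (BT.node 8404 (BT.node 8403 (BT.leaf c5_303) (BT.leaf c5_304)) (BT.node 8405 (BT.leaf c5_305) (BT.leaf c5_306))) (BT.node 8408 (BT.node 8407 (BT.leaf c5_307) (BT.leaf c5_308)) (BT.leaf c5_309))))) (BT.node 8423 (BT.node 8416 (BT.node 8413 (BT.node 8411 (BT.node 8410 (BT.leaf c5_310) (BT.leaf c5_311)) (BT.node 8412 (BT.leaf c5_312) (BT.leaf c5_313)))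 (BT.node 8415 (BT.node 8414 (BT.leaf c5_314) (BT.leaf c5_315)) (BT.leaf c5_316))) (BT.node 8420 (BT.node 8418 (BT.node 8417 (BT.leaf c5_317) (BT.leaf c5_318)) (BT.node 8419 (BT.leaf c5_319) (BT.leaf c5_320))) (BT.node 8422 (BT.node 8421 (BT.leaf c5_321) (BT.leaf c5_322)) (BT.leaf c5_323)))) (BT.node 8430 (BT.node 8427 (BT.node 8425 (BT.node 8424 (BT.leaf c5_324) (BT.leaf c5_325)) (BT.node 8426 (BT.leaf c5_326) (BT.leaf c5_327))) (BT.node 8429 (BT.node 8428 (BT.leaf c5_328) (BT.leaf c5_329)) (BT.leaf c5_330))) (BT.node 8434 (BT.node 8432 (BT.node 8431 (BT.leaf c5_331) (BT.leaf c5_332)) (BT.node 8433 (BT.leaf c5_333) (BT.leaf c5_334))) (BT.node 8436 (BT.node 8435 (BT.leaf c5_335) (BT.leaf c5_336)) (BT.leaf c5_337))))))) (BT.node 8493 (BT.node 8465 (BT.node 8451 (BT.node 8444 (BT.node 8441 (BT.node 8439 (BT.node 8438 (BT.leaf c5_338) (BT.leaf c5_339)) (BT.node 8440 (BT.leaf c5_340) (BT.leaf c5_341)))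 (BT.node 8443 (BT.node 8442 (BT.leaf c5_342) (BT.leaf c5_343)) (BT.leaf c5_344))) (BT.node 8448 (BT.node 8446 (BT.node 8445 (BT.leaf c5_345) (BT.leaf c5_346)) (BT.node 8447 (BT.leaf c5_347) (BT.leaf c5_348))) (BT.node 8450 (BT.node 8449 (BT.leaf c5_349) (BT.leaf c5_350)) (BT.leaf c5_351)))) (BT.node 8458 (BT.node 8455 (BT.node 8453 (BT.node 8452 (BT.leaf c5_352) (BT.leaf c5_353)) (BT.node 8454 (BT.leaf c5_354) (BT.leaf c5_355))) (BT.node 8457 (BT.node 8456 (BT.leaf c5_356) (BT.leaf c5_357)) (BT.leaf c5_358))) (BT.node 8462 (BT.node 8460 (BT.node 8459 (BT.leaf c5_359) (BT.leaf c5_360)) (BT.node 8461 (BT.leaf c5_361) (BT.leaf c5_362))) (BT.node 8464 (BT.node 8463 (BT.leaf c5_363) (BT.leaf c5_364)) (BT.leaf c5_365))))) (BT.node 8479 (BT.node 8472 (BT.node 8469 (BT.node 8467 (BT.node 8466 (BT.leaf c5_366) (BT.leaf c5_367)) (BT.node 8468 (BT.leaf c5_368) (BT.leaf c5_369))) (BT.node 8471 (BT.node 8470 (BT.leaf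 c5_370) (BT.leaf c5_371)) (BT.leaf c5_372))) (BT.node 8476 (BT.node 8474 (BT.node 8473 (BT.leaf c5_373) (BT.leaf c5_374)) (BT.node 8475 (BT.leaf c5_375) (BT.leaf c5_376))) (BT.node 8478 (BT.node 8477 (BT.leaf c5_377) (BT.leaf c5_378)) (BT.leaf c5_379)))) (BT.node 8486 (BT.node 8483 (BT.node 8481 (BT.node 8480 (BT.leaf c5_380) (BT.leaf c5_381)) (BT.node 8482 (BT.leaf c5_382) (BT.leaf c5_383))) (BT.node 8485 (BT.node 8484 (BT.leaf c5_384) (BT.leaf c5_385)) (BT.leaf c5_386))) (BT.node 8490 (BT.node 8488 (BT.node 8487 (BT.leaf c5_387) (BT.leaf c5_388)) (BT.node 8489 (BT.leaf c5_389) (BT.leaf c5_390))) (BT.node 8492 (BT.node 8491 (BT.leaf c5_391) (BT.leaf c5_392)) (BT.leaf c5_393)))))) (BT.node 8521 (BT.node 8507 (BT.node 8500 (BT.node 8497 (BT.node 8495 (BT.node 8494 (BT.leaf c5_394) (BT.leaf c5_395)) (BT.node 8496 (BT.leaf c5_396) (BT.leaf c5_397))) (BT.node 8499 (BT.node 8498 (BT.leaf c5_398) (BT.leaf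 c5_399)) (BT.leaf c5_400))) (BT.node 8504 (BT.node 8502 (BT.node 8501 (BT.leaf c5_401) (BT.leaf c5_402)) (BT.node 8503 (BT.leaf c5_403) (BT.leaf c5_404))) (BT.node 8506 (BT.node 8505 (BT.leaf c5_405) (BT.leaf c5_406)) (BT.leaf c5_407)))) (BT.node 8514 (BT.node 8511 (BT.node 8509 (BT.node 8508 (BT.leaf c5_408) (BT.leaf c5_409)) (BT.node 8510 (BT.leaf c5_410) (BT.leaf c5_411))) (BT.node 8513 (BT.node 8512 (BT.leaf c5_412) (BT.leaf c5_413)) (BT.leaf c5_414))) (BT.node 8518 (BT.node 8516 (BT.node 8515 (BT.leaf c5_415) (BT.leaf c5_416)) (BT.node 8517 (BT.leaf c5_417) (BT.leaf c5_418))) (BT.node 8520 (BT.node 8519 (BT.leaf c5_419) (BT.leaf c5_420)) (BT.leaf c5_421))))) (BT.node 8535 (BT.node 8528 (BT.node 8525 (BT.node 8523 (BT.node 8522 (BT.leaf c5_422) (BT.leaf c5_423)) (BT.node 8524 (BT.leaf c5_424) (BT.leaf c5_425))) (BT.node 8527 (BT.node 8526 (BT.leaf c5_426) (BT.leaf c5_427)) (BT.leaf c5_428))) (BT.node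 8532 (BT.node 8530 (BT.node 8529 (BT.leaf c5_429) (BT.leaf c5_430)) (BT.node 8531 (BT.leaf c5_431) (BT.leaf c5_432))) (BT.node 8534 (BT.node 8533 (BT.leaf c5_433) (BT.leaf c5_434)) (BT.leaf c5_435)))) (BT.node 8542 (BT.node 8539 (BT.node 8537 (BT.node 8536 (BT.leaf c5_436) (BT.leaf c5_437)) (BT.node 8538 (BT.leaf c5_438) (BT.leaf c5_439))) (BT.node 8541 (BT.node 8540 (BT.leaf c5_440) (BT.leaf c5_441)) (BT.leaf c5_442))) (BT.node 8546 (BT.node 8544 (BT.node 8543 (BT.leaf c5_443) (BT.leaf c5_444)) (BT.node 8545 (BT.leaf c5_445) (BT.leaf c5_446))) (BT.node 8548 (BT.node 8547 (BT.leaf c5_447) (BT.leaf c5_448)) (BT.leaf c5_449))))))))) (BT.node 8774 (BT.node 8662 (BT.node 8606 (BT.node 8578 (BT.node 8564 (BT.node 8557 (BT.node 8553 (BT.node 8551 (BT.node 8550 (BT.leaf c5_450) (BT.leaf c5_451)) (BT.node 8552 (BT.leaf c5_452) (BT.leaf c5_453))) (BT.node 8555 (BT.node 8554 (BT.leaf c5_454) (BT.leaf c5_455))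 (BT.node 8556 (BT.leaf c5_456) (BT.leaf c5_457)))) (BT.node 8561 (BT.node 8559 (BT.node 8558 (BT.leaf c5_458) (BT.leaf c5_459)) (BT.node 8560 (BT.leaf c5_460) (BT.leaf c5_461))) (BT.node 8563 (BT.node 8562 (BT.leaf c5_462) (BT.leaf c5_463)) (BT.leaf c5_464)))) (BT.node 8571 (BT.node 8568 (BT.node 8566 (BT.node 8565 (BT.leaf c5_465) (BT.leaf c5_466)) (BT.node 8567 (BT.leaf c5_467) (BT.leaf c5_468))) (BT.node 8570 (BT.node 8569 (BT.leaf c5_469) (BT.leaf c5_470)) (BT.leaf c5_471))) (BT.node 8575 (BT.node 8573 (BT.node 8572 (BT.leaf c5_472) (BT.leaf c5_473)) (BT.node 8574 (BT.leaf c5_474) (BT.leaf c5_475))) (BT.node 8577 (BT.node 8576 (BT.leaf c5_476) (BT.leaf c5_477)) (BT.leaf c5_478))))) (BT.node 8592 (BT.node 8585 (BT.node 8582 (BT.node 8580 (BT.node 8579 (BT.leaf c5_479) (BT.leaf c5_480)) (BT.node 8581 (BT.leaf c5_481) (BT.leaf c5_482))) (BT.node 8584 (BT.node 8583 (BT.leaf c5_483) (BT.leaf c5_484))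 (BT.leaf c5_485))) (BT.node 8589 (BT.node 8587 (BT.node 8586 (BT.leaf c5_486) (BT.leaf c5_487)) (BT.node 8588 (BT.leaf c5_488) (BT.leaf c5_489))) (BT.node 8591 (BT.node 8590 (BT.leaf c5_490) (BT.leaf c5_491)) (BT.leaf c5_492)))) (BT.node 8599 (BT.node 8596 (BT.node 8594 (BT.node 8593 (BT.leaf c5_493) (BT.leaf c5_494)) (BT.node 8595 (BT.leaf c5_495) (BT.leaf c5_496))) (BT.node 8598 (BT.node 8597 (BT.leaf c5_497) (BT.leaf c5_498)) (BT.leaf c5_499))) (BT.node 8603 (BT.node 8601 (BT.node 8600 (BT.leaf c5_500) (BT.leaf c5_501)) (BT.node 8602 (BT.leaf c5_502) (BT.leaf c5_503))) (BT.node 8605 (BT.node 8604 (BT.leaf c5_504) (BT.leaf c5_505)) (BT.leaf c5_506)))))) (BT.node 8634 (BT.node 8620 (BT.node 8613 (BT.node 8610 (BT.node 8608 (BT.node 8607 (BT.leaf c5_507) (BT.leaf c5_508)) (BT.node 8609 (BT.leaf c5_509) (BT.leaf c5_510))) (BT.node 8612 (BT.node 8611 (BT.leaf c5_511) (BT.leaf c5_512)) (BT.leaf c5_513)))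 (BT.node 8617 (BT.node 8615 (BT.node 8614 (BT.leaf c5_514) (BT.leaf c5_515)) (BT.node 8616 (BT.leaf c5_516) (BT.leaf c5_517))) (BT.node 8619 (BT.node 8618 (BT.leaf c5_518) (BT.leaf c5_519)) (BT.leaf c5_520)))) (BT.node 8627 (BT.node 8624 (BT.node 8622 (BT.node 8621 (BT.leaf c5_521) (BT.leaf c5_522)) (BT.node 8623 (BT.leaf c5_523) (BT.leaf c5_524))) (BT.node 8626 (BT.node 8625 (BT.leaf c5_525) (BT.leaf c5_526)) (BT.leaf c5_527))) (BT.node 8631 (BT.node 8629 (BT.node 8628 (BT.leaf c5_528) (BT.leaf c5_529)) (BT.node 8630 (BT.leaf c5_530) (BT.leaf c5_531))) (BT.node 8633 (BT.node 8632 (BT.leaf c5_532) (BT.leaf c5_533)) (BT.leaf c5_534))))) (BT.node 8648 (BT.node 8641 (BT.node 8638 (BT.node 8636 (BT.node 8635 (BT.leaf c5_535) (BT.leaf c5_536)) (BT.node 8637 (BT.leaf c5_537) (BT.leaf c5_538))) (BT.node 8640 (BT.node 8639 (BT.leaf c5_539) (BT.leaf c5_540)) (BT.leaf c5_541))) (BT.node 8645 (BT.node 8643 (BT.node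 8642 (BT.leaf c5_542) (BT.leaf c5_543)) (BT.node 8644 (BT.leaf c5_544) (BT.leaf c5_545))) (BT.node 8647 (BT.node 8646 (BT.leaf c5_546) (BT.leaf c5_547)) (BT.leaf c5_548)))) (BT.node 8655 (BT.node 8652 (BT.node 8650 (BT.node 8649 (BT.leaf c5_549) (BT.leaf c5_550)) (BT.node 8651 (BT.leaf c5_551) (BT.leaf c5_552))) (BT.node 8654 (BT.node 8653 (BT.leaf c5_553) (BT.leaf c5_554)) (BT.leaf c5_555))) (BT.node 8659 (BT.node 8657 (BT.node 8656 (BT.leaf c5_556) (BT.leaf c5_557)) (BT.node 8658 (BT.leaf c5_558) (BT.leaf c5_559))) (BT.node 8661 (BT.node 8660 (BT.leaf c5_560) (BT.leaf c5_561)) (BT.leaf c5_562))))))) (BT.node 8718 (BT.node 8690 (BT.node 8676 (BT.node 8669 (BT.node 8666 (BT.node 8664 (BT.node 8663 (BT.leaf c5_563) (BT.leaf c5_564)) (BT.node 8665 (BT.leaf c5_565) (BT.leaf c5_566))) (BT.node 8668 (BT.node 8667 (BT.leaf c5_567) (BT.leaf c5_568)) (BT.leaf c5_569))) (BT.node 8673 (BT.node 8671 (BT.node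 8670 (BT.leaf c5_570) (BT.leaf c5_571)) (BT.node 8672 (BT.leaf c5_572) (BT.leaf c5_573))) (BT.node 8675 (BT.node 8674 (BT.leaf c5_574) (BT.leaf c5_575)) (BT.leaf c5_576)))) (BT.node 8683 (BT.node 8680 (BT.node 8678 (BT.node 8677 (BT.leaf c5_577) (BT.leaf c5_578)) (BT.node 8679 (BT.leaf c5_579) (BT.leaf c5_580))) (BT.node 8682 (BT.node 8681 (BT.leaf c5_581) (BT.leaf c5_582)) (BT.leaf c5_583))) (BT.node 8687 (BT.node 8685 (BT.node 8684 (BT.leaf c5_584) (BT.leaf c5_585)) (BT.node 8686 (BT.leaf c5_586) (BT.leaf c5_587))) (BT.node 8689 (BT.node 8688 (BT.leaf c5_588) (BT.leaf c5_589)) (BT.leaf c5_590))))) (BT.node 8704 (BT.node 8697 (BT.node 8694 (BT.node 8692 (BT.node 8691 (BT.leaf c5_591) (BT.leaf c5_592)) (BT.node 8693 (BT.leaf c5_593) (BT.leaf c5_594))) (BT.node 8696 (BT.node 8695 (BT.leaf c5_595) (BT.leaf c5_596)) (BT.leaf c5_597))) (BT.node 8701 (BT.node 8699 (BT.node 8698 (BT.leaf c5_598) (BT.leaf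 c5_599)) (BT.node 8700 (BT.leaf c5_600) (BT.leaf c5_601))) (BT.node 8703 (BT.node 8702 (BT.leaf c5_602) (BT.leaf c5_603)) (BT.leaf c5_604)))) (BT.node 8711 (BT.node 8708 (BT.node 8706 (BT.node 8705 (BT.leaf c5_605) (BT.leaf c5_606)) (BT.node 8707 (BT.leaf c5_607) (BT.leaf c5_608))) (BT.node 8710 (BT.node 8709 (BT.leaf c5_609) (BT.leaf c5_610)) (BT.leaf c5_611))) (BT.node 8715 (BT.node 8713 (BT.node 8712 (BT.leaf c5_612) (BT.leaf c5_613)) (BT.node 8714 (BT.leaf c5_614) (BT.leaf c5_615))) (BT.node 8717 (BT.node 8716 (BT.leaf c5_616) (BT.leaf c5_617)) (BT.leaf c5_618)))))) (BT.node 8746 (BT.node 8732 (BT.node 8725 (BT.node 8722 (BT.node 8720 (BT.node 8719 (BT.leaf c5_619) (BT.leaf c5_620)) (BT.node 8721 (BT.leaf c5_621) (BT.leaf c5_622))) (BT.node 8724 (BT.node 8723 (BT.leaf c5_623) (BT.leaf c5_624)) (BT.leaf c5_625))) (BT.node 8729 (BT.node 8727 (BT.node 8726 (BT.leaf c5_626) (BT.leaf c5_627)) (BT.node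 8728 (BT.leaf c5_628) (BT.leaf c5_629))) (BT.node 8731 (BT.node 8730 (BT.leaf c5_630) (BT.leaf c5_631)) (BT.leaf c5_632)))) (BT.node 8739 (BT.node 8736 (BT.node 8734 (BT.node 8733 (BT.leaf c5_633) (BT.leaf c5_634)) (BT.node 8735 (BT.leaf c5_635) (BT.leaf c5_636))) (BT.node 8738 (BT.node 8737 (BT.leaf c5_637) (BT.leaf c5_638)) (BT.leaf c5_639))) (BT.node 8743 (BT.node 8741 (BT.node 8740 (BT.leaf c5_640) (BT.leaf c5_641)) (BT.node 8742 (BT.leaf c5_642) (BT.leaf c5_643))) (BT.node 8745 (BT.node 8744 (BT.leaf c5_644) (BT.leaf c5_645)) (BT.leaf c5_646))))) (BT.node 8760 (BT.node 8753 (BT.node 8750 (BT.node 8748 (BT.node 8747 (BT.leaf c5_647) (BT.leaf c5_648)) (BT.node 8749 (BT.leaf c5_649) (BT.leaf c5_650))) (BT.node 8752 (BT.node 8751 (BT.leaf c5_651) (BT.leaf c5_652)) (BT.leaf c5_653))) (BT.node 8757 (BT.node 8755 (BT.node 8754 (BT.leaf c5_654) (BT.leaf c5_655)) (BT.node 8756 (BT.leaf c5_656) (BT.leaf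 c5_657))) (BT.node 8759 (BT.node 8758 (BT.leaf c5_658) (BT.leaf c5_659)) (BT.leaf c5_660)))) (BT.node 8767 (BT.node 8764 (BT.node 8762 (BT.node 8761 (BT.leaf c5_661) (BT.leaf c5_662)) (BT.node 8763 (BT.leaf c5_663) (BT.leaf c5_664))) (BT.node 8766 (BT.node 8765 (BT.leaf c5_665) (BT.leaf c5_666)) (BT.leaf c5_667))) (BT.node 8771 (BT.node 8769 (BT.node 8768 (BT.leaf c5_668) (BT.leaf c5_669)) (BT.node 8770 (BT.leaf c5_670) (BT.leaf c5_671))) (BT.node 8773 (BT.node 8772 (BT.leaf c5_672) (BT.leaf c5_673)) (BT.leaf c5_674)))))))) (BT.node 8887 (BT.node 8831 (BT.node 8803 (BT.node 8789 (BT.node 8782 (BT.node 8778 (BT.node 8776 (BT.node 8775 (BT.leaf c5_675) (BT.leaf c5_676)) (BT.node 8777 (BT.leaf c5_677) (BT.leaf c5_678))) (BT.node 8780 (BT.node 8779 (BT.leaf c5_679) (BT.leaf c5_680)) (BT.node 8781 (BT.leaf c5_681) (BT.leaf c5_682)))) (BT.node 8786 (BT.node 8784 (BT.node 8783 (BT.leaf c5_683) (BT.leaf c5_684))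 (BT.node 8785 (BT.leaf c5_685) (BT.leaf c5_686))) (BT.node 8788 (BT.node 8787 (BT.leaf c5_687) (BT.leaf c5_688)) (BT.leaf c5_689)))) (BT.node 8796 (BT.node 8793 (BT.node 8791 (BT.node 8790 (BT.leaf c5_690) (BT.leaf c5_691)) (BT.node 8792 (BT.leaf c5_692) (BT.leaf c5_693))) (BT.node 8795 (BT.node 8794 (BT.leaf c5_694) (BT.leaf c5_695)) (BT.leaf c5_696))) (BT.node 8800 (BT.node 8798 (BT.node 8797 (BT.leaf c5_697) (BT.leaf c5_698)) (BT.node 8799 (BT.leaf c5_699) (BT.leaf c5_700))) (BT.node 8802 (BT.node 8801 (BT.leaf c5_701) (BT.leaf c5_702)) (BT.leaf c5_703))))) (BT.node 8817 (BT.node 8810 (BT.node 8807 (BT.node 8805 (BT.node 8804 (BT.leaf c5_704) (BT.leaf c5_705)) (BT.node 8806 (BT.leaf c5_706) (BT.leaf c5_707))) (BT.node 8809 (BT.node 8808 (BT.leaf c5_708) (BT.leaf c5_709)) (BT.leaf c5_710))) (BT.node 8814 (BT.node 8812 (BT.node 8811 (BT.leaf c5_711) (BT.leaf c5_712)) (BT.node 8813 (BT.leaf c5_713)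 (BT.leaf c5_714))) (BT.node 8816 (BT.node 8815 (BT.leaf c5_715) (BT.leaf c5_716)) (BT.leaf c5_717)))) (BT.node 8824 (BT.node 8821 (BT.node 8819 (BT.node 8818 (BT.leaf c5_718) (BT.leaf c5_719)) (BT.node 8820 (BT.leaf c5_720) (BT.leaf c5_721))) (BT.node 8823 (BT.node 8822 (BT.leaf c5_722) (BT.leaf c5_723)) (BT.leaf c5_724))) (BT.node 8828 (BT.node 8826 (BT.node 8825 (BT.leaf c5_725) (BT.leaf c5_726)) (BT.node 8827 (BT.leaf c5_727) (BT.leaf c5_728))) (BT.node 8830 (BT.node 8829 (BT.leaf c5_729) (BT.leaf c5_730)) (BT.leaf c5_731)))))) (BT.node 8859 (BT.node 8845 (BT.node 8838 (BT.node 8835 (BT.node 8833 (BT.node 8832 (BT.leaf c5_732) (BT.leaf c5_733)) (BT.node 8834 (BT.leaf c5_734) (BT.leaf c5_735))) (BT.node 8837 (BT.node 8836 (BT.leaf c5_736) (BT.leaf c5_737)) (BT.leaf c5_738))) (BT.node 8842 (BT.node 8840 (BT.node 8839 (BT.leaf c5_739) (BT.leaf c5_740)) (BT.node 8841 (BT.leaf c5_741) (BT.leaf c5_742)))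 (BT.node 8844 (BT.node 8843 (BT.leaf c5_743) (BT.leaf c5_744)) (BT.leaf c5_745)))) (BT.node 8852 (BT.node 8849 (BT.node 8847 (BT.node 8846 (BT.leaf c5_746) (BT.leaf c5_747)) (BT.node 8848 (BT.leaf c5_748) (BT.leaf c5_749))) (BT.node 8851 (BT.node 8850 (BT.leaf c5_750) (BT.leaf c5_751)) (BT.leaf c5_752))) (BT.node 8856 (BT.node 8854 (BT.node 8853 (BT.leaf c5_753) (BT.leaf c5_754)) (BT.node 8855 (BT.leaf c5_755) (BT.leaf c5_756))) (BT.node 8858 (BT.node 8857 (BT.leaf c5_757) (BT.leaf c5_758)) (BT.leaf c5_759))))) (BT.node 8873 (BT.node 8866 (BT.node 8863 (BT.node 8861 (BT.node 8860 (BT.leaf c5_760) (BT.leaf c5_761)) (BT.node 8862 (BT.leaf c5_762) (BT.leaf c5_763))) (BT.node 8865 (BT.node 8864 (BT.leaf c5_764) (BT.leaf c5_765)) (BT.leaf c5_766))) (BT.node 8870 (BT.node 8868 (BT.node 8867 (BT.leaf c5_767) (BT.leaf c5_768)) (BT.node 8869 (BT.leaf c5_769) (BT.leaf c5_770))) (BT.node 8872 (BT.node 8871 (BT.leaf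 c5_771) (BT.leaf c5_772)) (BT.leaf c5_773)))) (BT.node 8880 (BT.node 8877 (BT.node 8875 (BT.node 8874 (BT.leaf c5_774) (BT.leaf c5_775)) (BT.node 8876 (BT.leaf c5_776) (BT.leaf c5_777))) (BT.node 8879 (BT.node 8878 (BT.leaf c5_778) (BT.leaf c5_779)) (BT.leaf c5_780))) (BT.node 8884 (BT.node 8882 (BT.node 8881 (BT.leaf c5_781) (BT.leaf c5_782)) (BT.node 8883 (BT.leaf c5_783) (BT.leaf c5_784))) (BT.node 8886 (BT.node 8885 (BT.leaf c5_785) (BT.leaf c5_786)) (BT.leaf c5_787))))))) (BT.node 8943 (BT.node 8915 (BT.node 8901 (BT.node 8894 (BT.node 8891 (BT.node 8889 (BT.node 8888 (BT.leaf c5_788) (BT.leaf c5_789)) (BT.node 8890 (BT.leaf c5_790) (BT.leaf c5_791))) (BT.node 8893 (BT.node 8892 (BT.leaf c5_792) (BT.leaf c5_793)) (BT.leaf c5_794))) (BT.node 8898 (BT.node 8896 (BT.node 8895 (BT.leaf c5_795) (BT.leaf c5_796)) (BT.node 8897 (BT.leaf c5_797) (BT.leaf c5_798))) (BT.node 8900 (BT.node 8899 (BT.leaf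 c5_799) (BT.leaf c5_800)) (BT.leaf c5_801)))) (BT.node 8908 (BT.node 8905 (BT.node 8903 (BT.node 8902 (BT.leaf c5_802) (BT.leaf c5_803)) (BT.node 8904 (BT.leaf c5_804) (BT.leaf c5_805))) (BT.node 8907 (BT.node 8906 (BT.leaf c5_806) (BT.leaf c5_807)) (BT.leaf c5_808))) (BT.node 8912 (BT.node 8910 (BT.node 8909 (BT.leaf c5_809) (BT.leaf c5_810)) (BT.node 8911 (BT.leaf c5_811) (BT.leaf c5_812))) (BT.node 8914 (BT.node 8913 (BT.leaf c5_813) (BT.leaf c5_814)) (BT.leaf c5_815))))) (BT.node 8929 (BT.node 8922 (BT.node 8919 (BT.node 8917 (BT.node 8916 (BT.leaf c5_816) (BT.leaf c5_817)) (BT.node 8918 (BT.leaf c5_818) (BT.leaf c5_819))) (BT.node 8921 (BT.node 8920 (BT.leaf c5_820) (BT.leaf c5_821)) (BT.leaf c5_822))) (BT.node 8926 (BT.node 8924 (BT.node 8923 (BT.leaf c5_823) (BT.leaf c5_824)) (BT.node 8925 (BT.leaf c5_825) (BT.leaf c5_826))) (BT.node 8928 (BT.node 8927 (BT.leaf c5_827) (BT.leaf c5_828)) (BT.leaf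 c5_829)))) (BT.node 8936 (BT.node 8933 (BT.node 8931 (BT.node 8930 (BT.leaf c5_830) (BT.leaf c5_831)) (BT.node 8932 (BT.leaf c5_832) (BT.leaf c5_833))) (BT.node 8935 (BT.node 8934 (BT.leaf c5_834) (BT.leaf c5_835)) (BT.leaf c5_836))) (BT.node 8940 (BT.node 8938 (BT.node 8937 (BT.leaf c5_837) (BT.leaf c5_838)) (BT.node 8939 (BT.leaf c5_839) (BT.leaf c5_840))) (BT.node 8942 (BT.node 8941 (BT.leaf c5_841) (BT.leaf c5_842)) (BT.leaf c5_843)))))) (BT.node 8971 (BT.node 8957 (BT.node 8950 (BT.node 8947 (BT.node 8945 (BT.node 8944 (BT.leaf c5_844) (BT.leaf c5_845)) (BT.node 8946 (BT.leaf c5_846) (BT.leaf c5_847))) (BT.node 8949 (BT.node 8948 (BT.leaf c5_848) (BT.leaf c5_849)) (BT.leaf c5_850))) (BT.node 8954 (BT.node 8952 (BT.node 8951 (BT.leaf c5_851) (BT.leaf c5_852)) (BT.node 8953 (BT.leaf c5_853) (BT.leaf c5_854))) (BT.node 8956 (BT.node 8955 (BT.leaf c5_855) (BT.leaf c5_856)) (BT.leaf c5_857)))) (BT.node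 8964 (BT.node 8961 (BT.node 8959 (BT.node 8958 (BT.leaf c5_858) (BT.leaf c5_859)) (BT.node 8960 (BT.leaf c5_860) (BT.leaf c5_861))) (BT.node 8963 (BT.node 8962 (BT.leaf c5_862) (BT.leaf c5_863)) (BT.leaf c5_864))) (BT.node 8968 (BT.node 8966 (BT.node 8965 (BT.leaf c5_865) (BT.leaf c5_866)) (BT.node 8967 (BT.leaf c5_867) (BT.leaf c5_868))) (BT.node 8970 (BT.node 8969 (BT.leaf c5_869) (BT.leaf c5_870)) (BT.leaf c5_871))))) (BT.node 8985 (BT.node 8978 (BT.node 8975 (BT.node 8973 (BT.node 8972 (BT.leaf c5_872) (BT.leaf c5_873)) (BT.node 8974 (BT.leaf c5_874) (BT.leaf c5_875))) (BT.node 8977 (BT.node 8976 (BT.leaf c5_876) (BT.leaf c5_877)) (BT.leaf c5_878))) (BT.node 8982 (BT.node 8980 (BT.node 8979 (BT.leaf c5_879) (BT.leaf c5_880)) (BT.node 8981 (BT.leaf c5_881) (BT.leaf c5_882))) (BT.node 8984 (BT.node 8983 (BT.leaf c5_883) (BT.leaf c5_884)) (BT.leaf c5_885)))) (BT.node 8992 (BT.node 8989 (BT.node 8987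 (BT.node 8986 (BT.leaf c5_886) (BT.leaf c5_887)) (BT.node 8988 (BT.leaf c5_888) (BT.leaf c5_889))) (BT.node 8991 (BT.node 8990 (BT.leaf c5_890) (BT.leaf c5_891)) (BT.leaf c5_892))) (BT.node 8996 (BT.node 8994 (BT.node 8993 (BT.leaf c5_893) (BT.leaf c5_894)) (BT.node 8995 (BT.leaf c5_895) (BT.leaf c5_896))) (BT.node 8998 (BT.node 8997 (BT.leaf c5_897) (BT.leaf c5_898)) (BT.leaf c5_899))))))))))
/-- the chunks of the letter 10 -/
def colL_10 : BT ℕ := (BT.node 9449 (BT.node 9224 (BT.node 9112 (BT.node 9056 (BT.node 9028 (BT.node 9014 (BT.node 9007 (BT.node 9003 (BT.node 9001 (BT.node 9000 (BT.leaf c6_0) (BT.leaf c6_1)) (BT.node 9002 (BT.leaf c6_2) (BT.leaf c6_3))) (BT.node 9005 (BT.node 9004 (BT.leaf c6_4) (BT.leaf c6_5)) (BT.node 9006 (BT.leaf c6_6) (BT.leaf c6_7)))) (BT.node 9011 (BT.node 9009 (BT.node 9008 (BT.leaf c6_8) (BT.leaf c6_9)) (BT.node 9010 (BT.leaf c6_10) (BT.leaf c6_11))) (BT.node 9013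 (BT.node 9012 (BT.leaf c6_12) (BT.leaf c6_13)) (BT.leaf c6_14)))) (BT.node 9021 (BT.node 9018 (BT.node 9016 (BT.node 9015 (BT.leaf c6_15) (BT.leaf c6_16)) (BT.node 9017 (BT.leaf c6_17) (BT.leaf c6_18))) (BT.node 9020 (BT.node 9019 (BT.leaf c6_19) (BT.leaf c6_20)) (BT.leaf c6_21))) (BT.node 9025 (BT.node 9023 (BT.node 9022 (BT.leaf c6_22) (BT.leaf c6_23)) (BT.node 9024 (BT.leaf c6_24) (BT.leaf c6_25))) (BT.node 9027 (BT.node 9026 (BT.leaf c6_26) (BT.leaf c6_27)) (BT.leaf c6_28))))) (BT.node 9042 (BT.node 9035 (BT.node 9032 (BT.node 9030 (BT.node 9029 (BT.leaf c6_29) (BT.leaf c6_30)) (BT.node 9031 (BT.leaf c6_31) (BT.leaf c6_32))) (BT.node 9034 (BT.node 9033 (BT.leaf c6_33) (BT.leaf c6_34)) (BT.leaf c6_35))) (BT.node 9039 (BT.node 9037 (BT.node 9036 (BT.leaf c6_36) (BT.leaf c6_37)) (BT.node 9038 (BT.leaf c6_38) (BT.leaf c6_39))) (BT.node 9041 (BT.node 9040 (BT.leaf c6_40) (BT.leaf c6_41)) (BT.leaf c6_42))))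 (BT.node 9049 (BT.node 9046 (BT.node 9044 (BT.node 9043 (BT.leaf c6_43) (BT.leaf c6_44)) (BT.node 9045 (BT.leaf c6_45) (BT.leaf c6_46))) (BT.node 9048 (BT.node 9047 (BT.leaf c6_47) (BT.leaf c6_48)) (BT.leaf c6_49))) (BT.node 9053 (BT.node 9051 (BT.node 9050 (BT.leaf c6_50) (BT.leaf c6_51)) (BT.node 9052 (BT.leaf c6_52) (BT.leaf c6_53))) (BT.node 9055 (BT.node 9054 (BT.leaf c6_54) (BT.leaf c6_55)) (BT.leaf c6_56)))))) (BT.node 9084 (BT.node 9070 (BT.node 9063 (BT.node 9060 (BT.node 9058 (BT.node 9057 (BT.leaf c6_57) (BT.leaf c6_58)) (BT.node 9059 (BT.leaf c6_59) (BT.leaf c6_60))) (BT.node 9062 (BT.node 9061 (BT.leaf c6_61) (BT.leaf c6_62)) (BT.leaf c6_63))) (BT.node 9067 (BT.node 9065 (BT.node 9064 (BT.leaf c6_64) (BT.leaf c6_65)) (BT.node 9066 (BT.leaf c6_66) (BT.leaf c6_67))) (BT.node 9069 (BT.node 9068 (BT.leaf c6_68) (BT.leaf c6_69)) (BT.leaf c6_70)))) (BT.node 9077 (BT.node 9074 (BT.node 9072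 (BT.node 9071 (BT.leaf c6_71) (BT.leaf c6_72)) (BT.node 9073 (BT.leaf c6_73) (BT.leaf c6_74))) (BT.node 9076 (BT.node 9075 (BT.leaf c6_75) (BT.leaf c6_76)) (BT.leaf c6_77))) (BT.node 9081 (BT.node 9079 (BT.node 9078 (BT.leaf c6_78) (BT.leaf c6_79)) (BT.node 9080 (BT.leaf c6_80) (BT.leaf c6_81))) (BT.node 9083 (BT.node 9082 (BT.leaf c6_82) (BT.leaf c6_83)) (BT.leaf c6_84))))) (BT.node 9098 (BT.node 9091 (BT.node 9088 (BT.node 9086 (BT.node 9085 (BT.leaf c6_85) (BT.leaf c6_86)) (BT.node 9087 (BT.leaf c6_87) (BT.leaf c6_88))) (BT.node 9090 (BT.node 9089 (BT.leaf c6_89) (BT.leaf c6_90)) (BT.leaf c6_91))) (BT.node 9095 (BT.node 9093 (BT.node 9092 (BT.leaf c6_92) (BT.leaf c6_93)) (BT.node 9094 (BT.leaf c6_94) (BT.leaf c6_95))) (BT.node 9097 (BT.node 9096 (BT.leaf c6_96) (BT.leaf c6_97)) (BT.leaf c6_98)))) (BT.node 9105 (BT.node 9102 (BT.node 9100 (BT.node 9099 (BT.leaf c6_99) (BT.leaf c6_100)) (BT.node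 9101 (BT.leaf c6_101) (BT.leaf c6_102))) (BT.node 9104 (BT.node 9103 (BT.leaf c6_103) (BT.leaf c6_104)) (BT.leaf c6_105))) (BT.node 9109 (BT.node 9107 (BT.node 9106 (BT.leaf c6_106) (BT.leaf c6_107)) (BT.node 9108 (BT.leaf c6_108) (BT.leaf c6_109))) (BT.node 9111 (BT.node 9110 (BT.leaf c6_110) (BT.leaf c6_111)) (BT.leaf c6_112))))))) (BT.node 9168 (BT.node 9140 (BT.node 9126 (BT.node 9119 (BT.node 9116 (BT.node 9114 (BT.node 9113 (BT.leaf c6_113) (BT.leaf c6_114)) (BT.node 9115 (BT.leaf c6_115) (BT.leaf c6_116))) (BT.node 9118 (BT.node 9117 (BT.leaf c6_117) (BT.leaf c6_118)) (BT.leaf c6_119))) (BT.node 9123 (BT.node 9121 (BT.node 9120 (BT.leaf c6_120) (BT.leaf c6_121)) (BT.node 9122 (BT.leaf c6_122) (BT.leaf c6_123))) (BT.node 9125 (BT.node 9124 (BT.leaf c6_124) (BT.leaf c6_125)) (BT.leaf c6_126)))) (BT.node 9133 (BT.node 9130 (BT.node 9128 (BT.node 9127 (BT.leaf c6_127) (BT.leaf c6_128)) (BT.node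 9129 (BT.leaf c6_129) (BT.leaf c6_130))) (BT.node 9132 (BT.node 9131 (BT.leaf c6_131) (BT.leaf c6_132)) (BT.leaf c6_133))) (BT.node 9137 (BT.node 9135 (BT.node 9134 (BT.leaf c6_134) (BT.leaf c6_135)) (BT.node 9136 (BT.leaf c6_136) (BT.leaf c6_137))) (BT.node 9139 (BT.node 9138 (BT.leaf c6_138) (BT.leaf c6_139)) (BT.leaf c6_140))))) (BT.node 9154 (BT.node 9147 (BT.node 9144 (BT.node 9142 (BT.node 9141 (BT.leaf c6_141) (BT.leaf c6_142)) (BT.node 9143 (BT.leaf c6_143) (BT.leaf c6_144))) (BT.node 9146 (BT.node 9145 (BT.leaf c6_145) (BT.leaf c6_146)) (BT.leaf c6_147))) (BT.node 9151 (BT.node 9149 (BT.node 9148 (BT.leaf c6_148) (BT.leaf c6_149)) (BT.node 9150 (BT.leaf c6_150) (BT.leaf c6_151))) (BT.node 9153 (BT.node 9152 (BT.leaf c6_152) (BT.leaf c6_153)) (BT.leaf c6_154)))) (BT.node 9161 (BT.node 9158 (BT.node 9156 (BT.node 9155 (BT.leaf c6_155) (BT.leaf c6_156)) (BT.node 9157 (BT.leaf c6_157) (BT.leaf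 c6_158))) (BT.node 9160 (BT.node 9159 (BT.leaf c6_159) (BT.leaf c6_160)) (BT.leaf c6_161))) (BT.node 9165 (BT.node 9163 (BT.node 9162 (BT.leaf c6_162) (BT.leaf c6_163)) (BT.node 9164 (BT.leaf c6_164) (BT.leaf c6_165))) (BT.node 9167 (BT.node 9166 (BT.leaf c6_166) (BT.leaf c6_167)) (BT.leaf c6_168)))))) (BT.node 9196 (BT.node 9182 (BT.node 9175 (BT.node 9172 (BT.node 9170 (BT.node 9169 (BT.leaf c6_169) (BT.leaf c6_170)) (BT.node 9171 (BT.leaf c6_171) (BT.leaf c6_172))) (BT.node 9174 (BT.node 9173 (BT.leaf c6_173) (BT.leaf c6_174)) (BT.leaf c6_175))) (BT.node 9179 (BT.node 9177 (BT.node 9176 (BT.leaf c6_176) (BT.leaf c6_177)) (BT.node 9178 (BT.leaf c6_178) (BT.leaf c6_179))) (BT.node 9181 (BT.node 9180 (BT.leaf c6_180) (BT.leaf c6_181)) (BT.leaf c6_182)))) (BT.node 9189 (BT.node 9186 (BT.node 9184 (BT.node 9183 (BT.leaf c6_183) (BT.leaf c6_184)) (BT.node 9185 (BT.leaf c6_185) (BT.leaf c6_186))) (BT.node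 9188 (BT.node 9187 (BT.leaf c6_187) (BT.leaf c6_188)) (BT.leaf c6_189))) (BT.node 9193 (BT.node 9191 (BT.node 9190 (BT.leaf c6_190) (BT.leaf c6_191)) (BT.node 9192 (BT.leaf c6_192) (BT.leaf c6_193))) (BT.node 9195 (BT.node 9194 (BT.leaf c6_194) (BT.leaf c6_195)) (BT.leaf c6_196))))) (BT.node 9210 (BT.node 9203 (BT.node 9200 (BT.node 9198 (BT.node 9197 (BT.leaf c6_197) (BT.leaf c6_198)) (BT.node 9199 (BT.leaf c6_199) (BT.leaf c6_200))) (BT.node 9202 (BT.node 9201 (BT.leaf c6_201) (BT.leaf c6_202)) (BT.leaf c6_203))) (BT.node 9207 (BT.node 9205 (BT.node 9204 (BT.leaf c6_204) (BT.leaf c6_205)) (BT.node 9206 (BT.leaf c6_206) (BT.leaf c6_207))) (BT.node 9209 (BT.node 9208 (BT.leaf c6_208) (BT.leaf c6_209)) (BT.leaf c6_210)))) (BT.node 9217 (BT.node 9214 (BT.node 9212 (BT.node 9211 (BT.leaf c6_211) (BT.leaf c6_212)) (BT.node 9213 (BT.leaf c6_213) (BT.leaf c6_214))) (BT.node 9216 (BT.node 9215 (BT.leaf c6_215)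 (BT.leaf c6_216)) (BT.leaf c6_217))) (BT.node 9221 (BT.node 9219 (BT.node 9218 (BT.leaf c6_218) (BT.leaf c6_219)) (BT.node 9220 (BT.leaf c6_220) (BT.leaf c6_221))) (BT.node 9223 (BT.node 9222 (BT.leaf c6_222) (BT.leaf c6_223)) (BT.leaf c6_224)))))))) (BT.node 9337 (BT.node 9281 (BT.node 9253 (BT.node 9239 (BT.node 9232 (BT.node 9228 (BT.node 9226 (BT.node 9225 (BT.leaf c6_225) (BT.leaf c6_226)) (BT.node 9227 (BT.leaf c6_227) (BT.leaf c6_228))) (BT.node 9230 (BT.node 9229 (BT.leaf c6_229) (BT.leaf c6_230)) (BT.node 9231 (BT.leaf c6_231) (BT.leaf c6_232)))) (BT.node 9236 (BT.node 9234 (BT.node 9233 (BT.leaf c6_233) (BT.leaf c6_234)) (BT.node 9235 (BT.leaf c6_235) (BT.leaf c6_236))) (BT.node 9238 (BT.node 9237 (BT.leaf c6_237) (BT.leaf c6_238)) (BT.leaf c6_239)))) (BT.node 9246 (BT.node 9243 (BT.node 9241 (BT.node 9240 (BT.leaf c6_240) (BT.leaf c6_241)) (BT.node 9242 (BT.leaf c6_242) (BT.leaf c6_243)))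 (BT.node 9245 (BT.node 9244 (BT.leaf c6_244) (BT.leaf c6_245)) (BT.leaf c6_246))) (BT.node 9250 (BT.node 9248 (BT.node 9247 (BT.leaf c6_247) (BT.leaf c6_248)) (BT.node 9249 (BT.leaf c6_249) (BT.leaf c6_250))) (BT.node 9252 (BT.node 9251 (BT.leaf c6_251) (BT.leaf c6_252)) (BT.leaf c6_253))))) (BT.node 9267 (BT.node 9260 (BT.node 9257 (BT.node 9255 (BT.node 9254 (BT.leaf c6_254) (BT.leaf c6_255)) (BT.node 9256 (BT.leaf c6_256) (BT.leaf c6_257))) (BT.node 9259 (BT.node 9258 (BT.leaf c6_258) (BT.leaf c6_259)) (BT.leaf c6_260))) (BT.node 9264 (BT.node 9262 (BT.node 9261 (BT.leaf c6_261) (BT.leaf c6_262)) (BT.node 9263 (BT.leaf c6_263) (BT.leaf c6_264))) (BT.node 9266 (BT.node 9265 (BT.leaf c6_265) (BT.leaf c6_266)) (BT.leaf c6_267)))) (BT.node 9274 (BT.node 9271 (BT.node 9269 (BT.node 9268 (BT.leaf c6_268) (BT.leaf c6_269)) (BT.node 9270 (BT.leaf c6_270) (BT.leaf c6_271))) (BT.node 9273 (BT.node 9272 (BT.leaf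 c6_272) (BT.leaf c6_273)) (BT.leaf c6_274))) (BT.node 9278 (BT.node 9276 (BT.node 9275 (BT.leaf c6_275) (BT.leaf c6_276)) (BT.node 9277 (BT.leaf c6_277) (BT.leaf c6_278))) (BT.node 9280 (BT.node 9279 (BT.leaf c6_279) (BT.leaf c6_280)) (BT.leaf c6_281)))))) (BT.node 9309 (BT.node 9295 (BT.node 9288 (BT.node 9285 (BT.node 9283 (BT.node 9282 (BT.leaf c6_282) (BT.leaf c6_283)) (BT.node 9284 (BT.leaf c6_284) (BT.leaf c6_285))) (BT.node 9287 (BT.node 9286 (BT.leaf c6_286) (BT.leaf c6_287)) (BT.leaf c6_288))) (BT.node 9292 (BT.node 9290 (BT.node 9289 (BT.leaf c6_289) (BT.leaf c6_290)) (BT.node 9291 (BT.leaf c6_291) (BT.leaf c6_292))) (BT.node 9294 (BT.node 9293 (BT.leaf c6_293) (BT.leaf c6_294)) (BT.leaf c6_295)))) (BT.node 9302 (BT.node 9299 (BT.node 9297 (BT.node 9296 (BT.leaf c6_296) (BT.leaf c6_297)) (BT.node 9298 (BT.leaf c6_298) (BT.leaf c6_299))) (BT.node 9301 (BT.node 9300 (BT.leaf c6_300) (BT.leaf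 c6_301)) (BT.leaf c6_302))) (BT.node 9306 (BT.node 9304 (BT.node 9303 (BT.leaf c6_303) (BT.leaf c6_304)) (BT.node 9305 (BT.leaf c6_305) (BT.leaf c6_306))) (BT.node 9308 (BT.node 9307 (BT.leaf c6_307) (BT.leaf c6_308)) (BT.leaf c6_309))))) (BT.node 9323 (BT.node 9316 (BT.node 9313 (BT.node 9311 (BT.node 9310 (BT.leaf c6_310) (BT.leaf c6_311)) (BT.node 9312 (BT.leaf c6_312) (BT.leaf c6_313))) (BT.node 9315 (BT.node 9314 (BT.leaf c6_314) (BT.leaf c6_315)) (BT.leaf c6_316))) (BT.node 9320 (BT.node 9318 (BT.node 9317 (BT.leaf c6_317) (BT.leaf c6_318)) (BT.node 9319 (BT.leaf c6_319) (BT.leaf c6_320))) (BT.node 9322 (BT.node 9321 (BT.leaf c6_321) (BT.leaf c6_322)) (BT.leaf c6_323)))) (BT.node 9330 (BT.node 9327 (BT.node 9325 (BT.node 9324 (BT.leaf c6_324) (BT.leaf c6_325)) (BT.node 9326 (BT.leaf c6_326) (BT.leaf c6_327))) (BT.node 9329 (BT.node 9328 (BT.leaf c6_328) (BT.leaf c6_329)) (BT.leaf c6_330))) (BT.node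 9334 (BT.node 9332 (BT.node 9331 (BT.leaf c6_331) (BT.leaf c6_332)) (BT.node 9333 (BT.leaf c6_333) (BT.leaf c6_334))) (BT.node 9336 (BT.node 9335 (BT.leaf c6_335) (BT.leaf c6_336)) (BT.leaf c6_337))))))) (BT.node 9393 (BT.node 9365 (BT.node 9351 (BT.node 9344 (BT.node 9341 (BT.node 9339 (BT.node 9338 (BT.leaf c6_338) (BT.leaf c6_339)) (BT.node 9340 (BT.leaf c6_340) (BT.leaf c6_341))) (BT.node 9343 (BT.node 9342 (BT.leaf c6_342) (BT.leaf c6_343)) (BT.leaf c6_344))) (BT.node 9348 (BT.node 9346 (BT.node 9345 (BT.leaf c6_345) (BT.leaf c6_346)) (BT.node 9347 (BT.leaf c6_347) (BT.leaf c6_348))) (BT.node 9350 (BT.node 9349 (BT.leaf c6_349) (BT.leaf c6_350)) (BT.leaf c6_351)))) (BT.node 9358 (BT.node 9355 (BT.node 9353 (BT.node 9352 (BT.leaf c6_352) (BT.leaf c6_353)) (BT.node 9354 (BT.leaf c6_354) (BT.leaf c6_355))) (BT.node 9357 (BT.node 9356 (BT.leaf c6_356) (BT.leaf c6_357)) (BT.leaf c6_358))) (BT.node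 9362 (BT.node 9360 (BT.node 9359 (BT.leaf c6_359) (BT.leaf c6_360)) (BT.node 9361 (BT.leaf c6_361) (BT.leaf c6_362))) (BT.node 9364 (BT.node 9363 (BT.leaf c6_363) (BT.leaf c6_364)) (BT.leaf c6_365))))) (BT.node 9379 (BT.node 9372 (BT.node 9369 (BT.node 9367 (BT.node 9366 (BT.leaf c6_366) (BT.leaf c6_367)) (BT.node 9368 (BT.leaf c6_368) (BT.leaf c6_369))) (BT.node 9371 (BT.node 9370 (BT.leaf c6_370) (BT.leaf c6_371)) (BT.leaf c6_372))) (BT.node 9376 (BT.node 9374 (BT.node 9373 (BT.leaf c6_373) (BT.leaf c6_374)) (BT.node 9375 (BT.leaf c6_375) (BT.leaf c6_376))) (BT.node 9378 (BT.node 9377 (BT.leaf c6_377) (BT.leaf c6_378)) (BT.leaf c6_379)))) (BT.node 9386 (BT.node 9383 (BT.node 9381 (BT.node 9380 (BT.leaf c6_380) (BT.leaf c6_381)) (BT.node 9382 (BT.leaf c6_382) (BT.leaf c6_383))) (BT.node 9385 (BT.node 9384 (BT.leaf c6_384) (BT.leaf c6_385)) (BT.leaf c6_386))) (BT.node 9390 (BT.node 9388 (BT.node 9387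 (BT.leaf c6_387) (BT.leaf c6_388)) (BT.node 9389 (BT.leaf c6_389) (BT.leaf c6_390))) (BT.node 9392 (BT.node 9391 (BT.leaf c6_391) (BT.leaf c6_392)) (BT.leaf c6_393)))))) (BT.node 9421 (BT.node 9407 (BT.node 9400 (BT.node 9397 (BT.node 9395 (BT.node 9394 (BT.leaf c6_394) (BT.leaf c6_395)) (BT.node 9396 (BT.leaf c6_396) (BT.leaf c6_397))) (BT.node 9399 (BT.node 9398 (BT.leaf c6_398) (BT.leaf c6_399)) (BT.leaf c6_400))) (BT.node 9404 (BT.node 9402 (BT.node 9401 (BT.leaf c6_401) (BT.leaf c6_402)) (BT.node 9403 (BT.leaf c6_403) (BT.leaf c6_404))) (BT.node 9406 (BT.node 9405 (BT.leaf c6_405) (BT.leaf c6_406)) (BT.leaf c6_407)))) (BT.node 9414 (BT.node 9411 (BT.node 9409 (BT.node 9408 (BT.leaf c6_408) (BT.leaf c6_409)) (BT.node 9410 (BT.leaf c6_410) (BT.leaf c6_411))) (BT.node 9413 (BT.node 9412 (BT.leaf c6_412) (BT.leaf c6_413)) (BT.leaf c6_414))) (BT.node 9418 (BT.node 9416 (BT.node 9415 (BT.leaf c6_415)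 (BT.leaf c6_416)) (BT.node 9417 (BT.leaf c6_417) (BT.leaf c6_418))) (BT.node 9420 (BT.node 9419 (BT.leaf c6_419) (BT.leaf c6_420)) (BT.leaf c6_421))))) (BT.node 9435 (BT.node 9428 (BT.node 9425 (BT.node 9423 (BT.node 9422 (BT.leaf c6_422) (BT.leaf c6_423)) (BT.node 9424 (BT.leaf c6_424) (BT.leaf c6_425))) (BT.node 9427 (BT.node 9426 (BT.leaf c6_426) (BT.leaf c6_427)) (BT.leaf c6_428))) (BT.node 9432 (BT.node 9430 (BT.node 9429 (BT.leaf c6_429) (BT.leaf c6_430)) (BT.node 9431 (BT.leaf c6_431) (BT.leaf c6_432))) (BT.node 9434 (BT.node 9433 (BT.leaf c6_433) (BT.leaf c6_434)) (BT.leaf c6_435)))) (BT.node 9442 (BT.node 9439 (BT.node 9437 (BT.node 9436 (BT.leaf c6_436) (BT.leaf c6_437)) (BT.node 9438 (BT.leaf c6_438) (BT.leaf c6_439))) (BT.node 9441 (BT.node 9440 (BT.leaf c6_440) (BT.leaf c6_441)) (BT.leaf c6_442))) (BT.node 9446 (BT.node 9444 (BT.node 9443 (BT.leaf c6_443) (BT.leaf c6_444)) (BT.node 9445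 (BT.leaf c6_445) (BT.leaf c6_446))) (BT.node 9448 (BT.node 9447 (BT.leaf c6_447) (BT.leaf c6_448)) (BT.leaf c6_449))))))))) (BT.node 9674 (BT.node 9562 (BT.node 9506 (BT.node 9478 (BT.node 9464 (BT.node 9457 (BT.node 9453 (BT.node 9451 (BT.node 9450 (BT.leaf c6_450) (BT.leaf c6_451)) (BT.node 9452 (BT.leaf c6_452) (BT.leaf c6_453))) (BT.node 9455 (BT.node 9454 (BT.leaf c6_454) (BT.leaf c6_455)) (BT.node 9456 (BT.leaf c6_456) (BT.leaf c6_457)))) (BT.node 9461 (BT.node 9459 (BT.node 9458 (BT.leaf c6_458) (BT.leaf c6_459)) (BT.node 9460 (BT.leaf c6_460) (BT.leaf c6_461))) (BT.node 9463 (BT.node 9462 (BT.leaf c6_462) (BT.leaf c6_463)) (BT.leaf c6_464)))) (BT.node 9471 (BT.node 9468 (BT.node 9466 (BT.node 9465 (BT.leaf c6_465) (BT.leaf c6_466)) (BT.node 9467 (BT.leaf c6_467) (BT.leaf c6_468))) (BT.node 9470 (BT.node 9469 (BT.leaf c6_469) (BT.leaf c6_470)) (BT.leaf c6_471))) (BT.node 9475 (BT.node 9473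 (BT.node 9472 (BT.leaf c6_472) (BT.leaf c6_473)) (BT.node 9474 (BT.leaf c6_474) (BT.leaf c6_475))) (BT.node 9477 (BT.node 9476 (BT.leaf c6_476) (BT.leaf c6_477)) (BT.leaf c6_478))))) (BT.node 9492 (BT.node 9485 (BT.node 9482 (BT.node 9480 (BT.node 9479 (BT.leaf c6_479) (BT.leaf c6_480)) (BT.node 9481 (BT.leaf c6_481) (BT.leaf c6_482))) (BT.node 9484 (BT.node 9483 (BT.leaf c6_483) (BT.leaf c6_484)) (BT.leaf c6_485))) (BT.node 9489 (BT.node 9487 (BT.node 9486 (BT.leaf c6_486) (BT.leaf c6_487)) (BT.node 9488 (BT.leaf c6_488) (BT.leaf c6_489))) (BT.node 9491 (BT.node 9490 (BT.leaf c6_490) (BT.leaf c6_491)) (BT.leaf c6_492)))) (BT.node 9499 (BT.node 9496 (BT.node 9494 (BT.node 9493 (BT.leaf c6_493) (BT.leaf c6_494)) (BT.node 9495 (BT.leaf c6_495) (BT.leaf c6_496))) (BT.node 9498 (BT.node 9497 (BT.leaf c6_497) (BT.leaf c6_498)) (BT.leaf c6_499))) (BT.node 9503 (BT.node 9501 (BT.node 9500 (BT.leaf c6_500)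 (BT.leaf c6_501)) (BT.node 9502 (BT.leaf c6_502) (BT.leaf c6_503))) (BT.node 9505 (BT.node 9504 (BT.leaf c6_504) (BT.leaf c6_505)) (BT.leaf c6_506)))))) (BT.node 9534 (BT.node 9520 (BT.node 9513 (BT.node 9510 (BT.node 9508 (BT.node 9507 (BT.leaf c6_507) (BT.leaf c6_508)) (BT.node 9509 (BT.leaf c6_509) (BT.leaf c6_510))) (BT.node 9512 (BT.node 9511 (BT.leaf c6_511) (BT.leaf c6_512)) (BT.leaf c6_513))) (BT.node 9517 (BT.node 9515 (BT.node 9514 (BT.leaf c6_514) (BT.leaf c6_515)) (BT.node 9516 (BT.leaf c6_516) (BT.leaf c6_517))) (BT.node 9519 (BT.node 9518 (BT.leaf c6_518) (BT.leaf c6_519)) (BT.leaf c6_520)))) (BT.node 9527 (BT.node 9524 (BT.node 9522 (BT.node 9521 (BT.leaf c6_521) (BT.leaf c6_522)) (BT.node 9523 (BT.leaf c6_523) (BT.leaf c6_524))) (BT.node 9526 (BT.node 9525 (BT.leaf c6_525) (BT.leaf c6_526)) (BT.leaf c6_527))) (BT.node 9531 (BT.node 9529 (BT.node 9528 (BT.leaf c6_528) (BT.leaf c6_529))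 (BT.node 9530 (BT.leaf c6_530) (BT.leaf c6_531))) (BT.node 9533 (BT.node 9532 (BT.leaf c6_532) (BT.leaf c6_533)) (BT.leaf c6_534))))) (BT.node 9548 (BT.node 9541 (BT.node 9538 (BT.node 9536 (BT.node 9535 (BT.leaf c6_535) (BT.leaf c6_536)) (BT.node 9537 (BT.leaf c6_537) (BT.leaf c6_538))) (BT.node 9540 (BT.node 9539 (BT.leaf c6_539) (BT.leaf c6_540)) (BT.leaf c6_541))) (BT.node 9545 (BT.node 9543 (BT.node 9542 (BT.leaf c6_542) (BT.leaf c6_543)) (BT.node 9544 (BT.leaf c6_544) (BT.leaf c6_545))) (BT.node 9547 (BT.node 9546 (BT.leaf c6_546) (BT.leaf c6_547)) (BT.leaf c6_548)))) (BT.node 9555 (BT.node 9552 (BT.node 9550 (BT.node 9549 (BT.leaf c6_549) (BT.leaf c6_550)) (BT.node 9551 (BT.leaf c6_551) (BT.leaf c6_552))) (BT.node 9554 (BT.node 9553 (BT.leaf c6_553) (BT.leaf c6_554)) (BT.leaf c6_555))) (BT.node 9559 (BT.node 9557 (BT.node 9556 (BT.leaf c6_556) (BT.leaf c6_557)) (BT.node 9558 (BT.leaf c6_558)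 (BT.leaf c6_559))) (BT.node 9561 (BT.node 9560 (BT.leaf c6_560) (BT.leaf c6_561)) (BT.leaf c6_562))))))) (BT.node 9618 (BT.node 9590 (BT.node 9576 (BT.node 9569 (BT.node 9566 (BT.node 9564 (BT.node 9563 (BT.leaf c6_563) (BT.leaf c6_564)) (BT.node 9565 (BT.leaf c6_565) (BT.leaf c6_566))) (BT.node 9568 (BT.node 9567 (BT.leaf c6_567) (BT.leaf c6_568)) (BT.leaf c6_569))) (BT.node 9573 (BT.node 9571 (BT.node 9570 (BT.leaf c6_570) (BT.leaf c6_571)) (BT.node 9572 (BT.leaf c6_572) (BT.leaf c6_573))) (BT.node 9575 (BT.node 9574 (BT.leaf c6_574) (BT.leaf c6_575)) (BT.leaf c6_576)))) (BT.node 9583 (BT.node 9580 (BT.node 9578 (BT.node 9577 (BT.leaf c6_577) (BT.leaf c6_578)) (BT.node 9579 (BT.leaf c6_579) (BT.leaf c6_580))) (BT.node 9582 (BT.node 9581 (BT.leaf c6_581) (BT.leaf c6_582)) (BT.leaf c6_583))) (BT.node 9587 (BT.node 9585 (BT.node 9584 (BT.leaf c6_584) (BT.leaf c6_585)) (BT.node 9586 (BT.leaf c6_586)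 (BT.leaf c6_587))) (BT.node 9589 (BT.node 9588 (BT.leaf c6_588) (BT.leaf c6_589)) (BT.leaf c6_590))))) (BT.node 9604 (BT.node 9597 (BT.node 9594 (BT.node 9592 (BT.node 9591 (BT.leaf c6_591) (BT.leaf c6_592)) (BT.node 9593 (BT.leaf c6_593) (BT.leaf c6_594))) (BT.node 9596 (BT.node 9595 (BT.leaf c6_595) (BT.leaf c6_596)) (BT.leaf c6_597))) (BT.node 9601 (BT.node 9599 (BT.node 9598 (BT.leaf c6_598) (BT.leaf c6_599)) (BT.node 9600 (BT.leaf c6_600) (BT.leaf c6_601))) (BT.node 9603 (BT.node 9602 (BT.leaf c6_602) (BT.leaf c6_603)) (BT.leaf c6_604)))) (BT.node 9611 (BT.node 9608 (BT.node 9606 (BT.node 9605 (BT.leaf c6_605) (BT.leaf c6_606)) (BT.node 9607 (BT.leaf c6_607) (BT.leaf c6_608))) (BT.node 9610 (BT.node 9609 (BT.leaf c6_609) (BT.leaf c6_610)) (BT.leaf c6_611))) (BT.node 9615 (BT.node 9613 (BT.node 9612 (BT.leaf c6_612) (BT.leaf c6_613)) (BT.node 9614 (BT.leaf c6_614) (BT.leaf c6_615))) (BT.node 9617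 (BT.node 9616 (BT.leaf c6_616) (BT.leaf c6_617)) (BT.leaf c6_618)))))) (BT.node 9646 (BT.node 9632 (BT.node 9625 (BT.node 9622 (BT.node 9620 (BT.node 9619 (BT.leaf c6_619) (BT.leaf c6_620)) (BT.node 9621 (BT.leaf c6_621) (BT.leaf c6_622))) (BT.node 9624 (BT.node 9623 (BT.leaf c6_623) (BT.leaf c6_624)) (BT.leaf c6_625))) (BT.node 9629 (BT.node 9627 (BT.node 9626 (BT.leaf c6_626) (BT.leaf c6_627)) (BT.node 9628 (BT.leaf c6_628) (BT.leaf c6_629))) (BT.node 9631 (BT.node 9630 (BT.leaf c6_630) (BT.leaf c6_631)) (BT.leaf c6_632)))) (BT.node 9639 (BT.node 9636 (BT.node 9634 (BT.node 9633 (BT.leaf c6_633) (BT.leaf c6_634)) (BT.node 9635 (BT.leaf c6_635) (BT.leaf c6_636))) (BT.node 9638 (BT.node 9637 (BT.leaf c6_637) (BT.leaf c6_638)) (BT.leaf c6_639))) (BT.node 9643 (BT.node 9641 (BT.node 9640 (BT.leaf c6_640) (BT.leaf c6_641)) (BT.node 9642 (BT.leaf c6_642) (BT.leaf c6_643))) (BT.node 9645 (BT.node 9644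 (BT.leaf c6_644) (BT.leaf c6_645)) (BT.leaf c6_646))))) (BT.node 9660 (BT.node 9653 (BT.node 9650 (BT.node 9648 (BT.node 9647 (BT.leaf c6_647) (BT.leaf c6_648)) (BT.node 9649 (BT.leaf c6_649) (BT.leaf c6_650))) (BT.node 9652 (BT.node 9651 (BT.leaf c6_651) (BT.leaf c6_652)) (BT.leaf c6_653))) (BT.node 9657 (BT.node 9655 (BT.node 9654 (BT.leaf c6_654) (BT.leaf c6_655)) (BT.node 9656 (BT.leaf c6_656) (BT.leaf c6_657))) (BT.node 9659 (BT.node 9658 (BT.leaf c6_658) (BT.leaf c6_659)) (BT.leaf c6_660)))) (BT.node 9667 (BT.node 9664 (BT.node 9662 (BT.node 9661 (BT.leaf c6_661) (BT.leaf c6_662)) (BT.node 9663 (BT.leaf c6_663) (BT.leaf c6_664))) (BT.node 9666 (BT.node 9665 (BT.leaf c6_665) (BT.leaf c6_666)) (BT.leaf c6_667))) (BT.node 9671 (BT.node 9669 (BT.node 9668 (BT.leaf c6_668) (BT.leaf c6_669)) (BT.node 9670 (BT.leaf c6_670) (BT.leaf c6_671))) (BT.node 9673 (BT.node 9672 (BT.leaf c6_672) (BT.leaf c6_673))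 (BT.leaf c6_674)))))))) (BT.node 9787 (BT.node 9731 (BT.node 9703 (BT.node 9689 (BT.node 9682 (BT.node 9678 (BT.node 9676 (BT.node 9675 (BT.leaf c6_675) (BT.leaf c6_676)) (BT.node 9677 (BT.leaf c6_677) (BT.leaf c6_678))) (BT.node 9680 (BT.node 9679 (BT.leaf c6_679) (BT.leaf c6_680)) (BT.node 9681 (BT.leaf c6_681) (BT.leaf c6_682)))) (BT.node 9686 (BT.node 9684 (BT.node 9683 (BT.leaf c6_683) (BT.leaf c6_684)) (BT.node 9685 (BT.leaf c6_685) (BT.leaf c6_686))) (BT.node 9688 (BT.node 9687 (BT.leaf c6_687) (BT.leaf c6_688)) (BT.leaf c6_689)))) (BT.node 9696 (BT.node 9693 (BT.node 9691 (BT.node 9690 (BT.leaf c6_690) (BT.leaf c6_691)) (BT.node 9692 (BT.leaf c6_692) (BT.leaf c6_693))) (BT.node 9695 (BT.node 9694 (BT.leaf c6_694) (BT.leaf c6_695)) (BT.leaf c6_696))) (BT.node 9700 (BT.node 9698 (BT.node 9697 (BT.leaf c6_697) (BT.leaf c6_698)) (BT.node 9699 (BT.leaf c6_699) (BT.leaf c6_700))) (BT.node 9702 (BT.node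 9701 (BT.leaf c6_701) (BT.leaf c6_702)) (BT.leaf c6_703))))) (BT.node 9717 (BT.node 9710 (BT.node 9707 (BT.node 9705 (BT.node 9704 (BT.leaf c6_704) (BT.leaf c6_705)) (BT.node 9706 (BT.leaf c6_706) (BT.leaf c6_707))) (BT.node 9709 (BT.node 9708 (BT.leaf c6_708) (BT.leaf c6_709)) (BT.leaf c6_710))) (BT.node 9714 (BT.node 9712 (BT.node 9711 (BT.leaf c6_711) (BT.leaf c6_712)) (BT.node 9713 (BT.leaf c6_713) (BT.leaf c6_714))) (BT.node 9716 (BT.node 9715 (BT.leaf c6_715) (BT.leaf c6_716)) (BT.leaf c6_717)))) (BT.node 9724 (BT.node 9721 (BT.node 9719 (BT.node 9718 (BT.leaf c6_718) (BT.leaf c6_719)) (BT.node 9720 (BT.leaf c6_720) (BT.leaf c6_721))) (BT.node 9723 (BT.node 9722 (BT.leaf c6_722) (BT.leaf c6_723)) (BT.leaf c6_724))) (BT.node 9728 (BT.node 9726 (BT.node 9725 (BT.leaf c6_725) (BT.leaf c6_726)) (BT.node 9727 (BT.leaf c6_727) (BT.leaf c6_728))) (BT.node 9730 (BT.node 9729 (BT.leaf c6_729) (BT.leaf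 c6_730)) (BT.leaf c6_731)))))) (BT.node 9759 (BT.node 9745 (BT.node 9738 (BT.node 9735 (BT.node 9733 (BT.node 9732 (BT.leaf c6_732) (BT.leaf c6_733)) (BT.node 9734 (BT.leaf c6_734) (BT.leaf c6_735))) (BT.node 9737 (BT.node 9736 (BT.leaf c6_736) (BT.leaf c6_737)) (BT.leaf c6_738))) (BT.node 9742 (BT.node 9740 (BT.node 9739 (BT.leaf c6_739) (BT.leaf c6_740)) (BT.node 9741 (BT.leaf c6_741) (BT.leaf c6_742))) (BT.node 9744 (BT.node 9743 (BT.leaf c6_743) (BT.leaf c6_744)) (BT.leaf c6_745)))) (BT.node 9752 (BT.node 9749 (BT.node 9747 (BT.node 9746 (BT.leaf c6_746) (BT.leaf c6_747)) (BT.node 9748 (BT.leaf c6_748) (BT.leaf c6_749))) (BT.node 9751 (BT.node 9750 (BT.leaf c6_750) (BT.leaf c6_751)) (BT.leaf c6_752))) (BT.node 9756 (BT.node 9754 (BT.node 9753 (BT.leaf c6_753) (BT.leaf c6_754)) (BT.node 9755 (BT.leaf c6_755) (BT.leaf c6_756))) (BT.node 9758 (BT.node 9757 (BT.leaf c6_757) (BT.leaf c6_758)) (BT.leaf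 c6_759))))) (BT.node 9773 (BT.node 9766 (BT.node 9763 (BT.node 9761 (BT.node 9760 (BT.leaf c6_760) (BT.leaf c6_761)) (BT.node 9762 (BT.leaf c6_762) (BT.leaf c6_763))) (BT.node 9765 (BT.node 9764 (BT.leaf c6_764) (BT.leaf c6_765)) (BT.leaf c6_766))) (BT.node 9770 (BT.node 9768 (BT.node 9767 (BT.leaf c6_767) (BT.leaf c6_768)) (BT.node 9769 (BT.leaf c6_769) (BT.leaf c6_770))) (BT.node 9772 (BT.node 9771 (BT.leaf c6_771) (BT.leaf c6_772)) (BT.leaf c6_773)))) (BT.node 9780 (BT.node 9777 (BT.node 9775 (BT.node 9774 (BT.leaf c6_774) (BT.leaf c6_775)) (BT.node 9776 (BT.leaf c6_776) (BT.leaf c6_777))) (BT.node 9779 (BT.node 9778 (BT.leaf c6_778) (BT.leaf c6_779)) (BT.leaf c6_780))) (BT.node 9784 (BT.node 9782 (BT.node 9781 (BT.leaf c6_781) (BT.leaf c6_782)) (BT.node 9783 (BT.leaf c6_783) (BT.leaf c6_784))) (BT.node 9786 (BT.node 9785 (BT.leaf c6_785) (BT.leaf c6_786)) (BT.leaf c6_787))))))) (BT.node 9843 (BT.node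 9815 (BT.node 9801 (BT.node 9794 (BT.node 9791 (BT.node 9789 (BT.node 9788 (BT.leaf c6_788) (BT.leaf c6_789)) (BT.node 9790 (BT.leaf c6_790) (BT.leaf c6_791))) (BT.node 9793 (BT.node 9792 (BT.leaf c6_792) (BT.leaf c6_793)) (BT.leaf c6_794))) (BT.node 9798 (BT.node 9796 (BT.node 9795 (BT.leaf c6_795) (BT.leaf c6_796)) (BT.node 9797 (BT.leaf c6_797) (BT.leaf c6_798))) (BT.node 9800 (BT.node 9799 (BT.leaf c6_799) (BT.leaf c6_800)) (BT.leaf c6_801)))) (BT.node 9808 (BT.node 9805 (BT.node 9803 (BT.node 9802 (BT.leaf c6_802) (BT.leaf c6_803)) (BT.node 9804 (BT.leaf c6_804) (BT.leaf c6_805))) (BT.node 9807 (BT.node 9806 (BT.leaf c6_806) (BT.leaf c6_807)) (BT.leaf c6_808))) (BT.node 9812 (BT.node 9810 (BT.node 9809 (BT.leaf c6_809) (BT.leaf c6_810)) (BT.node 9811 (BT.leaf c6_811) (BT.leaf c6_812))) (BT.node 9814 (BT.node 9813 (BT.leaf c6_813) (BT.leaf c6_814)) (BT.leaf c6_815))))) (BT.node 9829 (BT.node 9822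 (BT.node 9819 (BT.node 9817 (BT.node 9816 (BT.leaf c6_816) (BT.leaf c6_817)) (BT.node 9818 (BT.leaf c6_818) (BT.leaf c6_819))) (BT.node 9821 (BT.node 9820 (BT.leaf c6_820) (BT.leaf c6_821)) (BT.leaf c6_822))) (BT.node 9826 (BT.node 9824 (BT.node 9823 (BT.leaf c6_823) (BT.leaf c6_824)) (BT.node 9825 (BT.leaf c6_825) (BT.leaf c6_826))) (BT.node 9828 (BT.node 9827 (BT.leaf c6_827) (BT.leaf c6_828)) (BT.leaf c6_829)))) (BT.node 9836 (BT.node 9833 (BT.node 9831 (BT.node 9830 (BT.leaf c6_830) (BT.leaf c6_831)) (BT.node 9832 (BT.leaf c6_832) (BT.leaf c6_833))) (BT.node 9835 (BT.node 9834 (BT.leaf c6_834) (BT.leaf c6_835)) (BT.leaf c6_836))) (BT.node 9840 (BT.node 9838 (BT.node 9837 (BT.leaf c6_837) (BT.leaf c6_838)) (BT.node 9839 (BT.leaf c6_839) (BT.leaf c6_840))) (BT.node 9842 (BT.node 9841 (BT.leaf c6_841) (BT.leaf c6_842)) (BT.leaf c6_843)))))) (BT.node 9871 (BT.node 9857 (BT.node 9850 (BT.node 9847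 (BT.node 9845 (BT.node 9844 (BT.leaf c6_844) (BT.leaf c6_845)) (BT.node 9846 (BT.leaf c6_846) (BT.leaf c6_847))) (BT.node 9849 (BT.node 9848 (BT.leaf c6_848) (BT.leaf c6_849)) (BT.leaf c6_850))) (BT.node 9854 (BT.node 9852 (BT.node 9851 (BT.leaf c6_851) (BT.leaf c6_852)) (BT.node 9853 (BT.leaf c6_853) (BT.leaf c6_854))) (BT.node 9856 (BT.node 9855 (BT.leaf c6_855) (BT.leaf c6_856)) (BT.leaf c6_857)))) (BT.node 9864 (BT.node 9861 (BT.node 9859 (BT.node 9858 (BT.leaf c6_858) (BT.leaf c6_859)) (BT.node 9860 (BT.leaf c6_860) (BT.leaf c6_861))) (BT.node 9863 (BT.node 9862 (BT.leaf c6_862) (BT.leaf c6_863)) (BT.leaf c6_864))) (BT.node 9868 (BT.node 9866 (BT.node 9865 (BT.leaf c6_865) (BT.leaf c6_866)) (BT.node 9867 (BT.leaf c6_867) (BT.leaf c6_868))) (BT.node 9870 (BT.node 9869 (BT.leaf c6_869) (BT.leaf c6_870)) (BT.leaf c6_871))))) (BT.node 9885 (BT.node 9878 (BT.node 9875 (BT.node 9873 (BT.node 9872 (BT.leaf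 c6_872) (BT.leaf c6_873)) (BT.node 9874 (BT.leaf c6_874) (BT.leaf c6_875))) (BT.node 9877 (BT.node 9876 (BT.leaf c6_876) (BT.leaf c6_877)) (BT.leaf c6_878))) (BT.node 9882 (BT.node 9880 (BT.node 9879 (BT.leaf c6_879) (BT.leaf c6_880)) (BT.node 9881 (BT.leaf c6_881) (BT.leaf c6_882))) (BT.node 9884 (BT.node 9883 (BT.leaf c6_883) (BT.leaf c6_884)) (BT.leaf c6_885)))) (BT.node 9892 (BT.node 9889 (BT.node 9887 (BT.node 9886 (BT.leaf c6_886) (BT.leaf c6_887)) (BT.node 9888 (BT.leaf c6_888) (BT.leaf c6_889))) (BT.node 9891 (BT.node 9890 (BT.leaf c6_890) (BT.leaf c6_891)) (BT.leaf c6_892))) (BT.node 9896 (BT.node 9894 (BT.node 9893 (BT.leaf c6_893) (BT.leaf c6_894)) (BT.node 9895 (BT.leaf c6_895) (BT.leaf c6_896))) (BT.node 9898 (BT.node 9897 (BT.leaf c6_897) (BT.leaf c6_898)) (BT.leaf c6_899))))))))))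
/-- the chunks of the letter 11 -/
def colL_11 : BT ℕ := (BT.node 10349 (BT.node 10124 (BT.node 10012 (BT.node 9956 (BT.node 9928 (BT.node 9914 (BT.node 9907 (BT.node 9903 (BT.node 9901 (BT.node 9900 (BT.leaf c6_0) (BT.leaf c6_1)) (BT.node 9902 (BT.leaf c6_2) (BT.leaf c6_3))) (BT.node 9905 (BT.node 9904 (BT.leaf c6_4) (BT.leaf c6_5)) (BT.node 9906 (BT.leaf c6_6) (BT.leaf c6_7)))) (BT.node 9911 (BT.node 9909 (BT.node 9908 (BT.leaf c6_8) (BT.leaf c6_9)) (BT.node 9910 (BT.leaf c6_10) (BT.leaf c6_11))) (BT.node 9913 (BT.node 9912 (BT.leaf c6_12) (BT.leaf c6_13)) (BT.leaf c6_14)))) (BT.node 9921 (BT.node 9918 (BT.node 9916 (BT.node 9915 (BT.leaf c6_15) (BT.leaf c6_16)) (BT.node 9917 (BT.leaf c6_17) (BT.leaf c6_18))) (BT.node 9920 (BT.node 9919 (BT.leaf c6_19) (BT.leaf c6_20)) (BT.leaf c6_21))) (BT.node 9925 (BT.node 9923 (BT.node 9922 (BT.leaf c6_22) (BT.leaf c6_23)) (BT.node 9924 (BT.leaf c6_24) (BT.leaf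 c6_25))) (BT.node 9927 (BT.node 9926 (BT.leaf c6_26) (BT.leaf c6_27)) (BT.leaf c6_28))))) (BT.node 9942 (BT.node 9935 (BT.node 9932 (BT.node 9930 (BT.node 9929 (BT.leaf c6_29) (BT.leaf c6_30)) (BT.node 9931 (BT.leaf c6_31) (BT.leaf c6_32))) (BT.node 9934 (BT.node 9933 (BT.leaf c6_33) (BT.leaf c6_34)) (BT.leaf c6_35))) (BT.node 9939 (BT.node 9937 (BT.node 9936 (BT.leaf c6_36) (BT.leaf c6_37)) (BT.node 9938 (BT.leaf c6_38) (BT.leaf c6_39))) (BT.node 9941 (BT.node 9940 (BT.leaf c6_40) (BT.leaf c6_41)) (BT.leaf c6_42)))) (BT.node 9949 (BT.node 9946 (BT.node 9944 (BT.node 9943 (BT.leaf c6_43) (BT.leaf c6_44)) (BT.node 9945 (BT.leaf c6_45) (BT.leaf c6_46))) (BT.node 9948 (BT.node 9947 (BT.leaf c6_47) (BT.leaf c6_48)) (BT.leaf c6_49))) (BT.node 9953 (BT.node 9951 (BT.node 9950 (BT.leaf c6_50) (BT.leaf c6_51)) (BT.node 9952 (BT.leaf c6_52) (BT.leaf c6_53))) (BT.node 9955 (BT.node 9954 (BT.leaf c6_54) (BT.leaf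 c6_55)) (BT.leaf c6_56)))))) (BT.node 9984 (BT.node 9970 (BT.node 9963 (BT.node 9960 (BT.node 9958 (BT.node 9957 (BT.leaf c6_57) (BT.leaf c6_58)) (BT.node 9959 (BT.leaf c6_59) (BT.leaf c6_60))) (BT.node 9962 (BT.node 9961 (BT.leaf c6_61) (BT.leaf c6_62)) (BT.leaf c6_63))) (BT.node 9967 (BT.node 9965 (BT.node 9964 (BT.leaf c6_64) (BT.leaf c6_65)) (BT.node 9966 (BT.leaf c6_66) (BT.leaf c6_67))) (BT.node 9969 (BT.node 9968 (BT.leaf c6_68) (BT.leaf c6_69)) (BT.leaf c6_70)))) (BT.node 9977 (BT.node 9974 (BT.node 9972 (BT.node 9971 (BT.leaf c6_71) (BT.leaf c6_72)) (BT.node 9973 (BT.leaf c6_73) (BT.leaf c6_74))) (BT.node 9976 (BT.node 9975 (BT.leaf c6_75) (BT.leaf c6_76)) (BT.leaf c6_77))) (BT.node 9981 (BT.node 9979 (BT.node 9978 (BT.leaf c6_78) (BT.leaf c6_79)) (BT.node 9980 (BT.leaf c6_80) (BT.leaf c6_81))) (BT.node 9983 (BT.node 9982 (BT.leaf c6_82) (BT.leaf c6_83)) (BT.leaf c6_84))))) (BT.node 9998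 (BT.node 9991 (BT.node 9988 (BT.node 9986 (BT.node 9985 (BT.leaf c6_85) (BT.leaf c6_86)) (BT.node 9987 (BT.leaf c6_87) (BT.leaf c6_88))) (BT.node 9990 (BT.node 9989 (BT.leaf c6_89) (BT.leaf c6_90)) (BT.leaf c6_91))) (BT.node 9995 (BT.node 9993 (BT.node 9992 (BT.leaf c6_92) (BT.leaf c6_93)) (BT.node 9994 (BT.leaf c6_94) (BT.leaf c6_95))) (BT.node 9997 (BT.node 9996 (BT.leaf c6_96) (BT.leaf c6_97)) (BT.leaf c6_98)))) (BT.node 10005 (BT.node 10002 (BT.node 10000 (BT.node 9999 (BT.leaf c6_99) (BT.leaf c6_100)) (BT.node 10001 (BT.leaf c6_101) (BT.leaf c6_102))) (BT.node 10004 (BT.node 10003 (BT.leaf c6_103) (BT.leaf c6_104)) (BT.leaf c6_105))) (BT.node 10009 (BT.node 10007 (BT.node 10006 (BT.leaf c6_106) (BT.leaf c6_107)) (BT.node 10008 (BT.leaf c6_108) (BT.leaf c6_109))) (BT.node 10011 (BT.node 10010 (BT.leaf c6_110) (BT.leaf c6_111)) (BT.leaf c6_112))))))) (BT.node 10068 (BT.node 10040 (BT.node 10026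 (BT.node 10019 (BT.node 10016 (BT.node 10014 (BT.node 10013 (BT.leaf c6_113) (BT.leaf c6_114)) (BT.node 10015 (BT.leaf c6_115) (BT.leaf c6_116))) (BT.node 10018 (BT.node 10017 (BT.leaf c6_117) (BT.leaf c6_118)) (BT.leaf c6_119))) (BT.node 10023 (BT.node 10021 (BT.node 10020 (BT.leaf c6_120) (BT.leaf c6_121)) (BT.node 10022 (BT.leaf c6_122) (BT.leaf c6_123))) (BT.node 10025 (BT.node 10024 (BT.leaf c6_124) (BT.leaf c6_125)) (BT.leaf c6_126)))) (BT.node 10033 (BT.node 10030 (BT.node 10028 (BT.node 10027 (BT.leaf c6_127) (BT.leaf c6_128)) (BT.node 10029 (BT.leaf c6_129) (BT.leaf c6_130))) (BT.node 10032 (BT.node 10031 (BT.leaf c6_131) (BT.leaf c6_132)) (BT.leaf c6_133))) (BT.node 10037 (BT.node 10035 (BT.node 10034 (BT.leaf c6_134) (BT.leaf c6_135)) (BT.node 10036 (BT.leaf c6_136) (BT.leaf c6_137))) (BT.node 10039 (BT.node 10038 (BT.leaf c6_138) (BT.leaf c6_139)) (BT.leaf c6_140))))) (BT.node 10054 (BT.node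 10047 (BT.node 10044 (BT.node 10042 (BT.node 10041 (BT.leaf c6_141) (BT.leaf c6_142)) (BT.node 10043 (BT.leaf c6_143) (BT.leaf c6_144))) (BT.node 10046 (BT.node 10045 (BT.leaf c6_145) (BT.leaf c6_146)) (BT.leaf c6_147))) (BT.node 10051 (BT.node 10049 (BT.node 10048 (BT.leaf c6_148) (BT.leaf c6_149)) (BT.node 10050 (BT.leaf c6_150) (BT.leaf c6_151))) (BT.node 10053 (BT.node 10052 (BT.leaf c6_152) (BT.leaf c6_153)) (BT.leaf c6_154)))) (BT.node 10061 (BT.node 10058 (BT.node 10056 (BT.node 10055 (BT.leaf c6_155) (BT.leaf c6_156)) (BT.node 10057 (BT.leaf c6_157) (BT.leaf c6_158))) (BT.node 10060 (BT.node 10059 (BT.leaf c6_159) (BT.leaf c6_160)) (BT.leaf c6_161))) (BT.node 10065 (BT.node 10063 (BT.node 10062 (BT.leaf c6_162) (BT.leaf c6_163)) (BT.node 10064 (BT.leaf c6_164) (BT.leaf c6_165))) (BT.node 10067 (BT.node 10066 (BT.leaf c6_166) (BT.leaf c6_167)) (BT.leaf c6_168)))))) (BT.node 10096 (BT.node 10082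 (BT.node 10075 (BT.node 10072 (BT.node 10070 (BT.node 10069 (BT.leaf c6_169) (BT.leaf c6_170)) (BT.node 10071 (BT.leaf c6_171) (BT.leaf c6_172))) (BT.node 10074 (BT.node 10073 (BT.leaf c6_173) (BT.leaf c6_174)) (BT.leaf c6_175))) (BT.node 10079 (BT.node 10077 (BT.node 10076 (BT.leaf c6_176) (BT.leaf c6_177)) (BT.node 10078 (BT.leaf c6_178) (BT.leaf c6_179))) (BT.node 10081 (BT.node 10080 (BT.leaf c6_180) (BT.leaf c6_181)) (BT.leaf c6_182)))) (BT.node 10089 (BT.node 10086 (BT.node 10084 (BT.node 10083 (BT.leaf c6_183) (BT.leaf c6_184)) (BT.node 10085 (BT.leaf c6_185) (BT.leaf c6_186))) (BT.node 10088 (BT.node 10087 (BT.leaf c6_187) (BT.leaf c6_188)) (BT.leaf c6_189))) (BT.node 10093 (BT.node 10091 (BT.node 10090 (BT.leaf c6_190) (BT.leaf c6_191)) (BT.node 10092 (BT.leaf c6_192) (BT.leaf c6_193))) (BT.node 10095 (BT.node 10094 (BT.leaf c6_194) (BT.leaf c6_195)) (BT.leaf c6_196))))) (BT.node 10110 (BT.node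 10103 (BT.node 10100 (BT.node 10098 (BT.node 10097 (BT.leaf c6_197) (BT.leaf c6_198)) (BT.node 10099 (BT.leaf c6_199) (BT.leaf c6_200))) (BT.node 10102 (BT.node 10101 (BT.leaf c6_201) (BT.leaf c6_202)) (BT.leaf c6_203))) (BT.node 10107 (BT.node 10105 (BT.node 10104 (BT.leaf c6_204) (BT.leaf c6_205)) (BT.node 10106 (BT.leaf c6_206) (BT.leaf c6_207))) (BT.node 10109 (BT.node 10108 (BT.leaf c6_208) (BT.leaf c6_209)) (BT.leaf c6_210)))) (BT.node 10117 (BT.node 10114 (BT.node 10112 (BT.node 10111 (BT.leaf c6_211) (BT.leaf c6_212)) (BT.node 10113 (BT.leaf c6_213) (BT.leaf c6_214))) (BT.node 10116 (BT.node 10115 (BT.leaf c6_215) (BT.leaf c6_216)) (BT.leaf c6_217))) (BT.node 10121 (BT.node 10119 (BT.node 10118 (BT.leaf c6_218) (BT.leaf c6_219)) (BT.node 10120 (BT.leaf c6_220) (BT.leaf c6_221))) (BT.node 10123 (BT.node 10122 (BT.leaf c6_222) (BT.leaf c6_223)) (BT.leaf c6_224)))))))) (BT.node 10237 (BT.node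 10181 (BT.node 10153 (BT.node 10139 (BT.node 10132 (BT.node 10128 (BT.node 10126 (BT.node 10125 (BT.leaf c6_225) (BT.leaf c6_226)) (BT.node 10127 (BT.leaf c6_227) (BT.leaf c6_228))) (BT.node 10130 (BT.node 10129 (BT.leaf c6_229) (BT.leaf c6_230)) (BT.node 10131 (BT.leaf c6_231) (BT.leaf c6_232)))) (BT.node 10136 (BT.node 10134 (BT.node 10133 (BT.leaf c6_233) (BT.leaf c6_234)) (BT.node 10135 (BT.leaf c6_235) (BT.leaf c6_236))) (BT.node 10138 (BT.node 10137 (BT.leaf c6_237) (BT.leaf c6_238)) (BT.leaf c6_239)))) (BT.node 10146 (BT.node 10143 (BT.node 10141 (BT.node 10140 (BT.leaf c6_240) (BT.leaf c6_241)) (BT.node 10142 (BT.leaf c6_242) (BT.leaf c6_243))) (BT.node 10145 (BT.node 10144 (BT.leaf c6_244) (BT.leaf c6_245)) (BT.leaf c6_246))) (BT.node 10150 (BT.node 10148 (BT.node 10147 (BT.leaf c6_247) (BT.leaf c6_248)) (BT.node 10149 (BT.leaf c6_249) (BT.leaf c6_250))) (BT.node 10152 (BT.node 10151 (BT.leaf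 c6_251) (BT.leaf c6_252)) (BT.leaf c6_253))))) (BT.node 10167 (BT.node 10160 (BT.node 10157 (BT.node 10155 (BT.node 10154 (BT.leaf c6_254) (BT.leaf c6_255)) (BT.node 10156 (BT.leaf c6_256) (BT.leaf c6_257))) (BT.node 10159 (BT.node 10158 (BT.leaf c6_258) (BT.leaf c6_259)) (BT.leaf c6_260))) (BT.node 10164 (BT.node 10162 (BT.node 10161 (BT.leaf c6_261) (BT.leaf c6_262)) (BT.node 10163 (BT.leaf c6_263) (BT.leaf c6_264))) (BT.node 10166 (BT.node 10165 (BT.leaf c6_265) (BT.leaf c6_266)) (BT.leaf c6_267)))) (BT.node 10174 (BT.node 10171 (BT.node 10169 (BT.node 10168 (BT.leaf c6_268) (BT.leaf c6_269)) (BT.node 10170 (BT.leaf c6_270) (BT.leaf c6_271))) (BT.node 10173 (BT.node 10172 (BT.leaf c6_272) (BT.leaf c6_273)) (BT.leaf c6_274))) (BT.node 10178 (BT.node 10176 (BT.node 10175 (BT.leaf c6_275) (BT.leaf c6_276)) (BT.node 10177 (BT.leaf c6_277) (BT.leaf c6_278))) (BT.node 10180 (BT.node 10179 (BT.leaf c6_279)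 (BT.leaf c6_280)) (BT.leaf c6_281)))))) (BT.node 10209 (BT.node 10195 (BT.node 10188 (BT.node 10185 (BT.node 10183 (BT.node 10182 (BT.leaf c6_282) (BT.leaf c6_283)) (BT.node 10184 (BT.leaf c6_284) (BT.leaf c6_285))) (BT.node 10187 (BT.node 10186 (BT.leaf c6_286) (BT.leaf c6_287)) (BT.leaf c6_288))) (BT.node 10192 (BT.node 10190 (BT.node 10189 (BT.leaf c6_289) (BT.leaf c6_290)) (BT.node 10191 (BT.leaf c6_291) (BT.leaf c6_292))) (BT.node 10194 (BT.node 10193 (BT.leaf c6_293) (BT.leaf c6_294)) (BT.leaf c6_295)))) (BT.node 10202 (BT.node 10199 (BT.node 10197 (BT.node 10196 (BT.leaf c6_296) (BT.leaf c6_297)) (BT.node 10198 (BT.leaf c6_298) (BT.leaf c6_299))) (BT.node 10201 (BT.node 10200 (BT.leaf c6_300) (BT.leaf c6_301)) (BT.leaf c6_302))) (BT.node 10206 (BT.node 10204 (BT.node 10203 (BT.leaf c6_303) (BT.leaf c6_304)) (BT.node 10205 (BT.leaf c6_305) (BT.leaf c6_306))) (BT.node 10208 (BT.node 10207 (BT.leaf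 c6_307) (BT.leaf c6_308)) (BT.leaf c6_309))))) (BT.node 10223 (BT.node 10216 (BT.node 10213 (BT.node 10211 (BT.node 10210 (BT.leaf c6_310) (BT.leaf c6_311)) (BT.node 10212 (BT.leaf c6_312) (BT.leaf c6_313))) (BT.node 10215 (BT.node 10214 (BT.leaf c6_314) (BT.leaf c6_315)) (BT.leaf c6_316))) (BT.node 10220 (BT.node 10218 (BT.node 10217 (BT.leaf c6_317) (BT.leaf c6_318)) (BT.node 10219 (BT.leaf c6_319) (BT.leaf c6_320))) (BT.node 10222 (BT.node 10221 (BT.leaf c6_321) (BT.leaf c6_322)) (BT.leaf c6_323)))) (BT.node 10230 (BT.node 10227 (BT.node 10225 (BT.node 10224 (BT.leaf c6_324) (BT.leaf c6_325)) (BT.node 10226 (BT.leaf c6_326) (BT.leaf c6_327))) (BT.node 10229 (BT.node 10228 (BT.leaf c6_328) (BT.leaf c6_329)) (BT.leaf c6_330))) (BT.node 10234 (BT.node 10232 (BT.node 10231 (BT.leaf c6_331) (BT.leaf c6_332)) (BT.node 10233 (BT.leaf c6_333) (BT.leaf c6_334))) (BT.node 10236 (BT.node 10235 (BT.leaf c6_335)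 (BT.leaf c6_336)) (BT.leaf c6_337))))))) (BT.node 10293 (BT.node 10265 (BT.node 10251 (BT.node 10244 (BT.node 10241 (BT.node 10239 (BT.node 10238 (BT.leaf c6_338) (BT.leaf c6_339)) (BT.node 10240 (BT.leaf c6_340) (BT.leaf c6_341))) (BT.node 10243 (BT.node 10242 (BT.leaf c6_342) (BT.leaf c6_343)) (BT.leaf c6_344))) (BT.node 10248 (BT.node 10246 (BT.node 10245 (BT.leaf c6_345) (BT.leaf c6_346)) (BT.node 10247 (BT.leaf c6_347) (BT.leaf c6_348))) (BT.node 10250 (BT.node 10249 (BT.leaf c6_349) (BT.leaf c6_350)) (BT.leaf c6_351)))) (BT.node 10258 (BT.node 10255 (BT.node 10253 (BT.node 10252 (BT.leaf c6_352) (BT.leaf c6_353)) (BT.node 10254 (BT.leaf c6_354) (BT.leaf c6_355))) (BT.node 10257 (BT.node 10256 (BT.leaf c6_356) (BT.leaf c6_357)) (BT.leaf c6_358))) (BT.node 10262 (BT.node 10260 (BT.node 10259 (BT.leaf c6_359) (BT.leaf c6_360)) (BT.node 10261 (BT.leaf c6_361) (BT.leaf c6_362))) (BT.node 10264 (BT.node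 10263 (BT.leaf c6_363) (BT.leaf c6_364)) (BT.leaf c6_365))))) (BT.node 10279 (BT.node 10272 (BT.node 10269 (BT.node 10267 (BT.node 10266 (BT.leaf c6_366) (BT.leaf c6_367)) (BT.node 10268 (BT.leaf c6_368) (BT.leaf c6_369))) (BT.node 10271 (BT.node 10270 (BT.leaf c6_370) (BT.leaf c6_371)) (BT.leaf c6_372))) (BT.node 10276 (BT.node 10274 (BT.node 10273 (BT.leaf c6_373) (BT.leaf c6_374)) (BT.node 10275 (BT.leaf c6_375) (BT.leaf c6_376))) (BT.node 10278 (BT.node 10277 (BT.leaf c6_377) (BT.leaf c6_378)) (BT.leaf c6_379)))) (BT.node 10286 (BT.node 10283 (BT.node 10281 (BT.node 10280 (BT.leaf c6_380) (BT.leaf c6_381)) (BT.node 10282 (BT.leaf c6_382) (BT.leaf c6_383))) (BT.node 10285 (BT.node 10284 (BT.leaf c6_384) (BT.leaf c6_385)) (BT.leaf c6_386))) (BT.node 10290 (BT.node 10288 (BT.node 10287 (BT.leaf c6_387) (BT.leaf c6_388)) (BT.node 10289 (BT.leaf c6_389) (BT.leaf c6_390))) (BT.node 10292 (BT.node 10291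 (BT.leaf c6_391) (BT.leaf c6_392)) (BT.leaf c6_393)))))) (BT.node 10321 (BT.node 10307 (BT.node 10300 (BT.node 10297 (BT.node 10295 (BT.node 10294 (BT.leaf c6_394) (BT.leaf c6_395)) (BT.node 10296 (BT.leaf c6_396) (BT.leaf c6_397))) (BT.node 10299 (BT.node 10298 (BT.leaf c6_398) (BT.leaf c6_399)) (BT.leaf c6_400))) (BT.node 10304 (BT.node 10302 (BT.node 10301 (BT.leaf c6_401) (BT.leaf c6_402)) (BT.node 10303 (BT.leaf c6_403) (BT.leaf c6_404))) (BT.node 10306 (BT.node 10305 (BT.leaf c6_405) (BT.leaf c6_406)) (BT.leaf c6_407)))) (BT.node 10314 (BT.node 10311 (BT.node 10309 (BT.node 10308 (BT.leaf c6_408) (BT.leaf c6_409)) (BT.node 10310 (BT.leaf c6_410) (BT.leaf c6_411))) (BT.node 10313 (BT.node 10312 (BT.leaf c6_412) (BT.leaf c6_413)) (BT.leaf c6_414))) (BT.node 10318 (BT.node 10316 (BT.node 10315 (BT.leaf c6_415) (BT.leaf c6_416)) (BT.node 10317 (BT.leaf c6_417) (BT.leaf c6_418))) (BT.node 10320 (BT.node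 10319 (BT.leaf c6_419) (BT.leaf c6_420)) (BT.leaf c6_421))))) (BT.node 10335 (BT.node 10328 (BT.node 10325 (BT.node 10323 (BT.node 10322 (BT.leaf c6_422) (BT.leaf c6_423)) (BT.node 10324 (BT.leaf c6_424) (BT.leaf c6_425))) (BT.node 10327 (BT.node 10326 (BT.leaf c6_426) (BT.leaf c6_427)) (BT.leaf c6_428))) (BT.node 10332 (BT.node 10330 (BT.node 10329 (BT.leaf c6_429) (BT.leaf c6_430)) (BT.node 10331 (BT.leaf c6_431) (BT.leaf c6_432))) (BT.node 10334 (BT.node 10333 (BT.leaf c6_433) (BT.leaf c6_434)) (BT.leaf c6_435)))) (BT.node 10342 (BT.node 10339 (BT.node 10337 (BT.node 10336 (BT.leaf c6_436) (BT.leaf c6_437)) (BT.node 10338 (BT.leaf c6_438) (BT.leaf c6_439))) (BT.node 10341 (BT.node 10340 (BT.leaf c6_440) (BT.leaf c6_441)) (BT.leaf c6_442))) (BT.node 10346 (BT.node 10344 (BT.node 10343 (BT.leaf c6_443) (BT.leaf c6_444)) (BT.node 10345 (BT.leaf c6_445) (BT.leaf c6_446))) (BT.node 10348 (BT.node 10347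 (BT.leaf c6_447) (BT.leaf c6_448)) (BT.leaf c6_449))))))))) (BT.node 10574 (BT.node 10462 (BT.node 10406 (BT.node 10378 (BT.node 10364 (BT.node 10357 (BT.node 10353 (BT.node 10351 (BT.node 10350 (BT.leaf c6_450) (BT.leaf c6_451)) (BT.node 10352 (BT.leaf c6_452) (BT.leaf c6_453))) (BT.node 10355 (BT.node 10354 (BT.leaf c6_454) (BT.leaf c6_455)) (BT.node 10356 (BT.leaf c6_456) (BT.leaf c6_457)))) (BT.node 10361 (BT.node 10359 (BT.node 10358 (BT.leaf c6_458) (BT.leaf c6_459)) (BT.node 10360 (BT.leaf c6_460) (BT.leaf c6_461))) (BT.node 10363 (BT.node 10362 (BT.leaf c6_462) (BT.leaf c6_463)) (BT.leaf c6_464)))) (BT.node 10371 (BT.node 10368 (BT.node 10366 (BT.node 10365 (BT.leaf c6_465) (BT.leaf c6_466)) (BT.node 10367 (BT.leaf c6_467) (BT.leaf c6_468))) (BT.node 10370 (BT.node 10369 (BT.leaf c6_469) (BT.leaf c6_470)) (BT.leaf c6_471))) (BT.node 10375 (BT.node 10373 (BT.node 10372 (BT.leaf c6_472) (BT.leaf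 c6_473)) (BT.node 10374 (BT.leaf c6_474) (BT.leaf c6_475))) (BT.node 10377 (BT.node 10376 (BT.leaf c6_476) (BT.leaf c6_477)) (BT.leaf c6_478))))) (BT.node 10392 (BT.node 10385 (BT.node 10382 (BT.node 10380 (BT.node 10379 (BT.leaf c6_479) (BT.leaf c6_480)) (BT.node 10381 (BT.leaf c6_481) (BT.leaf c6_482))) (BT.node 10384 (BT.node 10383 (BT.leaf c6_483) (BT.leaf c6_484)) (BT.leaf c6_485))) (BT.node 10389 (BT.node 10387 (BT.node 10386 (BT.leaf c6_486) (BT.leaf c6_487)) (BT.node 10388 (BT.leaf c6_488) (BT.leaf c6_489))) (BT.node 10391 (BT.node 10390 (BT.leaf c6_490) (BT.leaf c6_491)) (BT.leaf c6_492)))) (BT.node 10399 (BT.node 10396 (BT.node 10394 (BT.node 10393 (BT.leaf c6_493) (BT.leaf c6_494)) (BT.node 10395 (BT.leaf c6_495) (BT.leaf c6_496))) (BT.node 10398 (BT.node 10397 (BT.leaf c6_497) (BT.leaf c6_498)) (BT.leaf c6_499))) (BT.node 10403 (BT.node 10401 (BT.node 10400 (BT.leaf c6_500) (BT.leaf c6_501))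 (BT.node 10402 (BT.leaf c6_502) (BT.leaf c6_503))) (BT.node 10405 (BT.node 10404 (BT.leaf c6_504) (BT.leaf c6_505)) (BT.leaf c6_506)))))) (BT.node 10434 (BT.node 10420 (BT.node 10413 (BT.node 10410 (BT.node 10408 (BT.node 10407 (BT.leaf c6_507) (BT.leaf c6_508)) (BT.node 10409 (BT.leaf c6_509) (BT.leaf c6_510))) (BT.node 10412 (BT.node 10411 (BT.leaf c6_511) (BT.leaf c6_512)) (BT.leaf c6_513))) (BT.node 10417 (BT.node 10415 (BT.node 10414 (BT.leaf c6_514) (BT.leaf c6_515)) (BT.node 10416 (BT.leaf c6_516) (BT.leaf c6_517))) (BT.node 10419 (BT.node 10418 (BT.leaf c6_518) (BT.leaf c6_519)) (BT.leaf c6_520)))) (BT.node 10427 (BT.node 10424 (BT.node 10422 (BT.node 10421 (BT.leaf c6_521) (BT.leaf c6_522)) (BT.node 10423 (BT.leaf c6_523) (BT.leaf c6_524))) (BT.node 10426 (BT.node 10425 (BT.leaf c6_525) (BT.leaf c6_526)) (BT.leaf c6_527))) (BT.node 10431 (BT.node 10429 (BT.node 10428 (BT.leaf c6_528) (BT.leaf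 c6_529)) (BT.node 10430 (BT.leaf c6_530) (BT.leaf c6_531))) (BT.node 10433 (BT.node 10432 (BT.leaf c6_532) (BT.leaf c6_533)) (BT.leaf c6_534))))) (BT.node 10448 (BT.node 10441 (BT.node 10438 (BT.node 10436 (BT.node 10435 (BT.leaf c6_535) (BT.leaf c6_536)) (BT.node 10437 (BT.leaf c6_537) (BT.leaf c6_538))) (BT.node 10440 (BT.node 10439 (BT.leaf c6_539) (BT.leaf c6_540)) (BT.leaf c6_541))) (BT.node 10445 (BT.node 10443 (BT.node 10442 (BT.leaf c6_542) (BT.leaf c6_543)) (BT.node 10444 (BT.leaf c6_544) (BT.leaf c6_545))) (BT.node 10447 (BT.node 10446 (BT.leaf c6_546) (BT.leaf c6_547)) (BT.leaf c6_548)))) (BT.node 10455 (BT.node 10452 (BT.node 10450 (BT.node 10449 (BT.leaf c6_549) (BT.leaf c6_550)) (BT.node 10451 (BT.leaf c6_551) (BT.leaf c6_552))) (BT.node 10454 (BT.node 10453 (BT.leaf c6_553) (BT.leaf c6_554)) (BT.leaf c6_555))) (BT.node 10459 (BT.node 10457 (BT.node 10456 (BT.leaf c6_556) (BT.leaf c6_557))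 (BT.node 10458 (BT.leaf c6_558) (BT.leaf c6_559))) (BT.node 10461 (BT.node 10460 (BT.leaf c6_560) (BT.leaf c6_561)) (BT.leaf c6_562))))))) (BT.node 10518 (BT.node 10490 (BT.node 10476 (BT.node 10469 (BT.node 10466 (BT.node 10464 (BT.node 10463 (BT.leaf c6_563) (BT.leaf c6_564)) (BT.node 10465 (BT.leaf c6_565) (BT.leaf c6_566))) (BT.node 10468 (BT.node 10467 (BT.leaf c6_567) (BT.leaf c6_568)) (BT.leaf c6_569))) (BT.node 10473 (BT.node 10471 (BT.node 10470 (BT.leaf c6_570) (BT.leaf c6_571)) (BT.node 10472 (BT.leaf c6_572) (BT.leaf c6_573))) (BT.node 10475 (BT.node 10474 (BT.leaf c6_574) (BT.leaf c6_575)) (BT.leaf c6_576)))) (BT.node 10483 (BT.node 10480 (BT.node 10478 (BT.node 10477 (BT.leaf c6_577) (BT.leaf c6_578)) (BT.node 10479 (BT.leaf c6_579) (BT.leaf c6_580))) (BT.node 10482 (BT.node 10481 (BT.leaf c6_581) (BT.leaf c6_582)) (BT.leaf c6_583))) (BT.node 10487 (BT.node 10485 (BT.node 10484 (BT.leaf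 c6_584) (BT.leaf c6_585)) (BT.node 10486 (BT.leaf c6_586) (BT.leaf c6_587))) (BT.node 10489 (BT.node 10488 (BT.leaf c6_588) (BT.leaf c6_589)) (BT.leaf c6_590))))) (BT.node 10504 (BT.node 10497 (BT.node 10494 (BT.node 10492 (BT.node 10491 (BT.leaf c6_591) (BT.leaf c6_592)) (BT.node 10493 (BT.leaf c6_593) (BT.leaf c6_594))) (BT.node 10496 (BT.node 10495 (BT.leaf c6_595) (BT.leaf c6_596)) (BT.leaf c6_597))) (BT.node 10501 (BT.node 10499 (BT.node 10498 (BT.leaf c6_598) (BT.leaf c6_599)) (BT.node 10500 (BT.leaf c6_600) (BT.leaf c6_601))) (BT.node 10503 (BT.node 10502 (BT.leaf c6_602) (BT.leaf c6_603)) (BT.leaf c6_604)))) (BT.node 10511 (BT.node 10508 (BT.node 10506 (BT.node 10505 (BT.leaf c6_605) (BT.leaf c6_606)) (BT.node 10507 (BT.leaf c6_607) (BT.leaf c6_608))) (BT.node 10510 (BT.node 10509 (BT.leaf c6_609) (BT.leaf c6_610)) (BT.leaf c6_611))) (BT.node 10515 (BT.node 10513 (BT.node 10512 (BT.leaf c6_612)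 (BT.leaf c6_613)) (BT.node 10514 (BT.leaf c6_614) (BT.leaf c6_615))) (BT.node 10517 (BT.node 10516 (BT.leaf c6_616) (BT.leaf c6_617)) (BT.leaf c6_618)))))) (BT.node 10546 (BT.node 10532 (BT.node 10525 (BT.node 10522 (BT.node 10520 (BT.node 10519 (BT.leaf c6_619) (BT.leaf c6_620)) (BT.node 10521 (BT.leaf c6_621) (BT.leaf c6_622))) (BT.node 10524 (BT.node 10523 (BT.leaf c6_623) (BT.leaf c6_624)) (BT.leaf c6_625))) (BT.node 10529 (BT.node 10527 (BT.node 10526 (BT.leaf c6_626) (BT.leaf c6_627)) (BT.node 10528 (BT.leaf c6_628) (BT.leaf c6_629))) (BT.node 10531 (BT.node 10530 (BT.leaf c6_630) (BT.leaf c6_631)) (BT.leaf c6_632)))) (BT.node 10539 (BT.node 10536 (BT.node 10534 (BT.node 10533 (BT.leaf c6_633) (BT.leaf c6_634)) (BT.node 10535 (BT.leaf c6_635) (BT.leaf c6_636))) (BT.node 10538 (BT.node 10537 (BT.leaf c6_637) (BT.leaf c6_638)) (BT.leaf c6_639))) (BT.node 10543 (BT.node 10541 (BT.node 10540 (BT.leaf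 c6_640) (BT.leaf c6_641)) (BT.node 10542 (BT.leaf c6_642) (BT.leaf c6_643))) (BT.node 10545 (BT.node 10544 (BT.leaf c6_644) (BT.leaf c6_645)) (BT.leaf c6_646))))) (BT.node 10560 (BT.node 10553 (BT.node 10550 (BT.node 10548 (BT.node 10547 (BT.leaf c6_647) (BT.leaf c6_648)) (BT.node 10549 (BT.leaf c6_649) (BT.leaf c6_650))) (BT.node 10552 (BT.node 10551 (BT.leaf c6_651) (BT.leaf c6_652)) (BT.leaf c6_653))) (BT.node 10557 (BT.node 10555 (BT.node 10554 (BT.leaf c6_654) (BT.leaf c6_655)) (BT.node 10556 (BT.leaf c6_656) (BT.leaf c6_657))) (BT.node 10559 (BT.node 10558 (BT.leaf c6_658) (BT.leaf c6_659)) (BT.leaf c6_660)))) (BT.node 10567 (BT.node 10564 (BT.node 10562 (BT.node 10561 (BT.leaf c6_661) (BT.leaf c6_662)) (BT.node 10563 (BT.leaf c6_663) (BT.leaf c6_664))) (BT.node 10566 (BT.node 10565 (BT.leaf c6_665) (BT.leaf c6_666)) (BT.leaf c6_667))) (BT.node 10571 (BT.node 10569 (BT.node 10568 (BT.leaf c6_668)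 (BT.leaf c6_669)) (BT.node 10570 (BT.leaf c6_670) (BT.leaf c6_671))) (BT.node 10573 (BT.node 10572 (BT.leaf c6_672) (BT.leaf c6_673)) (BT.leaf c6_674)))))))) (BT.node 10687 (BT.node 10631 (BT.node 10603 (BT.node 10589 (BT.node 10582 (BT.node 10578 (BT.node 10576 (BT.node 10575 (BT.leaf c6_675) (BT.leaf c6_676)) (BT.node 10577 (BT.leaf c6_677) (BT.leaf c6_678))) (BT.node 10580 (BT.node 10579 (BT.leaf c6_679) (BT.leaf c6_680)) (BT.node 10581 (BT.leaf c6_681) (BT.leaf c6_682)))) (BT.node 10586 (BT.node 10584 (BT.node 10583 (BT.leaf c6_683) (BT.leaf c6_684)) (BT.node 10585 (BT.leaf c6_685) (BT.leaf c6_686))) (BT.node 10588 (BT.node 10587 (BT.leaf c6_687) (BT.leaf c6_688)) (BT.leaf c6_689)))) (BT.node 10596 (BT.node 10593 (BT.node 10591 (BT.node 10590 (BT.leaf c6_690) (BT.leaf c6_691)) (BT.node 10592 (BT.leaf c6_692) (BT.leaf c6_693))) (BT.node 10595 (BT.node 10594 (BT.leaf c6_694) (BT.leaf c6_695)) (BT.leaf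 c6_696))) (BT.node 10600 (BT.node 10598 (BT.node 10597 (BT.leaf c6_697) (BT.leaf c6_698)) (BT.node 10599 (BT.leaf c6_699) (BT.leaf c6_700))) (BT.node 10602 (BT.node 10601 (BT.leaf c6_701) (BT.leaf c6_702)) (BT.leaf c6_703))))) (BT.node 10617 (BT.node 10610 (BT.node 10607 (BT.node 10605 (BT.node 10604 (BT.leaf c6_704) (BT.leaf c6_705)) (BT.node 10606 (BT.leaf c6_706) (BT.leaf c6_707))) (BT.node 10609 (BT.node 10608 (BT.leaf c6_708) (BT.leaf c6_709)) (BT.leaf c6_710))) (BT.node 10614 (BT.node 10612 (BT.node 10611 (BT.leaf c6_711) (BT.leaf c6_712)) (BT.node 10613 (BT.leaf c6_713) (BT.leaf c6_714))) (BT.node 10616 (BT.node 10615 (BT.leaf c6_715) (BT.leaf c6_716)) (BT.leaf c6_717)))) (BT.node 10624 (BT.node 10621 (BT.node 10619 (BT.node 10618 (BT.leaf c6_718) (BT.leaf c6_719)) (BT.node 10620 (BT.leaf c6_720) (BT.leaf c6_721))) (BT.node 10623 (BT.node 10622 (BT.leaf c6_722) (BT.leaf c6_723)) (BT.leaf c6_724)))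 (BT.node 10628 (BT.node 10626 (BT.node 10625 (BT.leaf c6_725) (BT.leaf c6_726)) (BT.node 10627 (BT.leaf c6_727) (BT.leaf c6_728))) (BT.node 10630 (BT.node 10629 (BT.leaf c6_729) (BT.leaf c6_730)) (BT.leaf c6_731)))))) (BT.node 10659 (BT.node 10645 (BT.node 10638 (BT.node 10635 (BT.node 10633 (BT.node 10632 (BT.leaf c6_732) (BT.leaf c6_733)) (BT.node 10634 (BT.leaf c6_734) (BT.leaf c6_735))) (BT.node 10637 (BT.node 10636 (BT.leaf c6_736) (BT.leaf c6_737)) (BT.leaf c6_738))) (BT.node 10642 (BT.node 10640 (BT.node 10639 (BT.leaf c6_739) (BT.leaf c6_740)) (BT.node 10641 (BT.leaf c6_741) (BT.leaf c6_742))) (BT.node 10644 (BT.node 10643 (BT.leaf c6_743) (BT.leaf c6_744)) (BT.leaf c6_745)))) (BT.node 10652 (BT.node 10649 (BT.node 10647 (BT.node 10646 (BT.leaf c6_746) (BT.leaf c6_747)) (BT.node 10648 (BT.leaf c6_748) (BT.leaf c6_749))) (BT.node 10651 (BT.node 10650 (BT.leaf c6_750) (BT.leaf c6_751)) (BT.leaf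 c6_752))) (BT.node 10656 (BT.node 10654 (BT.node 10653 (BT.leaf c6_753) (BT.leaf c6_754)) (BT.node 10655 (BT.leaf c6_755) (BT.leaf c6_756))) (BT.node 10658 (BT.node 10657 (BT.leaf c6_757) (BT.leaf c6_758)) (BT.leaf c6_759))))) (BT.node 10673 (BT.node 10666 (BT.node 10663 (BT.node 10661 (BT.node 10660 (BT.leaf c6_760) (BT.leaf c6_761)) (BT.node 10662 (BT.leaf c6_762) (BT.leaf c6_763))) (BT.node 10665 (BT.node 10664 (BT.leaf c6_764) (BT.leaf c6_765)) (BT.leaf c6_766))) (BT.node 10670 (BT.node 10668 (BT.node 10667 (BT.leaf c6_767) (BT.leaf c6_768)) (BT.node 10669 (BT.leaf c6_769) (BT.leaf c6_770))) (BT.node 10672 (BT.node 10671 (BT.leaf c6_771) (BT.leaf c6_772)) (BT.leaf c6_773)))) (BT.node 10680 (BT.node 10677 (BT.node 10675 (BT.node 10674 (BT.leaf c6_774) (BT.leaf c6_775)) (BT.node 10676 (BT.leaf c6_776) (BT.leaf c6_777))) (BT.node 10679 (BT.node 10678 (BT.leaf c6_778) (BT.leaf c6_779)) (BT.leaf c6_780)))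 (BT.node 10684 (BT.node 10682 (BT.node 10681 (BT.leaf c6_781) (BT.leaf c6_782)) (BT.node 10683 (BT.leaf c6_783) (BT.leaf c6_784))) (BT.node 10686 (BT.node 10685 (BT.leaf c6_785) (BT.leaf c6_786)) (BT.leaf c6_787))))))) (BT.node 10743 (BT.node 10715 (BT.node 10701 (BT.node 10694 (BT.node 10691 (BT.node 10689 (BT.node 10688 (BT.leaf c6_788) (BT.leaf c6_789)) (BT.node 10690 (BT.leaf c6_790) (BT.leaf c6_791))) (BT.node 10693 (BT.node 10692 (BT.leaf c6_792) (BT.leaf c6_793)) (BT.leaf c6_794))) (BT.node 10698 (BT.node 10696 (BT.node 10695 (BT.leaf c6_795) (BT.leaf c6_796)) (BT.node 10697 (BT.leaf c6_797) (BT.leaf c6_798))) (BT.node 10700 (BT.node 10699 (BT.leaf c6_799) (BT.leaf c6_800)) (BT.leaf c6_801)))) (BT.node 10708 (BT.node 10705 (BT.node 10703 (BT.node 10702 (BT.leaf c6_802) (BT.leaf c6_803)) (BT.node 10704 (BT.leaf c6_804) (BT.leaf c6_805))) (BT.node 10707 (BT.node 10706 (BT.leaf c6_806) (BT.leaf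 c6_807)) (BT.leaf c6_808))) (BT.node 10712 (BT.node 10710 (BT.node 10709 (BT.leaf c6_809) (BT.leaf c6_810)) (BT.node 10711 (BT.leaf c6_811) (BT.leaf c6_812))) (BT.node 10714 (BT.node 10713 (BT.leaf c6_813) (BT.leaf c6_814)) (BT.leaf c6_815))))) (BT.node 10729 (BT.node 10722 (BT.node 10719 (BT.node 10717 (BT.node 10716 (BT.leaf c6_816) (BT.leaf c6_817)) (BT.node 10718 (BT.leaf c6_818) (BT.leaf c6_819))) (BT.node 10721 (BT.node 10720 (BT.leaf c6_820) (BT.leaf c6_821)) (BT.leaf c6_822))) (BT.node 10726 (BT.node 10724 (BT.node 10723 (BT.leaf c6_823) (BT.leaf c6_824)) (BT.node 10725 (BT.leaf c6_825) (BT.leaf c6_826))) (BT.node 10728 (BT.node 10727 (BT.leaf c6_827) (BT.leaf c6_828)) (BT.leaf c6_829)))) (BT.node 10736 (BT.node 10733 (BT.node 10731 (BT.node 10730 (BT.leaf c6_830) (BT.leaf c6_831)) (BT.node 10732 (BT.leaf c6_832) (BT.leaf c6_833))) (BT.node 10735 (BT.node 10734 (BT.leaf c6_834) (BT.leaf c6_835))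 (BT.leaf c6_836))) (BT.node 10740 (BT.node 10738 (BT.node 10737 (BT.leaf c6_837) (BT.leaf c6_838)) (BT.node 10739 (BT.leaf c6_839) (BT.leaf c6_840))) (BT.node 10742 (BT.node 10741 (BT.leaf c6_841) (BT.leaf c6_842)) (BT.leaf c6_843)))))) (BT.node 10771 (BT.node 10757 (BT.node 10750 (BT.node 10747 (BT.node 10745 (BT.node 10744 (BT.leaf c6_844) (BT.leaf c6_845)) (BT.node 10746 (BT.leaf c6_846) (BT.leaf c6_847))) (BT.node 10749 (BT.node 10748 (BT.leaf c6_848) (BT.leaf c6_849)) (BT.leaf c6_850))) (BT.node 10754 (BT.node 10752 (BT.node 10751 (BT.leaf c6_851) (BT.leaf c6_852)) (BT.node 10753 (BT.leaf c6_853) (BT.leaf c6_854))) (BT.node 10756 (BT.node 10755 (BT.leaf c6_855) (BT.leaf c6_856)) (BT.leaf c6_857)))) (BT.node 10764 (BT.node 10761 (BT.node 10759 (BT.node 10758 (BT.leaf c6_858) (BT.leaf c6_859)) (BT.node 10760 (BT.leaf c6_860) (BT.leaf c6_861))) (BT.node 10763 (BT.node 10762 (BT.leaf c6_862) (BT.leaf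 c6_863)) (BT.leaf c6_864))) (BT.node 10768 (BT.node 10766 (BT.node 10765 (BT.leaf c6_865) (BT.leaf c6_866)) (BT.node 10767 (BT.leaf c6_867) (BT.leaf c6_868))) (BT.node 10770 (BT.node 10769 (BT.leaf c6_869) (BT.leaf c6_870)) (BT.leaf c6_871))))) (BT.node 10785 (BT.node 10778 (BT.node 10775 (BT.node 10773 (BT.node 10772 (BT.leaf c6_872) (BT.leaf c6_873)) (BT.node 10774 (BT.leaf c6_874) (BT.leaf c6_875))) (BT.node 10777 (BT.node 10776 (BT.leaf c6_876) (BT.leaf c6_877)) (BT.leaf c6_878))) (BT.node 10782 (BT.node 10780 (BT.node 10779 (BT.leaf c6_879) (BT.leaf c6_880)) (BT.node 10781 (BT.leaf c6_881) (BT.leaf c6_882))) (BT.node 10784 (BT.node 10783 (BT.leaf c6_883) (BT.leaf c6_884)) (BT.leaf c6_885)))) (BT.node 10792 (BT.node 10789 (BT.node 10787 (BT.node 10786 (BT.leaf c6_886) (BT.leaf c6_887)) (BT.node 10788 (BT.leaf c6_888) (BT.leaf c6_889))) (BT.node 10791 (BT.node 10790 (BT.leaf c6_890) (BT.leaf c6_891))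 (BT.leaf c6_892))) (BT.node 10796 (BT.node 10794 (BT.node 10793 (BT.leaf c6_893) (BT.leaf c6_894)) (BT.node 10795 (BT.leaf c6_895) (BT.leaf c6_896))) (BT.node 10798 (BT.node 10797 (BT.leaf c6_897) (BT.leaf c6_898)) (BT.leaf c6_899))))))))))
/-- the chunks of the letter 12 -/
def colL_12 : BT ℕ := (BT.node 11249 (BT.node 11024 (BT.node 10912 (BT.node 10856 (BT.node 10828 (BT.node 10814 (BT.node 10807 (BT.node 10803 (BT.node 10801 (BT.node 10800 (BT.leaf c7_0) (BT.leaf c7_1)) (BT.node 10802 (BT.leaf c7_2) (BT.leaf c7_3))) (BT.node 10805 (BT.node 10804 (BT.leaf c7_4) (BT.leaf c7_5)) (BT.node 10806 (BT.leaf c7_6) (BT.leaf c7_7)))) (BT.node 10811 (BT.node 10809 (BT.node 10808 (BT.leaf c7_8) (BT.leaf c7_9)) (BT.node 10810 (BT.leaf c7_10) (BT.leaf c7_11))) (BT.node 10813 (BT.node 10812 (BT.leaf c7_12) (BT.leaf c7_13)) (BT.leaf c7_14)))) (BT.node 10821 (BT.node 10818 (BT.node 10816 (BT.node 10815 (BT.leaf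 c7_15) (BT.leaf c7_16)) (BT.node 10817 (BT.leaf c7_17) (BT.leaf c7_18))) (BT.node 10820 (BT.node 10819 (BT.leaf c7_19) (BT.leaf c7_20)) (BT.leaf c7_21))) (BT.node 10825 (BT.node 10823 (BT.node 10822 (BT.leaf c7_22) (BT.leaf c7_23)) (BT.node 10824 (BT.leaf c7_24) (BT.leaf c7_25))) (BT.node 10827 (BT.node 10826 (BT.leaf c7_26) (BT.leaf c7_27)) (BT.leaf c7_28))))) (BT.node 10842 (BT.node 10835 (BT.node 10832 (BT.node 10830 (BT.node 10829 (BT.leaf c7_29) (BT.leaf c7_30)) (BT.node 10831 (BT.leaf c7_31) (BT.leaf c7_32))) (BT.node 10834 (BT.node 10833 (BT.leaf c7_33) (BT.leaf c7_34)) (BT.leaf c7_35))) (BT.node 10839 (BT.node 10837 (BT.node 10836 (BT.leaf c7_36) (BT.leaf c7_37)) (BT.node 10838 (BT.leaf c7_38) (BT.leaf c7_39))) (BT.node 10841 (BT.node 10840 (BT.leaf c7_40) (BT.leaf c7_41)) (BT.leaf c7_42)))) (BT.node 10849 (BT.node 10846 (BT.node 10844 (BT.node 10843 (BT.leaf c7_43) (BT.leaf c7_44)) (BT.node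 10845 (BT.leaf c7_45) (BT.leaf c7_46))) (BT.node 10848 (BT.node 10847 (BT.leaf c7_47) (BT.leaf c7_48)) (BT.leaf c7_49))) (BT.node 10853 (BT.node 10851 (BT.node 10850 (BT.leaf c7_50) (BT.leaf c7_51)) (BT.node 10852 (BT.leaf c7_52) (BT.leaf c7_53))) (BT.node 10855 (BT.node 10854 (BT.leaf c7_54) (BT.leaf c7_55)) (BT.leaf c7_56)))))) (BT.node 10884 (BT.node 10870 (BT.node 10863 (BT.node 10860 (BT.node 10858 (BT.node 10857 (BT.leaf c7_57) (BT.leaf c7_58)) (BT.node 10859 (BT.leaf c7_59) (BT.leaf c7_60))) (BT.node 10862 (BT.node 10861 (BT.leaf c7_61) (BT.leaf c7_62)) (BT.leaf c7_63))) (BT.node 10867 (BT.node 10865 (BT.node 10864 (BT.leaf c7_64) (BT.leaf c7_65)) (BT.node 10866 (BT.leaf c7_66) (BT.leaf c7_67))) (BT.node 10869 (BT.node 10868 (BT.leaf c7_68) (BT.leaf c7_69)) (BT.leaf c7_70)))) (BT.node 10877 (BT.node 10874 (BT.node 10872 (BT.node 10871 (BT.leaf c7_71) (BT.leaf c7_72)) (BT.node 10873 (BT.leaf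 c7_73) (BT.leaf c7_74))) (BT.node 10876 (BT.node 10875 (BT.leaf c7_75) (BT.leaf c7_76)) (BT.leaf c7_77))) (BT.node 10881 (BT.node 10879 (BT.node 10878 (BT.leaf c7_78) (BT.leaf c7_79)) (BT.node 10880 (BT.leaf c7_80) (BT.leaf c7_81))) (BT.node 10883 (BT.node 10882 (BT.leaf c7_82) (BT.leaf c7_83)) (BT.leaf c7_84))))) (BT.node 10898 (BT.node 10891 (BT.node 10888 (BT.node 10886 (BT.node 10885 (BT.leaf c7_85) (BT.leaf c7_86)) (BT.node 10887 (BT.leaf c7_87) (BT.leaf c7_88))) (BT.node 10890 (BT.node 10889 (BT.leaf c7_89) (BT.leaf c7_90)) (BT.leaf c7_91))) (BT.node 10895 (BT.node 10893 (BT.node 10892 (BT.leaf c7_92) (BT.leaf c7_93)) (BT.node 10894 (BT.leaf c7_94) (BT.leaf c7_95))) (BT.node 10897 (BT.node 10896 (BT.leaf c7_96) (BT.leaf c7_97)) (BT.leaf c7_98)))) (BT.node 10905 (BT.node 10902 (BT.node 10900 (BT.node 10899 (BT.leaf c7_99) (BT.leaf c7_100)) (BT.node 10901 (BT.leaf c7_101) (BT.leaf c7_102))) (BT.node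 10904 (BT.node 10903 (BT.leaf c7_103) (BT.leaf c7_104)) (BT.leaf c7_105))) (BT.node 10909 (BT.node 10907 (BT.node 10906 (BT.leaf c7_106) (BT.leaf c7_107)) (BT.node 10908 (BT.leaf c7_108) (BT.leaf c7_109))) (BT.node 10911 (BT.node 10910 (BT.leaf c7_110) (BT.leaf c7_111)) (BT.leaf c7_112))))))) (BT.node 10968 (BT.node 10940 (BT.node 10926 (BT.node 10919 (BT.node 10916 (BT.node 10914 (BT.node 10913 (BT.leaf c7_113) (BT.leaf c7_114)) (BT.node 10915 (BT.leaf c7_115) (BT.leaf c7_116))) (BT.node 10918 (BT.node 10917 (BT.leaf c7_117) (BT.leaf c7_118)) (BT.leaf c7_119))) (BT.node 10923 (BT.node 10921 (BT.node 10920 (BT.leaf c7_120) (BT.leaf c7_121)) (BT.node 10922 (BT.leaf c7_122) (BT.leaf c7_123))) (BT.node 10925 (BT.node 10924 (BT.leaf c7_124) (BT.leaf c7_125)) (BT.leaf c7_126)))) (BT.node 10933 (BT.node 10930 (BT.node 10928 (BT.node 10927 (BT.leaf c7_127) (BT.leaf c7_128)) (BT.node 10929 (BT.leaf c7_129)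 (BT.leaf c7_130))) (BT.node 10932 (BT.node 10931 (BT.leaf c7_131) (BT.leaf c7_132)) (BT.leaf c7_133))) (BT.node 10937 (BT.node 10935 (BT.node 10934 (BT.leaf c7_134) (BT.leaf c7_135)) (BT.node 10936 (BT.leaf c7_136) (BT.leaf c7_137))) (BT.node 10939 (BT.node 10938 (BT.leaf c7_138) (BT.leaf c7_139)) (BT.leaf c7_140))))) (BT.node 10954 (BT.node 10947 (BT.node 10944 (BT.node 10942 (BT.node 10941 (BT.leaf c7_141) (BT.leaf c7_142)) (BT.node 10943 (BT.leaf c7_143) (BT.leaf c7_144))) (BT.node 10946 (BT.node 10945 (BT.leaf c7_145) (BT.leaf c7_146)) (BT.leaf c7_147))) (BT.node 10951 (BT.node 10949 (BT.node 10948 (BT.leaf c7_148) (BT.leaf c7_149)) (BT.node 10950 (BT.leaf c7_150) (BT.leaf c7_151))) (BT.node 10953 (BT.node 10952 (BT.leaf c7_152) (BT.leaf c7_153)) (BT.leaf c7_154)))) (BT.node 10961 (BT.node 10958 (BT.node 10956 (BT.node 10955 (BT.leaf c7_155) (BT.leaf c7_156)) (BT.node 10957 (BT.leaf c7_157) (BT.leaf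 c7_158))) (BT.node 10960 (BT.node 10959 (BT.leaf c7_159) (BT.leaf c7_160)) (BT.leaf c7_161))) (BT.node 10965 (BT.node 10963 (BT.node 10962 (BT.leaf c7_162) (BT.leaf c7_163)) (BT.node 10964 (BT.leaf c7_164) (BT.leaf c7_165))) (BT.node 10967 (BT.node 10966 (BT.leaf c7_166) (BT.leaf c7_167)) (BT.leaf c7_168)))))) (BT.node 10996 (BT.node 10982 (BT.node 10975 (BT.node 10972 (BT.node 10970 (BT.node 10969 (BT.leaf c7_169) (BT.leaf c7_170)) (BT.node 10971 (BT.leaf c7_171) (BT.leaf c7_172))) (BT.node 10974 (BT.node 10973 (BT.leaf c7_173) (BT.leaf c7_174)) (BT.leaf c7_175))) (BT.node 10979 (BT.node 10977 (BT.node 10976 (BT.leaf c7_176) (BT.leaf c7_177)) (BT.node 10978 (BT.leaf c7_178) (BT.leaf c7_179))) (BT.node 10981 (BT.node 10980 (BT.leaf c7_180) (BT.leaf c7_181)) (BT.leaf c7_182)))) (BT.node 10989 (BT.node 10986 (BT.node 10984 (BT.node 10983 (BT.leaf c7_183) (BT.leaf c7_184)) (BT.node 10985 (BT.leaf c7_185)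 (BT.leaf c7_186))) (BT.node 10988 (BT.node 10987 (BT.leaf c7_187) (BT.leaf c7_188)) (BT.leaf c7_189))) (BT.node 10993 (BT.node 10991 (BT.node 10990 (BT.leaf c7_190) (BT.leaf c7_191)) (BT.node 10992 (BT.leaf c7_192) (BT.leaf c7_193))) (BT.node 10995 (BT.node 10994 (BT.leaf c7_194) (BT.leaf c7_195)) (BT.leaf c7_196))))) (BT.node 11010 (BT.node 11003 (BT.node 11000 (BT.node 10998 (BT.node 10997 (BT.leaf c7_197) (BT.leaf c7_198)) (BT.node 10999 (BT.leaf c7_199) (BT.leaf c7_200))) (BT.node 11002 (BT.node 11001 (BT.leaf c7_201) (BT.leaf c7_202)) (BT.leaf c7_203))) (BT.node 11007 (BT.node 11005 (BT.node 11004 (BT.leaf c7_204) (BT.leaf c7_205)) (BT.node 11006 (BT.leaf c7_206) (BT.leaf c7_207))) (BT.node 11009 (BT.node 11008 (BT.leaf c7_208) (BT.leaf c7_209)) (BT.leaf c7_210)))) (BT.node 11017 (BT.node 11014 (BT.node 11012 (BT.node 11011 (BT.leaf c7_211) (BT.leaf c7_212)) (BT.node 11013 (BT.leaf c7_213) (BT.leaf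 c7_214))) (BT.node 11016 (BT.node 11015 (BT.leaf c7_215) (BT.leaf c7_216)) (BT.leaf c7_217))) (BT.node 11021 (BT.node 11019 (BT.node 11018 (BT.leaf c7_218) (BT.leaf c7_219)) (BT.node 11020 (BT.leaf c7_220) (BT.leaf c7_221))) (BT.node 11023 (BT.node 11022 (BT.leaf c7_222) (BT.leaf c7_223)) (BT.leaf c7_224)))))))) (BT.node 11137 (BT.node 11081 (BT.node 11053 (BT.node 11039 (BT.node 11032 (BT.node 11028 (BT.node 11026 (BT.node 11025 (BT.leaf c7_225) (BT.leaf c7_226)) (BT.node 11027 (BT.leaf c7_227) (BT.leaf c7_228))) (BT.node 11030 (BT.node 11029 (BT.leaf c7_229) (BT.leaf c7_230)) (BT.node 11031 (BT.leaf c7_231) (BT.leaf c7_232)))) (BT.node 11036 (BT.node 11034 (BT.node 11033 (BT.leaf c7_233) (BT.leaf c7_234)) (BT.node 11035 (BT.leaf c7_235) (BT.leaf c7_236))) (BT.node 11038 (BT.node 11037 (BT.leaf c7_237) (BT.leaf c7_238)) (BT.leaf c7_239)))) (BT.node 11046 (BT.node 11043 (BT.node 11041 (BT.node 11040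 (BT.leaf c7_240) (BT.leaf c7_241)) (BT.node 11042 (BT.leaf c7_242) (BT.leaf c7_243))) (BT.node 11045 (BT.node 11044 (BT.leaf c7_244) (BT.leaf c7_245)) (BT.leaf c7_246))) (BT.node 11050 (BT.node 11048 (BT.node 11047 (BT.leaf c7_247) (BT.leaf c7_248)) (BT.node 11049 (BT.leaf c7_249) (BT.leaf c7_250))) (BT.node 11052 (BT.node 11051 (BT.leaf c7_251) (BT.leaf c7_252)) (BT.leaf c7_253))))) (BT.node 11067 (BT.node 11060 (BT.node 11057 (BT.node 11055 (BT.node 11054 (BT.leaf c7_254) (BT.leaf c7_255)) (BT.node 11056 (BT.leaf c7_256) (BT.leaf c7_257))) (BT.node 11059 (BT.node 11058 (BT.leaf c7_258) (BT.leaf c7_259)) (BT.leaf c7_260))) (BT.node 11064 (BT.node 11062 (BT.node 11061 (BT.leaf c7_261) (BT.leaf c7_262)) (BT.node 11063 (BT.leaf c7_263) (BT.leaf c7_264))) (BT.node 11066 (BT.node 11065 (BT.leaf c7_265) (BT.leaf c7_266)) (BT.leaf c7_267)))) (BT.node 11074 (BT.node 11071 (BT.node 11069 (BT.node 11068 (BT.leaf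 c7_268) (BT.leaf c7_269)) (BT.node 11070 (BT.leaf c7_270) (BT.leaf c7_271))) (BT.node 11073 (BT.node 11072 (BT.leaf c7_272) (BT.leaf c7_273)) (BT.leaf c7_274))) (BT.node 11078 (BT.node 11076 (BT.node 11075 (BT.leaf c7_275) (BT.leaf c7_276)) (BT.node 11077 (BT.leaf c7_277) (BT.leaf c7_278))) (BT.node 11080 (BT.node 11079 (BT.leaf c7_279) (BT.leaf c7_280)) (BT.leaf c7_281)))))) (BT.node 11109 (BT.node 11095 (BT.node 11088 (BT.node 11085 (BT.node 11083 (BT.node 11082 (BT.leaf c7_282) (BT.leaf c7_283)) (BT.node 11084 (BT.leaf c7_284) (BT.leaf c7_285))) (BT.node 11087 (BT.node 11086 (BT.leaf c7_286) (BT.leaf c7_287)) (BT.leaf c7_288))) (BT.node 11092 (BT.node 11090 (BT.node 11089 (BT.leaf c7_289) (BT.leaf c7_290)) (BT.node 11091 (BT.leaf c7_291) (BT.leaf c7_292))) (BT.node 11094 (BT.node 11093 (BT.leaf c7_293) (BT.leaf c7_294)) (BT.leaf c7_295)))) (BT.node 11102 (BT.node 11099 (BT.node 11097 (BT.node 11096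 (BT.leaf c7_296) (BT.leaf c7_297)) (BT.node 11098 (BT.leaf c7_298) (BT.leaf c7_299))) (BT.node 11101 (BT.node 11100 (BT.leaf c7_300) (BT.leaf c7_301)) (BT.leaf c7_302))) (BT.node 11106 (BT.node 11104 (BT.node 11103 (BT.leaf c7_303) (BT.leaf c7_304)) (BT.node 11105 (BT.leaf c7_305) (BT.leaf c7_306))) (BT.node 11108 (BT.node 11107 (BT.leaf c7_307) (BT.leaf c7_308)) (BT.leaf c7_309))))) (BT.node 11123 (BT.node 11116 (BT.node 11113 (BT.node 11111 (BT.node 11110 (BT.leaf c7_310) (BT.leaf c7_311)) (BT.node 11112 (BT.leaf c7_312) (BT.leaf c7_313))) (BT.node 11115 (BT.node 11114 (BT.leaf c7_314) (BT.leaf c7_315)) (BT.leaf c7_316))) (BT.node 11120 (BT.node 11118 (BT.node 11117 (BT.leaf c7_317) (BT.leaf c7_318)) (BT.node 11119 (BT.leaf c7_319) (BT.leaf c7_320))) (BT.node 11122 (BT.node 11121 (BT.leaf c7_321) (BT.leaf c7_322)) (BT.leaf c7_323)))) (BT.node 11130 (BT.node 11127 (BT.node 11125 (BT.node 11124 (BT.leaf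 c7_324) (BT.leaf c7_325)) (BT.node 11126 (BT.leaf c7_326) (BT.leaf c7_327))) (BT.node 11129 (BT.node 11128 (BT.leaf c7_328) (BT.leaf c7_329)) (BT.leaf c7_330))) (BT.node 11134 (BT.node 11132 (BT.node 11131 (BT.leaf c7_331) (BT.leaf c7_332)) (BT.node 11133 (BT.leaf c7_333) (BT.leaf c7_334))) (BT.node 11136 (BT.node 11135 (BT.leaf c7_335) (BT.leaf c7_336)) (BT.leaf c7_337))))))) (BT.node 11193 (BT.node 11165 (BT.node 11151 (BT.node 11144 (BT.node 11141 (BT.node 11139 (BT.node 11138 (BT.leaf c7_338) (BT.leaf c7_339)) (BT.node 11140 (BT.leaf c7_340) (BT.leaf c7_341))) (BT.node 11143 (BT.node 11142 (BT.leaf c7_342) (BT.leaf c7_343)) (BT.leaf c7_344))) (BT.node 11148 (BT.node 11146 (BT.node 11145 (BT.leaf c7_345) (BT.leaf c7_346)) (BT.node 11147 (BT.leaf c7_347) (BT.leaf c7_348))) (BT.node 11150 (BT.node 11149 (BT.leaf c7_349) (BT.leaf c7_350)) (BT.leaf c7_351)))) (BT.node 11158 (BT.node 11155 (BT.node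 11153 (BT.node 11152 (BT.leaf c7_352) (BT.leaf c7_353)) (BT.node 11154 (BT.leaf c7_354) (BT.leaf c7_355))) (BT.node 11157 (BT.node 11156 (BT.leaf c7_356) (BT.leaf c7_357)) (BT.leaf c7_358))) (BT.node 11162 (BT.node 11160 (BT.node 11159 (BT.leaf c7_359) (BT.leaf c7_360)) (BT.node 11161 (BT.leaf c7_361) (BT.leaf c7_362))) (BT.node 11164 (BT.node 11163 (BT.leaf c7_363) (BT.leaf c7_364)) (BT.leaf c7_365))))) (BT.node 11179 (BT.node 11172 (BT.node 11169 (BT.node 11167 (BT.node 11166 (BT.leaf c7_366) (BT.leaf c7_367)) (BT.node 11168 (BT.leaf c7_368) (BT.leaf c7_369))) (BT.node 11171 (BT.node 11170 (BT.leaf c7_370) (BT.leaf c7_371)) (BT.leaf c7_372))) (BT.node 11176 (BT.node 11174 (BT.node 11173 (BT.leaf c7_373) (BT.leaf c7_374)) (BT.node 11175 (BT.leaf c7_375) (BT.leaf c7_376))) (BT.node 11178 (BT.node 11177 (BT.leaf c7_377) (BT.leaf c7_378)) (BT.leaf c7_379)))) (BT.node 11186 (BT.node 11183 (BT.node 11181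 (BT.node 11180 (BT.leaf c7_380) (BT.leaf c7_381)) (BT.node 11182 (BT.leaf c7_382) (BT.leaf c7_383))) (BT.node 11185 (BT.node 11184 (BT.leaf c7_384) (BT.leaf c7_385)) (BT.leaf c7_386))) (BT.node 11190 (BT.node 11188 (BT.node 11187 (BT.leaf c7_387) (BT.leaf c7_388)) (BT.node 11189 (BT.leaf c7_389) (BT.leaf c7_390))) (BT.node 11192 (BT.node 11191 (BT.leaf c7_391) (BT.leaf c7_392)) (BT.leaf c7_393)))))) (BT.node 11221 (BT.node 11207 (BT.node 11200 (BT.node 11197 (BT.node 11195 (BT.node 11194 (BT.leaf c7_394) (BT.leaf c7_395)) (BT.node 11196 (BT.leaf c7_396) (BT.leaf c7_397))) (BT.node 11199 (BT.node 11198 (BT.leaf c7_398) (BT.leaf c7_399)) (BT.leaf c7_400))) (BT.node 11204 (BT.node 11202 (BT.node 11201 (BT.leaf c7_401) (BT.leaf c7_402)) (BT.node 11203 (BT.leaf c7_403) (BT.leaf c7_404))) (BT.node 11206 (BT.node 11205 (BT.leaf c7_405) (BT.leaf c7_406)) (BT.leaf c7_407)))) (BT.node 11214 (BT.node 11211 (BT.node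 11209 (BT.node 11208 (BT.leaf c7_408) (BT.leaf c7_409)) (BT.node 11210 (BT.leaf c7_410) (BT.leaf c7_411))) (BT.node 11213 (BT.node 11212 (BT.leaf c7_412) (BT.leaf c7_413)) (BT.leaf c7_414))) (BT.node 11218 (BT.node 11216 (BT.node 11215 (BT.leaf c7_415) (BT.leaf c7_416)) (BT.node 11217 (BT.leaf c7_417) (BT.leaf c7_418))) (BT.node 11220 (BT.node 11219 (BT.leaf c7_419) (BT.leaf c7_420)) (BT.leaf c7_421))))) (BT.node 11235 (BT.node 11228 (BT.node 11225 (BT.node 11223 (BT.node 11222 (BT.leaf c7_422) (BT.leaf c7_423)) (BT.node 11224 (BT.leaf c7_424) (BT.leaf c7_425))) (BT.node 11227 (BT.node 11226 (BT.leaf c7_426) (BT.leaf c7_427)) (BT.leaf c7_428))) (BT.node 11232 (BT.node 11230 (BT.node 11229 (BT.leaf c7_429) (BT.leaf c7_430)) (BT.node 11231 (BT.leaf c7_431) (BT.leaf c7_432))) (BT.node 11234 (BT.node 11233 (BT.leaf c7_433) (BT.leaf c7_434)) (BT.leaf c7_435)))) (BT.node 11242 (BT.node 11239 (BT.node 11237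 (BT.node 11236 (BT.leaf c7_436) (BT.leaf c7_437)) (BT.node 11238 (BT.leaf c7_438) (BT.leaf c7_439))) (BT.node 11241 (BT.node 11240 (BT.leaf c7_440) (BT.leaf c7_441)) (BT.leaf c7_442))) (BT.node 11246 (BT.node 11244 (BT.node 11243 (BT.leaf c7_443) (BT.leaf c7_444)) (BT.node 11245 (BT.leaf c7_445) (BT.leaf c7_446))) (BT.node 11248 (BT.node 11247 (BT.leaf c7_447) (BT.leaf c7_448)) (BT.leaf c7_449))))))))) (BT.node 11474 (BT.node 11362 (BT.node 11306 (BT.node 11278 (BT.node 11264 (BT.node 11257 (BT.node 11253 (BT.node 11251 (BT.node 11250 (BT.leaf c7_450) (BT.leaf c7_451)) (BT.node 11252 (BT.leaf c7_452) (BT.leaf c7_453))) (BT.node 11255 (BT.node 11254 (BT.leaf c7_454) (BT.leaf c7_455)) (BT.node 11256 (BT.leaf c7_456) (BT.leaf c7_457)))) (BT.node 11261 (BT.node 11259 (BT.node 11258 (BT.leaf c7_458) (BT.leaf c7_459)) (BT.node 11260 (BT.leaf c7_460) (BT.leaf c7_461))) (BT.node 11263 (BT.node 11262 (BT.leaf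 c7_462) (BT.leaf c7_463)) (BT.leaf c7_464)))) (BT.node 11271 (BT.node 11268 (BT.node 11266 (BT.node 11265 (BT.leaf c7_465) (BT.leaf c7_466)) (BT.node 11267 (BT.leaf c7_467) (BT.leaf c7_468))) (BT.node 11270 (BT.node 11269 (BT.leaf c7_469) (BT.leaf c7_470)) (BT.leaf c7_471))) (BT.node 11275 (BT.node 11273 (BT.node 11272 (BT.leaf c7_472) (BT.leaf c7_473)) (BT.node 11274 (BT.leaf c7_474) (BT.leaf c7_475))) (BT.node 11277 (BT.node 11276 (BT.leaf c7_476) (BT.leaf c7_477)) (BT.leaf c7_478))))) (BT.node 11292 (BT.node 11285 (BT.node 11282 (BT.node 11280 (BT.node 11279 (BT.leaf c7_479) (BT.leaf c7_480)) (BT.node 11281 (BT.leaf c7_481) (BT.leaf c7_482))) (BT.node 11284 (BT.node 11283 (BT.leaf c7_483) (BT.leaf c7_484)) (BT.leaf c7_485))) (BT.node 11289 (BT.node 11287 (BT.node 11286 (BT.leaf c7_486) (BT.leaf c7_487)) (BT.node 11288 (BT.leaf c7_488) (BT.leaf c7_489))) (BT.node 11291 (BT.node 11290 (BT.leaf c7_490)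 (BT.leaf c7_491)) (BT.leaf c7_492)))) (BT.node 11299 (BT.node 11296 (BT.node 11294 (BT.node 11293 (BT.leaf c7_493) (BT.leaf c7_494)) (BT.node 11295 (BT.leaf c7_495) (BT.leaf c7_496))) (BT.node 11298 (BT.node 11297 (BT.leaf c7_497) (BT.leaf c7_498)) (BT.leaf c7_499))) (BT.node 11303 (BT.node 11301 (BT.node 11300 (BT.leaf c7_500) (BT.leaf c7_501)) (BT.node 11302 (BT.leaf c7_502) (BT.leaf c7_503))) (BT.node 11305 (BT.node 11304 (BT.leaf c7_504) (BT.leaf c7_505)) (BT.leaf c7_506)))))) (BT.node 11334 (BT.node 11320 (BT.node 11313 (BT.node 11310 (BT.node 11308 (BT.node 11307 (BT.leaf c7_507) (BT.leaf c7_508)) (BT.node 11309 (BT.leaf c7_509) (BT.leaf c7_510))) (BT.node 11312 (BT.node 11311 (BT.leaf c7_511) (BT.leaf c7_512)) (BT.leaf c7_513))) (BT.node 11317 (BT.node 11315 (BT.node 11314 (BT.leaf c7_514) (BT.leaf c7_515)) (BT.node 11316 (BT.leaf c7_516) (BT.leaf c7_517))) (BT.node 11319 (BT.node 11318 (BT.leaf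 c7_518) (BT.leaf c7_519)) (BT.leaf c7_520)))) (BT.node 11327 (BT.node 11324 (BT.node 11322 (BT.node 11321 (BT.leaf c7_521) (BT.leaf c7_522)) (BT.node 11323 (BT.leaf c7_523) (BT.leaf c7_524))) (BT.node 11326 (BT.node 11325 (BT.leaf c7_525) (BT.leaf c7_526)) (BT.leaf c7_527))) (BT.node 11331 (BT.node 11329 (BT.node 11328 (BT.leaf c7_528) (BT.leaf c7_529)) (BT.node 11330 (BT.leaf c7_530) (BT.leaf c7_531))) (BT.node 11333 (BT.node 11332 (BT.leaf c7_532) (BT.leaf c7_533)) (BT.leaf c7_534))))) (BT.node 11348 (BT.node 11341 (BT.node 11338 (BT.node 11336 (BT.node 11335 (BT.leaf c7_535) (BT.leaf c7_536)) (BT.node 11337 (BT.leaf c7_537) (BT.leaf c7_538))) (BT.node 11340 (BT.node 11339 (BT.leaf c7_539) (BT.leaf c7_540)) (BT.leaf c7_541))) (BT.node 11345 (BT.node 11343 (BT.node 11342 (BT.leaf c7_542) (BT.leaf c7_543)) (BT.node 11344 (BT.leaf c7_544) (BT.leaf c7_545))) (BT.node 11347 (BT.node 11346 (BT.leaf c7_546)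 (BT.leaf c7_547)) (BT.leaf c7_548)))) (BT.node 11355 (BT.node 11352 (BT.node 11350 (BT.node 11349 (BT.leaf c7_549) (BT.leaf c7_550)) (BT.node 11351 (BT.leaf c7_551) (BT.leaf c7_552))) (BT.node 11354 (BT.node 11353 (BT.leaf c7_553) (BT.leaf c7_554)) (BT.leaf c7_555))) (BT.node 11359 (BT.node 11357 (BT.node 11356 (BT.leaf c7_556) (BT.leaf c7_557)) (BT.node 11358 (BT.leaf c7_558) (BT.leaf c7_559))) (BT.node 11361 (BT.node 11360 (BT.leaf c7_560) (BT.leaf c7_561)) (BT.leaf c7_562))))))) (BT.node 11418 (BT.node 11390 (BT.node 11376 (BT.node 11369 (BT.node 11366 (BT.node 11364 (BT.node 11363 (BT.leaf c7_563) (BT.leaf c7_564)) (BT.node 11365 (BT.leaf c7_565) (BT.leaf c7_566))) (BT.node 11368 (BT.node 11367 (BT.leaf c7_567) (BT.leaf c7_568)) (BT.leaf c7_569))) (BT.node 11373 (BT.node 11371 (BT.node 11370 (BT.leaf c7_570) (BT.leaf c7_571)) (BT.node 11372 (BT.leaf c7_572) (BT.leaf c7_573))) (BT.node 11375 (BT.node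 11374 (BT.leaf c7_574) (BT.leaf c7_575)) (BT.leaf c7_576)))) (BT.node 11383 (BT.node 11380 (BT.node 11378 (BT.node 11377 (BT.leaf c7_577) (BT.leaf c7_578)) (BT.node 11379 (BT.leaf c7_579) (BT.leaf c7_580))) (BT.node 11382 (BT.node 11381 (BT.leaf c7_581) (BT.leaf c7_582)) (BT.leaf c7_583))) (BT.node 11387 (BT.node 11385 (BT.node 11384 (BT.leaf c7_584) (BT.leaf c7_585)) (BT.node 11386 (BT.leaf c7_586) (BT.leaf c7_587))) (BT.node 11389 (BT.node 11388 (BT.leaf c7_588) (BT.leaf c7_589)) (BT.leaf c7_590))))) (BT.node 11404 (BT.node 11397 (BT.node 11394 (BT.node 11392 (BT.node 11391 (BT.leaf c7_591) (BT.leaf c7_592)) (BT.node 11393 (BT.leaf c7_593) (BT.leaf c7_594))) (BT.node 11396 (BT.node 11395 (BT.leaf c7_595) (BT.leaf c7_596)) (BT.leaf c7_597))) (BT.node 11401 (BT.node 11399 (BT.node 11398 (BT.leaf c7_598) (BT.leaf c7_599)) (BT.node 11400 (BT.leaf c7_600) (BT.leaf c7_601))) (BT.node 11403 (BT.node 11402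 (BT.leaf c7_602) (BT.leaf c7_603)) (BT.leaf c7_604)))) (BT.node 11411 (BT.node 11408 (BT.node 11406 (BT.node 11405 (BT.leaf c7_605) (BT.leaf c7_606)) (BT.node 11407 (BT.leaf c7_607) (BT.leaf c7_608))) (BT.node 11410 (BT.node 11409 (BT.leaf c7_609) (BT.leaf c7_610)) (BT.leaf c7_611))) (BT.node 11415 (BT.node 11413 (BT.node 11412 (BT.leaf c7_612) (BT.leaf c7_613)) (BT.node 11414 (BT.leaf c7_614) (BT.leaf c7_615))) (BT.node 11417 (BT.node 11416 (BT.leaf c7_616) (BT.leaf c7_617)) (BT.leaf c7_618)))))) (BT.node 11446 (BT.node 11432 (BT.node 11425 (BT.node 11422 (BT.node 11420 (BT.node 11419 (BT.leaf c7_619) (BT.leaf c7_620)) (BT.node 11421 (BT.leaf c7_621) (BT.leaf c7_622))) (BT.node 11424 (BT.node 11423 (BT.leaf c7_623) (BT.leaf c7_624)) (BT.leaf c7_625))) (BT.node 11429 (BT.node 11427 (BT.node 11426 (BT.leaf c7_626) (BT.leaf c7_627)) (BT.node 11428 (BT.leaf c7_628) (BT.leaf c7_629))) (BT.node 11431 (BT.node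 11430 (BT.leaf c7_630) (BT.leaf c7_631)) (BT.leaf c7_632)))) (BT.node 11439 (BT.node 11436 (BT.node 11434 (BT.node 11433 (BT.leaf c7_633) (BT.leaf c7_634)) (BT.node 11435 (BT.leaf c7_635) (BT.leaf c7_636))) (BT.node 11438 (BT.node 11437 (BT.leaf c7_637) (BT.leaf c7_638)) (BT.leaf c7_639))) (BT.node 11443 (BT.node 11441 (BT.node 11440 (BT.leaf c7_640) (BT.leaf c7_641)) (BT.node 11442 (BT.leaf c7_642) (BT.leaf c7_643))) (BT.node 11445 (BT.node 11444 (BT.leaf c7_644) (BT.leaf c7_645)) (BT.leaf c7_646))))) (BT.node 11460 (BT.node 11453 (BT.node 11450 (BT.node 11448 (BT.node 11447 (BT.leaf c7_647) (BT.leaf c7_648)) (BT.node 11449 (BT.leaf c7_649) (BT.leaf c7_650))) (BT.node 11452 (BT.node 11451 (BT.leaf c7_651) (BT.leaf c7_652)) (BT.leaf c7_653))) (BT.node 11457 (BT.node 11455 (BT.node 11454 (BT.leaf c7_654) (BT.leaf c7_655)) (BT.node 11456 (BT.leaf c7_656) (BT.leaf c7_657))) (BT.node 11459 (BT.node 11458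 (BT.leaf c7_658) (BT.leaf c7_659)) (BT.leaf c7_660)))) (BT.node 11467 (BT.node 11464 (BT.node 11462 (BT.node 11461 (BT.leaf c7_661) (BT.leaf c7_662)) (BT.node 11463 (BT.leaf c7_663) (BT.leaf c7_664))) (BT.node 11466 (BT.node 11465 (BT.leaf c7_665) (BT.leaf c7_666)) (BT.leaf c7_667))) (BT.node 11471 (BT.node 11469 (BT.node 11468 (BT.leaf c7_668) (BT.leaf c7_669)) (BT.node 11470 (BT.leaf c7_670) (BT.leaf c7_671))) (BT.node 11473 (BT.node 11472 (BT.leaf c7_672) (BT.leaf c7_673)) (BT.leaf c7_674)))))))) (BT.node 11587 (BT.node 11531 (BT.node 11503 (BT.node 11489 (BT.node 11482 (BT.node 11478 (BT.node 11476 (BT.node 11475 (BT.leaf c7_675) (BT.leaf c7_676)) (BT.node 11477 (BT.leaf c7_677) (BT.leaf c7_678))) (BT.node 11480 (BT.node 11479 (BT.leaf c7_679) (BT.leaf c7_680)) (BT.node 11481 (BT.leaf c7_681) (BT.leaf c7_682)))) (BT.node 11486 (BT.node 11484 (BT.node 11483 (BT.leaf c7_683) (BT.leaf c7_684)) (BT.node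 11485 (BT.leaf c7_685) (BT.leaf c7_686))) (BT.node 11488 (BT.node 11487 (BT.leaf c7_687) (BT.leaf c7_688)) (BT.leaf c7_689)))) (BT.node 11496 (BT.node 11493 (BT.node 11491 (BT.node 11490 (BT.leaf c7_690) (BT.leaf c7_691)) (BT.node 11492 (BT.leaf c7_692) (BT.leaf c7_693))) (BT.node 11495 (BT.node 11494 (BT.leaf c7_694) (BT.leaf c7_695)) (BT.leaf c7_696))) (BT.node 11500 (BT.node 11498 (BT.node 11497 (BT.leaf c7_697) (BT.leaf c7_698)) (BT.node 11499 (BT.leaf c7_699) (BT.leaf c7_700))) (BT.node 11502 (BT.node 11501 (BT.leaf c7_701) (BT.leaf c7_702)) (BT.leaf c7_703))))) (BT.node 11517 (BT.node 11510 (BT.node 11507 (BT.node 11505 (BT.node 11504 (BT.leaf c7_704) (BT.leaf c7_705)) (BT.node 11506 (BT.leaf c7_706) (BT.leaf c7_707))) (BT.node 11509 (BT.node 11508 (BT.leaf c7_708) (BT.leaf c7_709)) (BT.leaf c7_710))) (BT.node 11514 (BT.node 11512 (BT.node 11511 (BT.leaf c7_711) (BT.leaf c7_712)) (BT.node 11513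 (BT.leaf c7_713) (BT.leaf c7_714))) (BT.node 11516 (BT.node 11515 (BT.leaf c7_715) (BT.leaf c7_716)) (BT.leaf c7_717)))) (BT.node 11524 (BT.node 11521 (BT.node 11519 (BT.node 11518 (BT.leaf c7_718) (BT.leaf c7_719)) (BT.node 11520 (BT.leaf c7_720) (BT.leaf c7_721))) (BT.node 11523 (BT.node 11522 (BT.leaf c7_722) (BT.leaf c7_723)) (BT.leaf c7_724))) (BT.node 11528 (BT.node 11526 (BT.node 11525 (BT.leaf c7_725) (BT.leaf c7_726)) (BT.node 11527 (BT.leaf c7_727) (BT.leaf c7_728))) (BT.node 11530 (BT.node 11529 (BT.leaf c7_729) (BT.leaf c7_730)) (BT.leaf c7_731)))))) (BT.node 11559 (BT.node 11545 (BT.node 11538 (BT.node 11535 (BT.node 11533 (BT.node 11532 (BT.leaf c7_732) (BT.leaf c7_733)) (BT.node 11534 (BT.leaf c7_734) (BT.leaf c7_735))) (BT.node 11537 (BT.node 11536 (BT.leaf c7_736) (BT.leaf c7_737)) (BT.leaf c7_738))) (BT.node 11542 (BT.node 11540 (BT.node 11539 (BT.leaf c7_739) (BT.leaf c7_740)) (BT.node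 11541 (BT.leaf c7_741) (BT.leaf c7_742))) (BT.node 11544 (BT.node 11543 (BT.leaf c7_743) (BT.leaf c7_744)) (BT.leaf c7_745)))) (BT.node 11552 (BT.node 11549 (BT.node 11547 (BT.node 11546 (BT.leaf c7_746) (BT.leaf c7_747)) (BT.node 11548 (BT.leaf c7_748) (BT.leaf c7_749))) (BT.node 11551 (BT.node 11550 (BT.leaf c7_750) (BT.leaf c7_751)) (BT.leaf c7_752))) (BT.node 11556 (BT.node 11554 (BT.node 11553 (BT.leaf c7_753) (BT.leaf c7_754)) (BT.node 11555 (BT.leaf c7_755) (BT.leaf c7_756))) (BT.node 11558 (BT.node 11557 (BT.leaf c7_757) (BT.leaf c7_758)) (BT.leaf c7_759))))) (BT.node 11573 (BT.node 11566 (BT.node 11563 (BT.node 11561 (BT.node 11560 (BT.leaf c7_760) (BT.leaf c7_761)) (BT.node 11562 (BT.leaf c7_762) (BT.leaf c7_763))) (BT.node 11565 (BT.node 11564 (BT.leaf c7_764) (BT.leaf c7_765)) (BT.leaf c7_766))) (BT.node 11570 (BT.node 11568 (BT.node 11567 (BT.leaf c7_767) (BT.leaf c7_768)) (BT.node 11569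 (BT.leaf c7_769) (BT.leaf c7_770))) (BT.node 11572 (BT.node 11571 (BT.leaf c7_771) (BT.leaf c7_772)) (BT.leaf c7_773)))) (BT.node 11580 (BT.node 11577 (BT.node 11575 (BT.node 11574 (BT.leaf c7_774) (BT.leaf c7_775)) (BT.node 11576 (BT.leaf c7_776) (BT.leaf c7_777))) (BT.node 11579 (BT.node 11578 (BT.leaf c7_778) (BT.leaf c7_779)) (BT.leaf c7_780))) (BT.node 11584 (BT.node 11582 (BT.node 11581 (BT.leaf c7_781) (BT.leaf c7_782)) (BT.node 11583 (BT.leaf c7_783) (BT.leaf c7_784))) (BT.node 11586 (BT.node 11585 (BT.leaf c7_785) (BT.leaf c7_786)) (BT.leaf c7_787))))))) (BT.node 11643 (BT.node 11615 (BT.node 11601 (BT.node 11594 (BT.node 11591 (BT.node 11589 (BT.node 11588 (BT.leaf c7_788) (BT.leaf c7_789)) (BT.node 11590 (BT.leaf c7_790) (BT.leaf c7_791))) (BT.node 11593 (BT.node 11592 (BT.leaf c7_792) (BT.leaf c7_793)) (BT.leaf c7_794))) (BT.node 11598 (BT.node 11596 (BT.node 11595 (BT.leaf c7_795) (BT.leaf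 c7_796)) (BT.node 11597 (BT.leaf c7_797) (BT.leaf c7_798))) (BT.node 11600 (BT.node 11599 (BT.leaf c7_799) (BT.leaf c7_800)) (BT.leaf c7_801)))) (BT.node 11608 (BT.node 11605 (BT.node 11603 (BT.node 11602 (BT.leaf c7_802) (BT.leaf c7_803)) (BT.node 11604 (BT.leaf c7_804) (BT.leaf c7_805))) (BT.node 11607 (BT.node 11606 (BT.leaf c7_806) (BT.leaf c7_807)) (BT.leaf c7_808))) (BT.node 11612 (BT.node 11610 (BT.node 11609 (BT.leaf c7_809) (BT.leaf c7_810)) (BT.node 11611 (BT.leaf c7_811) (BT.leaf c7_812))) (BT.node 11614 (BT.node 11613 (BT.leaf c7_813) (BT.leaf c7_814)) (BT.leaf c7_815))))) (BT.node 11629 (BT.node 11622 (BT.node 11619 (BT.node 11617 (BT.node 11616 (BT.leaf c7_816) (BT.leaf c7_817)) (BT.node 11618 (BT.leaf c7_818) (BT.leaf c7_819))) (BT.node 11621 (BT.node 11620 (BT.leaf c7_820) (BT.leaf c7_821)) (BT.leaf c7_822))) (BT.node 11626 (BT.node 11624 (BT.node 11623 (BT.leaf c7_823) (BT.leaf c7_824))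 (BT.node 11625 (BT.leaf c7_825) (BT.leaf c7_826))) (BT.node 11628 (BT.node 11627 (BT.leaf c7_827) (BT.leaf c7_828)) (BT.leaf c7_829)))) (BT.node 11636 (BT.node 11633 (BT.node 11631 (BT.node 11630 (BT.leaf c7_830) (BT.leaf c7_831)) (BT.node 11632 (BT.leaf c7_832) (BT.leaf c7_833))) (BT.node 11635 (BT.node 11634 (BT.leaf c7_834) (BT.leaf c7_835)) (BT.leaf c7_836))) (BT.node 11640 (BT.node 11638 (BT.node 11637 (BT.leaf c7_837) (BT.leaf c7_838)) (BT.node 11639 (BT.leaf c7_839) (BT.leaf c7_840))) (BT.node 11642 (BT.node 11641 (BT.leaf c7_841) (BT.leaf c7_842)) (BT.leaf c7_843)))))) (BT.node 11671 (BT.node 11657 (BT.node 11650 (BT.node 11647 (BT.node 11645 (BT.node 11644 (BT.leaf c7_844) (BT.leaf c7_845)) (BT.node 11646 (BT.leaf c7_846) (BT.leaf c7_847))) (BT.node 11649 (BT.node 11648 (BT.leaf c7_848) (BT.leaf c7_849)) (BT.leaf c7_850))) (BT.node 11654 (BT.node 11652 (BT.node 11651 (BT.leaf c7_851) (BT.leaf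 c7_852)) (BT.node 11653 (BT.leaf c7_853) (BT.leaf c7_854))) (BT.node 11656 (BT.node 11655 (BT.leaf c7_855) (BT.leaf c7_856)) (BT.leaf c7_857)))) (BT.node 11664 (BT.node 11661 (BT.node 11659 (BT.node 11658 (BT.leaf c7_858) (BT.leaf c7_859)) (BT.node 11660 (BT.leaf c7_860) (BT.leaf c7_861))) (BT.node 11663 (BT.node 11662 (BT.leaf c7_862) (BT.leaf c7_863)) (BT.leaf c7_864))) (BT.node 11668 (BT.node 11666 (BT.node 11665 (BT.leaf c7_865) (BT.leaf c7_866)) (BT.node 11667 (BT.leaf c7_867) (BT.leaf c7_868))) (BT.node 11670 (BT.node 11669 (BT.leaf c7_869) (BT.leaf c7_870)) (BT.leaf c7_871))))) (BT.node 11685 (BT.node 11678 (BT.node 11675 (BT.node 11673 (BT.node 11672 (BT.leaf c7_872) (BT.leaf c7_873)) (BT.node 11674 (BT.leaf c7_874) (BT.leaf c7_875))) (BT.node 11677 (BT.node 11676 (BT.leaf c7_876) (BT.leaf c7_877)) (BT.leaf c7_878))) (BT.node 11682 (BT.node 11680 (BT.node 11679 (BT.leaf c7_879) (BT.leaf c7_880))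 (BT.node 11681 (BT.leaf c7_881) (BT.leaf c7_882))) (BT.node 11684 (BT.node 11683 (BT.leaf c7_883) (BT.leaf c7_884)) (BT.leaf c7_885)))) (BT.node 11692 (BT.node 11689 (BT.node 11687 (BT.node 11686 (BT.leaf c7_886) (BT.leaf c7_887)) (BT.node 11688 (BT.leaf c7_888) (BT.leaf c7_889))) (BT.node 11691 (BT.node 11690 (BT.leaf c7_890) (BT.leaf c7_891)) (BT.leaf c7_892))) (BT.node 11696 (BT.node 11694 (BT.node 11693 (BT.leaf c7_893) (BT.leaf c7_894)) (BT.node 11695 (BT.leaf c7_895) (BT.leaf c7_896))) (BT.node 11698 (BT.node 11697 (BT.leaf c7_897) (BT.leaf c7_898)) (BT.leaf c7_899))))))))))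
/-- the chunks of the letter 13 -/
def colL_13 : BT ℕ := (BT.node 12149 (BT.node 11924 (BT.node 11812 (BT.node 11756 (BT.node 11728 (BT.node 11714 (BT.node 11707 (BT.node 11703 (BT.node 11701 (BT.node 11700 (BT.leaf c7_0) (BT.leaf c7_1)) (BT.node 11702 (BT.leaf c7_2) (BT.leaf c7_3))) (BT.node 11705 (BT.node 11704 (BT.leaf c7_4) (BT.leaf c7_5)) (BT.node 11706 (BT.leaf c7_6) (BT.leaf c7_7)))) (BT.node 11711 (BT.node 11709 (BT.node 11708 (BT.leaf c7_8) (BT.leaf c7_9)) (BT.node 11710 (BT.leaf c7_10) (BT.leaf c7_11))) (BT.node 11713 (BT.node 11712 (BT.leaf c7_12) (BT.leaf c7_13)) (BT.leaf c7_14)))) (BT.node 11721 (BT.node 11718 (BT.node 11716 (BT.node 11715 (BT.leaf c7_15) (BT.leaf c7_16)) (BT.node 11717 (BT.leaf c7_17) (BT.leaf c7_18))) (BT.node 11720 (BT.node 11719 (BT.leaf c7_19) (BT.leaf c7_20)) (BT.leaf c7_21))) (BT.node 11725 (BT.node 11723 (BT.node 11722 (BT.leaf c7_22) (BT.leaf c7_23)) (BT.node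 11724 (BT.leaf c7_24) (BT.leaf c7_25))) (BT.node 11727 (BT.node 11726 (BT.leaf c7_26) (BT.leaf c7_27)) (BT.leaf c7_28))))) (BT.node 11742 (BT.node 11735 (BT.node 11732 (BT.node 11730 (BT.node 11729 (BT.leaf c7_29) (BT.leaf c7_30)) (BT.node 11731 (BT.leaf c7_31) (BT.leaf c7_32))) (BT.node 11734 (BT.node 11733 (BT.leaf c7_33) (BT.leaf c7_34)) (BT.leaf c7_35))) (BT.node 11739 (BT.node 11737 (BT.node 11736 (BT.leaf c7_36) (BT.leaf c7_37)) (BT.node 11738 (BT.leaf c7_38) (BT.leaf c7_39))) (BT.node 11741 (BT.node 11740 (BT.leaf c7_40) (BT.leaf c7_41)) (BT.leaf c7_42)))) (BT.node 11749 (BT.node 11746 (BT.node 11744 (BT.node 11743 (BT.leaf c7_43) (BT.leaf c7_44)) (BT.node 11745 (BT.leaf c7_45) (BT.leaf c7_46))) (BT.node 11748 (BT.node 11747 (BT.leaf c7_47) (BT.leaf c7_48)) (BT.leaf c7_49))) (BT.node 11753 (BT.node 11751 (BT.node 11750 (BT.leaf c7_50) (BT.leaf c7_51)) (BT.node 11752 (BT.leaf c7_52) (BT.leaf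 c7_53))) (BT.node 11755 (BT.node 11754 (BT.leaf c7_54) (BT.leaf c7_55)) (BT.leaf c7_56)))))) (BT.node 11784 (BT.node 11770 (BT.node 11763 (BT.node 11760 (BT.node 11758 (BT.node 11757 (BT.leaf c7_57) (BT.leaf c7_58)) (BT.node 11759 (BT.leaf c7_59) (BT.leaf c7_60))) (BT.node 11762 (BT.node 11761 (BT.leaf c7_61) (BT.leaf c7_62)) (BT.leaf c7_63))) (BT.node 11767 (BT.node 11765 (BT.node 11764 (BT.leaf c7_64) (BT.leaf c7_65)) (BT.node 11766 (BT.leaf c7_66) (BT.leaf c7_67))) (BT.node 11769 (BT.node 11768 (BT.leaf c7_68) (BT.leaf c7_69)) (BT.leaf c7_70)))) (BT.node 11777 (BT.node 11774 (BT.node 11772 (BT.node 11771 (BT.leaf c7_71) (BT.leaf c7_72)) (BT.node 11773 (BT.leaf c7_73) (BT.leaf c7_74))) (BT.node 11776 (BT.node 11775 (BT.leaf c7_75) (BT.leaf c7_76)) (BT.leaf c7_77))) (BT.node 11781 (BT.node 11779 (BT.node 11778 (BT.leaf c7_78) (BT.leaf c7_79)) (BT.node 11780 (BT.leaf c7_80) (BT.leaf c7_81))) (BT.node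 11783 (BT.node 11782 (BT.leaf c7_82) (BT.leaf c7_83)) (BT.leaf c7_84))))) (BT.node 11798 (BT.node 11791 (BT.node 11788 (BT.node 11786 (BT.node 11785 (BT.leaf c7_85) (BT.leaf c7_86)) (BT.node 11787 (BT.leaf c7_87) (BT.leaf c7_88))) (BT.node 11790 (BT.node 11789 (BT.leaf c7_89) (BT.leaf c7_90)) (BT.leaf c7_91))) (BT.node 11795 (BT.node 11793 (BT.node 11792 (BT.leaf c7_92) (BT.leaf c7_93)) (BT.node 11794 (BT.leaf c7_94) (BT.leaf c7_95))) (BT.node 11797 (BT.node 11796 (BT.leaf c7_96) (BT.leaf c7_97)) (BT.leaf c7_98)))) (BT.node 11805 (BT.node 11802 (BT.node 11800 (BT.node 11799 (BT.leaf c7_99) (BT.leaf c7_100)) (BT.node 11801 (BT.leaf c7_101) (BT.leaf c7_102))) (BT.node 11804 (BT.node 11803 (BT.leaf c7_103) (BT.leaf c7_104)) (BT.leaf c7_105))) (BT.node 11809 (BT.node 11807 (BT.node 11806 (BT.leaf c7_106) (BT.leaf c7_107)) (BT.node 11808 (BT.leaf c7_108) (BT.leaf c7_109))) (BT.node 11811 (BT.node 11810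 (BT.leaf c7_110) (BT.leaf c7_111)) (BT.leaf c7_112))))))) (BT.node 11868 (BT.node 11840 (BT.node 11826 (BT.node 11819 (BT.node 11816 (BT.node 11814 (BT.node 11813 (BT.leaf c7_113) (BT.leaf c7_114)) (BT.node 11815 (BT.leaf c7_115) (BT.leaf c7_116))) (BT.node 11818 (BT.node 11817 (BT.leaf c7_117) (BT.leaf c7_118)) (BT.leaf c7_119))) (BT.node 11823 (BT.node 11821 (BT.node 11820 (BT.leaf c7_120) (BT.leaf c7_121)) (BT.node 11822 (BT.leaf c7_122) (BT.leaf c7_123))) (BT.node 11825 (BT.node 11824 (BT.leaf c7_124) (BT.leaf c7_125)) (BT.leaf c7_126)))) (BT.node 11833 (BT.node 11830 (BT.node 11828 (BT.node 11827 (BT.leaf c7_127) (BT.leaf c7_128)) (BT.node 11829 (BT.leaf c7_129) (BT.leaf c7_130))) (BT.node 11832 (BT.node 11831 (BT.leaf c7_131) (BT.leaf c7_132)) (BT.leaf c7_133))) (BT.node 11837 (BT.node 11835 (BT.node 11834 (BT.leaf c7_134) (BT.leaf c7_135)) (BT.node 11836 (BT.leaf c7_136) (BT.leaf c7_137)))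 (BT.node 11839 (BT.node 11838 (BT.leaf c7_138) (BT.leaf c7_139)) (BT.leaf c7_140))))) (BT.node 11854 (BT.node 11847 (BT.node 11844 (BT.node 11842 (BT.node 11841 (BT.leaf c7_141) (BT.leaf c7_142)) (BT.node 11843 (BT.leaf c7_143) (BT.leaf c7_144))) (BT.node 11846 (BT.node 11845 (BT.leaf c7_145) (BT.leaf c7_146)) (BT.leaf c7_147))) (BT.node 11851 (BT.node 11849 (BT.node 11848 (BT.leaf c7_148) (BT.leaf c7_149)) (BT.node 11850 (BT.leaf c7_150) (BT.leaf c7_151))) (BT.node 11853 (BT.node 11852 (BT.leaf c7_152) (BT.leaf c7_153)) (BT.leaf c7_154)))) (BT.node 11861 (BT.node 11858 (BT.node 11856 (BT.node 11855 (BT.leaf c7_155) (BT.leaf c7_156)) (BT.node 11857 (BT.leaf c7_157) (BT.leaf c7_158))) (BT.node 11860 (BT.node 11859 (BT.leaf c7_159) (BT.leaf c7_160)) (BT.leaf c7_161))) (BT.node 11865 (BT.node 11863 (BT.node 11862 (BT.leaf c7_162) (BT.leaf c7_163)) (BT.node 11864 (BT.leaf c7_164) (BT.leaf c7_165))) (BT.node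 11867 (BT.node 11866 (BT.leaf c7_166) (BT.leaf c7_167)) (BT.leaf c7_168)))))) (BT.node 11896 (BT.node 11882 (BT.node 11875 (BT.node 11872 (BT.node 11870 (BT.node 11869 (BT.leaf c7_169) (BT.leaf c7_170)) (BT.node 11871 (BT.leaf c7_171) (BT.leaf c7_172))) (BT.node 11874 (BT.node 11873 (BT.leaf c7_173) (BT.leaf c7_174)) (BT.leaf c7_175))) (BT.node 11879 (BT.node 11877 (BT.node 11876 (BT.leaf c7_176) (BT.leaf c7_177)) (BT.node 11878 (BT.leaf c7_178) (BT.leaf c7_179))) (BT.node 11881 (BT.node 11880 (BT.leaf c7_180) (BT.leaf c7_181)) (BT.leaf c7_182)))) (BT.node 11889 (BT.node 11886 (BT.node 11884 (BT.node 11883 (BT.leaf c7_183) (BT.leaf c7_184)) (BT.node 11885 (BT.leaf c7_185) (BT.leaf c7_186))) (BT.node 11888 (BT.node 11887 (BT.leaf c7_187) (BT.leaf c7_188)) (BT.leaf c7_189))) (BT.node 11893 (BT.node 11891 (BT.node 11890 (BT.leaf c7_190) (BT.leaf c7_191)) (BT.node 11892 (BT.leaf c7_192) (BT.leaf c7_193)))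 (BT.node 11895 (BT.node 11894 (BT.leaf c7_194) (BT.leaf c7_195)) (BT.leaf c7_196))))) (BT.node 11910 (BT.node 11903 (BT.node 11900 (BT.node 11898 (BT.node 11897 (BT.leaf c7_197) (BT.leaf c7_198)) (BT.node 11899 (BT.leaf c7_199) (BT.leaf c7_200))) (BT.node 11902 (BT.node 11901 (BT.leaf c7_201) (BT.leaf c7_202)) (BT.leaf c7_203))) (BT.node 11907 (BT.node 11905 (BT.node 11904 (BT.leaf c7_204) (BT.leaf c7_205)) (BT.node 11906 (BT.leaf c7_206) (BT.leaf c7_207))) (BT.node 11909 (BT.node 11908 (BT.leaf c7_208) (BT.leaf c7_209)) (BT.leaf c7_210)))) (BT.node 11917 (BT.node 11914 (BT.node 11912 (BT.node 11911 (BT.leaf c7_211) (BT.leaf c7_212)) (BT.node 11913 (BT.leaf c7_213) (BT.leaf c7_214))) (BT.node 11916 (BT.node 11915 (BT.leaf c7_215) (BT.leaf c7_216)) (BT.leaf c7_217))) (BT.node 11921 (BT.node 11919 (BT.node 11918 (BT.leaf c7_218) (BT.leaf c7_219)) (BT.node 11920 (BT.leaf c7_220) (BT.leaf c7_221))) (BT.node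 11923 (BT.node 11922 (BT.leaf c7_222) (BT.leaf c7_223)) (BT.leaf c7_224)))))))) (BT.node 12037 (BT.node 11981 (BT.node 11953 (BT.node 11939 (BT.node 11932 (BT.node 11928 (BT.node 11926 (BT.node 11925 (BT.leaf c7_225) (BT.leaf c7_226)) (BT.node 11927 (BT.leaf c7_227) (BT.leaf c7_228))) (BT.node 11930 (BT.node 11929 (BT.leaf c7_229) (BT.leaf c7_230)) (BT.node 11931 (BT.leaf c7_231) (BT.leaf c7_232)))) (BT.node 11936 (BT.node 11934 (BT.node 11933 (BT.leaf c7_233) (BT.leaf c7_234)) (BT.node 11935 (BT.leaf c7_235) (BT.leaf c7_236))) (BT.node 11938 (BT.node 11937 (BT.leaf c7_237) (BT.leaf c7_238)) (BT.leaf c7_239)))) (BT.node 11946 (BT.node 11943 (BT.node 11941 (BT.node 11940 (BT.leaf c7_240) (BT.leaf c7_241)) (BT.node 11942 (BT.leaf c7_242) (BT.leaf c7_243))) (BT.node 11945 (BT.node 11944 (BT.leaf c7_244) (BT.leaf c7_245)) (BT.leaf c7_246))) (BT.node 11950 (BT.node 11948 (BT.node 11947 (BT.leaf c7_247)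 (BT.leaf c7_248)) (BT.node 11949 (BT.leaf c7_249) (BT.leaf c7_250))) (BT.node 11952 (BT.node 11951 (BT.leaf c7_251) (BT.leaf c7_252)) (BT.leaf c7_253))))) (BT.node 11967 (BT.node 11960 (BT.node 11957 (BT.node 11955 (BT.node 11954 (BT.leaf c7_254) (BT.leaf c7_255)) (BT.node 11956 (BT.leaf c7_256) (BT.leaf c7_257))) (BT.node 11959 (BT.node 11958 (BT.leaf c7_258) (BT.leaf c7_259)) (BT.leaf c7_260))) (BT.node 11964 (BT.node 11962 (BT.node 11961 (BT.leaf c7_261) (BT.leaf c7_262)) (BT.node 11963 (BT.leaf c7_263) (BT.leaf c7_264))) (BT.node 11966 (BT.node 11965 (BT.leaf c7_265) (BT.leaf c7_266)) (BT.leaf c7_267)))) (BT.node 11974 (BT.node 11971 (BT.node 11969 (BT.node 11968 (BT.leaf c7_268) (BT.leaf c7_269)) (BT.node 11970 (BT.leaf c7_270) (BT.leaf c7_271))) (BT.node 11973 (BT.node 11972 (BT.leaf c7_272) (BT.leaf c7_273)) (BT.leaf c7_274))) (BT.node 11978 (BT.node 11976 (BT.node 11975 (BT.leaf c7_275) (BT.leaf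 c7_276)) (BT.node 11977 (BT.leaf c7_277) (BT.leaf c7_278))) (BT.node 11980 (BT.node 11979 (BT.leaf c7_279) (BT.leaf c7_280)) (BT.leaf c7_281)))))) (BT.node 12009 (BT.node 11995 (BT.node 11988 (BT.node 11985 (BT.node 11983 (BT.node 11982 (BT.leaf c7_282) (BT.leaf c7_283)) (BT.node 11984 (BT.leaf c7_284) (BT.leaf c7_285))) (BT.node 11987 (BT.node 11986 (BT.leaf c7_286) (BT.leaf c7_287)) (BT.leaf c7_288))) (BT.node 11992 (BT.node 11990 (BT.node 11989 (BT.leaf c7_289) (BT.leaf c7_290)) (BT.node 11991 (BT.leaf c7_291) (BT.leaf c7_292))) (BT.node 11994 (BT.node 11993 (BT.leaf c7_293) (BT.leaf c7_294)) (BT.leaf c7_295)))) (BT.node 12002 (BT.node 11999 (BT.node 11997 (BT.node 11996 (BT.leaf c7_296) (BT.leaf c7_297)) (BT.node 11998 (BT.leaf c7_298) (BT.leaf c7_299))) (BT.node 12001 (BT.node 12000 (BT.leaf c7_300) (BT.leaf c7_301)) (BT.leaf c7_302))) (BT.node 12006 (BT.node 12004 (BT.node 12003 (BT.leaf c7_303)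 (BT.leaf c7_304)) (BT.node 12005 (BT.leaf c7_305) (BT.leaf c7_306))) (BT.node 12008 (BT.node 12007 (BT.leaf c7_307) (BT.leaf c7_308)) (BT.leaf c7_309))))) (BT.node 12023 (BT.node 12016 (BT.node 12013 (BT.node 12011 (BT.node 12010 (BT.leaf c7_310) (BT.leaf c7_311)) (BT.node 12012 (BT.leaf c7_312) (BT.leaf c7_313))) (BT.node 12015 (BT.node 12014 (BT.leaf c7_314) (BT.leaf c7_315)) (BT.leaf c7_316))) (BT.node 12020 (BT.node 12018 (BT.node 12017 (BT.leaf c7_317) (BT.leaf c7_318)) (BT.node 12019 (BT.leaf c7_319) (BT.leaf c7_320))) (BT.node 12022 (BT.node 12021 (BT.leaf c7_321) (BT.leaf c7_322)) (BT.leaf c7_323)))) (BT.node 12030 (BT.node 12027 (BT.node 12025 (BT.node 12024 (BT.leaf c7_324) (BT.leaf c7_325)) (BT.node 12026 (BT.leaf c7_326) (BT.leaf c7_327))) (BT.node 12029 (BT.node 12028 (BT.leaf c7_328) (BT.leaf c7_329)) (BT.leaf c7_330))) (BT.node 12034 (BT.node 12032 (BT.node 12031 (BT.leaf c7_331) (BT.leaf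 c7_332)) (BT.node 12033 (BT.leaf c7_333) (BT.leaf c7_334))) (BT.node 12036 (BT.node 12035 (BT.leaf c7_335) (BT.leaf c7_336)) (BT.leaf c7_337))))))) (BT.node 12093 (BT.node 12065 (BT.node 12051 (BT.node 12044 (BT.node 12041 (BT.node 12039 (BT.node 12038 (BT.leaf c7_338) (BT.leaf c7_339)) (BT.node 12040 (BT.leaf c7_340) (BT.leaf c7_341))) (BT.node 12043 (BT.node 12042 (BT.leaf c7_342) (BT.leaf c7_343)) (BT.leaf c7_344))) (BT.node 12048 (BT.node 12046 (BT.node 12045 (BT.leaf c7_345) (BT.leaf c7_346)) (BT.node 12047 (BT.leaf c7_347) (BT.leaf c7_348))) (BT.node 12050 (BT.node 12049 (BT.leaf c7_349) (BT.leaf c7_350)) (BT.leaf c7_351)))) (BT.node 12058 (BT.node 12055 (BT.node 12053 (BT.node 12052 (BT.leaf c7_352) (BT.leaf c7_353)) (BT.node 12054 (BT.leaf c7_354) (BT.leaf c7_355))) (BT.node 12057 (BT.node 12056 (BT.leaf c7_356) (BT.leaf c7_357)) (BT.leaf c7_358))) (BT.node 12062 (BT.node 12060 (BT.node 12059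 (BT.leaf c7_359) (BT.leaf c7_360)) (BT.node 12061 (BT.leaf c7_361) (BT.leaf c7_362))) (BT.node 12064 (BT.node 12063 (BT.leaf c7_363) (BT.leaf c7_364)) (BT.leaf c7_365))))) (BT.node 12079 (BT.node 12072 (BT.node 12069 (BT.node 12067 (BT.node 12066 (BT.leaf c7_366) (BT.leaf c7_367)) (BT.node 12068 (BT.leaf c7_368) (BT.leaf c7_369))) (BT.node 12071 (BT.node 12070 (BT.leaf c7_370) (BT.leaf c7_371)) (BT.leaf c7_372))) (BT.node 12076 (BT.node 12074 (BT.node 12073 (BT.leaf c7_373) (BT.leaf c7_374)) (BT.node 12075 (BT.leaf c7_375) (BT.leaf c7_376))) (BT.node 12078 (BT.node 12077 (BT.leaf c7_377) (BT.leaf c7_378)) (BT.leaf c7_379)))) (BT.node 12086 (BT.node 12083 (BT.node 12081 (BT.node 12080 (BT.leaf c7_380) (BT.leaf c7_381)) (BT.node 12082 (BT.leaf c7_382) (BT.leaf c7_383))) (BT.node 12085 (BT.node 12084 (BT.leaf c7_384) (BT.leaf c7_385)) (BT.leaf c7_386))) (BT.node 12090 (BT.node 12088 (BT.node 12087 (BT.leaf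 c7_387) (BT.leaf c7_388)) (BT.node 12089 (BT.leaf c7_389) (BT.leaf c7_390))) (BT.node 12092 (BT.node 12091 (BT.leaf c7_391) (BT.leaf c7_392)) (BT.leaf c7_393)))))) (BT.node 12121 (BT.node 12107 (BT.node 12100 (BT.node 12097 (BT.node 12095 (BT.node 12094 (BT.leaf c7_394) (BT.leaf c7_395)) (BT.node 12096 (BT.leaf c7_396) (BT.leaf c7_397))) (BT.node 12099 (BT.node 12098 (BT.leaf c7_398) (BT.leaf c7_399)) (BT.leaf c7_400))) (BT.node 12104 (BT.node 12102 (BT.node 12101 (BT.leaf c7_401) (BT.leaf c7_402)) (BT.node 12103 (BT.leaf c7_403) (BT.leaf c7_404))) (BT.node 12106 (BT.node 12105 (BT.leaf c7_405) (BT.leaf c7_406)) (BT.leaf c7_407)))) (BT.node 12114 (BT.node 12111 (BT.node 12109 (BT.node 12108 (BT.leaf c7_408) (BT.leaf c7_409)) (BT.node 12110 (BT.leaf c7_410) (BT.leaf c7_411))) (BT.node 12113 (BT.node 12112 (BT.leaf c7_412) (BT.leaf c7_413)) (BT.leaf c7_414))) (BT.node 12118 (BT.node 12116 (BT.node 12115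 (BT.leaf c7_415) (BT.leaf c7_416)) (BT.node 12117 (BT.leaf c7_417) (BT.leaf c7_418))) (BT.node 12120 (BT.node 12119 (BT.leaf c7_419) (BT.leaf c7_420)) (BT.leaf c7_421))))) (BT.node 12135 (BT.node 12128 (BT.node 12125 (BT.node 12123 (BT.node 12122 (BT.leaf c7_422) (BT.leaf c7_423)) (BT.node 12124 (BT.leaf c7_424) (BT.leaf c7_425))) (BT.node 12127 (BT.node 12126 (BT.leaf c7_426) (BT.leaf c7_427)) (BT.leaf c7_428))) (BT.node 12132 (BT.node 12130 (BT.node 12129 (BT.leaf c7_429) (BT.leaf c7_430)) (BT.node 12131 (BT.leaf c7_431) (BT.leaf c7_432))) (BT.node 12134 (BT.node 12133 (BT.leaf c7_433) (BT.leaf c7_434)) (BT.leaf c7_435)))) (BT.node 12142 (BT.node 12139 (BT.node 12137 (BT.node 12136 (BT.leaf c7_436) (BT.leaf c7_437)) (BT.node 12138 (BT.leaf c7_438) (BT.leaf c7_439))) (BT.node 12141 (BT.node 12140 (BT.leaf c7_440) (BT.leaf c7_441)) (BT.leaf c7_442))) (BT.node 12146 (BT.node 12144 (BT.node 12143 (BT.leaf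 c7_443) (BT.leaf c7_444)) (BT.node 12145 (BT.leaf c7_445) (BT.leaf c7_446))) (BT.node 12148 (BT.node 12147 (BT.leaf c7_447) (BT.leaf c7_448)) (BT.leaf c7_449))))))))) (BT.node 12374 (BT.node 12262 (BT.node 12206 (BT.node 12178 (BT.node 12164 (BT.node 12157 (BT.node 12153 (BT.node 12151 (BT.node 12150 (BT.leaf c7_450) (BT.leaf c7_451)) (BT.node 12152 (BT.leaf c7_452) (BT.leaf c7_453))) (BT.node 12155 (BT.node 12154 (BT.leaf c7_454) (BT.leaf c7_455)) (BT.node 12156 (BT.leaf c7_456) (BT.leaf c7_457)))) (BT.node 12161 (BT.node 12159 (BT.node 12158 (BT.leaf c7_458) (BT.leaf c7_459)) (BT.node 12160 (BT.leaf c7_460) (BT.leaf c7_461))) (BT.node 12163 (BT.node 12162 (BT.leaf c7_462) (BT.leaf c7_463)) (BT.leaf c7_464)))) (BT.node 12171 (BT.node 12168 (BT.node 12166 (BT.node 12165 (BT.leaf c7_465) (BT.leaf c7_466)) (BT.node 12167 (BT.leaf c7_467) (BT.leaf c7_468))) (BT.node 12170 (BT.node 12169 (BT.leaf c7_469)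 (BT.leaf c7_470)) (BT.leaf c7_471))) (BT.node 12175 (BT.node 12173 (BT.node 12172 (BT.leaf c7_472) (BT.leaf c7_473)) (BT.node 12174 (BT.leaf c7_474) (BT.leaf c7_475))) (BT.node 12177 (BT.node 12176 (BT.leaf c7_476) (BT.leaf c7_477)) (BT.leaf c7_478))))) (BT.node 12192 (BT.node 12185 (BT.node 12182 (BT.node 12180 (BT.node 12179 (BT.leaf c7_479) (BT.leaf c7_480)) (BT.node 12181 (BT.leaf c7_481) (BT.leaf c7_482))) (BT.node 12184 (BT.node 12183 (BT.leaf c7_483) (BT.leaf c7_484)) (BT.leaf c7_485))) (BT.node 12189 (BT.node 12187 (BT.node 12186 (BT.leaf c7_486) (BT.leaf c7_487)) (BT.node 12188 (BT.leaf c7_488) (BT.leaf c7_489))) (BT.node 12191 (BT.node 12190 (BT.leaf c7_490) (BT.leaf c7_491)) (BT.leaf c7_492)))) (BT.node 12199 (BT.node 12196 (BT.node 12194 (BT.node 12193 (BT.leaf c7_493) (BT.leaf c7_494)) (BT.node 12195 (BT.leaf c7_495) (BT.leaf c7_496))) (BT.node 12198 (BT.node 12197 (BT.leaf c7_497) (BT.leaf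 c7_498)) (BT.leaf c7_499))) (BT.node 12203 (BT.node 12201 (BT.node 12200 (BT.leaf c7_500) (BT.leaf c7_501)) (BT.node 12202 (BT.leaf c7_502) (BT.leaf c7_503))) (BT.node 12205 (BT.node 12204 (BT.leaf c7_504) (BT.leaf c7_505)) (BT.leaf c7_506)))))) (BT.node 12234 (BT.node 12220 (BT.node 12213 (BT.node 12210 (BT.node 12208 (BT.node 12207 (BT.leaf c7_507) (BT.leaf c7_508)) (BT.node 12209 (BT.leaf c7_509) (BT.leaf c7_510))) (BT.node 12212 (BT.node 12211 (BT.leaf c7_511) (BT.leaf c7_512)) (BT.leaf c7_513))) (BT.node 12217 (BT.node 12215 (BT.node 12214 (BT.leaf c7_514) (BT.leaf c7_515)) (BT.node 12216 (BT.leaf c7_516) (BT.leaf c7_517))) (BT.node 12219 (BT.node 12218 (BT.leaf c7_518) (BT.leaf c7_519)) (BT.leaf c7_520)))) (BT.node 12227 (BT.node 12224 (BT.node 12222 (BT.node 12221 (BT.leaf c7_521) (BT.leaf c7_522)) (BT.node 12223 (BT.leaf c7_523) (BT.leaf c7_524))) (BT.node 12226 (BT.node 12225 (BT.leaf c7_525)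 (BT.leaf c7_526)) (BT.leaf c7_527))) (BT.node 12231 (BT.node 12229 (BT.node 12228 (BT.leaf c7_528) (BT.leaf c7_529)) (BT.node 12230 (BT.leaf c7_530) (BT.leaf c7_531))) (BT.node 12233 (BT.node 12232 (BT.leaf c7_532) (BT.leaf c7_533)) (BT.leaf c7_534))))) (BT.node 12248 (BT.node 12241 (BT.node 12238 (BT.node 12236 (BT.node 12235 (BT.leaf c7_535) (BT.leaf c7_536)) (BT.node 12237 (BT.leaf c7_537) (BT.leaf c7_538))) (BT.node 12240 (BT.node 12239 (BT.leaf c7_539) (BT.leaf c7_540)) (BT.leaf c7_541))) (BT.node 12245 (BT.node 12243 (BT.node 12242 (BT.leaf c7_542) (BT.leaf c7_543)) (BT.node 12244 (BT.leaf c7_544) (BT.leaf c7_545))) (BT.node 12247 (BT.node 12246 (BT.leaf c7_546) (BT.leaf c7_547)) (BT.leaf c7_548)))) (BT.node 12255 (BT.node 12252 (BT.node 12250 (BT.node 12249 (BT.leaf c7_549) (BT.leaf c7_550)) (BT.node 12251 (BT.leaf c7_551) (BT.leaf c7_552))) (BT.node 12254 (BT.node 12253 (BT.leaf c7_553) (BT.leaf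 c7_554)) (BT.leaf c7_555))) (BT.node 12259 (BT.node 12257 (BT.node 12256 (BT.leaf c7_556) (BT.leaf c7_557)) (BT.node 12258 (BT.leaf c7_558) (BT.leaf c7_559))) (BT.node 12261 (BT.node 12260 (BT.leaf c7_560) (BT.leaf c7_561)) (BT.leaf c7_562))))))) (BT.node 12318 (BT.node 12290 (BT.node 12276 (BT.node 12269 (BT.node 12266 (BT.node 12264 (BT.node 12263 (BT.leaf c7_563) (BT.leaf c7_564)) (BT.node 12265 (BT.leaf c7_565) (BT.leaf c7_566))) (BT.node 12268 (BT.node 12267 (BT.leaf c7_567) (BT.leaf c7_568)) (BT.leaf c7_569))) (BT.node 12273 (BT.node 12271 (BT.node 12270 (BT.leaf c7_570) (BT.leaf c7_571)) (BT.node 12272 (BT.leaf c7_572) (BT.leaf c7_573))) (BT.node 12275 (BT.node 12274 (BT.leaf c7_574) (BT.leaf c7_575)) (BT.leaf c7_576)))) (BT.node 12283 (BT.node 12280 (BT.node 12278 (BT.node 12277 (BT.leaf c7_577) (BT.leaf c7_578)) (BT.node 12279 (BT.leaf c7_579) (BT.leaf c7_580))) (BT.node 12282 (BT.node 12281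 (BT.leaf c7_581) (BT.leaf c7_582)) (BT.leaf c7_583))) (BT.node 12287 (BT.node 12285 (BT.node 12284 (BT.leaf c7_584) (BT.leaf c7_585)) (BT.node 12286 (BT.leaf c7_586) (BT.leaf c7_587))) (BT.node 12289 (BT.node 12288 (BT.leaf c7_588) (BT.leaf c7_589)) (BT.leaf c7_590))))) (BT.node 12304 (BT.node 12297 (BT.node 12294 (BT.node 12292 (BT.node 12291 (BT.leaf c7_591) (BT.leaf c7_592)) (BT.node 12293 (BT.leaf c7_593) (BT.leaf c7_594))) (BT.node 12296 (BT.node 12295 (BT.leaf c7_595) (BT.leaf c7_596)) (BT.leaf c7_597))) (BT.node 12301 (BT.node 12299 (BT.node 12298 (BT.leaf c7_598) (BT.leaf c7_599)) (BT.node 12300 (BT.leaf c7_600) (BT.leaf c7_601))) (BT.node 12303 (BT.node 12302 (BT.leaf c7_602) (BT.leaf c7_603)) (BT.leaf c7_604)))) (BT.node 12311 (BT.node 12308 (BT.node 12306 (BT.node 12305 (BT.leaf c7_605) (BT.leaf c7_606)) (BT.node 12307 (BT.leaf c7_607) (BT.leaf c7_608))) (BT.node 12310 (BT.node 12309 (BT.leaf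 c7_609) (BT.leaf c7_610)) (BT.leaf c7_611))) (BT.node 12315 (BT.node 12313 (BT.node 12312 (BT.leaf c7_612) (BT.leaf c7_613)) (BT.node 12314 (BT.leaf c7_614) (BT.leaf c7_615))) (BT.node 12317 (BT.node 12316 (BT.leaf c7_616) (BT.leaf c7_617)) (BT.leaf c7_618)))))) (BT.node 12346 (BT.node 12332 (BT.node 12325 (BT.node 12322 (BT.node 12320 (BT.node 12319 (BT.leaf c7_619) (BT.leaf c7_620)) (BT.node 12321 (BT.leaf c7_621) (BT.leaf c7_622))) (BT.node 12324 (BT.node 12323 (BT.leaf c7_623) (BT.leaf c7_624)) (BT.leaf c7_625))) (BT.node 12329 (BT.node 12327 (BT.node 12326 (BT.leaf c7_626) (BT.leaf c7_627)) (BT.node 12328 (BT.leaf c7_628) (BT.leaf c7_629))) (BT.node 12331 (BT.node 12330 (BT.leaf c7_630) (BT.leaf c7_631)) (BT.leaf c7_632)))) (BT.node 12339 (BT.node 12336 (BT.node 12334 (BT.node 12333 (BT.leaf c7_633) (BT.leaf c7_634)) (BT.node 12335 (BT.leaf c7_635) (BT.leaf c7_636))) (BT.node 12338 (BT.node 12337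 (BT.leaf c7_637) (BT.leaf c7_638)) (BT.leaf c7_639))) (BT.node 12343 (BT.node 12341 (BT.node 12340 (BT.leaf c7_640) (BT.leaf c7_641)) (BT.node 12342 (BT.leaf c7_642) (BT.leaf c7_643))) (BT.node 12345 (BT.node 12344 (BT.leaf c7_644) (BT.leaf c7_645)) (BT.leaf c7_646))))) (BT.node 12360 (BT.node 12353 (BT.node 12350 (BT.node 12348 (BT.node 12347 (BT.leaf c7_647) (BT.leaf c7_648)) (BT.node 12349 (BT.leaf c7_649) (BT.leaf c7_650))) (BT.node 12352 (BT.node 12351 (BT.leaf c7_651) (BT.leaf c7_652)) (BT.leaf c7_653))) (BT.node 12357 (BT.node 12355 (BT.node 12354 (BT.leaf c7_654) (BT.leaf c7_655)) (BT.node 12356 (BT.leaf c7_656) (BT.leaf c7_657))) (BT.node 12359 (BT.node 12358 (BT.leaf c7_658) (BT.leaf c7_659)) (BT.leaf c7_660)))) (BT.node 12367 (BT.node 12364 (BT.node 12362 (BT.node 12361 (BT.leaf c7_661) (BT.leaf c7_662)) (BT.node 12363 (BT.leaf c7_663) (BT.leaf c7_664))) (BT.node 12366 (BT.node 12365 (BT.leaf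 c7_665) (BT.leaf c7_666)) (BT.leaf c7_667))) (BT.node 12371 (BT.node 12369 (BT.node 12368 (BT.leaf c7_668) (BT.leaf c7_669)) (BT.node 12370 (BT.leaf c7_670) (BT.leaf c7_671))) (BT.node 12373 (BT.node 12372 (BT.leaf c7_672) (BT.leaf c7_673)) (BT.leaf c7_674)))))))) (BT.node 12487 (BT.node 12431 (BT.node 12403 (BT.node 12389 (BT.node 12382 (BT.node 12378 (BT.node 12376 (BT.node 12375 (BT.leaf c7_675) (BT.leaf c7_676)) (BT.node 12377 (BT.leaf c7_677) (BT.leaf c7_678))) (BT.node 12380 (BT.node 12379 (BT.leaf c7_679) (BT.leaf c7_680)) (BT.node 12381 (BT.leaf c7_681) (BT.leaf c7_682)))) (BT.node 12386 (BT.node 12384 (BT.node 12383 (BT.leaf c7_683) (BT.leaf c7_684)) (BT.node 12385 (BT.leaf c7_685) (BT.leaf c7_686))) (BT.node 12388 (BT.node 12387 (BT.leaf c7_687) (BT.leaf c7_688)) (BT.leaf c7_689)))) (BT.node 12396 (BT.node 12393 (BT.node 12391 (BT.node 12390 (BT.leaf c7_690) (BT.leaf c7_691)) (BT.node 12392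 (BT.leaf c7_692) (BT.leaf c7_693))) (BT.node 12395 (BT.node 12394 (BT.leaf c7_694) (BT.leaf c7_695)) (BT.leaf c7_696))) (BT.node 12400 (BT.node 12398 (BT.node 12397 (BT.leaf c7_697) (BT.leaf c7_698)) (BT.node 12399 (BT.leaf c7_699) (BT.leaf c7_700))) (BT.node 12402 (BT.node 12401 (BT.leaf c7_701) (BT.leaf c7_702)) (BT.leaf c7_703))))) (BT.node 12417 (BT.node 12410 (BT.node 12407 (BT.node 12405 (BT.node 12404 (BT.leaf c7_704) (BT.leaf c7_705)) (BT.node 12406 (BT.leaf c7_706) (BT.leaf c7_707))) (BT.node 12409 (BT.node 12408 (BT.leaf c7_708) (BT.leaf c7_709)) (BT.leaf c7_710))) (BT.node 12414 (BT.node 12412 (BT.node 12411 (BT.leaf c7_711) (BT.leaf c7_712)) (BT.node 12413 (BT.leaf c7_713) (BT.leaf c7_714))) (BT.node 12416 (BT.node 12415 (BT.leaf c7_715) (BT.leaf c7_716)) (BT.leaf c7_717)))) (BT.node 12424 (BT.node 12421 (BT.node 12419 (BT.node 12418 (BT.leaf c7_718) (BT.leaf c7_719)) (BT.node 12420 (BT.leaf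 c7_720) (BT.leaf c7_721))) (BT.node 12423 (BT.node 12422 (BT.leaf c7_722) (BT.leaf c7_723)) (BT.leaf c7_724))) (BT.node 12428 (BT.node 12426 (BT.node 12425 (BT.leaf c7_725) (BT.leaf c7_726)) (BT.node 12427 (BT.leaf c7_727) (BT.leaf c7_728))) (BT.node 12430 (BT.node 12429 (BT.leaf c7_729) (BT.leaf c7_730)) (BT.leaf c7_731)))))) (BT.node 12459 (BT.node 12445 (BT.node 12438 (BT.node 12435 (BT.node 12433 (BT.node 12432 (BT.leaf c7_732) (BT.leaf c7_733)) (BT.node 12434 (BT.leaf c7_734) (BT.leaf c7_735))) (BT.node 12437 (BT.node 12436 (BT.leaf c7_736) (BT.leaf c7_737)) (BT.leaf c7_738))) (BT.node 12442 (BT.node 12440 (BT.node 12439 (BT.leaf c7_739) (BT.leaf c7_740)) (BT.node 12441 (BT.leaf c7_741) (BT.leaf c7_742))) (BT.node 12444 (BT.node 12443 (BT.leaf c7_743) (BT.leaf c7_744)) (BT.leaf c7_745)))) (BT.node 12452 (BT.node 12449 (BT.node 12447 (BT.node 12446 (BT.leaf c7_746) (BT.leaf c7_747)) (BT.node 12448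 (BT.leaf c7_748) (BT.leaf c7_749))) (BT.node 12451 (BT.node 12450 (BT.leaf c7_750) (BT.leaf c7_751)) (BT.leaf c7_752))) (BT.node 12456 (BT.node 12454 (BT.node 12453 (BT.leaf c7_753) (BT.leaf c7_754)) (BT.node 12455 (BT.leaf c7_755) (BT.leaf c7_756))) (BT.node 12458 (BT.node 12457 (BT.leaf c7_757) (BT.leaf c7_758)) (BT.leaf c7_759))))) (BT.node 12473 (BT.node 12466 (BT.node 12463 (BT.node 12461 (BT.node 12460 (BT.leaf c7_760) (BT.leaf c7_761)) (BT.node 12462 (BT.leaf c7_762) (BT.leaf c7_763))) (BT.node 12465 (BT.node 12464 (BT.leaf c7_764) (BT.leaf c7_765)) (BT.leaf c7_766))) (BT.node 12470 (BT.node 12468 (BT.node 12467 (BT.leaf c7_767) (BT.leaf c7_768)) (BT.node 12469 (BT.leaf c7_769) (BT.leaf c7_770))) (BT.node 12472 (BT.node 12471 (BT.leaf c7_771) (BT.leaf c7_772)) (BT.leaf c7_773)))) (BT.node 12480 (BT.node 12477 (BT.node 12475 (BT.node 12474 (BT.leaf c7_774) (BT.leaf c7_775)) (BT.node 12476 (BT.leaf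 c7_776) (BT.leaf c7_777))) (BT.node 12479 (BT.node 12478 (BT.leaf c7_778) (BT.leaf c7_779)) (BT.leaf c7_780))) (BT.node 12484 (BT.node 12482 (BT.node 12481 (BT.leaf c7_781) (BT.leaf c7_782)) (BT.node 12483 (BT.leaf c7_783) (BT.leaf c7_784))) (BT.node 12486 (BT.node 12485 (BT.leaf c7_785) (BT.leaf c7_786)) (BT.leaf c7_787))))))) (BT.node 12543 (BT.node 12515 (BT.node 12501 (BT.node 12494 (BT.node 12491 (BT.node 12489 (BT.node 12488 (BT.leaf c7_788) (BT.leaf c7_789)) (BT.node 12490 (BT.leaf c7_790) (BT.leaf c7_791))) (BT.node 12493 (BT.node 12492 (BT.leaf c7_792) (BT.leaf c7_793)) (BT.leaf c7_794))) (BT.node 12498 (BT.node 12496 (BT.node 12495 (BT.leaf c7_795) (BT.leaf c7_796)) (BT.node 12497 (BT.leaf c7_797) (BT.leaf c7_798))) (BT.node 12500 (BT.node 12499 (BT.leaf c7_799) (BT.leaf c7_800)) (BT.leaf c7_801)))) (BT.node 12508 (BT.node 12505 (BT.node 12503 (BT.node 12502 (BT.leaf c7_802) (BT.leaf c7_803))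 (BT.node 12504 (BT.leaf c7_804) (BT.leaf c7_805))) (BT.node 12507 (BT.node 12506 (BT.leaf c7_806) (BT.leaf c7_807)) (BT.leaf c7_808))) (BT.node 12512 (BT.node 12510 (BT.node 12509 (BT.leaf c7_809) (BT.leaf c7_810)) (BT.node 12511 (BT.leaf c7_811) (BT.leaf c7_812))) (BT.node 12514 (BT.node 12513 (BT.leaf c7_813) (BT.leaf c7_814)) (BT.leaf c7_815))))) (BT.node 12529 (BT.node 12522 (BT.node 12519 (BT.node 12517 (BT.node 12516 (BT.leaf c7_816) (BT.leaf c7_817)) (BT.node 12518 (BT.leaf c7_818) (BT.leaf c7_819))) (BT.node 12521 (BT.node 12520 (BT.leaf c7_820) (BT.leaf c7_821)) (BT.leaf c7_822))) (BT.node 12526 (BT.node 12524 (BT.node 12523 (BT.leaf c7_823) (BT.leaf c7_824)) (BT.node 12525 (BT.leaf c7_825) (BT.leaf c7_826))) (BT.node 12528 (BT.node 12527 (BT.leaf c7_827) (BT.leaf c7_828)) (BT.leaf c7_829)))) (BT.node 12536 (BT.node 12533 (BT.node 12531 (BT.node 12530 (BT.leaf c7_830) (BT.leaf c7_831)) (BT.node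 12532 (BT.leaf c7_832) (BT.leaf c7_833))) (BT.node 12535 (BT.node 12534 (BT.leaf c7_834) (BT.leaf c7_835)) (BT.leaf c7_836))) (BT.node 12540 (BT.node 12538 (BT.node 12537 (BT.leaf c7_837) (BT.leaf c7_838)) (BT.node 12539 (BT.leaf c7_839) (BT.leaf c7_840))) (BT.node 12542 (BT.node 12541 (BT.leaf c7_841) (BT.leaf c7_842)) (BT.leaf c7_843)))))) (BT.node 12571 (BT.node 12557 (BT.node 12550 (BT.node 12547 (BT.node 12545 (BT.node 12544 (BT.leaf c7_844) (BT.leaf c7_845)) (BT.node 12546 (BT.leaf c7_846) (BT.leaf c7_847))) (BT.node 12549 (BT.node 12548 (BT.leaf c7_848) (BT.leaf c7_849)) (BT.leaf c7_850))) (BT.node 12554 (BT.node 12552 (BT.node 12551 (BT.leaf c7_851) (BT.leaf c7_852)) (BT.node 12553 (BT.leaf c7_853) (BT.leaf c7_854))) (BT.node 12556 (BT.node 12555 (BT.leaf c7_855) (BT.leaf c7_856)) (BT.leaf c7_857)))) (BT.node 12564 (BT.node 12561 (BT.node 12559 (BT.node 12558 (BT.leaf c7_858) (BT.leaf c7_859))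 (BT.node 12560 (BT.leaf c7_860) (BT.leaf c7_861))) (BT.node 12563 (BT.node 12562 (BT.leaf c7_862) (BT.leaf c7_863)) (BT.leaf c7_864))) (BT.node 12568 (BT.node 12566 (BT.node 12565 (BT.leaf c7_865) (BT.leaf c7_866)) (BT.node 12567 (BT.leaf c7_867) (BT.leaf c7_868))) (BT.node 12570 (BT.node 12569 (BT.leaf c7_869) (BT.leaf c7_870)) (BT.leaf c7_871))))) (BT.node 12585 (BT.node 12578 (BT.node 12575 (BT.node 12573 (BT.node 12572 (BT.leaf c7_872) (BT.leaf c7_873)) (BT.node 12574 (BT.leaf c7_874) (BT.leaf c7_875))) (BT.node 12577 (BT.node 12576 (BT.leaf c7_876) (BT.leaf c7_877)) (BT.leaf c7_878))) (BT.node 12582 (BT.node 12580 (BT.node 12579 (BT.leaf c7_879) (BT.leaf c7_880)) (BT.node 12581 (BT.leaf c7_881) (BT.leaf c7_882))) (BT.node 12584 (BT.node 12583 (BT.leaf c7_883) (BT.leaf c7_884)) (BT.leaf c7_885)))) (BT.node 12592 (BT.node 12589 (BT.node 12587 (BT.node 12586 (BT.leaf c7_886) (BT.leaf c7_887)) (BT.node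 12588 (BT.leaf c7_888) (BT.leaf c7_889))) (BT.node 12591 (BT.node 12590 (BT.leaf c7_890) (BT.leaf c7_891)) (BT.leaf c7_892))) (BT.node 12596 (BT.node 12594 (BT.node 12593 (BT.leaf c7_893) (BT.leaf c7_894)) (BT.node 12595 (BT.leaf c7_895) (BT.leaf c7_896))) (BT.node 12598 (BT.node 12597 (BT.leaf c7_897) (BT.leaf c7_898)) (BT.leaf c7_899))))))))))
/-- the chunks of the letter 14 -/
def colL_14 : BT ℕ := (BT.node 13049 (BT.node 12824 (BT.node 12712 (BT.node 12656 (BT.node 12628 (BT.node 12614 (BT.node 12607 (BT.node 12603 (BT.node 12601 (BT.node 12600 (BT.leaf c8_0) (BT.leaf c8_1)) (BT.node 12602 (BT.leaf c8_2) (BT.leaf c8_3))) (BT.node 12605 (BT.node 12604 (BT.leaf c8_4) (BT.leaf c8_5)) (BT.node 12606 (BT.leaf c8_6) (BT.leaf c8_7)))) (BT.node 12611 (BT.node 12609 (BT.node 12608 (BT.leaf c8_8) (BT.leaf c8_9)) (BT.node 12610 (BT.leaf c8_10) (BT.leaf c8_11))) (BT.node 12613 (BT.node 12612 (BT.leaf c8_12)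 (BT.leaf c8_13)) (BT.leaf c8_14)))) (BT.node 12621 (BT.node 12618 (BT.node 12616 (BT.node 12615 (BT.leaf c8_15) (BT.leaf c8_16)) (BT.node 12617 (BT.leaf c8_17) (BT.leaf c8_18))) (BT.node 12620 (BT.node 12619 (BT.leaf c8_19) (BT.leaf c8_20)) (BT.leaf c8_21))) (BT.node 12625 (BT.node 12623 (BT.node 12622 (BT.leaf c8_22) (BT.leaf c8_23)) (BT.node 12624 (BT.leaf c8_24) (BT.leaf c8_25))) (BT.node 12627 (BT.node 12626 (BT.leaf c8_26) (BT.leaf c8_27)) (BT.leaf c8_28))))) (BT.node 12642 (BT.node 12635 (BT.node 12632 (BT.node 12630 (BT.node 12629 (BT.leaf c8_29) (BT.leaf c8_30)) (BT.node 12631 (BT.leaf c8_31) (BT.leaf c8_32))) (BT.node 12634 (BT.node 12633 (BT.leaf c8_33) (BT.leaf c8_34)) (BT.leaf c8_35))) (BT.node 12639 (BT.node 12637 (BT.node 12636 (BT.leaf c8_36) (BT.leaf c8_37)) (BT.node 12638 (BT.leaf c8_38) (BT.leaf c8_39))) (BT.node 12641 (BT.node 12640 (BT.leaf c8_40) (BT.leaf c8_41)) (BT.leaf c8_42))))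 (BT.node 12649 (BT.node 12646 (BT.node 12644 (BT.node 12643 (BT.leaf c8_43) (BT.leaf c8_44)) (BT.node 12645 (BT.leaf c8_45) (BT.leaf c8_46))) (BT.node 12648 (BT.node 12647 (BT.leaf c8_47) (BT.leaf c8_48)) (BT.leaf c8_49))) (BT.node 12653 (BT.node 12651 (BT.node 12650 (BT.leaf c8_50) (BT.leaf c8_51)) (BT.node 12652 (BT.leaf c8_52) (BT.leaf c8_53))) (BT.node 12655 (BT.node 12654 (BT.leaf c8_54) (BT.leaf c8_55)) (BT.leaf c8_56)))))) (BT.node 12684 (BT.node 12670 (BT.node 12663 (BT.node 12660 (BT.node 12658 (BT.node 12657 (BT.leaf c8_57) (BT.leaf c8_58)) (BT.node 12659 (BT.leaf c8_59) (BT.leaf c8_60))) (BT.node 12662 (BT.node 12661 (BT.leaf c8_61) (BT.leaf c8_62)) (BT.leaf c8_63))) (BT.node 12667 (BT.node 12665 (BT.node 12664 (BT.leaf c8_64) (BT.leaf c8_65)) (BT.node 12666 (BT.leaf c8_66) (BT.leaf c8_67))) (BT.node 12669 (BT.node 12668 (BT.leaf c8_68) (BT.leaf c8_69)) (BT.leaf c8_70)))) (BT.node 12677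 (BT.node 12674 (BT.node 12672 (BT.node 12671 (BT.leaf c8_71) (BT.leaf c8_72)) (BT.node 12673 (BT.leaf c8_73) (BT.leaf c8_74))) (BT.node 12676 (BT.node 12675 (BT.leaf c8_75) (BT.leaf c8_76)) (BT.leaf c8_77))) (BT.node 12681 (BT.node 12679 (BT.node 12678 (BT.leaf c8_78) (BT.leaf c8_79)) (BT.node 12680 (BT.leaf c8_80) (BT.leaf c8_81))) (BT.node 12683 (BT.node 12682 (BT.leaf c8_82) (BT.leaf c8_83)) (BT.leaf c8_84))))) (BT.node 12698 (BT.node 12691 (BT.node 12688 (BT.node 12686 (BT.node 12685 (BT.leaf c8_85) (BT.leaf c8_86)) (BT.node 12687 (BT.leaf c8_87) (BT.leaf c8_88))) (BT.node 12690 (BT.node 12689 (BT.leaf c8_89) (BT.leaf c8_90)) (BT.leaf c8_91))) (BT.node 12695 (BT.node 12693 (BT.node 12692 (BT.leaf c8_92) (BT.leaf c8_93)) (BT.node 12694 (BT.leaf c8_94) (BT.leaf c8_95))) (BT.node 12697 (BT.node 12696 (BT.leaf c8_96) (BT.leaf c8_97)) (BT.leaf c8_98)))) (BT.node 12705 (BT.node 12702 (BT.node 12700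 (BT.node 12699 (BT.leaf c8_99) (BT.leaf c8_100)) (BT.node 12701 (BT.leaf c8_101) (BT.leaf c8_102))) (BT.node 12704 (BT.node 12703 (BT.leaf c8_103) (BT.leaf c8_104)) (BT.leaf c8_105))) (BT.node 12709 (BT.node 12707 (BT.node 12706 (BT.leaf c8_106) (BT.leaf c8_107)) (BT.node 12708 (BT.leaf c8_108) (BT.leaf c8_109))) (BT.node 12711 (BT.node 12710 (BT.leaf c8_110) (BT.leaf c8_111)) (BT.leaf c8_112))))))) (BT.node 12768 (BT.node 12740 (BT.node 12726 (BT.node 12719 (BT.node 12716 (BT.node 12714 (BT.node 12713 (BT.leaf c8_113) (BT.leaf c8_114)) (BT.node 12715 (BT.leaf c8_115) (BT.leaf c8_116))) (BT.node 12718 (BT.node 12717 (BT.leaf c8_117) (BT.leaf c8_118)) (BT.leaf c8_119))) (BT.node 12723 (BT.node 12721 (BT.node 12720 (BT.leaf c8_120) (BT.leaf c8_121)) (BT.node 12722 (BT.leaf c8_122) (BT.leaf c8_123))) (BT.node 12725 (BT.node 12724 (BT.leaf c8_124) (BT.leaf c8_125)) (BT.leaf c8_126)))) (BT.node 12733 (BT.node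 12730 (BT.node 12728 (BT.node 12727 (BT.leaf c8_127) (BT.leaf c8_128)) (BT.node 12729 (BT.leaf c8_129) (BT.leaf c8_130))) (BT.node 12732 (BT.node 12731 (BT.leaf c8_131) (BT.leaf c8_132)) (BT.leaf c8_133))) (BT.node 12737 (BT.node 12735 (BT.node 12734 (BT.leaf c8_134) (BT.leaf c8_135)) (BT.node 12736 (BT.leaf c8_136) (BT.leaf c8_137))) (BT.node 12739 (BT.node 12738 (BT.leaf c8_138) (BT.leaf c8_139)) (BT.leaf c8_140))))) (BT.node 12754 (BT.node 12747 (BT.node 12744 (BT.node 12742 (BT.node 12741 (BT.leaf c8_141) (BT.leaf c8_142)) (BT.node 12743 (BT.leaf c8_143) (BT.leaf c8_144))) (BT.node 12746 (BT.node 12745 (BT.leaf c8_145) (BT.leaf c8_146)) (BT.leaf c8_147))) (BT.node 12751 (BT.node 12749 (BT.node 12748 (BT.leaf c8_148) (BT.leaf c8_149)) (BT.node 12750 (BT.leaf c8_150) (BT.leaf c8_151))) (BT.node 12753 (BT.node 12752 (BT.leaf c8_152) (BT.leaf c8_153)) (BT.leaf c8_154)))) (BT.node 12761 (BT.node 12758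 (BT.node 12756 (BT.node 12755 (BT.leaf c8_155) (BT.leaf c8_156)) (BT.node 12757 (BT.leaf c8_157) (BT.leaf c8_158))) (BT.node 12760 (BT.node 12759 (BT.leaf c8_159) (BT.leaf c8_160)) (BT.leaf c8_161))) (BT.node 12765 (BT.node 12763 (BT.node 12762 (BT.leaf c8_162) (BT.leaf c8_163)) (BT.node 12764 (BT.leaf c8_164) (BT.leaf c8_165))) (BT.node 12767 (BT.node 12766 (BT.leaf c8_166) (BT.leaf c8_167)) (BT.leaf c8_168)))))) (BT.node 12796 (BT.node 12782 (BT.node 12775 (BT.node 12772 (BT.node 12770 (BT.node 12769 (BT.leaf c8_169) (BT.leaf c8_170)) (BT.node 12771 (BT.leaf c8_171) (BT.leaf c8_172))) (BT.node 12774 (BT.node 12773 (BT.leaf c8_173) (BT.leaf c8_174)) (BT.leaf c8_175))) (BT.node 12779 (BT.node 12777 (BT.node 12776 (BT.leaf c8_176) (BT.leaf c8_177)) (BT.node 12778 (BT.leaf c8_178) (BT.leaf c8_179))) (BT.node 12781 (BT.node 12780 (BT.leaf c8_180) (BT.leaf c8_181)) (BT.leaf c8_182)))) (BT.node 12789 (BT.node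 12786 (BT.node 12784 (BT.node 12783 (BT.leaf c8_183) (BT.leaf c8_184)) (BT.node 12785 (BT.leaf c8_185) (BT.leaf c8_186))) (BT.node 12788 (BT.node 12787 (BT.leaf c8_187) (BT.leaf c8_188)) (BT.leaf c8_189))) (BT.node 12793 (BT.node 12791 (BT.node 12790 (BT.leaf c8_190) (BT.leaf c8_191)) (BT.node 12792 (BT.leaf c8_192) (BT.leaf c8_193))) (BT.node 12795 (BT.node 12794 (BT.leaf c8_194) (BT.leaf c8_195)) (BT.leaf c8_196))))) (BT.node 12810 (BT.node 12803 (BT.node 12800 (BT.node 12798 (BT.node 12797 (BT.leaf c8_197) (BT.leaf c8_198)) (BT.node 12799 (BT.leaf c8_199) (BT.leaf c8_200))) (BT.node 12802 (BT.node 12801 (BT.leaf c8_201) (BT.leaf c8_202)) (BT.leaf c8_203))) (BT.node 12807 (BT.node 12805 (BT.node 12804 (BT.leaf c8_204) (BT.leaf c8_205)) (BT.node 12806 (BT.leaf c8_206) (BT.leaf c8_207))) (BT.node 12809 (BT.node 12808 (BT.leaf c8_208) (BT.leaf c8_209)) (BT.leaf c8_210)))) (BT.node 12817 (BT.node 12814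 (BT.node 12812 (BT.node 12811 (BT.leaf c8_211) (BT.leaf c8_212)) (BT.node 12813 (BT.leaf c8_213) (BT.leaf c8_214))) (BT.node 12816 (BT.node 12815 (BT.leaf c8_215) (BT.leaf c8_216)) (BT.leaf c8_217))) (BT.node 12821 (BT.node 12819 (BT.node 12818 (BT.leaf c8_218) (BT.leaf c8_219)) (BT.node 12820 (BT.leaf c8_220) (BT.leaf c8_221))) (BT.node 12823 (BT.node 12822 (BT.leaf c8_222) (BT.leaf c8_223)) (BT.leaf c8_224)))))))) (BT.node 12937 (BT.node 12881 (BT.node 12853 (BT.node 12839 (BT.node 12832 (BT.node 12828 (BT.node 12826 (BT.node 12825 (BT.leaf c8_225) (BT.leaf c8_226)) (BT.node 12827 (BT.leaf c8_227) (BT.leaf c8_228))) (BT.node 12830 (BT.node 12829 (BT.leaf c8_229) (BT.leaf c8_230)) (BT.node 12831 (BT.leaf c8_231) (BT.leaf c8_232)))) (BT.node 12836 (BT.node 12834 (BT.node 12833 (BT.leaf c8_233) (BT.leaf c8_234)) (BT.node 12835 (BT.leaf c8_235) (BT.leaf c8_236))) (BT.node 12838 (BT.node 12837 (BT.leaf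 c8_237) (BT.leaf c8_238)) (BT.leaf c8_239)))) (BT.node 12846 (BT.node 12843 (BT.node 12841 (BT.node 12840 (BT.leaf c8_240) (BT.leaf c8_241)) (BT.node 12842 (BT.leaf c8_242) (BT.leaf c8_243))) (BT.node 12845 (BT.node 12844 (BT.leaf c8_244) (BT.leaf c8_245)) (BT.leaf c8_246))) (BT.node 12850 (BT.node 12848 (BT.node 12847 (BT.leaf c8_247) (BT.leaf c8_248)) (BT.node 12849 (BT.leaf c8_249) (BT.leaf c8_250))) (BT.node 12852 (BT.node 12851 (BT.leaf c8_251) (BT.leaf c8_252)) (BT.leaf c8_253))))) (BT.node 12867 (BT.node 12860 (BT.node 12857 (BT.node 12855 (BT.node 12854 (BT.leaf c8_254) (BT.leaf c8_255)) (BT.node 12856 (BT.leaf c8_256) (BT.leaf c8_257))) (BT.node 12859 (BT.node 12858 (BT.leaf c8_258) (BT.leaf c8_259)) (BT.leaf c8_260))) (BT.node 12864 (BT.node 12862 (BT.node 12861 (BT.leaf c8_261) (BT.leaf c8_262)) (BT.node 12863 (BT.leaf c8_263) (BT.leaf c8_264))) (BT.node 12866 (BT.node 12865 (BT.leaf c8_265)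 (BT.leaf c8_266)) (BT.leaf c8_267)))) (BT.node 12874 (BT.node 12871 (BT.node 12869 (BT.node 12868 (BT.leaf c8_268) (BT.leaf c8_269)) (BT.node 12870 (BT.leaf c8_270) (BT.leaf c8_271))) (BT.node 12873 (BT.node 12872 (BT.leaf c8_272) (BT.leaf c8_273)) (BT.leaf c8_274))) (BT.node 12878 (BT.node 12876 (BT.node 12875 (BT.leaf c8_275) (BT.leaf c8_276)) (BT.node 12877 (BT.leaf c8_277) (BT.leaf c8_278))) (BT.node 12880 (BT.node 12879 (BT.leaf c8_279) (BT.leaf c8_280)) (BT.leaf c8_281)))))) (BT.node 12909 (BT.node 12895 (BT.node 12888 (BT.node 12885 (BT.node 12883 (BT.node 12882 (BT.leaf c8_282) (BT.leaf c8_283)) (BT.node 12884 (BT.leaf c8_284) (BT.leaf c8_285))) (BT.node 12887 (BT.node 12886 (BT.leaf c8_286) (BT.leaf c8_287)) (BT.leaf c8_288))) (BT.node 12892 (BT.node 12890 (BT.node 12889 (BT.leaf c8_289) (BT.leaf c8_290)) (BT.node 12891 (BT.leaf c8_291) (BT.leaf c8_292))) (BT.node 12894 (BT.node 12893 (BT.leaf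 c8_293) (BT.leaf c8_294)) (BT.leaf c8_295)))) (BT.node 12902 (BT.node 12899 (BT.node 12897 (BT.node 12896 (BT.leaf c8_296) (BT.leaf c8_297)) (BT.node 12898 (BT.leaf c8_298) (BT.leaf c8_299))) (BT.node 12901 (BT.node 12900 (BT.leaf c8_300) (BT.leaf c8_301)) (BT.leaf c8_302))) (BT.node 12906 (BT.node 12904 (BT.node 12903 (BT.leaf c8_303) (BT.leaf c8_304)) (BT.node 12905 (BT.leaf c8_305) (BT.leaf c8_306))) (BT.node 12908 (BT.node 12907 (BT.leaf c8_307) (BT.leaf c8_308)) (BT.leaf c8_309))))) (BT.node 12923 (BT.node 12916 (BT.node 12913 (BT.node 12911 (BT.node 12910 (BT.leaf c8_310) (BT.leaf c8_311)) (BT.node 12912 (BT.leaf c8_312) (BT.leaf c8_313))) (BT.node 12915 (BT.node 12914 (BT.leaf c8_314) (BT.leaf c8_315)) (BT.leaf c8_316))) (BT.node 12920 (BT.node 12918 (BT.node 12917 (BT.leaf c8_317) (BT.leaf c8_318)) (BT.node 12919 (BT.leaf c8_319) (BT.leaf c8_320))) (BT.node 12922 (BT.node 12921 (BT.leaf c8_321)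 (BT.leaf c8_322)) (BT.leaf c8_323)))) (BT.node 12930 (BT.node 12927 (BT.node 12925 (BT.node 12924 (BT.leaf c8_324) (BT.leaf c8_325)) (BT.node 12926 (BT.leaf c8_326) (BT.leaf c8_327))) (BT.node 12929 (BT.node 12928 (BT.leaf c8_328) (BT.leaf c8_329)) (BT.leaf c8_330))) (BT.node 12934 (BT.node 12932 (BT.node 12931 (BT.leaf c8_331) (BT.leaf c8_332)) (BT.node 12933 (BT.leaf c8_333) (BT.leaf c8_334))) (BT.node 12936 (BT.node 12935 (BT.leaf c8_335) (BT.leaf c8_336)) (BT.leaf c8_337))))))) (BT.node 12993 (BT.node 12965 (BT.node 12951 (BT.node 12944 (BT.node 12941 (BT.node 12939 (BT.node 12938 (BT.leaf c8_338) (BT.leaf c8_339)) (BT.node 12940 (BT.leaf c8_340) (BT.leaf c8_341))) (BT.node 12943 (BT.node 12942 (BT.leaf c8_342) (BT.leaf c8_343)) (BT.leaf c8_344))) (BT.node 12948 (BT.node 12946 (BT.node 12945 (BT.leaf c8_345) (BT.leaf c8_346)) (BT.node 12947 (BT.leaf c8_347) (BT.leaf c8_348))) (BT.node 12950 (BT.node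 12949 (BT.leaf c8_349) (BT.leaf c8_350)) (BT.leaf c8_351)))) (BT.node 12958 (BT.node 12955 (BT.node 12953 (BT.node 12952 (BT.leaf c8_352) (BT.leaf c8_353)) (BT.node 12954 (BT.leaf c8_354) (BT.leaf c8_355))) (BT.node 12957 (BT.node 12956 (BT.leaf c8_356) (BT.leaf c8_357)) (BT.leaf c8_358))) (BT.node 12962 (BT.node 12960 (BT.node 12959 (BT.leaf c8_359) (BT.leaf c8_360)) (BT.node 12961 (BT.leaf c8_361) (BT.leaf c8_362))) (BT.node 12964 (BT.node 12963 (BT.leaf c8_363) (BT.leaf c8_364)) (BT.leaf c8_365))))) (BT.node 12979 (BT.node 12972 (BT.node 12969 (BT.node 12967 (BT.node 12966 (BT.leaf c8_366) (BT.leaf c8_367)) (BT.node 12968 (BT.leaf c8_368) (BT.leaf c8_369))) (BT.node 12971 (BT.node 12970 (BT.leaf c8_370) (BT.leaf c8_371)) (BT.leaf c8_372))) (BT.node 12976 (BT.node 12974 (BT.node 12973 (BT.leaf c8_373) (BT.leaf c8_374)) (BT.node 12975 (BT.leaf c8_375) (BT.leaf c8_376))) (BT.node 12978 (BT.node 12977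 (BT.leaf c8_377) (BT.leaf c8_378)) (BT.leaf c8_379)))) (BT.node 12986 (BT.node 12983 (BT.node 12981 (BT.node 12980 (BT.leaf c8_380) (BT.leaf c8_381)) (BT.node 12982 (BT.leaf c8_382) (BT.leaf c8_383))) (BT.node 12985 (BT.node 12984 (BT.leaf c8_384) (BT.leaf c8_385)) (BT.leaf c8_386))) (BT.node 12990 (BT.node 12988 (BT.node 12987 (BT.leaf c8_387) (BT.leaf c8_388)) (BT.node 12989 (BT.leaf c8_389) (BT.leaf c8_390))) (BT.node 12992 (BT.node 12991 (BT.leaf c8_391) (BT.leaf c8_392)) (BT.leaf c8_393)))))) (BT.node 13021 (BT.node 13007 (BT.node 13000 (BT.node 12997 (BT.node 12995 (BT.node 12994 (BT.leaf c8_394) (BT.leaf c8_395)) (BT.node 12996 (BT.leaf c8_396) (BT.leaf c8_397))) (BT.node 12999 (BT.node 12998 (BT.leaf c8_398) (BT.leaf c8_399)) (BT.leaf c8_400))) (BT.node 13004 (BT.node 13002 (BT.node 13001 (BT.leaf c8_401) (BT.leaf c8_402)) (BT.node 13003 (BT.leaf c8_403) (BT.leaf c8_404))) (BT.node 13006 (BT.node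 13005 (BT.leaf c8_405) (BT.leaf c8_406)) (BT.leaf c8_407)))) (BT.node 13014 (BT.node 13011 (BT.node 13009 (BT.node 13008 (BT.leaf c8_408) (BT.leaf c8_409)) (BT.node 13010 (BT.leaf c8_410) (BT.leaf c8_411))) (BT.node 13013 (BT.node 13012 (BT.leaf c8_412) (BT.leaf c8_413)) (BT.leaf c8_414))) (BT.node 13018 (BT.node 13016 (BT.node 13015 (BT.leaf c8_415) (BT.leaf c8_416)) (BT.node 13017 (BT.leaf c8_417) (BT.leaf c8_418))) (BT.node 13020 (BT.node 13019 (BT.leaf c8_419) (BT.leaf c8_420)) (BT.leaf c8_421))))) (BT.node 13035 (BT.node 13028 (BT.node 13025 (BT.node 13023 (BT.node 13022 (BT.leaf c8_422) (BT.leaf c8_423)) (BT.node 13024 (BT.leaf c8_424) (BT.leaf c8_425))) (BT.node 13027 (BT.node 13026 (BT.leaf c8_426) (BT.leaf c8_427)) (BT.leaf c8_428))) (BT.node 13032 (BT.node 13030 (BT.node 13029 (BT.leaf c8_429) (BT.leaf c8_430)) (BT.node 13031 (BT.leaf c8_431) (BT.leaf c8_432))) (BT.node 13034 (BT.node 13033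 (BT.leaf c8_433) (BT.leaf c8_434)) (BT.leaf c8_435)))) (BT.node 13042 (BT.node 13039 (BT.node 13037 (BT.node 13036 (BT.leaf c8_436) (BT.leaf c8_437)) (BT.node 13038 (BT.leaf c8_438) (BT.leaf c8_439))) (BT.node 13041 (BT.node 13040 (BT.leaf c8_440) (BT.leaf c8_441)) (BT.leaf c8_442))) (BT.node 13046 (BT.node 13044 (BT.node 13043 (BT.leaf c8_443) (BT.leaf c8_444)) (BT.node 13045 (BT.leaf c8_445) (BT.leaf c8_446))) (BT.node 13048 (BT.node 13047 (BT.leaf c8_447) (BT.leaf c8_448)) (BT.leaf c8_449))))))))) (BT.node 13274 (BT.node 13162 (BT.node 13106 (BT.node 13078 (BT.node 13064 (BT.node 13057 (BT.node 13053 (BT.node 13051 (BT.node 13050 (BT.leaf c8_450) (BT.leaf c8_451)) (BT.node 13052 (BT.leaf c8_452) (BT.leaf c8_453))) (BT.node 13055 (BT.node 13054 (BT.leaf c8_454) (BT.leaf c8_455)) (BT.node 13056 (BT.leaf c8_456) (BT.leaf c8_457)))) (BT.node 13061 (BT.node 13059 (BT.node 13058 (BT.leaf c8_458) (BT.leaf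 c8_459)) (BT.node 13060 (BT.leaf c8_460) (BT.leaf c8_461))) (BT.node 13063 (BT.node 13062 (BT.leaf c8_462) (BT.leaf c8_463)) (BT.leaf c8_464)))) (BT.node 13071 (BT.node 13068 (BT.node 13066 (BT.node 13065 (BT.leaf c8_465) (BT.leaf c8_466)) (BT.node 13067 (BT.leaf c8_467) (BT.leaf c8_468))) (BT.node 13070 (BT.node 13069 (BT.leaf c8_469) (BT.leaf c8_470)) (BT.leaf c8_471))) (BT.node 13075 (BT.node 13073 (BT.node 13072 (BT.leaf c8_472) (BT.leaf c8_473)) (BT.node 13074 (BT.leaf c8_474) (BT.leaf c8_475))) (BT.node 13077 (BT.node 13076 (BT.leaf c8_476) (BT.leaf c8_477)) (BT.leaf c8_478))))) (BT.node 13092 (BT.node 13085 (BT.node 13082 (BT.node 13080 (BT.node 13079 (BT.leaf c8_479) (BT.leaf c8_480)) (BT.node 13081 (BT.leaf c8_481) (BT.leaf c8_482))) (BT.node 13084 (BT.node 13083 (BT.leaf c8_483) (BT.leaf c8_484)) (BT.leaf c8_485))) (BT.node 13089 (BT.node 13087 (BT.node 13086 (BT.leaf c8_486) (BT.leaf c8_487))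 (BT.node 13088 (BT.leaf c8_488) (BT.leaf c8_489))) (BT.node 13091 (BT.node 13090 (BT.leaf c8_490) (BT.leaf c8_491)) (BT.leaf c8_492)))) (BT.node 13099 (BT.node 13096 (BT.node 13094 (BT.node 13093 (BT.leaf c8_493) (BT.leaf c8_494)) (BT.node 13095 (BT.leaf c8_495) (BT.leaf c8_496))) (BT.node 13098 (BT.node 13097 (BT.leaf c8_497) (BT.leaf c8_498)) (BT.leaf c8_499))) (BT.node 13103 (BT.node 13101 (BT.node 13100 (BT.leaf c8_500) (BT.leaf c8_501)) (BT.node 13102 (BT.leaf c8_502) (BT.leaf c8_503))) (BT.node 13105 (BT.node 13104 (BT.leaf c8_504) (BT.leaf c8_505)) (BT.leaf c8_506)))))) (BT.node 13134 (BT.node 13120 (BT.node 13113 (BT.node 13110 (BT.node 13108 (BT.node 13107 (BT.leaf c8_507) (BT.leaf c8_508)) (BT.node 13109 (BT.leaf c8_509) (BT.leaf c8_510))) (BT.node 13112 (BT.node 13111 (BT.leaf c8_511) (BT.leaf c8_512)) (BT.leaf c8_513))) (BT.node 13117 (BT.node 13115 (BT.node 13114 (BT.leaf c8_514) (BT.leaf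 c8_515)) (BT.node 13116 (BT.leaf c8_516) (BT.leaf c8_517))) (BT.node 13119 (BT.node 13118 (BT.leaf c8_518) (BT.leaf c8_519)) (BT.leaf c8_520)))) (BT.node 13127 (BT.node 13124 (BT.node 13122 (BT.node 13121 (BT.leaf c8_521) (BT.leaf c8_522)) (BT.node 13123 (BT.leaf c8_523) (BT.leaf c8_524))) (BT.node 13126 (BT.node 13125 (BT.leaf c8_525) (BT.leaf c8_526)) (BT.leaf c8_527))) (BT.node 13131 (BT.node 13129 (BT.node 13128 (BT.leaf c8_528) (BT.leaf c8_529)) (BT.node 13130 (BT.leaf c8_530) (BT.leaf c8_531))) (BT.node 13133 (BT.node 13132 (BT.leaf c8_532) (BT.leaf c8_533)) (BT.leaf c8_534))))) (BT.node 13148 (BT.node 13141 (BT.node 13138 (BT.node 13136 (BT.node 13135 (BT.leaf c8_535) (BT.leaf c8_536)) (BT.node 13137 (BT.leaf c8_537) (BT.leaf c8_538))) (BT.node 13140 (BT.node 13139 (BT.leaf c8_539) (BT.leaf c8_540)) (BT.leaf c8_541))) (BT.node 13145 (BT.node 13143 (BT.node 13142 (BT.leaf c8_542) (BT.leaf c8_543))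 (BT.node 13144 (BT.leaf c8_544) (BT.leaf c8_545))) (BT.node 13147 (BT.node 13146 (BT.leaf c8_546) (BT.leaf c8_547)) (BT.leaf c8_548)))) (BT.node 13155 (BT.node 13152 (BT.node 13150 (BT.node 13149 (BT.leaf c8_549) (BT.leaf c8_550)) (BT.node 13151 (BT.leaf c8_551) (BT.leaf c8_552))) (BT.node 13154 (BT.node 13153 (BT.leaf c8_553) (BT.leaf c8_554)) (BT.leaf c8_555))) (BT.node 13159 (BT.node 13157 (BT.node 13156 (BT.leaf c8_556) (BT.leaf c8_557)) (BT.node 13158 (BT.leaf c8_558) (BT.leaf c8_559))) (BT.node 13161 (BT.node 13160 (BT.leaf c8_560) (BT.leaf c8_561)) (BT.leaf c8_562))))))) (BT.node 13218 (BT.node 13190 (BT.node 13176 (BT.node 13169 (BT.node 13166 (BT.node 13164 (BT.node 13163 (BT.leaf c8_563) (BT.leaf c8_564)) (BT.node 13165 (BT.leaf c8_565) (BT.leaf c8_566))) (BT.node 13168 (BT.node 13167 (BT.leaf c8_567) (BT.leaf c8_568)) (BT.leaf c8_569))) (BT.node 13173 (BT.node 13171 (BT.node 13170 (BT.leaf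 c8_570) (BT.leaf c8_571)) (BT.node 13172 (BT.leaf c8_572) (BT.leaf c8_573))) (BT.node 13175 (BT.node 13174 (BT.leaf c8_574) (BT.leaf c8_575)) (BT.leaf c8_576)))) (BT.node 13183 (BT.node 13180 (BT.node 13178 (BT.node 13177 (BT.leaf c8_577) (BT.leaf c8_578)) (BT.node 13179 (BT.leaf c8_579) (BT.leaf c8_580))) (BT.node 13182 (BT.node 13181 (BT.leaf c8_581) (BT.leaf c8_582)) (BT.leaf c8_583))) (BT.node 13187 (BT.node 13185 (BT.node 13184 (BT.leaf c8_584) (BT.leaf c8_585)) (BT.node 13186 (BT.leaf c8_586) (BT.leaf c8_587))) (BT.node 13189 (BT.node 13188 (BT.leaf c8_588) (BT.leaf c8_589)) (BT.leaf c8_590))))) (BT.node 13204 (BT.node 13197 (BT.node 13194 (BT.node 13192 (BT.node 13191 (BT.leaf c8_591) (BT.leaf c8_592)) (BT.node 13193 (BT.leaf c8_593) (BT.leaf c8_594))) (BT.node 13196 (BT.node 13195 (BT.leaf c8_595) (BT.leaf c8_596)) (BT.leaf c8_597))) (BT.node 13201 (BT.node 13199 (BT.node 13198 (BT.leaf c8_598)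 (BT.leaf c8_599)) (BT.node 13200 (BT.leaf c8_600) (BT.leaf c8_601))) (BT.node 13203 (BT.node 13202 (BT.leaf c8_602) (BT.leaf c8_603)) (BT.leaf c8_604)))) (BT.node 13211 (BT.node 13208 (BT.node 13206 (BT.node 13205 (BT.leaf c8_605) (BT.leaf c8_606)) (BT.node 13207 (BT.leaf c8_607) (BT.leaf c8_608))) (BT.node 13210 (BT.node 13209 (BT.leaf c8_609) (BT.leaf c8_610)) (BT.leaf c8_611))) (BT.node 13215 (BT.node 13213 (BT.node 13212 (BT.leaf c8_612) (BT.leaf c8_613)) (BT.node 13214 (BT.leaf c8_614) (BT.leaf c8_615))) (BT.node 13217 (BT.node 13216 (BT.leaf c8_616) (BT.leaf c8_617)) (BT.leaf c8_618)))))) (BT.node 13246 (BT.node 13232 (BT.node 13225 (BT.node 13222 (BT.node 13220 (BT.node 13219 (BT.leaf c8_619) (BT.leaf c8_620)) (BT.node 13221 (BT.leaf c8_621) (BT.leaf c8_622))) (BT.node 13224 (BT.node 13223 (BT.leaf c8_623) (BT.leaf c8_624)) (BT.leaf c8_625))) (BT.node 13229 (BT.node 13227 (BT.node 13226 (BT.leaf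 c8_626) (BT.leaf c8_627)) (BT.node 13228 (BT.leaf c8_628) (BT.leaf c8_629))) (BT.node 13231 (BT.node 13230 (BT.leaf c8_630) (BT.leaf c8_631)) (BT.leaf c8_632)))) (BT.node 13239 (BT.node 13236 (BT.node 13234 (BT.node 13233 (BT.leaf c8_633) (BT.leaf c8_634)) (BT.node 13235 (BT.leaf c8_635) (BT.leaf c8_636))) (BT.node 13238 (BT.node 13237 (BT.leaf c8_637) (BT.leaf c8_638)) (BT.leaf c8_639))) (BT.node 13243 (BT.node 13241 (BT.node 13240 (BT.leaf c8_640) (BT.leaf c8_641)) (BT.node 13242 (BT.leaf c8_642) (BT.leaf c8_643))) (BT.node 13245 (BT.node 13244 (BT.leaf c8_644) (BT.leaf c8_645)) (BT.leaf c8_646))))) (BT.node 13260 (BT.node 13253 (BT.node 13250 (BT.node 13248 (BT.node 13247 (BT.leaf c8_647) (BT.leaf c8_648)) (BT.node 13249 (BT.leaf c8_649) (BT.leaf c8_650))) (BT.node 13252 (BT.node 13251 (BT.leaf c8_651) (BT.leaf c8_652)) (BT.leaf c8_653))) (BT.node 13257 (BT.node 13255 (BT.node 13254 (BT.leaf c8_654)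 (BT.leaf c8_655)) (BT.node 13256 (BT.leaf c8_656) (BT.leaf c8_657))) (BT.node 13259 (BT.node 13258 (BT.leaf c8_658) (BT.leaf c8_659)) (BT.leaf c8_660)))) (BT.node 13267 (BT.node 13264 (BT.node 13262 (BT.node 13261 (BT.leaf c8_661) (BT.leaf c8_662)) (BT.node 13263 (BT.leaf c8_663) (BT.leaf c8_664))) (BT.node 13266 (BT.node 13265 (BT.leaf c8_665) (BT.leaf c8_666)) (BT.leaf c8_667))) (BT.node 13271 (BT.node 13269 (BT.node 13268 (BT.leaf c8_668) (BT.leaf c8_669)) (BT.node 13270 (BT.leaf c8_670) (BT.leaf c8_671))) (BT.node 13273 (BT.node 13272 (BT.leaf c8_672) (BT.leaf c8_673)) (BT.leaf c8_674)))))))) (BT.node 13387 (BT.node 13331 (BT.node 13303 (BT.node 13289 (BT.node 13282 (BT.node 13278 (BT.node 13276 (BT.node 13275 (BT.leaf c8_675) (BT.leaf c8_676)) (BT.node 13277 (BT.leaf c8_677) (BT.leaf c8_678))) (BT.node 13280 (BT.node 13279 (BT.leaf c8_679) (BT.leaf c8_680)) (BT.node 13281 (BT.leaf c8_681) (BT.leaf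 c8_682)))) (BT.node 13286 (BT.node 13284 (BT.node 13283 (BT.leaf c8_683) (BT.leaf c8_684)) (BT.node 13285 (BT.leaf c8_685) (BT.leaf c8_686))) (BT.node 13288 (BT.node 13287 (BT.leaf c8_687) (BT.leaf c8_688)) (BT.leaf c8_689)))) (BT.node 13296 (BT.node 13293 (BT.node 13291 (BT.node 13290 (BT.leaf c8_690) (BT.leaf c8_691)) (BT.node 13292 (BT.leaf c8_692) (BT.leaf c8_693))) (BT.node 13295 (BT.node 13294 (BT.leaf c8_694) (BT.leaf c8_695)) (BT.leaf c8_696))) (BT.node 13300 (BT.node 13298 (BT.node 13297 (BT.leaf c8_697) (BT.leaf c8_698)) (BT.node 13299 (BT.leaf c8_699) (BT.leaf c8_700))) (BT.node 13302 (BT.node 13301 (BT.leaf c8_701) (BT.leaf c8_702)) (BT.leaf c8_703))))) (BT.node 13317 (BT.node 13310 (BT.node 13307 (BT.node 13305 (BT.node 13304 (BT.leaf c8_704) (BT.leaf c8_705)) (BT.node 13306 (BT.leaf c8_706) (BT.leaf c8_707))) (BT.node 13309 (BT.node 13308 (BT.leaf c8_708) (BT.leaf c8_709)) (BT.leaf c8_710)))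 (BT.node 13314 (BT.node 13312 (BT.node 13311 (BT.leaf c8_711) (BT.leaf c8_712)) (BT.node 13313 (BT.leaf c8_713) (BT.leaf c8_714))) (BT.node 13316 (BT.node 13315 (BT.leaf c8_715) (BT.leaf c8_716)) (BT.leaf c8_717)))) (BT.node 13324 (BT.node 13321 (BT.node 13319 (BT.node 13318 (BT.leaf c8_718) (BT.leaf c8_719)) (BT.node 13320 (BT.leaf c8_720) (BT.leaf c8_721))) (BT.node 13323 (BT.node 13322 (BT.leaf c8_722) (BT.leaf c8_723)) (BT.leaf c8_724))) (BT.node 13328 (BT.node 13326 (BT.node 13325 (BT.leaf c8_725) (BT.leaf c8_726)) (BT.node 13327 (BT.leaf c8_727) (BT.leaf c8_728))) (BT.node 13330 (BT.node 13329 (BT.leaf c8_729) (BT.leaf c8_730)) (BT.leaf c8_731)))))) (BT.node 13359 (BT.node 13345 (BT.node 13338 (BT.node 13335 (BT.node 13333 (BT.node 13332 (BT.leaf c8_732) (BT.leaf c8_733)) (BT.node 13334 (BT.leaf c8_734) (BT.leaf c8_735))) (BT.node 13337 (BT.node 13336 (BT.leaf c8_736) (BT.leaf c8_737)) (BT.leaf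 c8_738))) (BT.node 13342 (BT.node 13340 (BT.node 13339 (BT.leaf c8_739) (BT.leaf c8_740)) (BT.node 13341 (BT.leaf c8_741) (BT.leaf c8_742))) (BT.node 13344 (BT.node 13343 (BT.leaf c8_743) (BT.leaf c8_744)) (BT.leaf c8_745)))) (BT.node 13352 (BT.node 13349 (BT.node 13347 (BT.node 13346 (BT.leaf c8_746) (BT.leaf c8_747)) (BT.node 13348 (BT.leaf c8_748) (BT.leaf c8_749))) (BT.node 13351 (BT.node 13350 (BT.leaf c8_750) (BT.leaf c8_751)) (BT.leaf c8_752))) (BT.node 13356 (BT.node 13354 (BT.node 13353 (BT.leaf c8_753) (BT.leaf c8_754)) (BT.node 13355 (BT.leaf c8_755) (BT.leaf c8_756))) (BT.node 13358 (BT.node 13357 (BT.leaf c8_757) (BT.leaf c8_758)) (BT.leaf c8_759))))) (BT.node 13373 (BT.node 13366 (BT.node 13363 (BT.node 13361 (BT.node 13360 (BT.leaf c8_760) (BT.leaf c8_761)) (BT.node 13362 (BT.leaf c8_762) (BT.leaf c8_763))) (BT.node 13365 (BT.node 13364 (BT.leaf c8_764) (BT.leaf c8_765)) (BT.leaf c8_766)))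 (BT.node 13370 (BT.node 13368 (BT.node 13367 (BT.leaf c8_767) (BT.leaf c8_768)) (BT.node 13369 (BT.leaf c8_769) (BT.leaf c8_770))) (BT.node 13372 (BT.node 13371 (BT.leaf c8_771) (BT.leaf c8_772)) (BT.leaf c8_773)))) (BT.node 13380 (BT.node 13377 (BT.node 13375 (BT.node 13374 (BT.leaf c8_774) (BT.leaf c8_775)) (BT.node 13376 (BT.leaf c8_776) (BT.leaf c8_777))) (BT.node 13379 (BT.node 13378 (BT.leaf c8_778) (BT.leaf c8_779)) (BT.leaf c8_780))) (BT.node 13384 (BT.node 13382 (BT.node 13381 (BT.leaf c8_781) (BT.leaf c8_782)) (BT.node 13383 (BT.leaf c8_783) (BT.leaf c8_784))) (BT.node 13386 (BT.node 13385 (BT.leaf c8_785) (BT.leaf c8_786)) (BT.leaf c8_787))))))) (BT.node 13443 (BT.node 13415 (BT.node 13401 (BT.node 13394 (BT.node 13391 (BT.node 13389 (BT.node 13388 (BT.leaf c8_788) (BT.leaf c8_789)) (BT.node 13390 (BT.leaf c8_790) (BT.leaf c8_791))) (BT.node 13393 (BT.node 13392 (BT.leaf c8_792) (BT.leaf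 c8_793)) (BT.leaf c8_794))) (BT.node 13398 (BT.node 13396 (BT.node 13395 (BT.leaf c8_795) (BT.leaf c8_796)) (BT.node 13397 (BT.leaf c8_797) (BT.leaf c8_798))) (BT.node 13400 (BT.node 13399 (BT.leaf c8_799) (BT.leaf c8_800)) (BT.leaf c8_801)))) (BT.node 13408 (BT.node 13405 (BT.node 13403 (BT.node 13402 (BT.leaf c8_802) (BT.leaf c8_803)) (BT.node 13404 (BT.leaf c8_804) (BT.leaf c8_805))) (BT.node 13407 (BT.node 13406 (BT.leaf c8_806) (BT.leaf c8_807)) (BT.leaf c8_808))) (BT.node 13412 (BT.node 13410 (BT.node 13409 (BT.leaf c8_809) (BT.leaf c8_810)) (BT.node 13411 (BT.leaf c8_811) (BT.leaf c8_812))) (BT.node 13414 (BT.node 13413 (BT.leaf c8_813) (BT.leaf c8_814)) (BT.leaf c8_815))))) (BT.node 13429 (BT.node 13422 (BT.node 13419 (BT.node 13417 (BT.node 13416 (BT.leaf c8_816) (BT.leaf c8_817)) (BT.node 13418 (BT.leaf c8_818) (BT.leaf c8_819))) (BT.node 13421 (BT.node 13420 (BT.leaf c8_820) (BT.leaf c8_821))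 (BT.leaf c8_822))) (BT.node 13426 (BT.node 13424 (BT.node 13423 (BT.leaf c8_823) (BT.leaf c8_824)) (BT.node 13425 (BT.leaf c8_825) (BT.leaf c8_826))) (BT.node 13428 (BT.node 13427 (BT.leaf c8_827) (BT.leaf c8_828)) (BT.leaf c8_829)))) (BT.node 13436 (BT.node 13433 (BT.node 13431 (BT.node 13430 (BT.leaf c8_830) (BT.leaf c8_831)) (BT.node 13432 (BT.leaf c8_832) (BT.leaf c8_833))) (BT.node 13435 (BT.node 13434 (BT.leaf c8_834) (BT.leaf c8_835)) (BT.leaf c8_836))) (BT.node 13440 (BT.node 13438 (BT.node 13437 (BT.leaf c8_837) (BT.leaf c8_838)) (BT.node 13439 (BT.leaf c8_839) (BT.leaf c8_840))) (BT.node 13442 (BT.node 13441 (BT.leaf c8_841) (BT.leaf c8_842)) (BT.leaf c8_843)))))) (BT.node 13471 (BT.node 13457 (BT.node 13450 (BT.node 13447 (BT.node 13445 (BT.node 13444 (BT.leaf c8_844) (BT.leaf c8_845)) (BT.node 13446 (BT.leaf c8_846) (BT.leaf c8_847))) (BT.node 13449 (BT.node 13448 (BT.leaf c8_848) (BT.leaf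 c8_849)) (BT.leaf c8_850))) (BT.node 13454 (BT.node 13452 (BT.node 13451 (BT.leaf c8_851) (BT.leaf c8_852)) (BT.node 13453 (BT.leaf c8_853) (BT.leaf c8_854))) (BT.node 13456 (BT.node 13455 (BT.leaf c8_855) (BT.leaf c8_856)) (BT.leaf c8_857)))) (BT.node 13464 (BT.node 13461 (BT.node 13459 (BT.node 13458 (BT.leaf c8_858) (BT.leaf c8_859)) (BT.node 13460 (BT.leaf c8_860) (BT.leaf c8_861))) (BT.node 13463 (BT.node 13462 (BT.leaf c8_862) (BT.leaf c8_863)) (BT.leaf c8_864))) (BT.node 13468 (BT.node 13466 (BT.node 13465 (BT.leaf c8_865) (BT.leaf c8_866)) (BT.node 13467 (BT.leaf c8_867) (BT.leaf c8_868))) (BT.node 13470 (BT.node 13469 (BT.leaf c8_869) (BT.leaf c8_870)) (BT.leaf c8_871))))) (BT.node 13485 (BT.node 13478 (BT.node 13475 (BT.node 13473 (BT.node 13472 (BT.leaf c8_872) (BT.leaf c8_873)) (BT.node 13474 (BT.leaf c8_874) (BT.leaf c8_875))) (BT.node 13477 (BT.node 13476 (BT.leaf c8_876) (BT.leaf c8_877))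 (BT.leaf c8_878))) (BT.node 13482 (BT.node 13480 (BT.node 13479 (BT.leaf c8_879) (BT.leaf c8_880)) (BT.node 13481 (BT.leaf c8_881) (BT.leaf c8_882))) (BT.node 13484 (BT.node 13483 (BT.leaf c8_883) (BT.leaf c8_884)) (BT.leaf c8_885)))) (BT.node 13492 (BT.node 13489 (BT.node 13487 (BT.node 13486 (BT.leaf c8_886) (BT.leaf c8_887)) (BT.node 13488 (BT.leaf c8_888) (BT.leaf c8_889))) (BT.node 13491 (BT.node 13490 (BT.leaf c8_890) (BT.leaf c8_891)) (BT.leaf c8_892))) (BT.node 13496 (BT.node 13494 (BT.node 13493 (BT.leaf c8_893) (BT.leaf c8_894)) (BT.node 13495 (BT.leaf c8_895) (BT.leaf c8_896))) (BT.node 13498 (BT.node 13497 (BT.leaf c8_897) (BT.leaf c8_898)) (BT.leaf c8_899))))))))))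
/-- the chunks of the letter 15 -/
def colL_15 : BT ℕ := (BT.node 13949 (BT.node 13724 (BT.node 13612 (BT.node 13556 (BT.node 13528 (BT.node 13514 (BT.node 13507 (BT.node 13503 (BT.node 13501 (BT.node 13500 (BT.leaf c8_0) (BT.leaf c8_1)) (BT.node 13502 (BT.leaf c8_2) (BT.leaf c8_3))) (BT.node 13505 (BT.node 13504 (BT.leaf c8_4) (BT.leaf c8_5)) (BT.node 13506 (BT.leaf c8_6) (BT.leaf c8_7)))) (BT.node 13511 (BT.node 13509 (BT.node 13508 (BT.leaf c8_8) (BT.leaf c8_9)) (BT.node 13510 (BT.leaf c8_10) (BT.leaf c8_11))) (BT.node 13513 (BT.node 13512 (BT.leaf c8_12) (BT.leaf c8_13)) (BT.leaf c8_14)))) (BT.node 13521 (BT.node 13518 (BT.node 13516 (BT.node 13515 (BT.leaf c8_15) (BT.leaf c8_16)) (BT.node 13517 (BT.leaf c8_17) (BT.leaf c8_18))) (BT.node 13520 (BT.node 13519 (BT.leaf c8_19) (BT.leaf c8_20)) (BT.leaf c8_21))) (BT.node 13525 (BT.node 13523 (BT.node 13522 (BT.leaf c8_22) (BT.leaf c8_23)) (BT.node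 13524 (BT.leaf c8_24) (BT.leaf c8_25))) (BT.node 13527 (BT.node 13526 (BT.leaf c8_26) (BT.leaf c8_27)) (BT.leaf c8_28))))) (BT.node 13542 (BT.node 13535 (BT.node 13532 (BT.node 13530 (BT.node 13529 (BT.leaf c8_29) (BT.leaf c8_30)) (BT.node 13531 (BT.leaf c8_31) (BT.leaf c8_32))) (BT.node 13534 (BT.node 13533 (BT.leaf c8_33) (BT.leaf c8_34)) (BT.leaf c8_35))) (BT.node 13539 (BT.node 13537 (BT.node 13536 (BT.leaf c8_36) (BT.leaf c8_37)) (BT.node 13538 (BT.leaf c8_38) (BT.leaf c8_39))) (BT.node 13541 (BT.node 13540 (BT.leaf c8_40) (BT.leaf c8_41)) (BT.leaf c8_42)))) (BT.node 13549 (BT.node 13546 (BT.node 13544 (BT.node 13543 (BT.leaf c8_43) (BT.leaf c8_44)) (BT.node 13545 (BT.leaf c8_45) (BT.leaf c8_46))) (BT.node 13548 (BT.node 13547 (BT.leaf c8_47) (BT.leaf c8_48)) (BT.leaf c8_49))) (BT.node 13553 (BT.node 13551 (BT.node 13550 (BT.leaf c8_50) (BT.leaf c8_51)) (BT.node 13552 (BT.leaf c8_52) (BT.leaf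 c8_53))) (BT.node 13555 (BT.node 13554 (BT.leaf c8_54) (BT.leaf c8_55)) (BT.leaf c8_56)))))) (BT.node 13584 (BT.node 13570 (BT.node 13563 (BT.node 13560 (BT.node 13558 (BT.node 13557 (BT.leaf c8_57) (BT.leaf c8_58)) (BT.node 13559 (BT.leaf c8_59) (BT.leaf c8_60))) (BT.node 13562 (BT.node 13561 (BT.leaf c8_61) (BT.leaf c8_62)) (BT.leaf c8_63))) (BT.node 13567 (BT.node 13565 (BT.node 13564 (BT.leaf c8_64) (BT.leaf c8_65)) (BT.node 13566 (BT.leaf c8_66) (BT.leaf c8_67))) (BT.node 13569 (BT.node 13568 (BT.leaf c8_68) (BT.leaf c8_69)) (BT.leaf c8_70)))) (BT.node 13577 (BT.node 13574 (BT.node 13572 (BT.node 13571 (BT.leaf c8_71) (BT.leaf c8_72)) (BT.node 13573 (BT.leaf c8_73) (BT.leaf c8_74))) (BT.node 13576 (BT.node 13575 (BT.leaf c8_75) (BT.leaf c8_76)) (BT.leaf c8_77))) (BT.node 13581 (BT.node 13579 (BT.node 13578 (BT.leaf c8_78) (BT.leaf c8_79)) (BT.node 13580 (BT.leaf c8_80) (BT.leaf c8_81))) (BT.node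 13583 (BT.node 13582 (BT.leaf c8_82) (BT.leaf c8_83)) (BT.leaf c8_84))))) (BT.node 13598 (BT.node 13591 (BT.node 13588 (BT.node 13586 (BT.node 13585 (BT.leaf c8_85) (BT.leaf c8_86)) (BT.node 13587 (BT.leaf c8_87) (BT.leaf c8_88))) (BT.node 13590 (BT.node 13589 (BT.leaf c8_89) (BT.leaf c8_90)) (BT.leaf c8_91))) (BT.node 13595 (BT.node 13593 (BT.node 13592 (BT.leaf c8_92) (BT.leaf c8_93)) (BT.node 13594 (BT.leaf c8_94) (BT.leaf c8_95))) (BT.node 13597 (BT.node 13596 (BT.leaf c8_96) (BT.leaf c8_97)) (BT.leaf c8_98)))) (BT.node 13605 (BT.node 13602 (BT.node 13600 (BT.node 13599 (BT.leaf c8_99) (BT.leaf c8_100)) (BT.node 13601 (BT.leaf c8_101) (BT.leaf c8_102))) (BT.node 13604 (BT.node 13603 (BT.leaf c8_103) (BT.leaf c8_104)) (BT.leaf c8_105))) (BT.node 13609 (BT.node 13607 (BT.node 13606 (BT.leaf c8_106) (BT.leaf c8_107)) (BT.node 13608 (BT.leaf c8_108) (BT.leaf c8_109))) (BT.node 13611 (BT.node 13610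 (BT.leaf c8_110) (BT.leaf c8_111)) (BT.leaf c8_112))))))) (BT.node 13668 (BT.node 13640 (BT.node 13626 (BT.node 13619 (BT.node 13616 (BT.node 13614 (BT.node 13613 (BT.leaf c8_113) (BT.leaf c8_114)) (BT.node 13615 (BT.leaf c8_115) (BT.leaf c8_116))) (BT.node 13618 (BT.node 13617 (BT.leaf c8_117) (BT.leaf c8_118)) (BT.leaf c8_119))) (BT.node 13623 (BT.node 13621 (BT.node 13620 (BT.leaf c8_120) (BT.leaf c8_121)) (BT.node 13622 (BT.leaf c8_122) (BT.leaf c8_123))) (BT.node 13625 (BT.node 13624 (BT.leaf c8_124) (BT.leaf c8_125)) (BT.leaf c8_126)))) (BT.node 13633 (BT.node 13630 (BT.node 13628 (BT.node 13627 (BT.leaf c8_127) (BT.leaf c8_128)) (BT.node 13629 (BT.leaf c8_129) (BT.leaf c8_130))) (BT.node 13632 (BT.node 13631 (BT.leaf c8_131) (BT.leaf c8_132)) (BT.leaf c8_133))) (BT.node 13637 (BT.node 13635 (BT.node 13634 (BT.leaf c8_134) (BT.leaf c8_135)) (BT.node 13636 (BT.leaf c8_136) (BT.leaf c8_137)))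 (BT.node 13639 (BT.node 13638 (BT.leaf c8_138) (BT.leaf c8_139)) (BT.leaf c8_140))))) (BT.node 13654 (BT.node 13647 (BT.node 13644 (BT.node 13642 (BT.node 13641 (BT.leaf c8_141) (BT.leaf c8_142)) (BT.node 13643 (BT.leaf c8_143) (BT.leaf c8_144))) (BT.node 13646 (BT.node 13645 (BT.leaf c8_145) (BT.leaf c8_146)) (BT.leaf c8_147))) (BT.node 13651 (BT.node 13649 (BT.node 13648 (BT.leaf c8_148) (BT.leaf c8_149)) (BT.node 13650 (BT.leaf c8_150) (BT.leaf c8_151))) (BT.node 13653 (BT.node 13652 (BT.leaf c8_152) (BT.leaf c8_153)) (BT.leaf c8_154)))) (BT.node 13661 (BT.node 13658 (BT.node 13656 (BT.node 13655 (BT.leaf c8_155) (BT.leaf c8_156)) (BT.node 13657 (BT.leaf c8_157) (BT.leaf c8_158))) (BT.node 13660 (BT.node 13659 (BT.leaf c8_159) (BT.leaf c8_160)) (BT.leaf c8_161))) (BT.node 13665 (BT.node 13663 (BT.node 13662 (BT.leaf c8_162) (BT.leaf c8_163)) (BT.node 13664 (BT.leaf c8_164) (BT.leaf c8_165))) (BT.node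 13667 (BT.node 13666 (BT.leaf c8_166) (BT.leaf c8_167)) (BT.leaf c8_168)))))) (BT.node 13696 (BT.node 13682 (BT.node 13675 (BT.node 13672 (BT.node 13670 (BT.node 13669 (BT.leaf c8_169) (BT.leaf c8_170)) (BT.node 13671 (BT.leaf c8_171) (BT.leaf c8_172))) (BT.node 13674 (BT.node 13673 (BT.leaf c8_173) (BT.leaf c8_174)) (BT.leaf c8_175))) (BT.node 13679 (BT.node 13677 (BT.node 13676 (BT.leaf c8_176) (BT.leaf c8_177)) (BT.node 13678 (BT.leaf c8_178) (BT.leaf c8_179))) (BT.node 13681 (BT.node 13680 (BT.leaf c8_180) (BT.leaf c8_181)) (BT.leaf c8_182)))) (BT.node 13689 (BT.node 13686 (BT.node 13684 (BT.node 13683 (BT.leaf c8_183) (BT.leaf c8_184)) (BT.node 13685 (BT.leaf c8_185) (BT.leaf c8_186))) (BT.node 13688 (BT.node 13687 (BT.leaf c8_187) (BT.leaf c8_188)) (BT.leaf c8_189))) (BT.node 13693 (BT.node 13691 (BT.node 13690 (BT.leaf c8_190) (BT.leaf c8_191)) (BT.node 13692 (BT.leaf c8_192) (BT.leaf c8_193)))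 (BT.node 13695 (BT.node 13694 (BT.leaf c8_194) (BT.leaf c8_195)) (BT.leaf c8_196))))) (BT.node 13710 (BT.node 13703 (BT.node 13700 (BT.node 13698 (BT.node 13697 (BT.leaf c8_197) (BT.leaf c8_198)) (BT.node 13699 (BT.leaf c8_199) (BT.leaf c8_200))) (BT.node 13702 (BT.node 13701 (BT.leaf c8_201) (BT.leaf c8_202)) (BT.leaf c8_203))) (BT.node 13707 (BT.node 13705 (BT.node 13704 (BT.leaf c8_204) (BT.leaf c8_205)) (BT.node 13706 (BT.leaf c8_206) (BT.leaf c8_207))) (BT.node 13709 (BT.node 13708 (BT.leaf c8_208) (BT.leaf c8_209)) (BT.leaf c8_210)))) (BT.node 13717 (BT.node 13714 (BT.node 13712 (BT.node 13711 (BT.leaf c8_211) (BT.leaf c8_212)) (BT.node 13713 (BT.leaf c8_213) (BT.leaf c8_214))) (BT.node 13716 (BT.node 13715 (BT.leaf c8_215) (BT.leaf c8_216)) (BT.leaf c8_217))) (BT.node 13721 (BT.node 13719 (BT.node 13718 (BT.leaf c8_218) (BT.leaf c8_219)) (BT.node 13720 (BT.leaf c8_220) (BT.leaf c8_221))) (BT.node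 13723 (BT.node 13722 (BT.leaf c8_222) (BT.leaf c8_223)) (BT.leaf c8_224)))))))) (BT.node 13837 (BT.node 13781 (BT.node 13753 (BT.node 13739 (BT.node 13732 (BT.node 13728 (BT.node 13726 (BT.node 13725 (BT.leaf c8_225) (BT.leaf c8_226)) (BT.node 13727 (BT.leaf c8_227) (BT.leaf c8_228))) (BT.node 13730 (BT.node 13729 (BT.leaf c8_229) (BT.leaf c8_230)) (BT.node 13731 (BT.leaf c8_231) (BT.leaf c8_232)))) (BT.node 13736 (BT.node 13734 (BT.node 13733 (BT.leaf c8_233) (BT.leaf c8_234)) (BT.node 13735 (BT.leaf c8_235) (BT.leaf c8_236))) (BT.node 13738 (BT.node 13737 (BT.leaf c8_237) (BT.leaf c8_238)) (BT.leaf c8_239)))) (BT.node 13746 (BT.node 13743 (BT.node 13741 (BT.node 13740 (BT.leaf c8_240) (BT.leaf c8_241)) (BT.node 13742 (BT.leaf c8_242) (BT.leaf c8_243))) (BT.node 13745 (BT.node 13744 (BT.leaf c8_244) (BT.leaf c8_245)) (BT.leaf c8_246))) (BT.node 13750 (BT.node 13748 (BT.node 13747 (BT.leaf c8_247)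 (BT.leaf c8_248)) (BT.node 13749 (BT.leaf c8_249) (BT.leaf c8_250))) (BT.node 13752 (BT.node 13751 (BT.leaf c8_251) (BT.leaf c8_252)) (BT.leaf c8_253))))) (BT.node 13767 (BT.node 13760 (BT.node 13757 (BT.node 13755 (BT.node 13754 (BT.leaf c8_254) (BT.leaf c8_255)) (BT.node 13756 (BT.leaf c8_256) (BT.leaf c8_257))) (BT.node 13759 (BT.node 13758 (BT.leaf c8_258) (BT.leaf c8_259)) (BT.leaf c8_260))) (BT.node 13764 (BT.node 13762 (BT.node 13761 (BT.leaf c8_261) (BT.leaf c8_262)) (BT.node 13763 (BT.leaf c8_263) (BT.leaf c8_264))) (BT.node 13766 (BT.node 13765 (BT.leaf c8_265) (BT.leaf c8_266)) (BT.leaf c8_267)))) (BT.node 13774 (BT.node 13771 (BT.node 13769 (BT.node 13768 (BT.leaf c8_268) (BT.leaf c8_269)) (BT.node 13770 (BT.leaf c8_270) (BT.leaf c8_271))) (BT.node 13773 (BT.node 13772 (BT.leaf c8_272) (BT.leaf c8_273)) (BT.leaf c8_274))) (BT.node 13778 (BT.node 13776 (BT.node 13775 (BT.leaf c8_275) (BT.leaf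 c8_276)) (BT.node 13777 (BT.leaf c8_277) (BT.leaf c8_278))) (BT.node 13780 (BT.node 13779 (BT.leaf c8_279) (BT.leaf c8_280)) (BT.leaf c8_281)))))) (BT.node 13809 (BT.node 13795 (BT.node 13788 (BT.node 13785 (BT.node 13783 (BT.node 13782 (BT.leaf c8_282) (BT.leaf c8_283)) (BT.node 13784 (BT.leaf c8_284) (BT.leaf c8_285))) (BT.node 13787 (BT.node 13786 (BT.leaf c8_286) (BT.leaf c8_287)) (BT.leaf c8_288))) (BT.node 13792 (BT.node 13790 (BT.node 13789 (BT.leaf c8_289) (BT.leaf c8_290)) (BT.node 13791 (BT.leaf c8_291) (BT.leaf c8_292))) (BT.node 13794 (BT.node 13793 (BT.leaf c8_293) (BT.leaf c8_294)) (BT.leaf c8_295)))) (BT.node 13802 (BT.node 13799 (BT.node 13797 (BT.node 13796 (BT.leaf c8_296) (BT.leaf c8_297)) (BT.node 13798 (BT.leaf c8_298) (BT.leaf c8_299))) (BT.node 13801 (BT.node 13800 (BT.leaf c8_300) (BT.leaf c8_301)) (BT.leaf c8_302))) (BT.node 13806 (BT.node 13804 (BT.node 13803 (BT.leaf c8_303)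 (BT.leaf c8_304)) (BT.node 13805 (BT.leaf c8_305) (BT.leaf c8_306))) (BT.node 13808 (BT.node 13807 (BT.leaf c8_307) (BT.leaf c8_308)) (BT.leaf c8_309))))) (BT.node 13823 (BT.node 13816 (BT.node 13813 (BT.node 13811 (BT.node 13810 (BT.leaf c8_310) (BT.leaf c8_311)) (BT.node 13812 (BT.leaf c8_312) (BT.leaf c8_313))) (BT.node 13815 (BT.node 13814 (BT.leaf c8_314) (BT.leaf c8_315)) (BT.leaf c8_316))) (BT.node 13820 (BT.node 13818 (BT.node 13817 (BT.leaf c8_317) (BT.leaf c8_318)) (BT.node 13819 (BT.leaf c8_319) (BT.leaf c8_320))) (BT.node 13822 (BT.node 13821 (BT.leaf c8_321) (BT.leaf c8_322)) (BT.leaf c8_323)))) (BT.node 13830 (BT.node 13827 (BT.node 13825 (BT.node 13824 (BT.leaf c8_324) (BT.leaf c8_325)) (BT.node 13826 (BT.leaf c8_326) (BT.leaf c8_327))) (BT.node 13829 (BT.node 13828 (BT.leaf c8_328) (BT.leaf c8_329)) (BT.leaf c8_330))) (BT.node 13834 (BT.node 13832 (BT.node 13831 (BT.leaf c8_331) (BT.leaf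 c8_332)) (BT.node 13833 (BT.leaf c8_333) (BT.leaf c8_334))) (BT.node 13836 (BT.node 13835 (BT.leaf c8_335) (BT.leaf c8_336)) (BT.leaf c8_337))))))) (BT.node 13893 (BT.node 13865 (BT.node 13851 (BT.node 13844 (BT.node 13841 (BT.node 13839 (BT.node 13838 (BT.leaf c8_338) (BT.leaf c8_339)) (BT.node 13840 (BT.leaf c8_340) (BT.leaf c8_341))) (BT.node 13843 (BT.node 13842 (BT.leaf c8_342) (BT.leaf c8_343)) (BT.leaf c8_344))) (BT.node 13848 (BT.node 13846 (BT.node 13845 (BT.leaf c8_345) (BT.leaf c8_346)) (BT.node 13847 (BT.leaf c8_347) (BT.leaf c8_348))) (BT.node 13850 (BT.node 13849 (BT.leaf c8_349) (BT.leaf c8_350)) (BT.leaf c8_351)))) (BT.node 13858 (BT.node 13855 (BT.node 13853 (BT.node 13852 (BT.leaf c8_352) (BT.leaf c8_353)) (BT.node 13854 (BT.leaf c8_354) (BT.leaf c8_355))) (BT.node 13857 (BT.node 13856 (BT.leaf c8_356) (BT.leaf c8_357)) (BT.leaf c8_358))) (BT.node 13862 (BT.node 13860 (BT.node 13859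 (BT.leaf c8_359) (BT.leaf c8_360)) (BT.node 13861 (BT.leaf c8_361) (BT.leaf c8_362))) (BT.node 13864 (BT.node 13863 (BT.leaf c8_363) (BT.leaf c8_364)) (BT.leaf c8_365))))) (BT.node 13879 (BT.node 13872 (BT.node 13869 (BT.node 13867 (BT.node 13866 (BT.leaf c8_366) (BT.leaf c8_367)) (BT.node 13868 (BT.leaf c8_368) (BT.leaf c8_369))) (BT.node 13871 (BT.node 13870 (BT.leaf c8_370) (BT.leaf c8_371)) (BT.leaf c8_372))) (BT.node 13876 (BT.node 13874 (BT.node 13873 (BT.leaf c8_373) (BT.leaf c8_374)) (BT.node 13875 (BT.leaf c8_375) (BT.leaf c8_376))) (BT.node 13878 (BT.node 13877 (BT.leaf c8_377) (BT.leaf c8_378)) (BT.leaf c8_379)))) (BT.node 13886 (BT.node 13883 (BT.node 13881 (BT.node 13880 (BT.leaf c8_380) (BT.leaf c8_381)) (BT.node 13882 (BT.leaf c8_382) (BT.leaf c8_383))) (BT.node 13885 (BT.node 13884 (BT.leaf c8_384) (BT.leaf c8_385)) (BT.leaf c8_386))) (BT.node 13890 (BT.node 13888 (BT.node 13887 (BT.leaf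 c8_387) (BT.leaf c8_388)) (BT.node 13889 (BT.leaf c8_389) (BT.leaf c8_390))) (BT.node 13892 (BT.node 13891 (BT.leaf c8_391) (BT.leaf c8_392)) (BT.leaf c8_393)))))) (BT.node 13921 (BT.node 13907 (BT.node 13900 (BT.node 13897 (BT.node 13895 (BT.node 13894 (BT.leaf c8_394) (BT.leaf c8_395)) (BT.node 13896 (BT.leaf c8_396) (BT.leaf c8_397))) (BT.node 13899 (BT.node 13898 (BT.leaf c8_398) (BT.leaf c8_399)) (BT.leaf c8_400))) (BT.node 13904 (BT.node 13902 (BT.node 13901 (BT.leaf c8_401) (BT.leaf c8_402)) (BT.node 13903 (BT.leaf c8_403) (BT.leaf c8_404))) (BT.node 13906 (BT.node 13905 (BT.leaf c8_405) (BT.leaf c8_406)) (BT.leaf c8_407)))) (BT.node 13914 (BT.node 13911 (BT.node 13909 (BT.node 13908 (BT.leaf c8_408) (BT.leaf c8_409)) (BT.node 13910 (BT.leaf c8_410) (BT.leaf c8_411))) (BT.node 13913 (BT.node 13912 (BT.leaf c8_412) (BT.leaf c8_413)) (BT.leaf c8_414))) (BT.node 13918 (BT.node 13916 (BT.node 13915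 (BT.leaf c8_415) (BT.leaf c8_416)) (BT.node 13917 (BT.leaf c8_417) (BT.leaf c8_418))) (BT.node 13920 (BT.node 13919 (BT.leaf c8_419) (BT.leaf c8_420)) (BT.leaf c8_421))))) (BT.node 13935 (BT.node 13928 (BT.node 13925 (BT.node 13923 (BT.node 13922 (BT.leaf c8_422) (BT.leaf c8_423)) (BT.node 13924 (BT.leaf c8_424) (BT.leaf c8_425))) (BT.node 13927 (BT.node 13926 (BT.leaf c8_426) (BT.leaf c8_427)) (BT.leaf c8_428))) (BT.node 13932 (BT.node 13930 (BT.node 13929 (BT.leaf c8_429) (BT.leaf c8_430)) (BT.node 13931 (BT.leaf c8_431) (BT.leaf c8_432))) (BT.node 13934 (BT.node 13933 (BT.leaf c8_433) (BT.leaf c8_434)) (BT.leaf c8_435)))) (BT.node 13942 (BT.node 13939 (BT.node 13937 (BT.node 13936 (BT.leaf c8_436) (BT.leaf c8_437)) (BT.node 13938 (BT.leaf c8_438) (BT.leaf c8_439))) (BT.node 13941 (BT.node 13940 (BT.leaf c8_440) (BT.leaf c8_441)) (BT.leaf c8_442))) (BT.node 13946 (BT.node 13944 (BT.node 13943 (BT.leaf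 c8_443) (BT.leaf c8_444)) (BT.node 13945 (BT.leaf c8_445) (BT.leaf c8_446))) (BT.node 13948 (BT.node 13947 (BT.leaf c8_447) (BT.leaf c8_448)) (BT.leaf c8_449))))))))) (BT.node 14174 (BT.node 14062 (BT.node 14006 (BT.node 13978 (BT.node 13964 (BT.node 13957 (BT.node 13953 (BT.node 13951 (BT.node 13950 (BT.leaf c8_450) (BT.leaf c8_451)) (BT.node 13952 (BT.leaf c8_452) (BT.leaf c8_453))) (BT.node 13955 (BT.node 13954 (BT.leaf c8_454) (BT.leaf c8_455)) (BT.node 13956 (BT.leaf c8_456) (BT.leaf c8_457)))) (BT.node 13961 (BT.node 13959 (BT.node 13958 (BT.leaf c8_458) (BT.leaf c8_459)) (BT.node 13960 (BT.leaf c8_460) (BT.leaf c8_461))) (BT.node 13963 (BT.node 13962 (BT.leaf c8_462) (BT.leaf c8_463)) (BT.leaf c8_464)))) (BT.node 13971 (BT.node 13968 (BT.node 13966 (BT.node 13965 (BT.leaf c8_465) (BT.leaf c8_466)) (BT.node 13967 (BT.leaf c8_467) (BT.leaf c8_468))) (BT.node 13970 (BT.node 13969 (BT.leaf c8_469)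 (BT.leaf c8_470)) (BT.leaf c8_471))) (BT.node 13975 (BT.node 13973 (BT.node 13972 (BT.leaf c8_472) (BT.leaf c8_473)) (BT.node 13974 (BT.leaf c8_474) (BT.leaf c8_475))) (BT.node 13977 (BT.node 13976 (BT.leaf c8_476) (BT.leaf c8_477)) (BT.leaf c8_478))))) (BT.node 13992 (BT.node 13985 (BT.node 13982 (BT.node 13980 (BT.node 13979 (BT.leaf c8_479) (BT.leaf c8_480)) (BT.node 13981 (BT.leaf c8_481) (BT.leaf c8_482))) (BT.node 13984 (BT.node 13983 (BT.leaf c8_483) (BT.leaf c8_484)) (BT.leaf c8_485))) (BT.node 13989 (BT.node 13987 (BT.node 13986 (BT.leaf c8_486) (BT.leaf c8_487)) (BT.node 13988 (BT.leaf c8_488) (BT.leaf c8_489))) (BT.node 13991 (BT.node 13990 (BT.leaf c8_490) (BT.leaf c8_491)) (BT.leaf c8_492)))) (BT.node 13999 (BT.node 13996 (BT.node 13994 (BT.node 13993 (BT.leaf c8_493) (BT.leaf c8_494)) (BT.node 13995 (BT.leaf c8_495) (BT.leaf c8_496))) (BT.node 13998 (BT.node 13997 (BT.leaf c8_497) (BT.leaf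 c8_498)) (BT.leaf c8_499))) (BT.node 14003 (BT.node 14001 (BT.node 14000 (BT.leaf c8_500) (BT.leaf c8_501)) (BT.node 14002 (BT.leaf c8_502) (BT.leaf c8_503))) (BT.node 14005 (BT.node 14004 (BT.leaf c8_504) (BT.leaf c8_505)) (BT.leaf c8_506)))))) (BT.node 14034 (BT.node 14020 (BT.node 14013 (BT.node 14010 (BT.node 14008 (BT.node 14007 (BT.leaf c8_507) (BT.leaf c8_508)) (BT.node 14009 (BT.leaf c8_509) (BT.leaf c8_510))) (BT.node 14012 (BT.node 14011 (BT.leaf c8_511) (BT.leaf c8_512)) (BT.leaf c8_513))) (BT.node 14017 (BT.node 14015 (BT.node 14014 (BT.leaf c8_514) (BT.leaf c8_515)) (BT.node 14016 (BT.leaf c8_516) (BT.leaf c8_517))) (BT.node 14019 (BT.node 14018 (BT.leaf c8_518) (BT.leaf c8_519)) (BT.leaf c8_520)))) (BT.node 14027 (BT.node 14024 (BT.node 14022 (BT.node 14021 (BT.leaf c8_521) (BT.leaf c8_522)) (BT.node 14023 (BT.leaf c8_523) (BT.leaf c8_524))) (BT.node 14026 (BT.node 14025 (BT.leaf c8_525)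 (BT.leaf c8_526)) (BT.leaf c8_527))) (BT.node 14031 (BT.node 14029 (BT.node 14028 (BT.leaf c8_528) (BT.leaf c8_529)) (BT.node 14030 (BT.leaf c8_530) (BT.leaf c8_531))) (BT.node 14033 (BT.node 14032 (BT.leaf c8_532) (BT.leaf c8_533)) (BT.leaf c8_534))))) (BT.node 14048 (BT.node 14041 (BT.node 14038 (BT.node 14036 (BT.node 14035 (BT.leaf c8_535) (BT.leaf c8_536)) (BT.node 14037 (BT.leaf c8_537) (BT.leaf c8_538))) (BT.node 14040 (BT.node 14039 (BT.leaf c8_539) (BT.leaf c8_540)) (BT.leaf c8_541))) (BT.node 14045 (BT.node 14043 (BT.node 14042 (BT.leaf c8_542) (BT.leaf c8_543)) (BT.node 14044 (BT.leaf c8_544) (BT.leaf c8_545))) (BT.node 14047 (BT.node 14046 (BT.leaf c8_546) (BT.leaf c8_547)) (BT.leaf c8_548)))) (BT.node 14055 (BT.node 14052 (BT.node 14050 (BT.node 14049 (BT.leaf c8_549) (BT.leaf c8_550)) (BT.node 14051 (BT.leaf c8_551) (BT.leaf c8_552))) (BT.node 14054 (BT.node 14053 (BT.leaf c8_553) (BT.leaf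 c8_554)) (BT.leaf c8_555))) (BT.node 14059 (BT.node 14057 (BT.node 14056 (BT.leaf c8_556) (BT.leaf c8_557)) (BT.node 14058 (BT.leaf c8_558) (BT.leaf c8_559))) (BT.node 14061 (BT.node 14060 (BT.leaf c8_560) (BT.leaf c8_561)) (BT.leaf c8_562))))))) (BT.node 14118 (BT.node 14090 (BT.node 14076 (BT.node 14069 (BT.node 14066 (BT.node 14064 (BT.node 14063 (BT.leaf c8_563) (BT.leaf c8_564)) (BT.node 14065 (BT.leaf c8_565) (BT.leaf c8_566))) (BT.node 14068 (BT.node 14067 (BT.leaf c8_567) (BT.leaf c8_568)) (BT.leaf c8_569))) (BT.node 14073 (BT.node 14071 (BT.node 14070 (BT.leaf c8_570) (BT.leaf c8_571)) (BT.node 14072 (BT.leaf c8_572) (BT.leaf c8_573))) (BT.node 14075 (BT.node 14074 (BT.leaf c8_574) (BT.leaf c8_575)) (BT.leaf c8_576)))) (BT.node 14083 (BT.node 14080 (BT.node 14078 (BT.node 14077 (BT.leaf c8_577) (BT.leaf c8_578)) (BT.node 14079 (BT.leaf c8_579) (BT.leaf c8_580))) (BT.node 14082 (BT.node 14081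 (BT.leaf c8_581) (BT.leaf c8_582)) (BT.leaf c8_583))) (BT.node 14087 (BT.node 14085 (BT.node 14084 (BT.leaf c8_584) (BT.leaf c8_585)) (BT.node 14086 (BT.leaf c8_586) (BT.leaf c8_587))) (BT.node 14089 (BT.node 14088 (BT.leaf c8_588) (BT.leaf c8_589)) (BT.leaf c8_590))))) (BT.node 14104 (BT.node 14097 (BT.node 14094 (BT.node 14092 (BT.node 14091 (BT.leaf c8_591) (BT.leaf c8_592)) (BT.node 14093 (BT.leaf c8_593) (BT.leaf c8_594))) (BT.node 14096 (BT.node 14095 (BT.leaf c8_595) (BT.leaf c8_596)) (BT.leaf c8_597))) (BT.node 14101 (BT.node 14099 (BT.node 14098 (BT.leaf c8_598) (BT.leaf c8_599)) (BT.node 14100 (BT.leaf c8_600) (BT.leaf c8_601))) (BT.node 14103 (BT.node 14102 (BT.leaf c8_602) (BT.leaf c8_603)) (BT.leaf c8_604)))) (BT.node 14111 (BT.node 14108 (BT.node 14106 (BT.node 14105 (BT.leaf c8_605) (BT.leaf c8_606)) (BT.node 14107 (BT.leaf c8_607) (BT.leaf c8_608))) (BT.node 14110 (BT.node 14109 (BT.leaf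 c8_609) (BT.leaf c8_610)) (BT.leaf c8_611))) (BT.node 14115 (BT.node 14113 (BT.node 14112 (BT.leaf c8_612) (BT.leaf c8_613)) (BT.node 14114 (BT.leaf c8_614) (BT.leaf c8_615))) (BT.node 14117 (BT.node 14116 (BT.leaf c8_616) (BT.leaf c8_617)) (BT.leaf c8_618)))))) (BT.node 14146 (BT.node 14132 (BT.node 14125 (BT.node 14122 (BT.node 14120 (BT.node 14119 (BT.leaf c8_619) (BT.leaf c8_620)) (BT.node 14121 (BT.leaf c8_621) (BT.leaf c8_622))) (BT.node 14124 (BT.node 14123 (BT.leaf c8_623) (BT.leaf c8_624)) (BT.leaf c8_625))) (BT.node 14129 (BT.node 14127 (BT.node 14126 (BT.leaf c8_626) (BT.leaf c8_627)) (BT.node 14128 (BT.leaf c8_628) (BT.leaf c8_629))) (BT.node 14131 (BT.node 14130 (BT.leaf c8_630) (BT.leaf c8_631)) (BT.leaf c8_632)))) (BT.node 14139 (BT.node 14136 (BT.node 14134 (BT.node 14133 (BT.leaf c8_633) (BT.leaf c8_634)) (BT.node 14135 (BT.leaf c8_635) (BT.leaf c8_636))) (BT.node 14138 (BT.node 14137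 (BT.leaf c8_637) (BT.leaf c8_638)) (BT.leaf c8_639))) (BT.node 14143 (BT.node 14141 (BT.node 14140 (BT.leaf c8_640) (BT.leaf c8_641)) (BT.node 14142 (BT.leaf c8_642) (BT.leaf c8_643))) (BT.node 14145 (BT.node 14144 (BT.leaf c8_644) (BT.leaf c8_645)) (BT.leaf c8_646))))) (BT.node 14160 (BT.node 14153 (BT.node 14150 (BT.node 14148 (BT.node 14147 (BT.leaf c8_647) (BT.leaf c8_648)) (BT.node 14149 (BT.leaf c8_649) (BT.leaf c8_650))) (BT.node 14152 (BT.node 14151 (BT.leaf c8_651) (BT.leaf c8_652)) (BT.leaf c8_653))) (BT.node 14157 (BT.node 14155 (BT.node 14154 (BT.leaf c8_654) (BT.leaf c8_655)) (BT.node 14156 (BT.leaf c8_656) (BT.leaf c8_657))) (BT.node 14159 (BT.node 14158 (BT.leaf c8_658) (BT.leaf c8_659)) (BT.leaf c8_660)))) (BT.node 14167 (BT.node 14164 (BT.node 14162 (BT.node 14161 (BT.leaf c8_661) (BT.leaf c8_662)) (BT.node 14163 (BT.leaf c8_663) (BT.leaf c8_664))) (BT.node 14166 (BT.node 14165 (BT.leaf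 c8_665) (BT.leaf c8_666)) (BT.leaf c8_667))) (BT.node 14171 (BT.node 14169 (BT.node 14168 (BT.leaf c8_668) (BT.leaf c8_669)) (BT.node 14170 (BT.leaf c8_670) (BT.leaf c8_671))) (BT.node 14173 (BT.node 14172 (BT.leaf c8_672) (BT.leaf c8_673)) (BT.leaf c8_674)))))))) (BT.node 14287 (BT.node 14231 (BT.node 14203 (BT.node 14189 (BT.node 14182 (BT.node 14178 (BT.node 14176 (BT.node 14175 (BT.leaf c8_675) (BT.leaf c8_676)) (BT.node 14177 (BT.leaf c8_677) (BT.leaf c8_678))) (BT.node 14180 (BT.node 14179 (BT.leaf c8_679) (BT.leaf c8_680)) (BT.node 14181 (BT.leaf c8_681) (BT.leaf c8_682)))) (BT.node 14186 (BT.node 14184 (BT.node 14183 (BT.leaf c8_683) (BT.leaf c8_684)) (BT.node 14185 (BT.leaf c8_685) (BT.leaf c8_686))) (BT.node 14188 (BT.node 14187 (BT.leaf c8_687) (BT.leaf c8_688)) (BT.leaf c8_689)))) (BT.node 14196 (BT.node 14193 (BT.node 14191 (BT.node 14190 (BT.leaf c8_690) (BT.leaf c8_691)) (BT.node 14192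 (BT.leaf c8_692) (BT.leaf c8_693))) (BT.node 14195 (BT.node 14194 (BT.leaf c8_694) (BT.leaf c8_695)) (BT.leaf c8_696))) (BT.node 14200 (BT.node 14198 (BT.node 14197 (BT.leaf c8_697) (BT.leaf c8_698)) (BT.node 14199 (BT.leaf c8_699) (BT.leaf c8_700))) (BT.node 14202 (BT.node 14201 (BT.leaf c8_701) (BT.leaf c8_702)) (BT.leaf c8_703))))) (BT.node 14217 (BT.node 14210 (BT.node 14207 (BT.node 14205 (BT.node 14204 (BT.leaf c8_704) (BT.leaf c8_705)) (BT.node 14206 (BT.leaf c8_706) (BT.leaf c8_707))) (BT.node 14209 (BT.node 14208 (BT.leaf c8_708) (BT.leaf c8_709)) (BT.leaf c8_710))) (BT.node 14214 (BT.node 14212 (BT.node 14211 (BT.leaf c8_711) (BT.leaf c8_712)) (BT.node 14213 (BT.leaf c8_713) (BT.leaf c8_714))) (BT.node 14216 (BT.node 14215 (BT.leaf c8_715) (BT.leaf c8_716)) (BT.leaf c8_717)))) (BT.node 14224 (BT.node 14221 (BT.node 14219 (BT.node 14218 (BT.leaf c8_718) (BT.leaf c8_719)) (BT.node 14220 (BT.leaf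 c8_720) (BT.leaf c8_721))) (BT.node 14223 (BT.node 14222 (BT.leaf c8_722) (BT.leaf c8_723)) (BT.leaf c8_724))) (BT.node 14228 (BT.node 14226 (BT.node 14225 (BT.leaf c8_725) (BT.leaf c8_726)) (BT.node 14227 (BT.leaf c8_727) (BT.leaf c8_728))) (BT.node 14230 (BT.node 14229 (BT.leaf c8_729) (BT.leaf c8_730)) (BT.leaf c8_731)))))) (BT.node 14259 (BT.node 14245 (BT.node 14238 (BT.node 14235 (BT.node 14233 (BT.node 14232 (BT.leaf c8_732) (BT.leaf c8_733)) (BT.node 14234 (BT.leaf c8_734) (BT.leaf c8_735))) (BT.node 14237 (BT.node 14236 (BT.leaf c8_736) (BT.leaf c8_737)) (BT.leaf c8_738))) (BT.node 14242 (BT.node 14240 (BT.node 14239 (BT.leaf c8_739) (BT.leaf c8_740)) (BT.node 14241 (BT.leaf c8_741) (BT.leaf c8_742))) (BT.node 14244 (BT.node 14243 (BT.leaf c8_743) (BT.leaf c8_744)) (BT.leaf c8_745)))) (BT.node 14252 (BT.node 14249 (BT.node 14247 (BT.node 14246 (BT.leaf c8_746) (BT.leaf c8_747)) (BT.node 14248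 (BT.leaf c8_748) (BT.leaf c8_749))) (BT.node 14251 (BT.node 14250 (BT.leaf c8_750) (BT.leaf c8_751)) (BT.leaf c8_752))) (BT.node 14256 (BT.node 14254 (BT.node 14253 (BT.leaf c8_753) (BT.leaf c8_754)) (BT.node 14255 (BT.leaf c8_755) (BT.leaf c8_756))) (BT.node 14258 (BT.node 14257 (BT.leaf c8_757) (BT.leaf c8_758)) (BT.leaf c8_759))))) (BT.node 14273 (BT.node 14266 (BT.node 14263 (BT.node 14261 (BT.node 14260 (BT.leaf c8_760) (BT.leaf c8_761)) (BT.node 14262 (BT.leaf c8_762) (BT.leaf c8_763))) (BT.node 14265 (BT.node 14264 (BT.leaf c8_764) (BT.leaf c8_765)) (BT.leaf c8_766))) (BT.node 14270 (BT.node 14268 (BT.node 14267 (BT.leaf c8_767) (BT.leaf c8_768)) (BT.node 14269 (BT.leaf c8_769) (BT.leaf c8_770))) (BT.node 14272 (BT.node 14271 (BT.leaf c8_771) (BT.leaf c8_772)) (BT.leaf c8_773)))) (BT.node 14280 (BT.node 14277 (BT.node 14275 (BT.node 14274 (BT.leaf c8_774) (BT.leaf c8_775)) (BT.node 14276 (BT.leaf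 c8_776) (BT.leaf c8_777))) (BT.node 14279 (BT.node 14278 (BT.leaf c8_778) (BT.leaf c8_779)) (BT.leaf c8_780))) (BT.node 14284 (BT.node 14282 (BT.node 14281 (BT.leaf c8_781) (BT.leaf c8_782)) (BT.node 14283 (BT.leaf c8_783) (BT.leaf c8_784))) (BT.node 14286 (BT.node 14285 (BT.leaf c8_785) (BT.leaf c8_786)) (BT.leaf c8_787))))))) (BT.node 14343 (BT.node 14315 (BT.node 14301 (BT.node 14294 (BT.node 14291 (BT.node 14289 (BT.node 14288 (BT.leaf c8_788) (BT.leaf c8_789)) (BT.node 14290 (BT.leaf c8_790) (BT.leaf c8_791))) (BT.node 14293 (BT.node 14292 (BT.leaf c8_792) (BT.leaf c8_793)) (BT.leaf c8_794))) (BT.node 14298 (BT.node 14296 (BT.node 14295 (BT.leaf c8_795) (BT.leaf c8_796)) (BT.node 14297 (BT.leaf c8_797) (BT.leaf c8_798))) (BT.node 14300 (BT.node 14299 (BT.leaf c8_799) (BT.leaf c8_800)) (BT.leaf c8_801)))) (BT.node 14308 (BT.node 14305 (BT.node 14303 (BT.node 14302 (BT.leaf c8_802) (BT.leaf c8_803))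 (BT.node 14304 (BT.leaf c8_804) (BT.leaf c8_805))) (BT.node 14307 (BT.node 14306 (BT.leaf c8_806) (BT.leaf c8_807)) (BT.leaf c8_808))) (BT.node 14312 (BT.node 14310 (BT.node 14309 (BT.leaf c8_809) (BT.leaf c8_810)) (BT.node 14311 (BT.leaf c8_811) (BT.leaf c8_812))) (BT.node 14314 (BT.node 14313 (BT.leaf c8_813) (BT.leaf c8_814)) (BT.leaf c8_815))))) (BT.node 14329 (BT.node 14322 (BT.node 14319 (BT.node 14317 (BT.node 14316 (BT.leaf c8_816) (BT.leaf c8_817)) (BT.node 14318 (BT.leaf c8_818) (BT.leaf c8_819))) (BT.node 14321 (BT.node 14320 (BT.leaf c8_820) (BT.leaf c8_821)) (BT.leaf c8_822))) (BT.node 14326 (BT.node 14324 (BT.node 14323 (BT.leaf c8_823) (BT.leaf c8_824)) (BT.node 14325 (BT.leaf c8_825) (BT.leaf c8_826))) (BT.node 14328 (BT.node 14327 (BT.leaf c8_827) (BT.leaf c8_828)) (BT.leaf c8_829)))) (BT.node 14336 (BT.node 14333 (BT.node 14331 (BT.node 14330 (BT.leaf c8_830) (BT.leaf c8_831)) (BT.node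 14332 (BT.leaf c8_832) (BT.leaf c8_833))) (BT.node 14335 (BT.node 14334 (BT.leaf c8_834) (BT.leaf c8_835)) (BT.leaf c8_836))) (BT.node 14340 (BT.node 14338 (BT.node 14337 (BT.leaf c8_837) (BT.leaf c8_838)) (BT.node 14339 (BT.leaf c8_839) (BT.leaf c8_840))) (BT.node 14342 (BT.node 14341 (BT.leaf c8_841) (BT.leaf c8_842)) (BT.leaf c8_843)))))) (BT.node 14371 (BT.node 14357 (BT.node 14350 (BT.node 14347 (BT.node 14345 (BT.node 14344 (BT.leaf c8_844) (BT.leaf c8_845)) (BT.node 14346 (BT.leaf c8_846) (BT.leaf c8_847))) (BT.node 14349 (BT.node 14348 (BT.leaf c8_848) (BT.leaf c8_849)) (BT.leaf c8_850))) (BT.node 14354 (BT.node 14352 (BT.node 14351 (BT.leaf c8_851) (BT.leaf c8_852)) (BT.node 14353 (BT.leaf c8_853) (BT.leaf c8_854))) (BT.node 14356 (BT.node 14355 (BT.leaf c8_855) (BT.leaf c8_856)) (BT.leaf c8_857)))) (BT.node 14364 (BT.node 14361 (BT.node 14359 (BT.node 14358 (BT.leaf c8_858) (BT.leaf c8_859))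 (BT.node 14360 (BT.leaf c8_860) (BT.leaf c8_861))) (BT.node 14363 (BT.node 14362 (BT.leaf c8_862) (BT.leaf c8_863)) (BT.leaf c8_864))) (BT.node 14368 (BT.node 14366 (BT.node 14365 (BT.leaf c8_865) (BT.leaf c8_866)) (BT.node 14367 (BT.leaf c8_867) (BT.leaf c8_868))) (BT.node 14370 (BT.node 14369 (BT.leaf c8_869) (BT.leaf c8_870)) (BT.leaf c8_871))))) (BT.node 14385 (BT.node 14378 (BT.node 14375 (BT.node 14373 (BT.node 14372 (BT.leaf c8_872) (BT.leaf c8_873)) (BT.node 14374 (BT.leaf c8_874) (BT.leaf c8_875))) (BT.node 14377 (BT.node 14376 (BT.leaf c8_876) (BT.leaf c8_877)) (BT.leaf c8_878))) (BT.node 14382 (BT.node 14380 (BT.node 14379 (BT.leaf c8_879) (BT.leaf c8_880)) (BT.node 14381 (BT.leaf c8_881) (BT.leaf c8_882))) (BT.node 14384 (BT.node 14383 (BT.leaf c8_883) (BT.leaf c8_884)) (BT.leaf c8_885)))) (BT.node 14392 (BT.node 14389 (BT.node 14387 (BT.node 14386 (BT.leaf c8_886) (BT.leaf c8_887)) (BT.node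 14388 (BT.leaf c8_888) (BT.leaf c8_889))) (BT.node 14391 (BT.node 14390 (BT.leaf c8_890) (BT.leaf c8_891)) (BT.leaf c8_892))) (BT.node 14396 (BT.node 14394 (BT.node 14393 (BT.leaf c8_893) (BT.leaf c8_894)) (BT.node 14395 (BT.leaf c8_895) (BT.leaf c8_896))) (BT.node 14398 (BT.node 14397 (BT.leaf c8_897) (BT.leaf c8_898)) (BT.leaf c8_899))))))))))
/-- the chunks of the letter 16 -/
def colL_16 : BT ℕ := (BT.node 14849 (BT.node 14624 (BT.node 14512 (BT.node 14456 (BT.node 14428 (BT.node 14414 (BT.node 14407 (BT.node 14403 (BT.node 14401 (BT.node 14400 (BT.leaf c9_0) (BT.leaf c9_1)) (BT.node 14402 (BT.leaf c9_2) (BT.leaf c9_3))) (BT.node 14405 (BT.node 14404 (BT.leaf c9_4) (BT.leaf c9_5)) (BT.node 14406 (BT.leaf c9_6) (BT.leaf c9_7)))) (BT.node 14411 (BT.node 14409 (BT.node 14408 (BT.leaf c9_8) (BT.leaf c9_9)) (BT.node 14410 (BT.leaf c9_10) (BT.leaf c9_11))) (BT.node 14413 (BT.node 14412 (BT.leaf c9_12)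 (BT.leaf c9_13)) (BT.leaf c9_14)))) (BT.node 14421 (BT.node 14418 (BT.node 14416 (BT.node 14415 (BT.leaf c9_15) (BT.leaf c9_16)) (BT.node 14417 (BT.leaf c9_17) (BT.leaf c9_18))) (BT.node 14420 (BT.node 14419 (BT.leaf c9_19) (BT.leaf c9_20)) (BT.leaf c9_21))) (BT.node 14425 (BT.node 14423 (BT.node 14422 (BT.leaf c9_22) (BT.leaf c9_23)) (BT.node 14424 (BT.leaf c9_24) (BT.leaf c9_25))) (BT.node 14427 (BT.node 14426 (BT.leaf c9_26) (BT.leaf c9_27)) (BT.leaf c9_28))))) (BT.node 14442 (BT.node 14435 (BT.node 14432 (BT.node 14430 (BT.node 14429 (BT.leaf c9_29) (BT.leaf c9_30)) (BT.node 14431 (BT.leaf c9_31) (BT.leaf c9_32))) (BT.node 14434 (BT.node 14433 (BT.leaf c9_33) (BT.leaf c9_34)) (BT.leaf c9_35))) (BT.node 14439 (BT.node 14437 (BT.node 14436 (BT.leaf c9_36) (BT.leaf c9_37)) (BT.node 14438 (BT.leaf c9_38) (BT.leaf c9_39))) (BT.node 14441 (BT.node 14440 (BT.leaf c9_40) (BT.leaf c9_41)) (BT.leaf c9_42))))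 (BT.node 14449 (BT.node 14446 (BT.node 14444 (BT.node 14443 (BT.leaf c9_43) (BT.leaf c9_44)) (BT.node 14445 (BT.leaf c9_45) (BT.leaf c9_46))) (BT.node 14448 (BT.node 14447 (BT.leaf c9_47) (BT.leaf c9_48)) (BT.leaf c9_49))) (BT.node 14453 (BT.node 14451 (BT.node 14450 (BT.leaf c9_50) (BT.leaf c9_51)) (BT.node 14452 (BT.leaf c9_52) (BT.leaf c9_53))) (BT.node 14455 (BT.node 14454 (BT.leaf c9_54) (BT.leaf c9_55)) (BT.leaf c9_56)))))) (BT.node 14484 (BT.node 14470 (BT.node 14463 (BT.node 14460 (BT.node 14458 (BT.node 14457 (BT.leaf c9_57) (BT.leaf c9_58)) (BT.node 14459 (BT.leaf c9_59) (BT.leaf c9_60))) (BT.node 14462 (BT.node 14461 (BT.leaf c9_61) (BT.leaf c9_62)) (BT.leaf c9_63))) (BT.node 14467 (BT.node 14465 (BT.node 14464 (BT.leaf c9_64) (BT.leaf c9_65)) (BT.node 14466 (BT.leaf c9_66) (BT.leaf c9_67))) (BT.node 14469 (BT.node 14468 (BT.leaf c9_68) (BT.leaf c9_69)) (BT.leaf c9_70)))) (BT.node 14477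 (BT.node 14474 (BT.node 14472 (BT.node 14471 (BT.leaf c9_71) (BT.leaf c9_72)) (BT.node 14473 (BT.leaf c9_73) (BT.leaf c9_74))) (BT.node 14476 (BT.node 14475 (BT.leaf c9_75) (BT.leaf c9_76)) (BT.leaf c9_77))) (BT.node 14481 (BT.node 14479 (BT.node 14478 (BT.leaf c9_78) (BT.leaf c9_79)) (BT.node 14480 (BT.leaf c9_80) (BT.leaf c9_81))) (BT.node 14483 (BT.node 14482 (BT.leaf c9_82) (BT.leaf c9_83)) (BT.leaf c9_84))))) (BT.node 14498 (BT.node 14491 (BT.node 14488 (BT.node 14486 (BT.node 14485 (BT.leaf c9_85) (BT.leaf c9_86)) (BT.node 14487 (BT.leaf c9_87) (BT.leaf c9_88))) (BT.node 14490 (BT.node 14489 (BT.leaf c9_89) (BT.leaf c9_90)) (BT.leaf c9_91))) (BT.node 14495 (BT.node 14493 (BT.node 14492 (BT.leaf c9_92) (BT.leaf c9_93)) (BT.node 14494 (BT.leaf c9_94) (BT.leaf c9_95))) (BT.node 14497 (BT.node 14496 (BT.leaf c9_96) (BT.leaf c9_97)) (BT.leaf c9_98)))) (BT.node 14505 (BT.node 14502 (BT.node 14500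 (BT.node 14499 (BT.leaf c9_99) (BT.leaf c9_100)) (BT.node 14501 (BT.leaf c9_101) (BT.leaf c9_102))) (BT.node 14504 (BT.node 14503 (BT.leaf c9_103) (BT.leaf c9_104)) (BT.leaf c9_105))) (BT.node 14509 (BT.node 14507 (BT.node 14506 (BT.leaf c9_106) (BT.leaf c9_107)) (BT.node 14508 (BT.leaf c9_108) (BT.leaf c9_109))) (BT.node 14511 (BT.node 14510 (BT.leaf c9_110) (BT.leaf c9_111)) (BT.leaf c9_112))))))) (BT.node 14568 (BT.node 14540 (BT.node 14526 (BT.node 14519 (BT.node 14516 (BT.node 14514 (BT.node 14513 (BT.leaf c9_113) (BT.leaf c9_114)) (BT.node 14515 (BT.leaf c9_115) (BT.leaf c9_116))) (BT.node 14518 (BT.node 14517 (BT.leaf c9_117) (BT.leaf c9_118)) (BT.leaf c9_119))) (BT.node 14523 (BT.node 14521 (BT.node 14520 (BT.leaf c9_120) (BT.leaf c9_121)) (BT.node 14522 (BT.leaf c9_122) (BT.leaf c9_123))) (BT.node 14525 (BT.node 14524 (BT.leaf c9_124) (BT.leaf c9_125)) (BT.leaf c9_126)))) (BT.node 14533 (BT.node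 14530 (BT.node 14528 (BT.node 14527 (BT.leaf c9_127) (BT.leaf c9_128)) (BT.node 14529 (BT.leaf c9_129) (BT.leaf c9_130))) (BT.node 14532 (BT.node 14531 (BT.leaf c9_131) (BT.leaf c9_132)) (BT.leaf c9_133))) (BT.node 14537 (BT.node 14535 (BT.node 14534 (BT.leaf c9_134) (BT.leaf c9_135)) (BT.node 14536 (BT.leaf c9_136) (BT.leaf c9_137))) (BT.node 14539 (BT.node 14538 (BT.leaf c9_138) (BT.leaf c9_139)) (BT.leaf c9_140))))) (BT.node 14554 (BT.node 14547 (BT.node 14544 (BT.node 14542 (BT.node 14541 (BT.leaf c9_141) (BT.leaf c9_142)) (BT.node 14543 (BT.leaf c9_143) (BT.leaf c9_144))) (BT.node 14546 (BT.node 14545 (BT.leaf c9_145) (BT.leaf c9_146)) (BT.leaf c9_147))) (BT.node 14551 (BT.node 14549 (BT.node 14548 (BT.leaf c9_148) (BT.leaf c9_149)) (BT.node 14550 (BT.leaf c9_150) (BT.leaf c9_151))) (BT.node 14553 (BT.node 14552 (BT.leaf c9_152) (BT.leaf c9_153)) (BT.leaf c9_154)))) (BT.node 14561 (BT.node 14558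 (BT.node 14556 (BT.node 14555 (BT.leaf c9_155) (BT.leaf c9_156)) (BT.node 14557 (BT.leaf c9_157) (BT.leaf c9_158))) (BT.node 14560 (BT.node 14559 (BT.leaf c9_159) (BT.leaf c9_160)) (BT.leaf c9_161))) (BT.node 14565 (BT.node 14563 (BT.node 14562 (BT.leaf c9_162) (BT.leaf c9_163)) (BT.node 14564 (BT.leaf c9_164) (BT.leaf c9_165))) (BT.node 14567 (BT.node 14566 (BT.leaf c9_166) (BT.leaf c9_167)) (BT.leaf c9_168)))))) (BT.node 14596 (BT.node 14582 (BT.node 14575 (BT.node 14572 (BT.node 14570 (BT.node 14569 (BT.leaf c9_169) (BT.leaf c9_170)) (BT.node 14571 (BT.leaf c9_171) (BT.leaf c9_172))) (BT.node 14574 (BT.node 14573 (BT.leaf c9_173) (BT.leaf c9_174)) (BT.leaf c9_175))) (BT.node 14579 (BT.node 14577 (BT.node 14576 (BT.leaf c9_176) (BT.leaf c9_177)) (BT.node 14578 (BT.leaf c9_178) (BT.leaf c9_179))) (BT.node 14581 (BT.node 14580 (BT.leaf c9_180) (BT.leaf c9_181)) (BT.leaf c9_182)))) (BT.node 14589 (BT.node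 14586 (BT.node 14584 (BT.node 14583 (BT.leaf c9_183) (BT.leaf c9_184)) (BT.node 14585 (BT.leaf c9_185) (BT.leaf c9_186))) (BT.node 14588 (BT.node 14587 (BT.leaf c9_187) (BT.leaf c9_188)) (BT.leaf c9_189))) (BT.node 14593 (BT.node 14591 (BT.node 14590 (BT.leaf c9_190) (BT.leaf c9_191)) (BT.node 14592 (BT.leaf c9_192) (BT.leaf c9_193))) (BT.node 14595 (BT.node 14594 (BT.leaf c9_194) (BT.leaf c9_195)) (BT.leaf c9_196))))) (BT.node 14610 (BT.node 14603 (BT.node 14600 (BT.node 14598 (BT.node 14597 (BT.leaf c9_197) (BT.leaf c9_198)) (BT.node 14599 (BT.leaf c9_199) (BT.leaf c9_200))) (BT.node 14602 (BT.node 14601 (BT.leaf c9_201) (BT.leaf c9_202)) (BT.leaf c9_203))) (BT.node 14607 (BT.node 14605 (BT.node 14604 (BT.leaf c9_204) (BT.leaf c9_205)) (BT.node 14606 (BT.leaf c9_206) (BT.leaf c9_207))) (BT.node 14609 (BT.node 14608 (BT.leaf c9_208) (BT.leaf c9_209)) (BT.leaf c9_210)))) (BT.node 14617 (BT.node 14614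 (BT.node 14612 (BT.node 14611 (BT.leaf c9_211) (BT.leaf c9_212)) (BT.node 14613 (BT.leaf c9_213) (BT.leaf c9_214))) (BT.node 14616 (BT.node 14615 (BT.leaf c9_215) (BT.leaf c9_216)) (BT.leaf c9_217))) (BT.node 14621 (BT.node 14619 (BT.node 14618 (BT.leaf c9_218) (BT.leaf c9_219)) (BT.node 14620 (BT.leaf c9_220) (BT.leaf c9_221))) (BT.node 14623 (BT.node 14622 (BT.leaf c9_222) (BT.leaf c9_223)) (BT.leaf c9_224)))))))) (BT.node 14737 (BT.node 14681 (BT.node 14653 (BT.node 14639 (BT.node 14632 (BT.node 14628 (BT.node 14626 (BT.node 14625 (BT.leaf c9_225) (BT.leaf c9_226)) (BT.node 14627 (BT.leaf c9_227) (BT.leaf c9_228))) (BT.node 14630 (BT.node 14629 (BT.leaf c9_229) (BT.leaf c9_230)) (BT.node 14631 (BT.leaf c9_231) (BT.leaf c9_232)))) (BT.node 14636 (BT.node 14634 (BT.node 14633 (BT.leaf c9_233) (BT.leaf c9_234)) (BT.node 14635 (BT.leaf c9_235) (BT.leaf c9_236))) (BT.node 14638 (BT.node 14637 (BT.leaf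 c9_237) (BT.leaf c9_238)) (BT.leaf c9_239)))) (BT.node 14646 (BT.node 14643 (BT.node 14641 (BT.node 14640 (BT.leaf c9_240) (BT.leaf c9_241)) (BT.node 14642 (BT.leaf c9_242) (BT.leaf c9_243))) (BT.node 14645 (BT.node 14644 (BT.leaf c9_244) (BT.leaf c9_245)) (BT.leaf c9_246))) (BT.node 14650 (BT.node 14648 (BT.node 14647 (BT.leaf c9_247) (BT.leaf c9_248)) (BT.node 14649 (BT.leaf c9_249) (BT.leaf c9_250))) (BT.node 14652 (BT.node 14651 (BT.leaf c9_251) (BT.leaf c9_252)) (BT.leaf c9_253))))) (BT.node 14667 (BT.node 14660 (BT.node 14657 (BT.node 14655 (BT.node 14654 (BT.leaf c9_254) (BT.leaf c9_255)) (BT.node 14656 (BT.leaf c9_256) (BT.leaf c9_257))) (BT.node 14659 (BT.node 14658 (BT.leaf c9_258) (BT.leaf c9_259)) (BT.leaf c9_260))) (BT.node 14664 (BT.node 14662 (BT.node 14661 (BT.leaf c9_261) (BT.leaf c9_262)) (BT.node 14663 (BT.leaf c9_263) (BT.leaf c9_264))) (BT.node 14666 (BT.node 14665 (BT.leaf c9_265)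 (BT.leaf c9_266)) (BT.leaf c9_267)))) (BT.node 14674 (BT.node 14671 (BT.node 14669 (BT.node 14668 (BT.leaf c9_268) (BT.leaf c9_269)) (BT.node 14670 (BT.leaf c9_270) (BT.leaf c9_271))) (BT.node 14673 (BT.node 14672 (BT.leaf c9_272) (BT.leaf c9_273)) (BT.leaf c9_274))) (BT.node 14678 (BT.node 14676 (BT.node 14675 (BT.leaf c9_275) (BT.leaf c9_276)) (BT.node 14677 (BT.leaf c9_277) (BT.leaf c9_278))) (BT.node 14680 (BT.node 14679 (BT.leaf c9_279) (BT.leaf c9_280)) (BT.leaf c9_281)))))) (BT.node 14709 (BT.node 14695 (BT.node 14688 (BT.node 14685 (BT.node 14683 (BT.node 14682 (BT.leaf c9_282) (BT.leaf c9_283)) (BT.node 14684 (BT.leaf c9_284) (BT.leaf c9_285))) (BT.node 14687 (BT.node 14686 (BT.leaf c9_286) (BT.leaf c9_287)) (BT.leaf c9_288))) (BT.node 14692 (BT.node 14690 (BT.node 14689 (BT.leaf c9_289) (BT.leaf c9_290)) (BT.node 14691 (BT.leaf c9_291) (BT.leaf c9_292))) (BT.node 14694 (BT.node 14693 (BT.leaf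 c9_293) (BT.leaf c9_294)) (BT.leaf c9_295)))) (BT.node 14702 (BT.node 14699 (BT.node 14697 (BT.node 14696 (BT.leaf c9_296) (BT.leaf c9_297)) (BT.node 14698 (BT.leaf c9_298) (BT.leaf c9_299))) (BT.node 14701 (BT.node 14700 (BT.leaf c9_300) (BT.leaf c9_301)) (BT.leaf c9_302))) (BT.node 14706 (BT.node 14704 (BT.node 14703 (BT.leaf c9_303) (BT.leaf c9_304)) (BT.node 14705 (BT.leaf c9_305) (BT.leaf c9_306))) (BT.node 14708 (BT.node 14707 (BT.leaf c9_307) (BT.leaf c9_308)) (BT.leaf c9_309))))) (BT.node 14723 (BT.node 14716 (BT.node 14713 (BT.node 14711 (BT.node 14710 (BT.leaf c9_310) (BT.leaf c9_311)) (BT.node 14712 (BT.leaf c9_312) (BT.leaf c9_313))) (BT.node 14715 (BT.node 14714 (BT.leaf c9_314) (BT.leaf c9_315)) (BT.leaf c9_316))) (BT.node 14720 (BT.node 14718 (BT.node 14717 (BT.leaf c9_317) (BT.leaf c9_318)) (BT.node 14719 (BT.leaf c9_319) (BT.leaf c9_320))) (BT.node 14722 (BT.node 14721 (BT.leaf c9_321)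 (BT.leaf c9_322)) (BT.leaf c9_323)))) (BT.node 14730 (BT.node 14727 (BT.node 14725 (BT.node 14724 (BT.leaf c9_324) (BT.leaf c9_325)) (BT.node 14726 (BT.leaf c9_326) (BT.leaf c9_327))) (BT.node 14729 (BT.node 14728 (BT.leaf c9_328) (BT.leaf c9_329)) (BT.leaf c9_330))) (BT.node 14734 (BT.node 14732 (BT.node 14731 (BT.leaf c9_331) (BT.leaf c9_332)) (BT.node 14733 (BT.leaf c9_333) (BT.leaf c9_334))) (BT.node 14736 (BT.node 14735 (BT.leaf c9_335) (BT.leaf c9_336)) (BT.leaf c9_337))))))) (BT.node 14793 (BT.node 14765 (BT.node 14751 (BT.node 14744 (BT.node 14741 (BT.node 14739 (BT.node 14738 (BT.leaf c9_338) (BT.leaf c9_339)) (BT.node 14740 (BT.leaf c9_340) (BT.leaf c9_341))) (BT.node 14743 (BT.node 14742 (BT.leaf c9_342) (BT.leaf c9_343)) (BT.leaf c9_344))) (BT.node 14748 (BT.node 14746 (BT.node 14745 (BT.leaf c9_345) (BT.leaf c9_346)) (BT.node 14747 (BT.leaf c9_347) (BT.leaf c9_348))) (BT.node 14750 (BT.node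 14749 (BT.leaf c9_349) (BT.leaf c9_350)) (BT.leaf c9_351)))) (BT.node 14758 (BT.node 14755 (BT.node 14753 (BT.node 14752 (BT.leaf c9_352) (BT.leaf c9_353)) (BT.node 14754 (BT.leaf c9_354) (BT.leaf c9_355))) (BT.node 14757 (BT.node 14756 (BT.leaf c9_356) (BT.leaf c9_357)) (BT.leaf c9_358))) (BT.node 14762 (BT.node 14760 (BT.node 14759 (BT.leaf c9_359) (BT.leaf c9_360)) (BT.node 14761 (BT.leaf c9_361) (BT.leaf c9_362))) (BT.node 14764 (BT.node 14763 (BT.leaf c9_363) (BT.leaf c9_364)) (BT.leaf c9_365))))) (BT.node 14779 (BT.node 14772 (BT.node 14769 (BT.node 14767 (BT.node 14766 (BT.leaf c9_366) (BT.leaf c9_367)) (BT.node 14768 (BT.leaf c9_368) (BT.leaf c9_369))) (BT.node 14771 (BT.node 14770 (BT.leaf c9_370) (BT.leaf c9_371)) (BT.leaf c9_372))) (BT.node 14776 (BT.node 14774 (BT.node 14773 (BT.leaf c9_373) (BT.leaf c9_374)) (BT.node 14775 (BT.leaf c9_375) (BT.leaf c9_376))) (BT.node 14778 (BT.node 14777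 (BT.leaf c9_377) (BT.leaf c9_378)) (BT.leaf c9_379)))) (BT.node 14786 (BT.node 14783 (BT.node 14781 (BT.node 14780 (BT.leaf c9_380) (BT.leaf c9_381)) (BT.node 14782 (BT.leaf c9_382) (BT.leaf c9_383))) (BT.node 14785 (BT.node 14784 (BT.leaf c9_384) (BT.leaf c9_385)) (BT.leaf c9_386))) (BT.node 14790 (BT.node 14788 (BT.node 14787 (BT.leaf c9_387) (BT.leaf c9_388)) (BT.node 14789 (BT.leaf c9_389) (BT.leaf c9_390))) (BT.node 14792 (BT.node 14791 (BT.leaf c9_391) (BT.leaf c9_392)) (BT.leaf c9_393)))))) (BT.node 14821 (BT.node 14807 (BT.node 14800 (BT.node 14797 (BT.node 14795 (BT.node 14794 (BT.leaf c9_394) (BT.leaf c9_395)) (BT.node 14796 (BT.leaf c9_396) (BT.leaf c9_397))) (BT.node 14799 (BT.node 14798 (BT.leaf c9_398) (BT.leaf c9_399)) (BT.leaf c9_400))) (BT.node 14804 (BT.node 14802 (BT.node 14801 (BT.leaf c9_401) (BT.leaf c9_402)) (BT.node 14803 (BT.leaf c9_403) (BT.leaf c9_404))) (BT.node 14806 (BT.node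 14805 (BT.leaf c9_405) (BT.leaf c9_406)) (BT.leaf c9_407)))) (BT.node 14814 (BT.node 14811 (BT.node 14809 (BT.node 14808 (BT.leaf c9_408) (BT.leaf c9_409)) (BT.node 14810 (BT.leaf c9_410) (BT.leaf c9_411))) (BT.node 14813 (BT.node 14812 (BT.leaf c9_412) (BT.leaf c9_413)) (BT.leaf c9_414))) (BT.node 14818 (BT.node 14816 (BT.node 14815 (BT.leaf c9_415) (BT.leaf c9_416)) (BT.node 14817 (BT.leaf c9_417) (BT.leaf c9_418))) (BT.node 14820 (BT.node 14819 (BT.leaf c9_419) (BT.leaf c9_420)) (BT.leaf c9_421))))) (BT.node 14835 (BT.node 14828 (BT.node 14825 (BT.node 14823 (BT.node 14822 (BT.leaf c9_422) (BT.leaf c9_423)) (BT.node 14824 (BT.leaf c9_424) (BT.leaf c9_425))) (BT.node 14827 (BT.node 14826 (BT.leaf c9_426) (BT.leaf c9_427)) (BT.leaf c9_428))) (BT.node 14832 (BT.node 14830 (BT.node 14829 (BT.leaf c9_429) (BT.leaf c9_430)) (BT.node 14831 (BT.leaf c9_431) (BT.leaf c9_432))) (BT.node 14834 (BT.node 14833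 (BT.leaf c9_433) (BT.leaf c9_434)) (BT.leaf c9_435)))) (BT.node 14842 (BT.node 14839 (BT.node 14837 (BT.node 14836 (BT.leaf c9_436) (BT.leaf c9_437)) (BT.node 14838 (BT.leaf c9_438) (BT.leaf c9_439))) (BT.node 14841 (BT.node 14840 (BT.leaf c9_440) (BT.leaf c9_441)) (BT.leaf c9_442))) (BT.node 14846 (BT.node 14844 (BT.node 14843 (BT.leaf c9_443) (BT.leaf c9_444)) (BT.node 14845 (BT.leaf c9_445) (BT.leaf c9_446))) (BT.node 14848 (BT.node 14847 (BT.leaf c9_447) (BT.leaf c9_448)) (BT.leaf c9_449))))))))) (BT.node 15074 (BT.node 14962 (BT.node 14906 (BT.node 14878 (BT.node 14864 (BT.node 14857 (BT.node 14853 (BT.node 14851 (BT.node 14850 (BT.leaf c9_450) (BT.leaf c9_451)) (BT.node 14852 (BT.leaf c9_452) (BT.leaf c9_453))) (BT.node 14855 (BT.node 14854 (BT.leaf c9_454) (BT.leaf c9_455)) (BT.node 14856 (BT.leaf c9_456) (BT.leaf c9_457)))) (BT.node 14861 (BT.node 14859 (BT.node 14858 (BT.leaf c9_458) (BT.leaf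 c9_459)) (BT.node 14860 (BT.leaf c9_460) (BT.leaf c9_461))) (BT.node 14863 (BT.node 14862 (BT.leaf c9_462) (BT.leaf c9_463)) (BT.leaf c9_464)))) (BT.node 14871 (BT.node 14868 (BT.node 14866 (BT.node 14865 (BT.leaf c9_465) (BT.leaf c9_466)) (BT.node 14867 (BT.leaf c9_467) (BT.leaf c9_468))) (BT.node 14870 (BT.node 14869 (BT.leaf c9_469) (BT.leaf c9_470)) (BT.leaf c9_471))) (BT.node 14875 (BT.node 14873 (BT.node 14872 (BT.leaf c9_472) (BT.leaf c9_473)) (BT.node 14874 (BT.leaf c9_474) (BT.leaf c9_475))) (BT.node 14877 (BT.node 14876 (BT.leaf c9_476) (BT.leaf c9_477)) (BT.leaf c9_478))))) (BT.node 14892 (BT.node 14885 (BT.node 14882 (BT.node 14880 (BT.node 14879 (BT.leaf c9_479) (BT.leaf c9_480)) (BT.node 14881 (BT.leaf c9_481) (BT.leaf c9_482))) (BT.node 14884 (BT.node 14883 (BT.leaf c9_483) (BT.leaf c9_484)) (BT.leaf c9_485))) (BT.node 14889 (BT.node 14887 (BT.node 14886 (BT.leaf c9_486) (BT.leaf c9_487))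 (BT.node 14888 (BT.leaf c9_488) (BT.leaf c9_489))) (BT.node 14891 (BT.node 14890 (BT.leaf c9_490) (BT.leaf c9_491)) (BT.leaf c9_492)))) (BT.node 14899 (BT.node 14896 (BT.node 14894 (BT.node 14893 (BT.leaf c9_493) (BT.leaf c9_494)) (BT.node 14895 (BT.leaf c9_495) (BT.leaf c9_496))) (BT.node 14898 (BT.node 14897 (BT.leaf c9_497) (BT.leaf c9_498)) (BT.leaf c9_499))) (BT.node 14903 (BT.node 14901 (BT.node 14900 (BT.leaf c9_500) (BT.leaf c9_501)) (BT.node 14902 (BT.leaf c9_502) (BT.leaf c9_503))) (BT.node 14905 (BT.node 14904 (BT.leaf c9_504) (BT.leaf c9_505)) (BT.leaf c9_506)))))) (BT.node 14934 (BT.node 14920 (BT.node 14913 (BT.node 14910 (BT.node 14908 (BT.node 14907 (BT.leaf c9_507) (BT.leaf c9_508)) (BT.node 14909 (BT.leaf c9_509) (BT.leaf c9_510))) (BT.node 14912 (BT.node 14911 (BT.leaf c9_511) (BT.leaf c9_512)) (BT.leaf c9_513))) (BT.node 14917 (BT.node 14915 (BT.node 14914 (BT.leaf c9_514) (BT.leaf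 c9_515)) (BT.node 14916 (BT.leaf c9_516) (BT.leaf c9_517))) (BT.node 14919 (BT.node 14918 (BT.leaf c9_518) (BT.leaf c9_519)) (BT.leaf c9_520)))) (BT.node 14927 (BT.node 14924 (BT.node 14922 (BT.node 14921 (BT.leaf c9_521) (BT.leaf c9_522)) (BT.node 14923 (BT.leaf c9_523) (BT.leaf c9_524))) (BT.node 14926 (BT.node 14925 (BT.leaf c9_525) (BT.leaf c9_526)) (BT.leaf c9_527))) (BT.node 14931 (BT.node 14929 (BT.node 14928 (BT.leaf c9_528) (BT.leaf c9_529)) (BT.node 14930 (BT.leaf c9_530) (BT.leaf c9_531))) (BT.node 14933 (BT.node 14932 (BT.leaf c9_532) (BT.leaf c9_533)) (BT.leaf c9_534))))) (BT.node 14948 (BT.node 14941 (BT.node 14938 (BT.node 14936 (BT.node 14935 (BT.leaf c9_535) (BT.leaf c9_536)) (BT.node 14937 (BT.leaf c9_537) (BT.leaf c9_538))) (BT.node 14940 (BT.node 14939 (BT.leaf c9_539) (BT.leaf c9_540)) (BT.leaf c9_541))) (BT.node 14945 (BT.node 14943 (BT.node 14942 (BT.leaf c9_542) (BT.leaf c9_543))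 (BT.node 14944 (BT.leaf c9_544) (BT.leaf c9_545))) (BT.node 14947 (BT.node 14946 (BT.leaf c9_546) (BT.leaf c9_547)) (BT.leaf c9_548)))) (BT.node 14955 (BT.node 14952 (BT.node 14950 (BT.node 14949 (BT.leaf c9_549) (BT.leaf c9_550)) (BT.node 14951 (BT.leaf c9_551) (BT.leaf c9_552))) (BT.node 14954 (BT.node 14953 (BT.leaf c9_553) (BT.leaf c9_554)) (BT.leaf c9_555))) (BT.node 14959 (BT.node 14957 (BT.node 14956 (BT.leaf c9_556) (BT.leaf c9_557)) (BT.node 14958 (BT.leaf c9_558) (BT.leaf c9_559))) (BT.node 14961 (BT.node 14960 (BT.leaf c9_560) (BT.leaf c9_561)) (BT.leaf c9_562))))))) (BT.node 15018 (BT.node 14990 (BT.node 14976 (BT.node 14969 (BT.node 14966 (BT.node 14964 (BT.node 14963 (BT.leaf c9_563) (BT.leaf c9_564)) (BT.node 14965 (BT.leaf c9_565) (BT.leaf c9_566))) (BT.node 14968 (BT.node 14967 (BT.leaf c9_567) (BT.leaf c9_568)) (BT.leaf c9_569))) (BT.node 14973 (BT.node 14971 (BT.node 14970 (BT.leaf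 c9_570) (BT.leaf c9_571)) (BT.node 14972 (BT.leaf c9_572) (BT.leaf c9_573))) (BT.node 14975 (BT.node 14974 (BT.leaf c9_574) (BT.leaf c9_575)) (BT.leaf c9_576)))) (BT.node 14983 (BT.node 14980 (BT.node 14978 (BT.node 14977 (BT.leaf c9_577) (BT.leaf c9_578)) (BT.node 14979 (BT.leaf c9_579) (BT.leaf c9_580))) (BT.node 14982 (BT.node 14981 (BT.leaf c9_581) (BT.leaf c9_582)) (BT.leaf c9_583))) (BT.node 14987 (BT.node 14985 (BT.node 14984 (BT.leaf c9_584) (BT.leaf c9_585)) (BT.node 14986 (BT.leaf c9_586) (BT.leaf c9_587))) (BT.node 14989 (BT.node 14988 (BT.leaf c9_588) (BT.leaf c9_589)) (BT.leaf c9_590))))) (BT.node 15004 (BT.node 14997 (BT.node 14994 (BT.node 14992 (BT.node 14991 (BT.leaf c9_591) (BT.leaf c9_592)) (BT.node 14993 (BT.leaf c9_593) (BT.leaf c9_594))) (BT.node 14996 (BT.node 14995 (BT.leaf c9_595) (BT.leaf c9_596)) (BT.leaf c9_597))) (BT.node 15001 (BT.node 14999 (BT.node 14998 (BT.leaf c9_598)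 (BT.leaf c9_599)) (BT.node 15000 (BT.leaf c9_600) (BT.leaf c9_601))) (BT.node 15003 (BT.node 15002 (BT.leaf c9_602) (BT.leaf c9_603)) (BT.leaf c9_604)))) (BT.node 15011 (BT.node 15008 (BT.node 15006 (BT.node 15005 (BT.leaf c9_605) (BT.leaf c9_606)) (BT.node 15007 (BT.leaf c9_607) (BT.leaf c9_608))) (BT.node 15010 (BT.node 15009 (BT.leaf c9_609) (BT.leaf c9_610)) (BT.leaf c9_611))) (BT.node 15015 (BT.node 15013 (BT.node 15012 (BT.leaf c9_612) (BT.leaf c9_613)) (BT.node 15014 (BT.leaf c9_614) (BT.leaf c9_615))) (BT.node 15017 (BT.node 15016 (BT.leaf c9_616) (BT.leaf c9_617)) (BT.leaf c9_618)))))) (BT.node 15046 (BT.node 15032 (BT.node 15025 (BT.node 15022 (BT.node 15020 (BT.node 15019 (BT.leaf c9_619) (BT.leaf c9_620)) (BT.node 15021 (BT.leaf c9_621) (BT.leaf c9_622))) (BT.node 15024 (BT.node 15023 (BT.leaf c9_623) (BT.leaf c9_624)) (BT.leaf c9_625))) (BT.node 15029 (BT.node 15027 (BT.node 15026 (BT.leaf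 c9_626) (BT.leaf c9_627)) (BT.node 15028 (BT.leaf c9_628) (BT.leaf c9_629))) (BT.node 15031 (BT.node 15030 (BT.leaf c9_630) (BT.leaf c9_631)) (BT.leaf c9_632)))) (BT.node 15039 (BT.node 15036 (BT.node 15034 (BT.node 15033 (BT.leaf c9_633) (BT.leaf c9_634)) (BT.node 15035 (BT.leaf c9_635) (BT.leaf c9_636))) (BT.node 15038 (BT.node 15037 (BT.leaf c9_637) (BT.leaf c9_638)) (BT.leaf c9_639))) (BT.node 15043 (BT.node 15041 (BT.node 15040 (BT.leaf c9_640) (BT.leaf c9_641)) (BT.node 15042 (BT.leaf c9_642) (BT.leaf c9_643))) (BT.node 15045 (BT.node 15044 (BT.leaf c9_644) (BT.leaf c9_645)) (BT.leaf c9_646))))) (BT.node 15060 (BT.node 15053 (BT.node 15050 (BT.node 15048 (BT.node 15047 (BT.leaf c9_647) (BT.leaf c9_648)) (BT.node 15049 (BT.leaf c9_649) (BT.leaf c9_650))) (BT.node 15052 (BT.node 15051 (BT.leaf c9_651) (BT.leaf c9_652)) (BT.leaf c9_653))) (BT.node 15057 (BT.node 15055 (BT.node 15054 (BT.leaf c9_654)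 (BT.leaf c9_655)) (BT.node 15056 (BT.leaf c9_656) (BT.leaf c9_657))) (BT.node 15059 (BT.node 15058 (BT.leaf c9_658) (BT.leaf c9_659)) (BT.leaf c9_660)))) (BT.node 15067 (BT.node 15064 (BT.node 15062 (BT.node 15061 (BT.leaf c9_661) (BT.leaf c9_662)) (BT.node 15063 (BT.leaf c9_663) (BT.leaf c9_664))) (BT.node 15066 (BT.node 15065 (BT.leaf c9_665) (BT.leaf c9_666)) (BT.leaf c9_667))) (BT.node 15071 (BT.node 15069 (BT.node 15068 (BT.leaf c9_668) (BT.leaf c9_669)) (BT.node 15070 (BT.leaf c9_670) (BT.leaf c9_671))) (BT.node 15073 (BT.node 15072 (BT.leaf c9_672) (BT.leaf c9_673)) (BT.leaf c9_674)))))))) (BT.node 15187 (BT.node 15131 (BT.node 15103 (BT.node 15089 (BT.node 15082 (BT.node 15078 (BT.node 15076 (BT.node 15075 (BT.leaf c9_675) (BT.leaf c9_676)) (BT.node 15077 (BT.leaf c9_677) (BT.leaf c9_678))) (BT.node 15080 (BT.node 15079 (BT.leaf c9_679) (BT.leaf c9_680)) (BT.node 15081 (BT.leaf c9_681) (BT.leaf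 c9_682)))) (BT.node 15086 (BT.node 15084 (BT.node 15083 (BT.leaf c9_683) (BT.leaf c9_684)) (BT.node 15085 (BT.leaf c9_685) (BT.leaf c9_686))) (BT.node 15088 (BT.node 15087 (BT.leaf c9_687) (BT.leaf c9_688)) (BT.leaf c9_689)))) (BT.node 15096 (BT.node 15093 (BT.node 15091 (BT.node 15090 (BT.leaf c9_690) (BT.leaf c9_691)) (BT.node 15092 (BT.leaf c9_692) (BT.leaf c9_693))) (BT.node 15095 (BT.node 15094 (BT.leaf c9_694) (BT.leaf c9_695)) (BT.leaf c9_696))) (BT.node 15100 (BT.node 15098 (BT.node 15097 (BT.leaf c9_697) (BT.leaf c9_698)) (BT.node 15099 (BT.leaf c9_699) (BT.leaf c9_700))) (BT.node 15102 (BT.node 15101 (BT.leaf c9_701) (BT.leaf c9_702)) (BT.leaf c9_703))))) (BT.node 15117 (BT.node 15110 (BT.node 15107 (BT.node 15105 (BT.node 15104 (BT.leaf c9_704) (BT.leaf c9_705)) (BT.node 15106 (BT.leaf c9_706) (BT.leaf c9_707))) (BT.node 15109 (BT.node 15108 (BT.leaf c9_708) (BT.leaf c9_709)) (BT.leaf c9_710)))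 (BT.node 15114 (BT.node 15112 (BT.node 15111 (BT.leaf c9_711) (BT.leaf c9_712)) (BT.node 15113 (BT.leaf c9_713) (BT.leaf c9_714))) (BT.node 15116 (BT.node 15115 (BT.leaf c9_715) (BT.leaf c9_716)) (BT.leaf c9_717)))) (BT.node 15124 (BT.node 15121 (BT.node 15119 (BT.node 15118 (BT.leaf c9_718) (BT.leaf c9_719)) (BT.node 15120 (BT.leaf c9_720) (BT.leaf c9_721))) (BT.node 15123 (BT.node 15122 (BT.leaf c9_722) (BT.leaf c9_723)) (BT.leaf c9_724))) (BT.node 15128 (BT.node 15126 (BT.node 15125 (BT.leaf c9_725) (BT.leaf c9_726)) (BT.node 15127 (BT.leaf c9_727) (BT.leaf c9_728))) (BT.node 15130 (BT.node 15129 (BT.leaf c9_729) (BT.leaf c9_730)) (BT.leaf c9_731)))))) (BT.node 15159 (BT.node 15145 (BT.node 15138 (BT.node 15135 (BT.node 15133 (BT.node 15132 (BT.leaf c9_732) (BT.leaf c9_733)) (BT.node 15134 (BT.leaf c9_734) (BT.leaf c9_735))) (BT.node 15137 (BT.node 15136 (BT.leaf c9_736) (BT.leaf c9_737)) (BT.leaf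 c9_738))) (BT.node 15142 (BT.node 15140 (BT.node 15139 (BT.leaf c9_739) (BT.leaf c9_740)) (BT.node 15141 (BT.leaf c9_741) (BT.leaf c9_742))) (BT.node 15144 (BT.node 15143 (BT.leaf c9_743) (BT.leaf c9_744)) (BT.leaf c9_745)))) (BT.node 15152 (BT.node 15149 (BT.node 15147 (BT.node 15146 (BT.leaf c9_746) (BT.leaf c9_747)) (BT.node 15148 (BT.leaf c9_748) (BT.leaf c9_749))) (BT.node 15151 (BT.node 15150 (BT.leaf c9_750) (BT.leaf c9_751)) (BT.leaf c9_752))) (BT.node 15156 (BT.node 15154 (BT.node 15153 (BT.leaf c9_753) (BT.leaf c9_754)) (BT.node 15155 (BT.leaf c9_755) (BT.leaf c9_756))) (BT.node 15158 (BT.node 15157 (BT.leaf c9_757) (BT.leaf c9_758)) (BT.leaf c9_759))))) (BT.node 15173 (BT.node 15166 (BT.node 15163 (BT.node 15161 (BT.node 15160 (BT.leaf c9_760) (BT.leaf c9_761)) (BT.node 15162 (BT.leaf c9_762) (BT.leaf c9_763))) (BT.node 15165 (BT.node 15164 (BT.leaf c9_764) (BT.leaf c9_765)) (BT.leaf c9_766)))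 (BT.node 15170 (BT.node 15168 (BT.node 15167 (BT.leaf c9_767) (BT.leaf c9_768)) (BT.node 15169 (BT.leaf c9_769) (BT.leaf c9_770))) (BT.node 15172 (BT.node 15171 (BT.leaf c9_771) (BT.leaf c9_772)) (BT.leaf c9_773)))) (BT.node 15180 (BT.node 15177 (BT.node 15175 (BT.node 15174 (BT.leaf c9_774) (BT.leaf c9_775)) (BT.node 15176 (BT.leaf c9_776) (BT.leaf c9_777))) (BT.node 15179 (BT.node 15178 (BT.leaf c9_778) (BT.leaf c9_779)) (BT.leaf c9_780))) (BT.node 15184 (BT.node 15182 (BT.node 15181 (BT.leaf c9_781) (BT.leaf c9_782)) (BT.node 15183 (BT.leaf c9_783) (BT.leaf c9_784))) (BT.node 15186 (BT.node 15185 (BT.leaf c9_785) (BT.leaf c9_786)) (BT.leaf c9_787))))))) (BT.node 15243 (BT.node 15215 (BT.node 15201 (BT.node 15194 (BT.node 15191 (BT.node 15189 (BT.node 15188 (BT.leaf c9_788) (BT.leaf c9_789)) (BT.node 15190 (BT.leaf c9_790) (BT.leaf c9_791))) (BT.node 15193 (BT.node 15192 (BT.leaf c9_792) (BT.leaf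 c9_793)) (BT.leaf c9_794))) (BT.node 15198 (BT.node 15196 (BT.node 15195 (BT.leaf c9_795) (BT.leaf c9_796)) (BT.node 15197 (BT.leaf c9_797) (BT.leaf c9_798))) (BT.node 15200 (BT.node 15199 (BT.leaf c9_799) (BT.leaf c9_800)) (BT.leaf c9_801)))) (BT.node 15208 (BT.node 15205 (BT.node 15203 (BT.node 15202 (BT.leaf c9_802) (BT.leaf c9_803)) (BT.node 15204 (BT.leaf c9_804) (BT.leaf c9_805))) (BT.node 15207 (BT.node 15206 (BT.leaf c9_806) (BT.leaf c9_807)) (BT.leaf c9_808))) (BT.node 15212 (BT.node 15210 (BT.node 15209 (BT.leaf c9_809) (BT.leaf c9_810)) (BT.node 15211 (BT.leaf c9_811) (BT.leaf c9_812))) (BT.node 15214 (BT.node 15213 (BT.leaf c9_813) (BT.leaf c9_814)) (BT.leaf c9_815))))) (BT.node 15229 (BT.node 15222 (BT.node 15219 (BT.node 15217 (BT.node 15216 (BT.leaf c9_816) (BT.leaf c9_817)) (BT.node 15218 (BT.leaf c9_818) (BT.leaf c9_819))) (BT.node 15221 (BT.node 15220 (BT.leaf c9_820) (BT.leaf c9_821))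 (BT.leaf c9_822))) (BT.node 15226 (BT.node 15224 (BT.node 15223 (BT.leaf c9_823) (BT.leaf c9_824)) (BT.node 15225 (BT.leaf c9_825) (BT.leaf c9_826))) (BT.node 15228 (BT.node 15227 (BT.leaf c9_827) (BT.leaf c9_828)) (BT.leaf c9_829)))) (BT.node 15236 (BT.node 15233 (BT.node 15231 (BT.node 15230 (BT.leaf c9_830) (BT.leaf c9_831)) (BT.node 15232 (BT.leaf c9_832) (BT.leaf c9_833))) (BT.node 15235 (BT.node 15234 (BT.leaf c9_834) (BT.leaf c9_835)) (BT.leaf c9_836))) (BT.node 15240 (BT.node 15238 (BT.node 15237 (BT.leaf c9_837) (BT.leaf c9_838)) (BT.node 15239 (BT.leaf c9_839) (BT.leaf c9_840))) (BT.node 15242 (BT.node 15241 (BT.leaf c9_841) (BT.leaf c9_842)) (BT.leaf c9_843)))))) (BT.node 15271 (BT.node 15257 (BT.node 15250 (BT.node 15247 (BT.node 15245 (BT.node 15244 (BT.leaf c9_844) (BT.leaf c9_845)) (BT.node 15246 (BT.leaf c9_846) (BT.leaf c9_847))) (BT.node 15249 (BT.node 15248 (BT.leaf c9_848) (BT.leaf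 c9_849)) (BT.leaf c9_850))) (BT.node 15254 (BT.node 15252 (BT.node 15251 (BT.leaf c9_851) (BT.leaf c9_852)) (BT.node 15253 (BT.leaf c9_853) (BT.leaf c9_854))) (BT.node 15256 (BT.node 15255 (BT.leaf c9_855) (BT.leaf c9_856)) (BT.leaf c9_857)))) (BT.node 15264 (BT.node 15261 (BT.node 15259 (BT.node 15258 (BT.leaf c9_858) (BT.leaf c9_859)) (BT.node 15260 (BT.leaf c9_860) (BT.leaf c9_861))) (BT.node 15263 (BT.node 15262 (BT.leaf c9_862) (BT.leaf c9_863)) (BT.leaf c9_864))) (BT.node 15268 (BT.node 15266 (BT.node 15265 (BT.leaf c9_865) (BT.leaf c9_866)) (BT.node 15267 (BT.leaf c9_867) (BT.leaf c9_868))) (BT.node 15270 (BT.node 15269 (BT.leaf c9_869) (BT.leaf c9_870)) (BT.leaf c9_871))))) (BT.node 15285 (BT.node 15278 (BT.node 15275 (BT.node 15273 (BT.node 15272 (BT.leaf c9_872) (BT.leaf c9_873)) (BT.node 15274 (BT.leaf c9_874) (BT.leaf c9_875))) (BT.node 15277 (BT.node 15276 (BT.leaf c9_876) (BT.leaf c9_877))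 (BT.leaf c9_878))) (BT.node 15282 (BT.node 15280 (BT.node 15279 (BT.leaf c9_879) (BT.leaf c9_880)) (BT.node 15281 (BT.leaf c9_881) (BT.leaf c9_882))) (BT.node 15284 (BT.node 15283 (BT.leaf c9_883) (BT.leaf c9_884)) (BT.leaf c9_885)))) (BT.node 15292 (BT.node 15289 (BT.node 15287 (BT.node 15286 (BT.leaf c9_886) (BT.leaf c9_887)) (BT.node 15288 (BT.leaf c9_888) (BT.leaf c9_889))) (BT.node 15291 (BT.node 15290 (BT.leaf c9_890) (BT.leaf c9_891)) (BT.leaf c9_892))) (BT.node 15296 (BT.node 15294 (BT.node 15293 (BT.leaf c9_893) (BT.leaf c9_894)) (BT.node 15295 (BT.leaf c9_895) (BT.leaf c9_896))) (BT.node 15298 (BT.node 15297 (BT.leaf c9_897) (BT.leaf c9_898)) (BT.leaf c9_899))))))))))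
/-- the chunks of the letter 17 -/
def colL_17 : BT ℕ := (BT.node 15749 (BT.node 15524 (BT.node 15412 (BT.node 15356 (BT.node 15328 (BT.node 15314 (BT.node 15307 (BT.node 15303 (BT.node 15301 (BT.node 15300 (BT.leaf c9_0) (BT.leaf c9_1)) (BT.node 15302 (BT.leaf c9_2) (BT.leaf c9_3))) (BT.node 15305 (BT.node 15304 (BT.leaf c9_4) (BT.leaf c9_5)) (BT.node 15306 (BT.leaf c9_6) (BT.leaf c9_7)))) (BT.node 15311 (BT.node 15309 (BT.node 15308 (BT.leaf c9_8) (BT.leaf c9_9)) (BT.node 15310 (BT.leaf c9_10) (BT.leaf c9_11))) (BT.node 15313 (BT.node 15312 (BT.leaf c9_12) (BT.leaf c9_13)) (BT.leaf c9_14)))) (BT.node 15321 (BT.node 15318 (BT.node 15316 (BT.node 15315 (BT.leaf c9_15) (BT.leaf c9_16)) (BT.node 15317 (BT.leaf c9_17) (BT.leaf c9_18))) (BT.node 15320 (BT.node 15319 (BT.leaf c9_19) (BT.leaf c9_20)) (BT.leaf c9_21))) (BT.node 15325 (BT.node 15323 (BT.node 15322 (BT.leaf c9_22) (BT.leaf c9_23)) (BT.node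 15324 (BT.leaf c9_24) (BT.leaf c9_25))) (BT.node 15327 (BT.node 15326 (BT.leaf c9_26) (BT.leaf c9_27)) (BT.leaf c9_28))))) (BT.node 15342 (BT.node 15335 (BT.node 15332 (BT.node 15330 (BT.node 15329 (BT.leaf c9_29) (BT.leaf c9_30)) (BT.node 15331 (BT.leaf c9_31) (BT.leaf c9_32))) (BT.node 15334 (BT.node 15333 (BT.leaf c9_33) (BT.leaf c9_34)) (BT.leaf c9_35))) (BT.node 15339 (BT.node 15337 (BT.node 15336 (BT.leaf c9_36) (BT.leaf c9_37)) (BT.node 15338 (BT.leaf c9_38) (BT.leaf c9_39))) (BT.node 15341 (BT.node 15340 (BT.leaf c9_40) (BT.leaf c9_41)) (BT.leaf c9_42)))) (BT.node 15349 (BT.node 15346 (BT.node 15344 (BT.node 15343 (BT.leaf c9_43) (BT.leaf c9_44)) (BT.node 15345 (BT.leaf c9_45) (BT.leaf c9_46))) (BT.node 15348 (BT.node 15347 (BT.leaf c9_47) (BT.leaf c9_48)) (BT.leaf c9_49))) (BT.node 15353 (BT.node 15351 (BT.node 15350 (BT.leaf c9_50) (BT.leaf c9_51)) (BT.node 15352 (BT.leaf c9_52) (BT.leaf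 c9_53))) (BT.node 15355 (BT.node 15354 (BT.leaf c9_54) (BT.leaf c9_55)) (BT.leaf c9_56)))))) (BT.node 15384 (BT.node 15370 (BT.node 15363 (BT.node 15360 (BT.node 15358 (BT.node 15357 (BT.leaf c9_57) (BT.leaf c9_58)) (BT.node 15359 (BT.leaf c9_59) (BT.leaf c9_60))) (BT.node 15362 (BT.node 15361 (BT.leaf c9_61) (BT.leaf c9_62)) (BT.leaf c9_63))) (BT.node 15367 (BT.node 15365 (BT.node 15364 (BT.leaf c9_64) (BT.leaf c9_65)) (BT.node 15366 (BT.leaf c9_66) (BT.leaf c9_67))) (BT.node 15369 (BT.node 15368 (BT.leaf c9_68) (BT.leaf c9_69)) (BT.leaf c9_70)))) (BT.node 15377 (BT.node 15374 (BT.node 15372 (BT.node 15371 (BT.leaf c9_71) (BT.leaf c9_72)) (BT.node 15373 (BT.leaf c9_73) (BT.leaf c9_74))) (BT.node 15376 (BT.node 15375 (BT.leaf c9_75) (BT.leaf c9_76)) (BT.leaf c9_77))) (BT.node 15381 (BT.node 15379 (BT.node 15378 (BT.leaf c9_78) (BT.leaf c9_79)) (BT.node 15380 (BT.leaf c9_80) (BT.leaf c9_81))) (BT.node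 15383 (BT.node 15382 (BT.leaf c9_82) (BT.leaf c9_83)) (BT.leaf c9_84))))) (BT.node 15398 (BT.node 15391 (BT.node 15388 (BT.node 15386 (BT.node 15385 (BT.leaf c9_85) (BT.leaf c9_86)) (BT.node 15387 (BT.leaf c9_87) (BT.leaf c9_88))) (BT.node 15390 (BT.node 15389 (BT.leaf c9_89) (BT.leaf c9_90)) (BT.leaf c9_91))) (BT.node 15395 (BT.node 15393 (BT.node 15392 (BT.leaf c9_92) (BT.leaf c9_93)) (BT.node 15394 (BT.leaf c9_94) (BT.leaf c9_95))) (BT.node 15397 (BT.node 15396 (BT.leaf c9_96) (BT.leaf c9_97)) (BT.leaf c9_98)))) (BT.node 15405 (BT.node 15402 (BT.node 15400 (BT.node 15399 (BT.leaf c9_99) (BT.leaf c9_100)) (BT.node 15401 (BT.leaf c9_101) (BT.leaf c9_102))) (BT.node 15404 (BT.node 15403 (BT.leaf c9_103) (BT.leaf c9_104)) (BT.leaf c9_105))) (BT.node 15409 (BT.node 15407 (BT.node 15406 (BT.leaf c9_106) (BT.leaf c9_107)) (BT.node 15408 (BT.leaf c9_108) (BT.leaf c9_109))) (BT.node 15411 (BT.node 15410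 (BT.leaf c9_110) (BT.leaf c9_111)) (BT.leaf c9_112))))))) (BT.node 15468 (BT.node 15440 (BT.node 15426 (BT.node 15419 (BT.node 15416 (BT.node 15414 (BT.node 15413 (BT.leaf c9_113) (BT.leaf c9_114)) (BT.node 15415 (BT.leaf c9_115) (BT.leaf c9_116))) (BT.node 15418 (BT.node 15417 (BT.leaf c9_117) (BT.leaf c9_118)) (BT.leaf c9_119))) (BT.node 15423 (BT.node 15421 (BT.node 15420 (BT.leaf c9_120) (BT.leaf c9_121)) (BT.node 15422 (BT.leaf c9_122) (BT.leaf c9_123))) (BT.node 15425 (BT.node 15424 (BT.leaf c9_124) (BT.leaf c9_125)) (BT.leaf c9_126)))) (BT.node 15433 (BT.node 15430 (BT.node 15428 (BT.node 15427 (BT.leaf c9_127) (BT.leaf c9_128)) (BT.node 15429 (BT.leaf c9_129) (BT.leaf c9_130))) (BT.node 15432 (BT.node 15431 (BT.leaf c9_131) (BT.leaf c9_132)) (BT.leaf c9_133))) (BT.node 15437 (BT.node 15435 (BT.node 15434 (BT.leaf c9_134) (BT.leaf c9_135)) (BT.node 15436 (BT.leaf c9_136) (BT.leaf c9_137)))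 (BT.node 15439 (BT.node 15438 (BT.leaf c9_138) (BT.leaf c9_139)) (BT.leaf c9_140))))) (BT.node 15454 (BT.node 15447 (BT.node 15444 (BT.node 15442 (BT.node 15441 (BT.leaf c9_141) (BT.leaf c9_142)) (BT.node 15443 (BT.leaf c9_143) (BT.leaf c9_144))) (BT.node 15446 (BT.node 15445 (BT.leaf c9_145) (BT.leaf c9_146)) (BT.leaf c9_147))) (BT.node 15451 (BT.node 15449 (BT.node 15448 (BT.leaf c9_148) (BT.leaf c9_149)) (BT.node 15450 (BT.leaf c9_150) (BT.leaf c9_151))) (BT.node 15453 (BT.node 15452 (BT.leaf c9_152) (BT.leaf c9_153)) (BT.leaf c9_154)))) (BT.node 15461 (BT.node 15458 (BT.node 15456 (BT.node 15455 (BT.leaf c9_155) (BT.leaf c9_156)) (BT.node 15457 (BT.leaf c9_157) (BT.leaf c9_158))) (BT.node 15460 (BT.node 15459 (BT.leaf c9_159) (BT.leaf c9_160)) (BT.leaf c9_161))) (BT.node 15465 (BT.node 15463 (BT.node 15462 (BT.leaf c9_162) (BT.leaf c9_163)) (BT.node 15464 (BT.leaf c9_164) (BT.leaf c9_165))) (BT.node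 15467 (BT.node 15466 (BT.leaf c9_166) (BT.leaf c9_167)) (BT.leaf c9_168)))))) (BT.node 15496 (BT.node 15482 (BT.node 15475 (BT.node 15472 (BT.node 15470 (BT.node 15469 (BT.leaf c9_169) (BT.leaf c9_170)) (BT.node 15471 (BT.leaf c9_171) (BT.leaf c9_172))) (BT.node 15474 (BT.node 15473 (BT.leaf c9_173) (BT.leaf c9_174)) (BT.leaf c9_175))) (BT.node 15479 (BT.node 15477 (BT.node 15476 (BT.leaf c9_176) (BT.leaf c9_177)) (BT.node 15478 (BT.leaf c9_178) (BT.leaf c9_179))) (BT.node 15481 (BT.node 15480 (BT.leaf c9_180) (BT.leaf c9_181)) (BT.leaf c9_182)))) (BT.node 15489 (BT.node 15486 (BT.node 15484 (BT.node 15483 (BT.leaf c9_183) (BT.leaf c9_184)) (BT.node 15485 (BT.leaf c9_185) (BT.leaf c9_186))) (BT.node 15488 (BT.node 15487 (BT.leaf c9_187) (BT.leaf c9_188)) (BT.leaf c9_189))) (BT.node 15493 (BT.node 15491 (BT.node 15490 (BT.leaf c9_190) (BT.leaf c9_191)) (BT.node 15492 (BT.leaf c9_192) (BT.leaf c9_193)))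 (BT.node 15495 (BT.node 15494 (BT.leaf c9_194) (BT.leaf c9_195)) (BT.leaf c9_196))))) (BT.node 15510 (BT.node 15503 (BT.node 15500 (BT.node 15498 (BT.node 15497 (BT.leaf c9_197) (BT.leaf c9_198)) (BT.node 15499 (BT.leaf c9_199) (BT.leaf c9_200))) (BT.node 15502 (BT.node 15501 (BT.leaf c9_201) (BT.leaf c9_202)) (BT.leaf c9_203))) (BT.node 15507 (BT.node 15505 (BT.node 15504 (BT.leaf c9_204) (BT.leaf c9_205)) (BT.node 15506 (BT.leaf c9_206) (BT.leaf c9_207))) (BT.node 15509 (BT.node 15508 (BT.leaf c9_208) (BT.leaf c9_209)) (BT.leaf c9_210)))) (BT.node 15517 (BT.node 15514 (BT.node 15512 (BT.node 15511 (BT.leaf c9_211) (BT.leaf c9_212)) (BT.node 15513 (BT.leaf c9_213) (BT.leaf c9_214))) (BT.node 15516 (BT.node 15515 (BT.leaf c9_215) (BT.leaf c9_216)) (BT.leaf c9_217))) (BT.node 15521 (BT.node 15519 (BT.node 15518 (BT.leaf c9_218) (BT.leaf c9_219)) (BT.node 15520 (BT.leaf c9_220) (BT.leaf c9_221))) (BT.node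 15523 (BT.node 15522 (BT.leaf c9_222) (BT.leaf c9_223)) (BT.leaf c9_224)))))))) (BT.node 15637 (BT.node 15581 (BT.node 15553 (BT.node 15539 (BT.node 15532 (BT.node 15528 (BT.node 15526 (BT.node 15525 (BT.leaf c9_225) (BT.leaf c9_226)) (BT.node 15527 (BT.leaf c9_227) (BT.leaf c9_228))) (BT.node 15530 (BT.node 15529 (BT.leaf c9_229) (BT.leaf c9_230)) (BT.node 15531 (BT.leaf c9_231) (BT.leaf c9_232)))) (BT.node 15536 (BT.node 15534 (BT.node 15533 (BT.leaf c9_233) (BT.leaf c9_234)) (BT.node 15535 (BT.leaf c9_235) (BT.leaf c9_236))) (BT.node 15538 (BT.node 15537 (BT.leaf c9_237) (BT.leaf c9_238)) (BT.leaf c9_239)))) (BT.node 15546 (BT.node 15543 (BT.node 15541 (BT.node 15540 (BT.leaf c9_240) (BT.leaf c9_241)) (BT.node 15542 (BT.leaf c9_242) (BT.leaf c9_243))) (BT.node 15545 (BT.node 15544 (BT.leaf c9_244) (BT.leaf c9_245)) (BT.leaf c9_246))) (BT.node 15550 (BT.node 15548 (BT.node 15547 (BT.leaf c9_247)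 (BT.leaf c9_248)) (BT.node 15549 (BT.leaf c9_249) (BT.leaf c9_250))) (BT.node 15552 (BT.node 15551 (BT.leaf c9_251) (BT.leaf c9_252)) (BT.leaf c9_253))))) (BT.node 15567 (BT.node 15560 (BT.node 15557 (BT.node 15555 (BT.node 15554 (BT.leaf c9_254) (BT.leaf c9_255)) (BT.node 15556 (BT.leaf c9_256) (BT.leaf c9_257))) (BT.node 15559 (BT.node 15558 (BT.leaf c9_258) (BT.leaf c9_259)) (BT.leaf c9_260))) (BT.node 15564 (BT.node 15562 (BT.node 15561 (BT.leaf c9_261) (BT.leaf c9_262)) (BT.node 15563 (BT.leaf c9_263) (BT.leaf c9_264))) (BT.node 15566 (BT.node 15565 (BT.leaf c9_265) (BT.leaf c9_266)) (BT.leaf c9_267)))) (BT.node 15574 (BT.node 15571 (BT.node 15569 (BT.node 15568 (BT.leaf c9_268) (BT.leaf c9_269)) (BT.node 15570 (BT.leaf c9_270) (BT.leaf c9_271))) (BT.node 15573 (BT.node 15572 (BT.leaf c9_272) (BT.leaf c9_273)) (BT.leaf c9_274))) (BT.node 15578 (BT.node 15576 (BT.node 15575 (BT.leaf c9_275) (BT.leaf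 c9_276)) (BT.node 15577 (BT.leaf c9_277) (BT.leaf c9_278))) (BT.node 15580 (BT.node 15579 (BT.leaf c9_279) (BT.leaf c9_280)) (BT.leaf c9_281)))))) (BT.node 15609 (BT.node 15595 (BT.node 15588 (BT.node 15585 (BT.node 15583 (BT.node 15582 (BT.leaf c9_282) (BT.leaf c9_283)) (BT.node 15584 (BT.leaf c9_284) (BT.leaf c9_285))) (BT.node 15587 (BT.node 15586 (BT.leaf c9_286) (BT.leaf c9_287)) (BT.leaf c9_288))) (BT.node 15592 (BT.node 15590 (BT.node 15589 (BT.leaf c9_289) (BT.leaf c9_290)) (BT.node 15591 (BT.leaf c9_291) (BT.leaf c9_292))) (BT.node 15594 (BT.node 15593 (BT.leaf c9_293) (BT.leaf c9_294)) (BT.leaf c9_295)))) (BT.node 15602 (BT.node 15599 (BT.node 15597 (BT.node 15596 (BT.leaf c9_296) (BT.leaf c9_297)) (BT.node 15598 (BT.leaf c9_298) (BT.leaf c9_299))) (BT.node 15601 (BT.node 15600 (BT.leaf c9_300) (BT.leaf c9_301)) (BT.leaf c9_302))) (BT.node 15606 (BT.node 15604 (BT.node 15603 (BT.leaf c9_303)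 (BT.leaf c9_304)) (BT.node 15605 (BT.leaf c9_305) (BT.leaf c9_306))) (BT.node 15608 (BT.node 15607 (BT.leaf c9_307) (BT.leaf c9_308)) (BT.leaf c9_309))))) (BT.node 15623 (BT.node 15616 (BT.node 15613 (BT.node 15611 (BT.node 15610 (BT.leaf c9_310) (BT.leaf c9_311)) (BT.node 15612 (BT.leaf c9_312) (BT.leaf c9_313))) (BT.node 15615 (BT.node 15614 (BT.leaf c9_314) (BT.leaf c9_315)) (BT.leaf c9_316))) (BT.node 15620 (BT.node 15618 (BT.node 15617 (BT.leaf c9_317) (BT.leaf c9_318)) (BT.node 15619 (BT.leaf c9_319) (BT.leaf c9_320))) (BT.node 15622 (BT.node 15621 (BT.leaf c9_321) (BT.leaf c9_322)) (BT.leaf c9_323)))) (BT.node 15630 (BT.node 15627 (BT.node 15625 (BT.node 15624 (BT.leaf c9_324) (BT.leaf c9_325)) (BT.node 15626 (BT.leaf c9_326) (BT.leaf c9_327))) (BT.node 15629 (BT.node 15628 (BT.leaf c9_328) (BT.leaf c9_329)) (BT.leaf c9_330))) (BT.node 15634 (BT.node 15632 (BT.node 15631 (BT.leaf c9_331) (BT.leaf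 c9_332)) (BT.node 15633 (BT.leaf c9_333) (BT.leaf c9_334))) (BT.node 15636 (BT.node 15635 (BT.leaf c9_335) (BT.leaf c9_336)) (BT.leaf c9_337))))))) (BT.node 15693 (BT.node 15665 (BT.node 15651 (BT.node 15644 (BT.node 15641 (BT.node 15639 (BT.node 15638 (BT.leaf c9_338) (BT.leaf c9_339)) (BT.node 15640 (BT.leaf c9_340) (BT.leaf c9_341))) (BT.node 15643 (BT.node 15642 (BT.leaf c9_342) (BT.leaf c9_343)) (BT.leaf c9_344))) (BT.node 15648 (BT.node 15646 (BT.node 15645 (BT.leaf c9_345) (BT.leaf c9_346)) (BT.node 15647 (BT.leaf c9_347) (BT.leaf c9_348))) (BT.node 15650 (BT.node 15649 (BT.leaf c9_349) (BT.leaf c9_350)) (BT.leaf c9_351)))) (BT.node 15658 (BT.node 15655 (BT.node 15653 (BT.node 15652 (BT.leaf c9_352) (BT.leaf c9_353)) (BT.node 15654 (BT.leaf c9_354) (BT.leaf c9_355))) (BT.node 15657 (BT.node 15656 (BT.leaf c9_356) (BT.leaf c9_357)) (BT.leaf c9_358))) (BT.node 15662 (BT.node 15660 (BT.node 15659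 (BT.leaf c9_359) (BT.leaf c9_360)) (BT.node 15661 (BT.leaf c9_361) (BT.leaf c9_362))) (BT.node 15664 (BT.node 15663 (BT.leaf c9_363) (BT.leaf c9_364)) (BT.leaf c9_365))))) (BT.node 15679 (BT.node 15672 (BT.node 15669 (BT.node 15667 (BT.node 15666 (BT.leaf c9_366) (BT.leaf c9_367)) (BT.node 15668 (BT.leaf c9_368) (BT.leaf c9_369))) (BT.node 15671 (BT.node 15670 (BT.leaf c9_370) (BT.leaf c9_371)) (BT.leaf c9_372))) (BT.node 15676 (BT.node 15674 (BT.node 15673 (BT.leaf c9_373) (BT.leaf c9_374)) (BT.node 15675 (BT.leaf c9_375) (BT.leaf c9_376))) (BT.node 15678 (BT.node 15677 (BT.leaf c9_377) (BT.leaf c9_378)) (BT.leaf c9_379)))) (BT.node 15686 (BT.node 15683 (BT.node 15681 (BT.node 15680 (BT.leaf c9_380) (BT.leaf c9_381)) (BT.node 15682 (BT.leaf c9_382) (BT.leaf c9_383))) (BT.node 15685 (BT.node 15684 (BT.leaf c9_384) (BT.leaf c9_385)) (BT.leaf c9_386))) (BT.node 15690 (BT.node 15688 (BT.node 15687 (BT.leaf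 c9_387) (BT.leaf c9_388)) (BT.node 15689 (BT.leaf c9_389) (BT.leaf c9_390))) (BT.node 15692 (BT.node 15691 (BT.leaf c9_391) (BT.leaf c9_392)) (BT.leaf c9_393)))))) (BT.node 15721 (BT.node 15707 (BT.node 15700 (BT.node 15697 (BT.node 15695 (BT.node 15694 (BT.leaf c9_394) (BT.leaf c9_395)) (BT.node 15696 (BT.leaf c9_396) (BT.leaf c9_397))) (BT.node 15699 (BT.node 15698 (BT.leaf c9_398) (BT.leaf c9_399)) (BT.leaf c9_400))) (BT.node 15704 (BT.node 15702 (BT.node 15701 (BT.leaf c9_401) (BT.leaf c9_402)) (BT.node 15703 (BT.leaf c9_403) (BT.leaf c9_404))) (BT.node 15706 (BT.node 15705 (BT.leaf c9_405) (BT.leaf c9_406)) (BT.leaf c9_407)))) (BT.node 15714 (BT.node 15711 (BT.node 15709 (BT.node 15708 (BT.leaf c9_408) (BT.leaf c9_409)) (BT.node 15710 (BT.leaf c9_410) (BT.leaf c9_411))) (BT.node 15713 (BT.node 15712 (BT.leaf c9_412) (BT.leaf c9_413)) (BT.leaf c9_414))) (BT.node 15718 (BT.node 15716 (BT.node 15715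 (BT.leaf c9_415) (BT.leaf c9_416)) (BT.node 15717 (BT.leaf c9_417) (BT.leaf c9_418))) (BT.node 15720 (BT.node 15719 (BT.leaf c9_419) (BT.leaf c9_420)) (BT.leaf c9_421))))) (BT.node 15735 (BT.node 15728 (BT.node 15725 (BT.node 15723 (BT.node 15722 (BT.leaf c9_422) (BT.leaf c9_423)) (BT.node 15724 (BT.leaf c9_424) (BT.leaf c9_425))) (BT.node 15727 (BT.node 15726 (BT.leaf c9_426) (BT.leaf c9_427)) (BT.leaf c9_428))) (BT.node 15732 (BT.node 15730 (BT.node 15729 (BT.leaf c9_429) (BT.leaf c9_430)) (BT.node 15731 (BT.leaf c9_431) (BT.leaf c9_432))) (BT.node 15734 (BT.node 15733 (BT.leaf c9_433) (BT.leaf c9_434)) (BT.leaf c9_435)))) (BT.node 15742 (BT.node 15739 (BT.node 15737 (BT.node 15736 (BT.leaf c9_436) (BT.leaf c9_437)) (BT.node 15738 (BT.leaf c9_438) (BT.leaf c9_439))) (BT.node 15741 (BT.node 15740 (BT.leaf c9_440) (BT.leaf c9_441)) (BT.leaf c9_442))) (BT.node 15746 (BT.node 15744 (BT.node 15743 (BT.leaf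 c9_443) (BT.leaf c9_444)) (BT.node 15745 (BT.leaf c9_445) (BT.leaf c9_446))) (BT.node 15748 (BT.node 15747 (BT.leaf c9_447) (BT.leaf c9_448)) (BT.leaf c9_449))))))))) (BT.node 15974 (BT.node 15862 (BT.node 15806 (BT.node 15778 (BT.node 15764 (BT.node 15757 (BT.node 15753 (BT.node 15751 (BT.node 15750 (BT.leaf c9_450) (BT.leaf c9_451)) (BT.node 15752 (BT.leaf c9_452) (BT.leaf c9_453))) (BT.node 15755 (BT.node 15754 (BT.leaf c9_454) (BT.leaf c9_455)) (BT.node 15756 (BT.leaf c9_456) (BT.leaf c9_457)))) (BT.node 15761 (BT.node 15759 (BT.node 15758 (BT.leaf c9_458) (BT.leaf c9_459)) (BT.node 15760 (BT.leaf c9_460) (BT.leaf c9_461))) (BT.node 15763 (BT.node 15762 (BT.leaf c9_462) (BT.leaf c9_463)) (BT.leaf c9_464)))) (BT.node 15771 (BT.node 15768 (BT.node 15766 (BT.node 15765 (BT.leaf c9_465) (BT.leaf c9_466)) (BT.node 15767 (BT.leaf c9_467) (BT.leaf c9_468))) (BT.node 15770 (BT.node 15769 (BT.leaf c9_469)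 (BT.leaf c9_470)) (BT.leaf c9_471))) (BT.node 15775 (BT.node 15773 (BT.node 15772 (BT.leaf c9_472) (BT.leaf c9_473)) (BT.node 15774 (BT.leaf c9_474) (BT.leaf c9_475))) (BT.node 15777 (BT.node 15776 (BT.leaf c9_476) (BT.leaf c9_477)) (BT.leaf c9_478))))) (BT.node 15792 (BT.node 15785 (BT.node 15782 (BT.node 15780 (BT.node 15779 (BT.leaf c9_479) (BT.leaf c9_480)) (BT.node 15781 (BT.leaf c9_481) (BT.leaf c9_482))) (BT.node 15784 (BT.node 15783 (BT.leaf c9_483) (BT.leaf c9_484)) (BT.leaf c9_485))) (BT.node 15789 (BT.node 15787 (BT.node 15786 (BT.leaf c9_486) (BT.leaf c9_487)) (BT.node 15788 (BT.leaf c9_488) (BT.leaf c9_489))) (BT.node 15791 (BT.node 15790 (BT.leaf c9_490) (BT.leaf c9_491)) (BT.leaf c9_492)))) (BT.node 15799 (BT.node 15796 (BT.node 15794 (BT.node 15793 (BT.leaf c9_493) (BT.leaf c9_494)) (BT.node 15795 (BT.leaf c9_495) (BT.leaf c9_496))) (BT.node 15798 (BT.node 15797 (BT.leaf c9_497) (BT.leaf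 c9_498)) (BT.leaf c9_499))) (BT.node 15803 (BT.node 15801 (BT.node 15800 (BT.leaf c9_500) (BT.leaf c9_501)) (BT.node 15802 (BT.leaf c9_502) (BT.leaf c9_503))) (BT.node 15805 (BT.node 15804 (BT.leaf c9_504) (BT.leaf c9_505)) (BT.leaf c9_506)))))) (BT.node 15834 (BT.node 15820 (BT.node 15813 (BT.node 15810 (BT.node 15808 (BT.node 15807 (BT.leaf c9_507) (BT.leaf c9_508)) (BT.node 15809 (BT.leaf c9_509) (BT.leaf c9_510))) (BT.node 15812 (BT.node 15811 (BT.leaf c9_511) (BT.leaf c9_512)) (BT.leaf c9_513))) (BT.node 15817 (BT.node 15815 (BT.node 15814 (BT.leaf c9_514) (BT.leaf c9_515)) (BT.node 15816 (BT.leaf c9_516) (BT.leaf c9_517))) (BT.node 15819 (BT.node 15818 (BT.leaf c9_518) (BT.leaf c9_519)) (BT.leaf c9_520)))) (BT.node 15827 (BT.node 15824 (BT.node 15822 (BT.node 15821 (BT.leaf c9_521) (BT.leaf c9_522)) (BT.node 15823 (BT.leaf c9_523) (BT.leaf c9_524))) (BT.node 15826 (BT.node 15825 (BT.leaf c9_525)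 (BT.leaf c9_526)) (BT.leaf c9_527))) (BT.node 15831 (BT.node 15829 (BT.node 15828 (BT.leaf c9_528) (BT.leaf c9_529)) (BT.node 15830 (BT.leaf c9_530) (BT.leaf c9_531))) (BT.node 15833 (BT.node 15832 (BT.leaf c9_532) (BT.leaf c9_533)) (BT.leaf c9_534))))) (BT.node 15848 (BT.node 15841 (BT.node 15838 (BT.node 15836 (BT.node 15835 (BT.leaf c9_535) (BT.leaf c9_536)) (BT.node 15837 (BT.leaf c9_537) (BT.leaf c9_538))) (BT.node 15840 (BT.node 15839 (BT.leaf c9_539) (BT.leaf c9_540)) (BT.leaf c9_541))) (BT.node 15845 (BT.node 15843 (BT.node 15842 (BT.leaf c9_542) (BT.leaf c9_543)) (BT.node 15844 (BT.leaf c9_544) (BT.leaf c9_545))) (BT.node 15847 (BT.node 15846 (BT.leaf c9_546) (BT.leaf c9_547)) (BT.leaf c9_548)))) (BT.node 15855 (BT.node 15852 (BT.node 15850 (BT.node 15849 (BT.leaf c9_549) (BT.leaf c9_550)) (BT.node 15851 (BT.leaf c9_551) (BT.leaf c9_552))) (BT.node 15854 (BT.node 15853 (BT.leaf c9_553) (BT.leaf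 c9_554)) (BT.leaf c9_555))) (BT.node 15859 (BT.node 15857 (BT.node 15856 (BT.leaf c9_556) (BT.leaf c9_557)) (BT.node 15858 (BT.leaf c9_558) (BT.leaf c9_559))) (BT.node 15861 (BT.node 15860 (BT.leaf c9_560) (BT.leaf c9_561)) (BT.leaf c9_562))))))) (BT.node 15918 (BT.node 15890 (BT.node 15876 (BT.node 15869 (BT.node 15866 (BT.node 15864 (BT.node 15863 (BT.leaf c9_563) (BT.leaf c9_564)) (BT.node 15865 (BT.leaf c9_565) (BT.leaf c9_566))) (BT.node 15868 (BT.node 15867 (BT.leaf c9_567) (BT.leaf c9_568)) (BT.leaf c9_569))) (BT.node 15873 (BT.node 15871 (BT.node 15870 (BT.leaf c9_570) (BT.leaf c9_571)) (BT.node 15872 (BT.leaf c9_572) (BT.leaf c9_573))) (BT.node 15875 (BT.node 15874 (BT.leaf c9_574) (BT.leaf c9_575)) (BT.leaf c9_576)))) (BT.node 15883 (BT.node 15880 (BT.node 15878 (BT.node 15877 (BT.leaf c9_577) (BT.leaf c9_578)) (BT.node 15879 (BT.leaf c9_579) (BT.leaf c9_580))) (BT.node 15882 (BT.node 15881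 (BT.leaf c9_581) (BT.leaf c9_582)) (BT.leaf c9_583))) (BT.node 15887 (BT.node 15885 (BT.node 15884 (BT.leaf c9_584) (BT.leaf c9_585)) (BT.node 15886 (BT.leaf c9_586) (BT.leaf c9_587))) (BT.node 15889 (BT.node 15888 (BT.leaf c9_588) (BT.leaf c9_589)) (BT.leaf c9_590))))) (BT.node 15904 (BT.node 15897 (BT.node 15894 (BT.node 15892 (BT.node 15891 (BT.leaf c9_591) (BT.leaf c9_592)) (BT.node 15893 (BT.leaf c9_593) (BT.leaf c9_594))) (BT.node 15896 (BT.node 15895 (BT.leaf c9_595) (BT.leaf c9_596)) (BT.leaf c9_597))) (BT.node 15901 (BT.node 15899 (BT.node 15898 (BT.leaf c9_598) (BT.leaf c9_599)) (BT.node 15900 (BT.leaf c9_600) (BT.leaf c9_601))) (BT.node 15903 (BT.node 15902 (BT.leaf c9_602) (BT.leaf c9_603)) (BT.leaf c9_604)))) (BT.node 15911 (BT.node 15908 (BT.node 15906 (BT.node 15905 (BT.leaf c9_605) (BT.leaf c9_606)) (BT.node 15907 (BT.leaf c9_607) (BT.leaf c9_608))) (BT.node 15910 (BT.node 15909 (BT.leaf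 c9_609) (BT.leaf c9_610)) (BT.leaf c9_611))) (BT.node 15915 (BT.node 15913 (BT.node 15912 (BT.leaf c9_612) (BT.leaf c9_613)) (BT.node 15914 (BT.leaf c9_614) (BT.leaf c9_615))) (BT.node 15917 (BT.node 15916 (BT.leaf c9_616) (BT.leaf c9_617)) (BT.leaf c9_618)))))) (BT.node 15946 (BT.node 15932 (BT.node 15925 (BT.node 15922 (BT.node 15920 (BT.node 15919 (BT.leaf c9_619) (BT.leaf c9_620)) (BT.node 15921 (BT.leaf c9_621) (BT.leaf c9_622))) (BT.node 15924 (BT.node 15923 (BT.leaf c9_623) (BT.leaf c9_624)) (BT.leaf c9_625))) (BT.node 15929 (BT.node 15927 (BT.node 15926 (BT.leaf c9_626) (BT.leaf c9_627)) (BT.node 15928 (BT.leaf c9_628) (BT.leaf c9_629))) (BT.node 15931 (BT.node 15930 (BT.leaf c9_630) (BT.leaf c9_631)) (BT.leaf c9_632)))) (BT.node 15939 (BT.node 15936 (BT.node 15934 (BT.node 15933 (BT.leaf c9_633) (BT.leaf c9_634)) (BT.node 15935 (BT.leaf c9_635) (BT.leaf c9_636))) (BT.node 15938 (BT.node 15937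 (BT.leaf c9_637) (BT.leaf c9_638)) (BT.leaf c9_639))) (BT.node 15943 (BT.node 15941 (BT.node 15940 (BT.leaf c9_640) (BT.leaf c9_641)) (BT.node 15942 (BT.leaf c9_642) (BT.leaf c9_643))) (BT.node 15945 (BT.node 15944 (BT.leaf c9_644) (BT.leaf c9_645)) (BT.leaf c9_646))))) (BT.node 15960 (BT.node 15953 (BT.node 15950 (BT.node 15948 (BT.node 15947 (BT.leaf c9_647) (BT.leaf c9_648)) (BT.node 15949 (BT.leaf c9_649) (BT.leaf c9_650))) (BT.node 15952 (BT.node 15951 (BT.leaf c9_651) (BT.leaf c9_652)) (BT.leaf c9_653))) (BT.node 15957 (BT.node 15955 (BT.node 15954 (BT.leaf c9_654) (BT.leaf c9_655)) (BT.node 15956 (BT.leaf c9_656) (BT.leaf c9_657))) (BT.node 15959 (BT.node 15958 (BT.leaf c9_658) (BT.leaf c9_659)) (BT.leaf c9_660)))) (BT.node 15967 (BT.node 15964 (BT.node 15962 (BT.node 15961 (BT.leaf c9_661) (BT.leaf c9_662)) (BT.node 15963 (BT.leaf c9_663) (BT.leaf c9_664))) (BT.node 15966 (BT.node 15965 (BT.leaf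 c9_665) (BT.leaf c9_666)) (BT.leaf c9_667))) (BT.node 15971 (BT.node 15969 (BT.node 15968 (BT.leaf c9_668) (BT.leaf c9_669)) (BT.node 15970 (BT.leaf c9_670) (BT.leaf c9_671))) (BT.node 15973 (BT.node 15972 (BT.leaf c9_672) (BT.leaf c9_673)) (BT.leaf c9_674)))))))) (BT.node 16087 (BT.node 16031 (BT.node 16003 (BT.node 15989 (BT.node 15982 (BT.node 15978 (BT.node 15976 (BT.node 15975 (BT.leaf c9_675) (BT.leaf c9_676)) (BT.node 15977 (BT.leaf c9_677) (BT.leaf c9_678))) (BT.node 15980 (BT.node 15979 (BT.leaf c9_679) (BT.leaf c9_680)) (BT.node 15981 (BT.leaf c9_681) (BT.leaf c9_682)))) (BT.node 15986 (BT.node 15984 (BT.node 15983 (BT.leaf c9_683) (BT.leaf c9_684)) (BT.node 15985 (BT.leaf c9_685) (BT.leaf c9_686))) (BT.node 15988 (BT.node 15987 (BT.leaf c9_687) (BT.leaf c9_688)) (BT.leaf c9_689)))) (BT.node 15996 (BT.node 15993 (BT.node 15991 (BT.node 15990 (BT.leaf c9_690) (BT.leaf c9_691)) (BT.node 15992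 (BT.leaf c9_692) (BT.leaf c9_693))) (BT.node 15995 (BT.node 15994 (BT.leaf c9_694) (BT.leaf c9_695)) (BT.leaf c9_696))) (BT.node 16000 (BT.node 15998 (BT.node 15997 (BT.leaf c9_697) (BT.leaf c9_698)) (BT.node 15999 (BT.leaf c9_699) (BT.leaf c9_700))) (BT.node 16002 (BT.node 16001 (BT.leaf c9_701) (BT.leaf c9_702)) (BT.leaf c9_703))))) (BT.node 16017 (BT.node 16010 (BT.node 16007 (BT.node 16005 (BT.node 16004 (BT.leaf c9_704) (BT.leaf c9_705)) (BT.node 16006 (BT.leaf c9_706) (BT.leaf c9_707))) (BT.node 16009 (BT.node 16008 (BT.leaf c9_708) (BT.leaf c9_709)) (BT.leaf c9_710))) (BT.node 16014 (BT.node 16012 (BT.node 16011 (BT.leaf c9_711) (BT.leaf c9_712)) (BT.node 16013 (BT.leaf c9_713) (BT.leaf c9_714))) (BT.node 16016 (BT.node 16015 (BT.leaf c9_715) (BT.leaf c9_716)) (BT.leaf c9_717)))) (BT.node 16024 (BT.node 16021 (BT.node 16019 (BT.node 16018 (BT.leaf c9_718) (BT.leaf c9_719)) (BT.node 16020 (BT.leaf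 c9_720) (BT.leaf c9_721))) (BT.node 16023 (BT.node 16022 (BT.leaf c9_722) (BT.leaf c9_723)) (BT.leaf c9_724))) (BT.node 16028 (BT.node 16026 (BT.node 16025 (BT.leaf c9_725) (BT.leaf c9_726)) (BT.node 16027 (BT.leaf c9_727) (BT.leaf c9_728))) (BT.node 16030 (BT.node 16029 (BT.leaf c9_729) (BT.leaf c9_730)) (BT.leaf c9_731)))))) (BT.node 16059 (BT.node 16045 (BT.node 16038 (BT.node 16035 (BT.node 16033 (BT.node 16032 (BT.leaf c9_732) (BT.leaf c9_733)) (BT.node 16034 (BT.leaf c9_734) (BT.leaf c9_735))) (BT.node 16037 (BT.node 16036 (BT.leaf c9_736) (BT.leaf c9_737)) (BT.leaf c9_738))) (BT.node 16042 (BT.node 16040 (BT.node 16039 (BT.leaf c9_739) (BT.leaf c9_740)) (BT.node 16041 (BT.leaf c9_741) (BT.leaf c9_742))) (BT.node 16044 (BT.node 16043 (BT.leaf c9_743) (BT.leaf c9_744)) (BT.leaf c9_745)))) (BT.node 16052 (BT.node 16049 (BT.node 16047 (BT.node 16046 (BT.leaf c9_746) (BT.leaf c9_747)) (BT.node 16048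 (BT.leaf c9_748) (BT.leaf c9_749))) (BT.node 16051 (BT.node 16050 (BT.leaf c9_750) (BT.leaf c9_751)) (BT.leaf c9_752))) (BT.node 16056 (BT.node 16054 (BT.node 16053 (BT.leaf c9_753) (BT.leaf c9_754)) (BT.node 16055 (BT.leaf c9_755) (BT.leaf c9_756))) (BT.node 16058 (BT.node 16057 (BT.leaf c9_757) (BT.leaf c9_758)) (BT.leaf c9_759))))) (BT.node 16073 (BT.node 16066 (BT.node 16063 (BT.node 16061 (BT.node 16060 (BT.leaf c9_760) (BT.leaf c9_761)) (BT.node 16062 (BT.leaf c9_762) (BT.leaf c9_763))) (BT.node 16065 (BT.node 16064 (BT.leaf c9_764) (BT.leaf c9_765)) (BT.leaf c9_766))) (BT.node 16070 (BT.node 16068 (BT.node 16067 (BT.leaf c9_767) (BT.leaf c9_768)) (BT.node 16069 (BT.leaf c9_769) (BT.leaf c9_770))) (BT.node 16072 (BT.node 16071 (BT.leaf c9_771) (BT.leaf c9_772)) (BT.leaf c9_773)))) (BT.node 16080 (BT.node 16077 (BT.node 16075 (BT.node 16074 (BT.leaf c9_774) (BT.leaf c9_775)) (BT.node 16076 (BT.leaf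 c9_776) (BT.leaf c9_777))) (BT.node 16079 (BT.node 16078 (BT.leaf c9_778) (BT.leaf c9_779)) (BT.leaf c9_780))) (BT.node 16084 (BT.node 16082 (BT.node 16081 (BT.leaf c9_781) (BT.leaf c9_782)) (BT.node 16083 (BT.leaf c9_783) (BT.leaf c9_784))) (BT.node 16086 (BT.node 16085 (BT.leaf c9_785) (BT.leaf c9_786)) (BT.leaf c9_787))))))) (BT.node 16143 (BT.node 16115 (BT.node 16101 (BT.node 16094 (BT.node 16091 (BT.node 16089 (BT.node 16088 (BT.leaf c9_788) (BT.leaf c9_789)) (BT.node 16090 (BT.leaf c9_790) (BT.leaf c9_791))) (BT.node 16093 (BT.node 16092 (BT.leaf c9_792) (BT.leaf c9_793)) (BT.leaf c9_794))) (BT.node 16098 (BT.node 16096 (BT.node 16095 (BT.leaf c9_795) (BT.leaf c9_796)) (BT.node 16097 (BT.leaf c9_797) (BT.leaf c9_798))) (BT.node 16100 (BT.node 16099 (BT.leaf c9_799) (BT.leaf c9_800)) (BT.leaf c9_801)))) (BT.node 16108 (BT.node 16105 (BT.node 16103 (BT.node 16102 (BT.leaf c9_802) (BT.leaf c9_803))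 (BT.node 16104 (BT.leaf c9_804) (BT.leaf c9_805))) (BT.node 16107 (BT.node 16106 (BT.leaf c9_806) (BT.leaf c9_807)) (BT.leaf c9_808))) (BT.node 16112 (BT.node 16110 (BT.node 16109 (BT.leaf c9_809) (BT.leaf c9_810)) (BT.node 16111 (BT.leaf c9_811) (BT.leaf c9_812))) (BT.node 16114 (BT.node 16113 (BT.leaf c9_813) (BT.leaf c9_814)) (BT.leaf c9_815))))) (BT.node 16129 (BT.node 16122 (BT.node 16119 (BT.node 16117 (BT.node 16116 (BT.leaf c9_816) (BT.leaf c9_817)) (BT.node 16118 (BT.leaf c9_818) (BT.leaf c9_819))) (BT.node 16121 (BT.node 16120 (BT.leaf c9_820) (BT.leaf c9_821)) (BT.leaf c9_822))) (BT.node 16126 (BT.node 16124 (BT.node 16123 (BT.leaf c9_823) (BT.leaf c9_824)) (BT.node 16125 (BT.leaf c9_825) (BT.leaf c9_826))) (BT.node 16128 (BT.node 16127 (BT.leaf c9_827) (BT.leaf c9_828)) (BT.leaf c9_829)))) (BT.node 16136 (BT.node 16133 (BT.node 16131 (BT.node 16130 (BT.leaf c9_830) (BT.leaf c9_831)) (BT.node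 16132 (BT.leaf c9_832) (BT.leaf c9_833))) (BT.node 16135 (BT.node 16134 (BT.leaf c9_834) (BT.leaf c9_835)) (BT.leaf c9_836))) (BT.node 16140 (BT.node 16138 (BT.node 16137 (BT.leaf c9_837) (BT.leaf c9_838)) (BT.node 16139 (BT.leaf c9_839) (BT.leaf c9_840))) (BT.node 16142 (BT.node 16141 (BT.leaf c9_841) (BT.leaf c9_842)) (BT.leaf c9_843)))))) (BT.node 16171 (BT.node 16157 (BT.node 16150 (BT.node 16147 (BT.node 16145 (BT.node 16144 (BT.leaf c9_844) (BT.leaf c9_845)) (BT.node 16146 (BT.leaf c9_846) (BT.leaf c9_847))) (BT.node 16149 (BT.node 16148 (BT.leaf c9_848) (BT.leaf c9_849)) (BT.leaf c9_850))) (BT.node 16154 (BT.node 16152 (BT.node 16151 (BT.leaf c9_851) (BT.leaf c9_852)) (BT.node 16153 (BT.leaf c9_853) (BT.leaf c9_854))) (BT.node 16156 (BT.node 16155 (BT.leaf c9_855) (BT.leaf c9_856)) (BT.leaf c9_857)))) (BT.node 16164 (BT.node 16161 (BT.node 16159 (BT.node 16158 (BT.leaf c9_858) (BT.leaf c9_859))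 (BT.node 16160 (BT.leaf c9_860) (BT.leaf c9_861))) (BT.node 16163 (BT.node 16162 (BT.leaf c9_862) (BT.leaf c9_863)) (BT.leaf c9_864))) (BT.node 16168 (BT.node 16166 (BT.node 16165 (BT.leaf c9_865) (BT.leaf c9_866)) (BT.node 16167 (BT.leaf c9_867) (BT.leaf c9_868))) (BT.node 16170 (BT.node 16169 (BT.leaf c9_869) (BT.leaf c9_870)) (BT.leaf c9_871))))) (BT.node 16185 (BT.node 16178 (BT.node 16175 (BT.node 16173 (BT.node 16172 (BT.leaf c9_872) (BT.leaf c9_873)) (BT.node 16174 (BT.leaf c9_874) (BT.leaf c9_875))) (BT.node 16177 (BT.node 16176 (BT.leaf c9_876) (BT.leaf c9_877)) (BT.leaf c9_878))) (BT.node 16182 (BT.node 16180 (BT.node 16179 (BT.leaf c9_879) (BT.leaf c9_880)) (BT.node 16181 (BT.leaf c9_881) (BT.leaf c9_882))) (BT.node 16184 (BT.node 16183 (BT.leaf c9_883) (BT.leaf c9_884)) (BT.leaf c9_885)))) (BT.node 16192 (BT.node 16189 (BT.node 16187 (BT.node 16186 (BT.leaf c9_886) (BT.leaf c9_887)) (BT.node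 16188 (BT.leaf c9_888) (BT.leaf c9_889))) (BT.node 16191 (BT.node 16190 (BT.leaf c9_890) (BT.leaf c9_891)) (BT.leaf c9_892))) (BT.node 16196 (BT.node 16194 (BT.node 16193 (BT.leaf c9_893) (BT.leaf c9_894)) (BT.node 16195 (BT.leaf c9_895) (BT.leaf c9_896))) (BT.node 16198 (BT.node 16197 (BT.leaf c9_897) (BT.leaf c9_898)) (BT.leaf c9_899))))))))))
/-- the chunks of the letter 18 -/
def colL_18 : BT ℕ := (BT.node 16649 (BT.node 16424 (BT.node 16312 (BT.node 16256 (BT.node 16228 (BT.node 16214 (BT.node 16207 (BT.node 16203 (BT.node 16201 (BT.node 16200 (BT.leaf c10_0) (BT.leaf c10_1)) (BT.node 16202 (BT.leaf c10_2) (BT.leaf c10_3))) (BT.node 16205 (BT.node 16204 (BT.leaf c10_4) (BT.leaf c10_5)) (BT.node 16206 (BT.leaf c10_6) (BT.leaf c10_7)))) (BT.node 16211 (BT.node 16209 (BT.node 16208 (BT.leaf c10_8) (BT.leaf c10_9)) (BT.node 16210 (BT.leaf c10_10) (BT.leaf c10_11))) (BT.node 16213 (BT.node 16212 (BT.leaf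 c10_12) (BT.leaf c10_13)) (BT.leaf c10_14)))) (BT.node 16221 (BT.node 16218 (BT.node 16216 (BT.node 16215 (BT.leaf c10_15) (BT.leaf c10_16)) (BT.node 16217 (BT.leaf c10_17) (BT.leaf c10_18))) (BT.node 16220 (BT.node 16219 (BT.leaf c10_19) (BT.leaf c10_20)) (BT.leaf c10_21))) (BT.node 16225 (BT.node 16223 (BT.node 16222 (BT.leaf c10_22) (BT.leaf c10_23)) (BT.node 16224 (BT.leaf c10_24) (BT.leaf c10_25))) (BT.node 16227 (BT.node 16226 (BT.leaf c10_26) (BT.leaf c10_27)) (BT.leaf c10_28))))) (BT.node 16242 (BT.node 16235 (BT.node 16232 (BT.node 16230 (BT.node 16229 (BT.leaf c10_29) (BT.leaf c10_30)) (BT.node 16231 (BT.leaf c10_31) (BT.leaf c10_32))) (BT.node 16234 (BT.node 16233 (BT.leaf c10_33) (BT.leaf c10_34)) (BT.leaf c10_35))) (BT.node 16239 (BT.node 16237 (BT.node 16236 (BT.leaf c10_36) (BT.leaf c10_37)) (BT.node 16238 (BT.leaf c10_38) (BT.leaf c10_39))) (BT.node 16241 (BT.node 16240 (BT.leaf c10_40)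 (BT.leaf c10_41)) (BT.leaf c10_42)))) (BT.node 16249 (BT.node 16246 (BT.node 16244 (BT.node 16243 (BT.leaf c10_43) (BT.leaf c10_44)) (BT.node 16245 (BT.leaf c10_45) (BT.leaf c10_46))) (BT.node 16248 (BT.node 16247 (BT.leaf c10_47) (BT.leaf c10_48)) (BT.leaf c10_49))) (BT.node 16253 (BT.node 16251 (BT.node 16250 (BT.leaf c10_50) (BT.leaf c10_51)) (BT.node 16252 (BT.leaf c10_52) (BT.leaf c10_53))) (BT.node 16255 (BT.node 16254 (BT.leaf c10_54) (BT.leaf c10_55)) (BT.leaf c10_56)))))) (BT.node 16284 (BT.node 16270 (BT.node 16263 (BT.node 16260 (BT.node 16258 (BT.node 16257 (BT.leaf c10_57) (BT.leaf c10_58)) (BT.node 16259 (BT.leaf c10_59) (BT.leaf c10_60))) (BT.node 16262 (BT.node 16261 (BT.leaf c10_61) (BT.leaf c10_62)) (BT.leaf c10_63))) (BT.node 16267 (BT.node 16265 (BT.node 16264 (BT.leaf c10_64) (BT.leaf c10_65)) (BT.node 16266 (BT.leaf c10_66) (BT.leaf c10_67))) (BT.node 16269 (BT.node 16268 (BT.leaf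 c10_68) (BT.leaf c10_69)) (BT.leaf c10_70)))) (BT.node 16277 (BT.node 16274 (BT.node 16272 (BT.node 16271 (BT.leaf c10_71) (BT.leaf c10_72)) (BT.node 16273 (BT.leaf c10_73) (BT.leaf c10_74))) (BT.node 16276 (BT.node 16275 (BT.leaf c10_75) (BT.leaf c10_76)) (BT.leaf c10_77))) (BT.node 16281 (BT.node 16279 (BT.node 16278 (BT.leaf c10_78) (BT.leaf c10_79)) (BT.node 16280 (BT.leaf c10_80) (BT.leaf c10_81))) (BT.node 16283 (BT.node 16282 (BT.leaf c10_82) (BT.leaf c10_83)) (BT.leaf c10_84))))) (BT.node 16298 (BT.node 16291 (BT.node 16288 (BT.node 16286 (BT.node 16285 (BT.leaf c10_85) (BT.leaf c10_86)) (BT.node 16287 (BT.leaf c10_87) (BT.leaf c10_88))) (BT.node 16290 (BT.node 16289 (BT.leaf c10_89) (BT.leaf c10_90)) (BT.leaf c10_91))) (BT.node 16295 (BT.node 16293 (BT.node 16292 (BT.leaf c10_92) (BT.leaf c10_93)) (BT.node 16294 (BT.leaf c10_94) (BT.leaf c10_95))) (BT.node 16297 (BT.node 16296 (BT.leaf c10_96)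 (BT.leaf c10_97)) (BT.leaf c10_98)))) (BT.node 16305 (BT.node 16302 (BT.node 16300 (BT.node 16299 (BT.leaf c10_99) (BT.leaf c10_100)) (BT.node 16301 (BT.leaf c10_101) (BT.leaf c10_102))) (BT.node 16304 (BT.node 16303 (BT.leaf c10_103) (BT.leaf c10_104)) (BT.leaf c10_105))) (BT.node 16309 (BT.node 16307 (BT.node 16306 (BT.leaf c10_106) (BT.leaf c10_107)) (BT.node 16308 (BT.leaf c10_108) (BT.leaf c10_109))) (BT.node 16311 (BT.node 16310 (BT.leaf c10_110) (BT.leaf c10_111)) (BT.leaf c10_112))))))) (BT.node 16368 (BT.node 16340 (BT.node 16326 (BT.node 16319 (BT.node 16316 (BT.node 16314 (BT.node 16313 (BT.leaf c10_113) (BT.leaf c10_114)) (BT.node 16315 (BT.leaf c10_115) (BT.leaf c10_116))) (BT.node 16318 (BT.node 16317 (BT.leaf c10_117) (BT.leaf c10_118)) (BT.leaf c10_119))) (BT.node 16323 (BT.node 16321 (BT.node 16320 (BT.leaf c10_120) (BT.leaf c10_121)) (BT.node 16322 (BT.leaf c10_122) (BT.leaf c10_123)))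 (BT.node 16325 (BT.node 16324 (BT.leaf c10_124) (BT.leaf c10_125)) (BT.leaf c10_126)))) (BT.node 16333 (BT.node 16330 (BT.node 16328 (BT.node 16327 (BT.leaf c10_127) (BT.leaf c10_128)) (BT.node 16329 (BT.leaf c10_129) (BT.leaf c10_130))) (BT.node 16332 (BT.node 16331 (BT.leaf c10_131) (BT.leaf c10_132)) (BT.leaf c10_133))) (BT.node 16337 (BT.node 16335 (BT.node 16334 (BT.leaf c10_134) (BT.leaf c10_135)) (BT.node 16336 (BT.leaf c10_136) (BT.leaf c10_137))) (BT.node 16339 (BT.node 16338 (BT.leaf c10_138) (BT.leaf c10_139)) (BT.leaf c10_140))))) (BT.node 16354 (BT.node 16347 (BT.node 16344 (BT.node 16342 (BT.node 16341 (BT.leaf c10_141) (BT.leaf c10_142)) (BT.node 16343 (BT.leaf c10_143) (BT.leaf c10_144))) (BT.node 16346 (BT.node 16345 (BT.leaf c10_145) (BT.leaf c10_146)) (BT.leaf c10_147))) (BT.node 16351 (BT.node 16349 (BT.node 16348 (BT.leaf c10_148) (BT.leaf c10_149)) (BT.node 16350 (BT.leaf c10_150)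 (BT.leaf c10_151))) (BT.node 16353 (BT.node 16352 (BT.leaf c10_152) (BT.leaf c10_153)) (BT.leaf c10_154)))) (BT.node 16361 (BT.node 16358 (BT.node 16356 (BT.node 16355 (BT.leaf c10_155) (BT.leaf c10_156)) (BT.node 16357 (BT.leaf c10_157) (BT.leaf c10_158))) (BT.node 16360 (BT.node 16359 (BT.leaf c10_159) (BT.leaf c10_160)) (BT.leaf c10_161))) (BT.node 16365 (BT.node 16363 (BT.node 16362 (BT.leaf c10_162) (BT.leaf c10_163)) (BT.node 16364 (BT.leaf c10_164) (BT.leaf c10_165))) (BT.node 16367 (BT.node 16366 (BT.leaf c10_166) (BT.leaf c10_167)) (BT.leaf c10_168)))))) (BT.node 16396 (BT.node 16382 (BT.node 16375 (BT.node 16372 (BT.node 16370 (BT.node 16369 (BT.leaf c10_169) (BT.leaf c10_170)) (BT.node 16371 (BT.leaf c10_171) (BT.leaf c10_172))) (BT.node 16374 (BT.node 16373 (BT.leaf c10_173) (BT.leaf c10_174)) (BT.leaf c10_175))) (BT.node 16379 (BT.node 16377 (BT.node 16376 (BT.leaf c10_176) (BT.leaf c10_177))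 (BT.node 16378 (BT.leaf c10_178) (BT.leaf c10_179))) (BT.node 16381 (BT.node 16380 (BT.leaf c10_180) (BT.leaf c10_181)) (BT.leaf c10_182)))) (BT.node 16389 (BT.node 16386 (BT.node 16384 (BT.node 16383 (BT.leaf c10_183) (BT.leaf c10_184)) (BT.node 16385 (BT.leaf c10_185) (BT.leaf c10_186))) (BT.node 16388 (BT.node 16387 (BT.leaf c10_187) (BT.leaf c10_188)) (BT.leaf c10_189))) (BT.node 16393 (BT.node 16391 (BT.node 16390 (BT.leaf c10_190) (BT.leaf c10_191)) (BT.node 16392 (BT.leaf c10_192) (BT.leaf c10_193))) (BT.node 16395 (BT.node 16394 (BT.leaf c10_194) (BT.leaf c10_195)) (BT.leaf c10_196))))) (BT.node 16410 (BT.node 16403 (BT.node 16400 (BT.node 16398 (BT.node 16397 (BT.leaf c10_197) (BT.leaf c10_198)) (BT.node 16399 (BT.leaf c10_199) (BT.leaf c10_200))) (BT.node 16402 (BT.node 16401 (BT.leaf c10_201) (BT.leaf c10_202)) (BT.leaf c10_203))) (BT.node 16407 (BT.node 16405 (BT.node 16404 (BT.leaf c10_204)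 (BT.leaf c10_205)) (BT.node 16406 (BT.leaf c10_206) (BT.leaf c10_207))) (BT.node 16409 (BT.node 16408 (BT.leaf c10_208) (BT.leaf c10_209)) (BT.leaf c10_210)))) (BT.node 16417 (BT.node 16414 (BT.node 16412 (BT.node 16411 (BT.leaf c10_211) (BT.leaf c10_212)) (BT.node 16413 (BT.leaf c10_213) (BT.leaf c10_214))) (BT.node 16416 (BT.node 16415 (BT.leaf c10_215) (BT.leaf c10_216)) (BT.leaf c10_217))) (BT.node 16421 (BT.node 16419 (BT.node 16418 (BT.leaf c10_218) (BT.leaf c10_219)) (BT.node 16420 (BT.leaf c10_220) (BT.leaf c10_221))) (BT.node 16423 (BT.node 16422 (BT.leaf c10_222) (BT.leaf c10_223)) (BT.leaf c10_224)))))))) (BT.node 16537 (BT.node 16481 (BT.node 16453 (BT.node 16439 (BT.node 16432 (BT.node 16428 (BT.node 16426 (BT.node 16425 (BT.leaf c10_225) (BT.leaf c10_226)) (BT.node 16427 (BT.leaf c10_227) (BT.leaf c10_228))) (BT.node 16430 (BT.node 16429 (BT.leaf c10_229) (BT.leaf c10_230)) (BT.node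 16431 (BT.leaf c10_231) (BT.leaf c10_232)))) (BT.node 16436 (BT.node 16434 (BT.node 16433 (BT.leaf c10_233) (BT.leaf c10_234)) (BT.node 16435 (BT.leaf c10_235) (BT.leaf c10_236))) (BT.node 16438 (BT.node 16437 (BT.leaf c10_237) (BT.leaf c10_238)) (BT.leaf c10_239)))) (BT.node 16446 (BT.node 16443 (BT.node 16441 (BT.node 16440 (BT.leaf c10_240) (BT.leaf c10_241)) (BT.node 16442 (BT.leaf c10_242) (BT.leaf c10_243))) (BT.node 16445 (BT.node 16444 (BT.leaf c10_244) (BT.leaf c10_245)) (BT.leaf c10_246))) (BT.node 16450 (BT.node 16448 (BT.node 16447 (BT.leaf c10_247) (BT.leaf c10_248)) (BT.node 16449 (BT.leaf c10_249) (BT.leaf c10_250))) (BT.node 16452 (BT.node 16451 (BT.leaf c10_251) (BT.leaf c10_252)) (BT.leaf c10_253))))) (BT.node 16467 (BT.node 16460 (BT.node 16457 (BT.node 16455 (BT.node 16454 (BT.leaf c10_254) (BT.leaf c10_255)) (BT.node 16456 (BT.leaf c10_256) (BT.leaf c10_257))) (BT.node 16459 (BT.node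 16458 (BT.leaf c10_258) (BT.leaf c10_259)) (BT.leaf c10_260))) (BT.node 16464 (BT.node 16462 (BT.node 16461 (BT.leaf c10_261) (BT.leaf c10_262)) (BT.node 16463 (BT.leaf c10_263) (BT.leaf c10_264))) (BT.node 16466 (BT.node 16465 (BT.leaf c10_265) (BT.leaf c10_266)) (BT.leaf c10_267)))) (BT.node 16474 (BT.node 16471 (BT.node 16469 (BT.node 16468 (BT.leaf c10_268) (BT.leaf c10_269)) (BT.node 16470 (BT.leaf c10_270) (BT.leaf c10_271))) (BT.node 16473 (BT.node 16472 (BT.leaf c10_272) (BT.leaf c10_273)) (BT.leaf c10_274))) (BT.node 16478 (BT.node 16476 (BT.node 16475 (BT.leaf c10_275) (BT.leaf c10_276)) (BT.node 16477 (BT.leaf c10_277) (BT.leaf c10_278))) (BT.node 16480 (BT.node 16479 (BT.leaf c10_279) (BT.leaf c10_280)) (BT.leaf c10_281)))))) (BT.node 16509 (BT.node 16495 (BT.node 16488 (BT.node 16485 (BT.node 16483 (BT.node 16482 (BT.leaf c10_282) (BT.leaf c10_283)) (BT.node 16484 (BT.leaf c10_284) (BT.leaf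 c10_285))) (BT.node 16487 (BT.node 16486 (BT.leaf c10_286) (BT.leaf c10_287)) (BT.leaf c10_288))) (BT.node 16492 (BT.node 16490 (BT.node 16489 (BT.leaf c10_289) (BT.leaf c10_290)) (BT.node 16491 (BT.leaf c10_291) (BT.leaf c10_292))) (BT.node 16494 (BT.node 16493 (BT.leaf c10_293) (BT.leaf c10_294)) (BT.leaf c10_295)))) (BT.node 16502 (BT.node 16499 (BT.node 16497 (BT.node 16496 (BT.leaf c10_296) (BT.leaf c10_297)) (BT.node 16498 (BT.leaf c10_298) (BT.leaf c10_299))) (BT.node 16501 (BT.node 16500 (BT.leaf c10_300) (BT.leaf c10_301)) (BT.leaf c10_302))) (BT.node 16506 (BT.node 16504 (BT.node 16503 (BT.leaf c10_303) (BT.leaf c10_304)) (BT.node 16505 (BT.leaf c10_305) (BT.leaf c10_306))) (BT.node 16508 (BT.node 16507 (BT.leaf c10_307) (BT.leaf c10_308)) (BT.leaf c10_309))))) (BT.node 16523 (BT.node 16516 (BT.node 16513 (BT.node 16511 (BT.node 16510 (BT.leaf c10_310) (BT.leaf c10_311)) (BT.node 16512 (BT.leaf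 c10_312) (BT.leaf c10_313))) (BT.node 16515 (BT.node 16514 (BT.leaf c10_314) (BT.leaf c10_315)) (BT.leaf c10_316))) (BT.node 16520 (BT.node 16518 (BT.node 16517 (BT.leaf c10_317) (BT.leaf c10_318)) (BT.node 16519 (BT.leaf c10_319) (BT.leaf c10_320))) (BT.node 16522 (BT.node 16521 (BT.leaf c10_321) (BT.leaf c10_322)) (BT.leaf c10_323)))) (BT.node 16530 (BT.node 16527 (BT.node 16525 (BT.node 16524 (BT.leaf c10_324) (BT.leaf c10_325)) (BT.node 16526 (BT.leaf c10_326) (BT.leaf c10_327))) (BT.node 16529 (BT.node 16528 (BT.leaf c10_328) (BT.leaf c10_329)) (BT.leaf c10_330))) (BT.node 16534 (BT.node 16532 (BT.node 16531 (BT.leaf c10_331) (BT.leaf c10_332)) (BT.node 16533 (BT.leaf c10_333) (BT.leaf c10_334))) (BT.node 16536 (BT.node 16535 (BT.leaf c10_335) (BT.leaf c10_336)) (BT.leaf c10_337))))))) (BT.node 16593 (BT.node 16565 (BT.node 16551 (BT.node 16544 (BT.node 16541 (BT.node 16539 (BT.node 16538 (BT.leaf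 c10_338) (BT.leaf c10_339)) (BT.node 16540 (BT.leaf c10_340) (BT.leaf c10_341))) (BT.node 16543 (BT.node 16542 (BT.leaf c10_342) (BT.leaf c10_343)) (BT.leaf c10_344))) (BT.node 16548 (BT.node 16546 (BT.node 16545 (BT.leaf c10_345) (BT.leaf c10_346)) (BT.node 16547 (BT.leaf c10_347) (BT.leaf c10_348))) (BT.node 16550 (BT.node 16549 (BT.leaf c10_349) (BT.leaf c10_350)) (BT.leaf c10_351)))) (BT.node 16558 (BT.node 16555 (BT.node 16553 (BT.node 16552 (BT.leaf c10_352) (BT.leaf c10_353)) (BT.node 16554 (BT.leaf c10_354) (BT.leaf c10_355))) (BT.node 16557 (BT.node 16556 (BT.leaf c10_356) (BT.leaf c10_357)) (BT.leaf c10_358))) (BT.node 16562 (BT.node 16560 (BT.node 16559 (BT.leaf c10_359) (BT.leaf c10_360)) (BT.node 16561 (BT.leaf c10_361) (BT.leaf c10_362))) (BT.node 16564 (BT.node 16563 (BT.leaf c10_363) (BT.leaf c10_364)) (BT.leaf c10_365))))) (BT.node 16579 (BT.node 16572 (BT.node 16569 (BT.node 16567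 (BT.node 16566 (BT.leaf c10_366) (BT.leaf c10_367)) (BT.node 16568 (BT.leaf c10_368) (BT.leaf c10_369))) (BT.node 16571 (BT.node 16570 (BT.leaf c10_370) (BT.leaf c10_371)) (BT.leaf c10_372))) (BT.node 16576 (BT.node 16574 (BT.node 16573 (BT.leaf c10_373) (BT.leaf c10_374)) (BT.node 16575 (BT.leaf c10_375) (BT.leaf c10_376))) (BT.node 16578 (BT.node 16577 (BT.leaf c10_377) (BT.leaf c10_378)) (BT.leaf c10_379)))) (BT.node 16586 (BT.node 16583 (BT.node 16581 (BT.node 16580 (BT.leaf c10_380) (BT.leaf c10_381)) (BT.node 16582 (BT.leaf c10_382) (BT.leaf c10_383))) (BT.node 16585 (BT.node 16584 (BT.leaf c10_384) (BT.leaf c10_385)) (BT.leaf c10_386))) (BT.node 16590 (BT.node 16588 (BT.node 16587 (BT.leaf c10_387) (BT.leaf c10_388)) (BT.node 16589 (BT.leaf c10_389) (BT.leaf c10_390))) (BT.node 16592 (BT.node 16591 (BT.leaf c10_391) (BT.leaf c10_392)) (BT.leaf c10_393)))))) (BT.node 16621 (BT.node 16607 (BT.node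 16600 (BT.node 16597 (BT.node 16595 (BT.node 16594 (BT.leaf c10_394) (BT.leaf c10_395)) (BT.node 16596 (BT.leaf c10_396) (BT.leaf c10_397))) (BT.node 16599 (BT.node 16598 (BT.leaf c10_398) (BT.leaf c10_399)) (BT.leaf c10_400))) (BT.node 16604 (BT.node 16602 (BT.node 16601 (BT.leaf c10_401) (BT.leaf c10_402)) (BT.node 16603 (BT.leaf c10_403) (BT.leaf c10_404))) (BT.node 16606 (BT.node 16605 (BT.leaf c10_405) (BT.leaf c10_406)) (BT.leaf c10_407)))) (BT.node 16614 (BT.node 16611 (BT.node 16609 (BT.node 16608 (BT.leaf c10_408) (BT.leaf c10_409)) (BT.node 16610 (BT.leaf c10_410) (BT.leaf c10_411))) (BT.node 16613 (BT.node 16612 (BT.leaf c10_412) (BT.leaf c10_413)) (BT.leaf c10_414))) (BT.node 16618 (BT.node 16616 (BT.node 16615 (BT.leaf c10_415) (BT.leaf c10_416)) (BT.node 16617 (BT.leaf c10_417) (BT.leaf c10_418))) (BT.node 16620 (BT.node 16619 (BT.leaf c10_419) (BT.leaf c10_420)) (BT.leaf c10_421)))))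 (BT.node 16635 (BT.node 16628 (BT.node 16625 (BT.node 16623 (BT.node 16622 (BT.leaf c10_422) (BT.leaf c10_423)) (BT.node 16624 (BT.leaf c10_424) (BT.leaf c10_425))) (BT.node 16627 (BT.node 16626 (BT.leaf c10_426) (BT.leaf c10_427)) (BT.leaf c10_428))) (BT.node 16632 (BT.node 16630 (BT.node 16629 (BT.leaf c10_429) (BT.leaf c10_430)) (BT.node 16631 (BT.leaf c10_431) (BT.leaf c10_432))) (BT.node 16634 (BT.node 16633 (BT.leaf c10_433) (BT.leaf c10_434)) (BT.leaf c10_435)))) (BT.node 16642 (BT.node 16639 (BT.node 16637 (BT.node 16636 (BT.leaf c10_436) (BT.leaf c10_437)) (BT.node 16638 (BT.leaf c10_438) (BT.leaf c10_439))) (BT.node 16641 (BT.node 16640 (BT.leaf c10_440) (BT.leaf c10_441)) (BT.leaf c10_442))) (BT.node 16646 (BT.node 16644 (BT.node 16643 (BT.leaf c10_443) (BT.leaf c10_444)) (BT.node 16645 (BT.leaf c10_445) (BT.leaf c10_446))) (BT.node 16648 (BT.node 16647 (BT.leaf c10_447) (BT.leaf c10_448))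 (BT.leaf c10_449))))))))) (BT.node 16874 (BT.node 16762 (BT.node 16706 (BT.node 16678 (BT.node 16664 (BT.node 16657 (BT.node 16653 (BT.node 16651 (BT.node 16650 (BT.leaf c10_450) (BT.leaf c10_451)) (BT.node 16652 (BT.leaf c10_452) (BT.leaf c10_453))) (BT.node 16655 (BT.node 16654 (BT.leaf c10_454) (BT.leaf c10_455)) (BT.node 16656 (BT.leaf c10_456) (BT.leaf c10_457)))) (BT.node 16661 (BT.node 16659 (BT.node 16658 (BT.leaf c10_458) (BT.leaf c10_459)) (BT.node 16660 (BT.leaf c10_460) (BT.leaf c10_461))) (BT.node 16663 (BT.node 16662 (BT.leaf c10_462) (BT.leaf c10_463)) (BT.leaf c10_464)))) (BT.node 16671 (BT.node 16668 (BT.node 16666 (BT.node 16665 (BT.leaf c10_465) (BT.leaf c10_466)) (BT.node 16667 (BT.leaf c10_467) (BT.leaf c10_468))) (BT.node 16670 (BT.node 16669 (BT.leaf c10_469) (BT.leaf c10_470)) (BT.leaf c10_471))) (BT.node 16675 (BT.node 16673 (BT.node 16672 (BT.leaf c10_472) (BT.leaf c10_473))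 (BT.node 16674 (BT.leaf c10_474) (BT.leaf c10_475))) (BT.node 16677 (BT.node 16676 (BT.leaf c10_476) (BT.leaf c10_477)) (BT.leaf c10_478))))) (BT.node 16692 (BT.node 16685 (BT.node 16682 (BT.node 16680 (BT.node 16679 (BT.leaf c10_479) (BT.leaf c10_480)) (BT.node 16681 (BT.leaf c10_481) (BT.leaf c10_482))) (BT.node 16684 (BT.node 16683 (BT.leaf c10_483) (BT.leaf c10_484)) (BT.leaf c10_485))) (BT.node 16689 (BT.node 16687 (BT.node 16686 (BT.leaf c10_486) (BT.leaf c10_487)) (BT.node 16688 (BT.leaf c10_488) (BT.leaf c10_489))) (BT.node 16691 (BT.node 16690 (BT.leaf c10_490) (BT.leaf c10_491)) (BT.leaf c10_492)))) (BT.node 16699 (BT.node 16696 (BT.node 16694 (BT.node 16693 (BT.leaf c10_493) (BT.leaf c10_494)) (BT.node 16695 (BT.leaf c10_495) (BT.leaf c10_496))) (BT.node 16698 (BT.node 16697 (BT.leaf c10_497) (BT.leaf c10_498)) (BT.leaf c10_499))) (BT.node 16703 (BT.node 16701 (BT.node 16700 (BT.leaf c10_500)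 (BT.leaf c10_501)) (BT.node 16702 (BT.leaf c10_502) (BT.leaf c10_503))) (BT.node 16705 (BT.node 16704 (BT.leaf c10_504) (BT.leaf c10_505)) (BT.leaf c10_506)))))) (BT.node 16734 (BT.node 16720 (BT.node 16713 (BT.node 16710 (BT.node 16708 (BT.node 16707 (BT.leaf c10_507) (BT.leaf c10_508)) (BT.node 16709 (BT.leaf c10_509) (BT.leaf c10_510))) (BT.node 16712 (BT.node 16711 (BT.leaf c10_511) (BT.leaf c10_512)) (BT.leaf c10_513))) (BT.node 16717 (BT.node 16715 (BT.node 16714 (BT.leaf c10_514) (BT.leaf c10_515)) (BT.node 16716 (BT.leaf c10_516) (BT.leaf c10_517))) (BT.node 16719 (BT.node 16718 (BT.leaf c10_518) (BT.leaf c10_519)) (BT.leaf c10_520)))) (BT.node 16727 (BT.node 16724 (BT.node 16722 (BT.node 16721 (BT.leaf c10_521) (BT.leaf c10_522)) (BT.node 16723 (BT.leaf c10_523) (BT.leaf c10_524))) (BT.node 16726 (BT.node 16725 (BT.leaf c10_525) (BT.leaf c10_526)) (BT.leaf c10_527))) (BT.node 16731 (BT.node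 16729 (BT.node 16728 (BT.leaf c10_528) (BT.leaf c10_529)) (BT.node 16730 (BT.leaf c10_530) (BT.leaf c10_531))) (BT.node 16733 (BT.node 16732 (BT.leaf c10_532) (BT.leaf c10_533)) (BT.leaf c10_534))))) (BT.node 16748 (BT.node 16741 (BT.node 16738 (BT.node 16736 (BT.node 16735 (BT.leaf c10_535) (BT.leaf c10_536)) (BT.node 16737 (BT.leaf c10_537) (BT.leaf c10_538))) (BT.node 16740 (BT.node 16739 (BT.leaf c10_539) (BT.leaf c10_540)) (BT.leaf c10_541))) (BT.node 16745 (BT.node 16743 (BT.node 16742 (BT.leaf c10_542) (BT.leaf c10_543)) (BT.node 16744 (BT.leaf c10_544) (BT.leaf c10_545))) (BT.node 16747 (BT.node 16746 (BT.leaf c10_546) (BT.leaf c10_547)) (BT.leaf c10_548)))) (BT.node 16755 (BT.node 16752 (BT.node 16750 (BT.node 16749 (BT.leaf c10_549) (BT.leaf c10_550)) (BT.node 16751 (BT.leaf c10_551) (BT.leaf c10_552))) (BT.node 16754 (BT.node 16753 (BT.leaf c10_553) (BT.leaf c10_554)) (BT.leaf c10_555)))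 (BT.node 16759 (BT.node 16757 (BT.node 16756 (BT.leaf c10_556) (BT.leaf c10_557)) (BT.node 16758 (BT.leaf c10_558) (BT.leaf c10_559))) (BT.node 16761 (BT.node 16760 (BT.leaf c10_560) (BT.leaf c10_561)) (BT.leaf c10_562))))))) (BT.node 16818 (BT.node 16790 (BT.node 16776 (BT.node 16769 (BT.node 16766 (BT.node 16764 (BT.node 16763 (BT.leaf c10_563) (BT.leaf c10_564)) (BT.node 16765 (BT.leaf c10_565) (BT.leaf c10_566))) (BT.node 16768 (BT.node 16767 (BT.leaf c10_567) (BT.leaf c10_568)) (BT.leaf c10_569))) (BT.node 16773 (BT.node 16771 (BT.node 16770 (BT.leaf c10_570) (BT.leaf c10_571)) (BT.node 16772 (BT.leaf c10_572) (BT.leaf c10_573))) (BT.node 16775 (BT.node 16774 (BT.leaf c10_574) (BT.leaf c10_575)) (BT.leaf c10_576)))) (BT.node 16783 (BT.node 16780 (BT.node 16778 (BT.node 16777 (BT.leaf c10_577) (BT.leaf c10_578)) (BT.node 16779 (BT.leaf c10_579) (BT.leaf c10_580))) (BT.node 16782 (BT.node 16781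 (BT.leaf c10_581) (BT.leaf c10_582)) (BT.leaf c10_583))) (BT.node 16787 (BT.node 16785 (BT.node 16784 (BT.leaf c10_584) (BT.leaf c10_585)) (BT.node 16786 (BT.leaf c10_586) (BT.leaf c10_587))) (BT.node 16789 (BT.node 16788 (BT.leaf c10_588) (BT.leaf c10_589)) (BT.leaf c10_590))))) (BT.node 16804 (BT.node 16797 (BT.node 16794 (BT.node 16792 (BT.node 16791 (BT.leaf c10_591) (BT.leaf c10_592)) (BT.node 16793 (BT.leaf c10_593) (BT.leaf c10_594))) (BT.node 16796 (BT.node 16795 (BT.leaf c10_595) (BT.leaf c10_596)) (BT.leaf c10_597))) (BT.node 16801 (BT.node 16799 (BT.node 16798 (BT.leaf c10_598) (BT.leaf c10_599)) (BT.node 16800 (BT.leaf c10_600) (BT.leaf c10_601))) (BT.node 16803 (BT.node 16802 (BT.leaf c10_602) (BT.leaf c10_603)) (BT.leaf c10_604)))) (BT.node 16811 (BT.node 16808 (BT.node 16806 (BT.node 16805 (BT.leaf c10_605) (BT.leaf c10_606)) (BT.node 16807 (BT.leaf c10_607) (BT.leaf c10_608))) (BT.node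 16810 (BT.node 16809 (BT.leaf c10_609) (BT.leaf c10_610)) (BT.leaf c10_611))) (BT.node 16815 (BT.node 16813 (BT.node 16812 (BT.leaf c10_612) (BT.leaf c10_613)) (BT.node 16814 (BT.leaf c10_614) (BT.leaf c10_615))) (BT.node 16817 (BT.node 16816 (BT.leaf c10_616) (BT.leaf c10_617)) (BT.leaf c10_618)))))) (BT.node 16846 (BT.node 16832 (BT.node 16825 (BT.node 16822 (BT.node 16820 (BT.node 16819 (BT.leaf c10_619) (BT.leaf c10_620)) (BT.node 16821 (BT.leaf c10_621) (BT.leaf c10_622))) (BT.node 16824 (BT.node 16823 (BT.leaf c10_623) (BT.leaf c10_624)) (BT.leaf c10_625))) (BT.node 16829 (BT.node 16827 (BT.node 16826 (BT.leaf c10_626) (BT.leaf c10_627)) (BT.node 16828 (BT.leaf c10_628) (BT.leaf c10_629))) (BT.node 16831 (BT.node 16830 (BT.leaf c10_630) (BT.leaf c10_631)) (BT.leaf c10_632)))) (BT.node 16839 (BT.node 16836 (BT.node 16834 (BT.node 16833 (BT.leaf c10_633) (BT.leaf c10_634)) (BT.node 16835 (BT.leaf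 c10_635) (BT.leaf c10_636))) (BT.node 16838 (BT.node 16837 (BT.leaf c10_637) (BT.leaf c10_638)) (BT.leaf c10_639))) (BT.node 16843 (BT.node 16841 (BT.node 16840 (BT.leaf c10_640) (BT.leaf c10_641)) (BT.node 16842 (BT.leaf c10_642) (BT.leaf c10_643))) (BT.node 16845 (BT.node 16844 (BT.leaf c10_644) (BT.leaf c10_645)) (BT.leaf c10_646))))) (BT.node 16860 (BT.node 16853 (BT.node 16850 (BT.node 16848 (BT.node 16847 (BT.leaf c10_647) (BT.leaf c10_648)) (BT.node 16849 (BT.leaf c10_649) (BT.leaf c10_650))) (BT.node 16852 (BT.node 16851 (BT.leaf c10_651) (BT.leaf c10_652)) (BT.leaf c10_653))) (BT.node 16857 (BT.node 16855 (BT.node 16854 (BT.leaf c10_654) (BT.leaf c10_655)) (BT.node 16856 (BT.leaf c10_656) (BT.leaf c10_657))) (BT.node 16859 (BT.node 16858 (BT.leaf c10_658) (BT.leaf c10_659)) (BT.leaf c10_660)))) (BT.node 16867 (BT.node 16864 (BT.node 16862 (BT.node 16861 (BT.leaf c10_661) (BT.leaf c10_662))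 (BT.node 16863 (BT.leaf c10_663) (BT.leaf c10_664))) (BT.node 16866 (BT.node 16865 (BT.leaf c10_665) (BT.leaf c10_666)) (BT.leaf c10_667))) (BT.node 16871 (BT.node 16869 (BT.node 16868 (BT.leaf c10_668) (BT.leaf c10_669)) (BT.node 16870 (BT.leaf c10_670) (BT.leaf c10_671))) (BT.node 16873 (BT.node 16872 (BT.leaf c10_672) (BT.leaf c10_673)) (BT.leaf c10_674)))))))) (BT.node 16987 (BT.node 16931 (BT.node 16903 (BT.node 16889 (BT.node 16882 (BT.node 16878 (BT.node 16876 (BT.node 16875 (BT.leaf c10_675) (BT.leaf c10_676)) (BT.node 16877 (BT.leaf c10_677) (BT.leaf c10_678))) (BT.node 16880 (BT.node 16879 (BT.leaf c10_679) (BT.leaf c10_680)) (BT.node 16881 (BT.leaf c10_681) (BT.leaf c10_682)))) (BT.node 16886 (BT.node 16884 (BT.node 16883 (BT.leaf c10_683) (BT.leaf c10_684)) (BT.node 16885 (BT.leaf c10_685) (BT.leaf c10_686))) (BT.node 16888 (BT.node 16887 (BT.leaf c10_687) (BT.leaf c10_688)) (BT.leaf c10_689))))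 (BT.node 16896 (BT.node 16893 (BT.node 16891 (BT.node 16890 (BT.leaf c10_690) (BT.leaf c10_691)) (BT.node 16892 (BT.leaf c10_692) (BT.leaf c10_693))) (BT.node 16895 (BT.node 16894 (BT.leaf c10_694) (BT.leaf c10_695)) (BT.leaf c10_696))) (BT.node 16900 (BT.node 16898 (BT.node 16897 (BT.leaf c10_697) (BT.leaf c10_698)) (BT.node 16899 (BT.leaf c10_699) (BT.leaf c10_700))) (BT.node 16902 (BT.node 16901 (BT.leaf c10_701) (BT.leaf c10_702)) (BT.leaf c10_703))))) (BT.node 16917 (BT.node 16910 (BT.node 16907 (BT.node 16905 (BT.node 16904 (BT.leaf c10_704) (BT.leaf c10_705)) (BT.node 16906 (BT.leaf c10_706) (BT.leaf c10_707))) (BT.node 16909 (BT.node 16908 (BT.leaf c10_708) (BT.leaf c10_709)) (BT.leaf c10_710))) (BT.node 16914 (BT.node 16912 (BT.node 16911 (BT.leaf c10_711) (BT.leaf c10_712)) (BT.node 16913 (BT.leaf c10_713) (BT.leaf c10_714))) (BT.node 16916 (BT.node 16915 (BT.leaf c10_715) (BT.leaf c10_716))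 (BT.leaf c10_717)))) (BT.node 16924 (BT.node 16921 (BT.node 16919 (BT.node 16918 (BT.leaf c10_718) (BT.leaf c10_719)) (BT.node 16920 (BT.leaf c10_720) (BT.leaf c10_721))) (BT.node 16923 (BT.node 16922 (BT.leaf c10_722) (BT.leaf c10_723)) (BT.leaf c10_724))) (BT.node 16928 (BT.node 16926 (BT.node 16925 (BT.leaf c10_725) (BT.leaf c10_726)) (BT.node 16927 (BT.leaf c10_727) (BT.leaf c10_728))) (BT.node 16930 (BT.node 16929 (BT.leaf c10_729) (BT.leaf c10_730)) (BT.leaf c10_731)))))) (BT.node 16959 (BT.node 16945 (BT.node 16938 (BT.node 16935 (BT.node 16933 (BT.node 16932 (BT.leaf c10_732) (BT.leaf c10_733)) (BT.node 16934 (BT.leaf c10_734) (BT.leaf c10_735))) (BT.node 16937 (BT.node 16936 (BT.leaf c10_736) (BT.leaf c10_737)) (BT.leaf c10_738))) (BT.node 16942 (BT.node 16940 (BT.node 16939 (BT.leaf c10_739) (BT.leaf c10_740)) (BT.node 16941 (BT.leaf c10_741) (BT.leaf c10_742))) (BT.node 16944 (BT.node 16943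 (BT.leaf c10_743) (BT.leaf c10_744)) (BT.leaf c10_745)))) (BT.node 16952 (BT.node 16949 (BT.node 16947 (BT.node 16946 (BT.leaf c10_746) (BT.leaf c10_747)) (BT.node 16948 (BT.leaf c10_748) (BT.leaf c10_749))) (BT.node 16951 (BT.node 16950 (BT.leaf c10_750) (BT.leaf c10_751)) (BT.leaf c10_752))) (BT.node 16956 (BT.node 16954 (BT.node 16953 (BT.leaf c10_753) (BT.leaf c10_754)) (BT.node 16955 (BT.leaf c10_755) (BT.leaf c10_756))) (BT.node 16958 (BT.node 16957 (BT.leaf c10_757) (BT.leaf c10_758)) (BT.leaf c10_759))))) (BT.node 16973 (BT.node 16966 (BT.node 16963 (BT.node 16961 (BT.node 16960 (BT.leaf c10_760) (BT.leaf c10_761)) (BT.node 16962 (BT.leaf c10_762) (BT.leaf c10_763))) (BT.node 16965 (BT.node 16964 (BT.leaf c10_764) (BT.leaf c10_765)) (BT.leaf c10_766))) (BT.node 16970 (BT.node 16968 (BT.node 16967 (BT.leaf c10_767) (BT.leaf c10_768)) (BT.node 16969 (BT.leaf c10_769) (BT.leaf c10_770))) (BT.node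 16972 (BT.node 16971 (BT.leaf c10_771) (BT.leaf c10_772)) (BT.leaf c10_773)))) (BT.node 16980 (BT.node 16977 (BT.node 16975 (BT.node 16974 (BT.leaf c10_774) (BT.leaf c10_775)) (BT.node 16976 (BT.leaf c10_776) (BT.leaf c10_777))) (BT.node 16979 (BT.node 16978 (BT.leaf c10_778) (BT.leaf c10_779)) (BT.leaf c10_780))) (BT.node 16984 (BT.node 16982 (BT.node 16981 (BT.leaf c10_781) (BT.leaf c10_782)) (BT.node 16983 (BT.leaf c10_783) (BT.leaf c10_784))) (BT.node 16986 (BT.node 16985 (BT.leaf c10_785) (BT.leaf c10_786)) (BT.leaf c10_787))))))) (BT.node 17043 (BT.node 17015 (BT.node 17001 (BT.node 16994 (BT.node 16991 (BT.node 16989 (BT.node 16988 (BT.leaf c10_788) (BT.leaf c10_789)) (BT.node 16990 (BT.leaf c10_790) (BT.leaf c10_791))) (BT.node 16993 (BT.node 16992 (BT.leaf c10_792) (BT.leaf c10_793)) (BT.leaf c10_794))) (BT.node 16998 (BT.node 16996 (BT.node 16995 (BT.leaf c10_795) (BT.leaf c10_796)) (BT.node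 16997 (BT.leaf c10_797) (BT.leaf c10_798))) (BT.node 17000 (BT.node 16999 (BT.leaf c10_799) (BT.leaf c10_800)) (BT.leaf c10_801)))) (BT.node 17008 (BT.node 17005 (BT.node 17003 (BT.node 17002 (BT.leaf c10_802) (BT.leaf c10_803)) (BT.node 17004 (BT.leaf c10_804) (BT.leaf c10_805))) (BT.node 17007 (BT.node 17006 (BT.leaf c10_806) (BT.leaf c10_807)) (BT.leaf c10_808))) (BT.node 17012 (BT.node 17010 (BT.node 17009 (BT.leaf c10_809) (BT.leaf c10_810)) (BT.node 17011 (BT.leaf c10_811) (BT.leaf c10_812))) (BT.node 17014 (BT.node 17013 (BT.leaf c10_813) (BT.leaf c10_814)) (BT.leaf c10_815))))) (BT.node 17029 (BT.node 17022 (BT.node 17019 (BT.node 17017 (BT.node 17016 (BT.leaf c10_816) (BT.leaf c10_817)) (BT.node 17018 (BT.leaf c10_818) (BT.leaf c10_819))) (BT.node 17021 (BT.node 17020 (BT.leaf c10_820) (BT.leaf c10_821)) (BT.leaf c10_822))) (BT.node 17026 (BT.node 17024 (BT.node 17023 (BT.leaf c10_823) (BT.leaf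 c10_824)) (BT.node 17025 (BT.leaf c10_825) (BT.leaf c10_826))) (BT.node 17028 (BT.node 17027 (BT.leaf c10_827) (BT.leaf c10_828)) (BT.leaf c10_829)))) (BT.node 17036 (BT.node 17033 (BT.node 17031 (BT.node 17030 (BT.leaf c10_830) (BT.leaf c10_831)) (BT.node 17032 (BT.leaf c10_832) (BT.leaf c10_833))) (BT.node 17035 (BT.node 17034 (BT.leaf c10_834) (BT.leaf c10_835)) (BT.leaf c10_836))) (BT.node 17040 (BT.node 17038 (BT.node 17037 (BT.leaf c10_837) (BT.leaf c10_838)) (BT.node 17039 (BT.leaf c10_839) (BT.leaf c10_840))) (BT.node 17042 (BT.node 17041 (BT.leaf c10_841) (BT.leaf c10_842)) (BT.leaf c10_843)))))) (BT.node 17071 (BT.node 17057 (BT.node 17050 (BT.node 17047 (BT.node 17045 (BT.node 17044 (BT.leaf c10_844) (BT.leaf c10_845)) (BT.node 17046 (BT.leaf c10_846) (BT.leaf c10_847))) (BT.node 17049 (BT.node 17048 (BT.leaf c10_848) (BT.leaf c10_849)) (BT.leaf c10_850))) (BT.node 17054 (BT.node 17052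 (BT.node 17051 (BT.leaf c10_851) (BT.leaf c10_852)) (BT.node 17053 (BT.leaf c10_853) (BT.leaf c10_854))) (BT.node 17056 (BT.node 17055 (BT.leaf c10_855) (BT.leaf c10_856)) (BT.leaf c10_857)))) (BT.node 17064 (BT.node 17061 (BT.node 17059 (BT.node 17058 (BT.leaf c10_858) (BT.leaf c10_859)) (BT.node 17060 (BT.leaf c10_860) (BT.leaf c10_861))) (BT.node 17063 (BT.node 17062 (BT.leaf c10_862) (BT.leaf c10_863)) (BT.leaf c10_864))) (BT.node 17068 (BT.node 17066 (BT.node 17065 (BT.leaf c10_865) (BT.leaf c10_866)) (BT.node 17067 (BT.leaf c10_867) (BT.leaf c10_868))) (BT.node 17070 (BT.node 17069 (BT.leaf c10_869) (BT.leaf c10_870)) (BT.leaf c10_871))))) (BT.node 17085 (BT.node 17078 (BT.node 17075 (BT.node 17073 (BT.node 17072 (BT.leaf c10_872) (BT.leaf c10_873)) (BT.node 17074 (BT.leaf c10_874) (BT.leaf c10_875))) (BT.node 17077 (BT.node 17076 (BT.leaf c10_876) (BT.leaf c10_877)) (BT.leaf c10_878))) (BT.node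 17082 (BT.node 17080 (BT.node 17079 (BT.leaf c10_879) (BT.leaf c10_880)) (BT.node 17081 (BT.leaf c10_881) (BT.leaf c10_882))) (BT.node 17084 (BT.node 17083 (BT.leaf c10_883) (BT.leaf c10_884)) (BT.leaf c10_885)))) (BT.node 17092 (BT.node 17089 (BT.node 17087 (BT.node 17086 (BT.leaf c10_886) (BT.leaf c10_887)) (BT.node 17088 (BT.leaf c10_888) (BT.leaf c10_889))) (BT.node 17091 (BT.node 17090 (BT.leaf c10_890) (BT.leaf c10_891)) (BT.leaf c10_892))) (BT.node 17096 (BT.node 17094 (BT.node 17093 (BT.leaf c10_893) (BT.leaf c10_894)) (BT.node 17095 (BT.leaf c10_895) (BT.leaf c10_896))) (BT.node 17098 (BT.node 17097 (BT.leaf c10_897) (BT.leaf c10_898)) (BT.leaf c10_899))))))))))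
/-- the chunks of the letter 19 -/
def colL_19 : BT ℕ := (BT.node 17549 (BT.node 17324 (BT.node 17212 (BT.node 17156 (BT.node 17128 (BT.node 17114 (BT.node 17107 (BT.node 17103 (BT.node 17101 (BT.node 17100 (BT.leaf c10_0) (BT.leaf c10_1)) (BT.node 17102 (BT.leaf c10_2) (BT.leaf c10_3))) (BT.node 17105 (BT.node 17104 (BT.leaf c10_4) (BT.leaf c10_5)) (BT.node 17106 (BT.leaf c10_6) (BT.leaf c10_7)))) (BT.node 17111 (BT.node 17109 (BT.node 17108 (BT.leaf c10_8) (BT.leaf c10_9)) (BT.node 17110 (BT.leaf c10_10) (BT.leaf c10_11))) (BT.node 17113 (BT.node 17112 (BT.leaf c10_12) (BT.leaf c10_13)) (BT.leaf c10_14)))) (BT.node 17121 (BT.node 17118 (BT.node 17116 (BT.node 17115 (BT.leaf c10_15) (BT.leaf c10_16)) (BT.node 17117 (BT.leaf c10_17) (BT.leaf c10_18))) (BT.node 17120 (BT.node 17119 (BT.leaf c10_19) (BT.leaf c10_20)) (BT.leaf c10_21))) (BT.node 17125 (BT.node 17123 (BT.node 17122 (BT.leaf c10_22) (BT.leaf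 c10_23)) (BT.node 17124 (BT.leaf c10_24) (BT.leaf c10_25))) (BT.node 17127 (BT.node 17126 (BT.leaf c10_26) (BT.leaf c10_27)) (BT.leaf c10_28))))) (BT.node 17142 (BT.node 17135 (BT.node 17132 (BT.node 17130 (BT.node 17129 (BT.leaf c10_29) (BT.leaf c10_30)) (BT.node 17131 (BT.leaf c10_31) (BT.leaf c10_32))) (BT.node 17134 (BT.node 17133 (BT.leaf c10_33) (BT.leaf c10_34)) (BT.leaf c10_35))) (BT.node 17139 (BT.node 17137 (BT.node 17136 (BT.leaf c10_36) (BT.leaf c10_37)) (BT.node 17138 (BT.leaf c10_38) (BT.leaf c10_39))) (BT.node 17141 (BT.node 17140 (BT.leaf c10_40) (BT.leaf c10_41)) (BT.leaf c10_42)))) (BT.node 17149 (BT.node 17146 (BT.node 17144 (BT.node 17143 (BT.leaf c10_43) (BT.leaf c10_44)) (BT.node 17145 (BT.leaf c10_45) (BT.leaf c10_46))) (BT.node 17148 (BT.node 17147 (BT.leaf c10_47) (BT.leaf c10_48)) (BT.leaf c10_49))) (BT.node 17153 (BT.node 17151 (BT.node 17150 (BT.leaf c10_50) (BT.leaf c10_51))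 (BT.node 17152 (BT.leaf c10_52) (BT.leaf c10_53))) (BT.node 17155 (BT.node 17154 (BT.leaf c10_54) (BT.leaf c10_55)) (BT.leaf c10_56)))))) (BT.node 17184 (BT.node 17170 (BT.node 17163 (BT.node 17160 (BT.node 17158 (BT.node 17157 (BT.leaf c10_57) (BT.leaf c10_58)) (BT.node 17159 (BT.leaf c10_59) (BT.leaf c10_60))) (BT.node 17162 (BT.node 17161 (BT.leaf c10_61) (BT.leaf c10_62)) (BT.leaf c10_63))) (BT.node 17167 (BT.node 17165 (BT.node 17164 (BT.leaf c10_64) (BT.leaf c10_65)) (BT.node 17166 (BT.leaf c10_66) (BT.leaf c10_67))) (BT.node 17169 (BT.node 17168 (BT.leaf c10_68) (BT.leaf c10_69)) (BT.leaf c10_70)))) (BT.node 17177 (BT.node 17174 (BT.node 17172 (BT.node 17171 (BT.leaf c10_71) (BT.leaf c10_72)) (BT.node 17173 (BT.leaf c10_73) (BT.leaf c10_74))) (BT.node 17176 (BT.node 17175 (BT.leaf c10_75) (BT.leaf c10_76)) (BT.leaf c10_77))) (BT.node 17181 (BT.node 17179 (BT.node 17178 (BT.leaf c10_78) (BT.leaf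 c10_79)) (BT.node 17180 (BT.leaf c10_80) (BT.leaf c10_81))) (BT.node 17183 (BT.node 17182 (BT.leaf c10_82) (BT.leaf c10_83)) (BT.leaf c10_84))))) (BT.node 17198 (BT.node 17191 (BT.node 17188 (BT.node 17186 (BT.node 17185 (BT.leaf c10_85) (BT.leaf c10_86)) (BT.node 17187 (BT.leaf c10_87) (BT.leaf c10_88))) (BT.node 17190 (BT.node 17189 (BT.leaf c10_89) (BT.leaf c10_90)) (BT.leaf c10_91))) (BT.node 17195 (BT.node 17193 (BT.node 17192 (BT.leaf c10_92) (BT.leaf c10_93)) (BT.node 17194 (BT.leaf c10_94) (BT.leaf c10_95))) (BT.node 17197 (BT.node 17196 (BT.leaf c10_96) (BT.leaf c10_97)) (BT.leaf c10_98)))) (BT.node 17205 (BT.node 17202 (BT.node 17200 (BT.node 17199 (BT.leaf c10_99) (BT.leaf c10_100)) (BT.node 17201 (BT.leaf c10_101) (BT.leaf c10_102))) (BT.node 17204 (BT.node 17203 (BT.leaf c10_103) (BT.leaf c10_104)) (BT.leaf c10_105))) (BT.node 17209 (BT.node 17207 (BT.node 17206 (BT.leaf c10_106) (BT.leaf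 c10_107)) (BT.node 17208 (BT.leaf c10_108) (BT.leaf c10_109))) (BT.node 17211 (BT.node 17210 (BT.leaf c10_110) (BT.leaf c10_111)) (BT.leaf c10_112))))))) (BT.node 17268 (BT.node 17240 (BT.node 17226 (BT.node 17219 (BT.node 17216 (BT.node 17214 (BT.node 17213 (BT.leaf c10_113) (BT.leaf c10_114)) (BT.node 17215 (BT.leaf c10_115) (BT.leaf c10_116))) (BT.node 17218 (BT.node 17217 (BT.leaf c10_117) (BT.leaf c10_118)) (BT.leaf c10_119))) (BT.node 17223 (BT.node 17221 (BT.node 17220 (BT.leaf c10_120) (BT.leaf c10_121)) (BT.node 17222 (BT.leaf c10_122) (BT.leaf c10_123))) (BT.node 17225 (BT.node 17224 (BT.leaf c10_124) (BT.leaf c10_125)) (BT.leaf c10_126)))) (BT.node 17233 (BT.node 17230 (BT.node 17228 (BT.node 17227 (BT.leaf c10_127) (BT.leaf c10_128)) (BT.node 17229 (BT.leaf c10_129) (BT.leaf c10_130))) (BT.node 17232 (BT.node 17231 (BT.leaf c10_131) (BT.leaf c10_132)) (BT.leaf c10_133))) (BT.node 17237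 (BT.node 17235 (BT.node 17234 (BT.leaf c10_134) (BT.leaf c10_135)) (BT.node 17236 (BT.leaf c10_136) (BT.leaf c10_137))) (BT.node 17239 (BT.node 17238 (BT.leaf c10_138) (BT.leaf c10_139)) (BT.leaf c10_140))))) (BT.node 17254 (BT.node 17247 (BT.node 17244 (BT.node 17242 (BT.node 17241 (BT.leaf c10_141) (BT.leaf c10_142)) (BT.node 17243 (BT.leaf c10_143) (BT.leaf c10_144))) (BT.node 17246 (BT.node 17245 (BT.leaf c10_145) (BT.leaf c10_146)) (BT.leaf c10_147))) (BT.node 17251 (BT.node 17249 (BT.node 17248 (BT.leaf c10_148) (BT.leaf c10_149)) (BT.node 17250 (BT.leaf c10_150) (BT.leaf c10_151))) (BT.node 17253 (BT.node 17252 (BT.leaf c10_152) (BT.leaf c10_153)) (BT.leaf c10_154)))) (BT.node 17261 (BT.node 17258 (BT.node 17256 (BT.node 17255 (BT.leaf c10_155) (BT.leaf c10_156)) (BT.node 17257 (BT.leaf c10_157) (BT.leaf c10_158))) (BT.node 17260 (BT.node 17259 (BT.leaf c10_159) (BT.leaf c10_160)) (BT.leaf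 c10_161))) (BT.node 17265 (BT.node 17263 (BT.node 17262 (BT.leaf c10_162) (BT.leaf c10_163)) (BT.node 17264 (BT.leaf c10_164) (BT.leaf c10_165))) (BT.node 17267 (BT.node 17266 (BT.leaf c10_166) (BT.leaf c10_167)) (BT.leaf c10_168)))))) (BT.node 17296 (BT.node 17282 (BT.node 17275 (BT.node 17272 (BT.node 17270 (BT.node 17269 (BT.leaf c10_169) (BT.leaf c10_170)) (BT.node 17271 (BT.leaf c10_171) (BT.leaf c10_172))) (BT.node 17274 (BT.node 17273 (BT.leaf c10_173) (BT.leaf c10_174)) (BT.leaf c10_175))) (BT.node 17279 (BT.node 17277 (BT.node 17276 (BT.leaf c10_176) (BT.leaf c10_177)) (BT.node 17278 (BT.leaf c10_178) (BT.leaf c10_179))) (BT.node 17281 (BT.node 17280 (BT.leaf c10_180) (BT.leaf c10_181)) (BT.leaf c10_182)))) (BT.node 17289 (BT.node 17286 (BT.node 17284 (BT.node 17283 (BT.leaf c10_183) (BT.leaf c10_184)) (BT.node 17285 (BT.leaf c10_185) (BT.leaf c10_186))) (BT.node 17288 (BT.node 17287 (BT.leaf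 c10_187) (BT.leaf c10_188)) (BT.leaf c10_189))) (BT.node 17293 (BT.node 17291 (BT.node 17290 (BT.leaf c10_190) (BT.leaf c10_191)) (BT.node 17292 (BT.leaf c10_192) (BT.leaf c10_193))) (BT.node 17295 (BT.node 17294 (BT.leaf c10_194) (BT.leaf c10_195)) (BT.leaf c10_196))))) (BT.node 17310 (BT.node 17303 (BT.node 17300 (BT.node 17298 (BT.node 17297 (BT.leaf c10_197) (BT.leaf c10_198)) (BT.node 17299 (BT.leaf c10_199) (BT.leaf c10_200))) (BT.node 17302 (BT.node 17301 (BT.leaf c10_201) (BT.leaf c10_202)) (BT.leaf c10_203))) (BT.node 17307 (BT.node 17305 (BT.node 17304 (BT.leaf c10_204) (BT.leaf c10_205)) (BT.node 17306 (BT.leaf c10_206) (BT.leaf c10_207))) (BT.node 17309 (BT.node 17308 (BT.leaf c10_208) (BT.leaf c10_209)) (BT.leaf c10_210)))) (BT.node 17317 (BT.node 17314 (BT.node 17312 (BT.node 17311 (BT.leaf c10_211) (BT.leaf c10_212)) (BT.node 17313 (BT.leaf c10_213) (BT.leaf c10_214))) (BT.node 17316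 (BT.node 17315 (BT.leaf c10_215) (BT.leaf c10_216)) (BT.leaf c10_217))) (BT.node 17321 (BT.node 17319 (BT.node 17318 (BT.leaf c10_218) (BT.leaf c10_219)) (BT.node 17320 (BT.leaf c10_220) (BT.leaf c10_221))) (BT.node 17323 (BT.node 17322 (BT.leaf c10_222) (BT.leaf c10_223)) (BT.leaf c10_224)))))))) (BT.node 17437 (BT.node 17381 (BT.node 17353 (BT.node 17339 (BT.node 17332 (BT.node 17328 (BT.node 17326 (BT.node 17325 (BT.leaf c10_225) (BT.leaf c10_226)) (BT.node 17327 (BT.leaf c10_227) (BT.leaf c10_228))) (BT.node 17330 (BT.node 17329 (BT.leaf c10_229) (BT.leaf c10_230)) (BT.node 17331 (BT.leaf c10_231) (BT.leaf c10_232)))) (BT.node 17336 (BT.node 17334 (BT.node 17333 (BT.leaf c10_233) (BT.leaf c10_234)) (BT.node 17335 (BT.leaf c10_235) (BT.leaf c10_236))) (BT.node 17338 (BT.node 17337 (BT.leaf c10_237) (BT.leaf c10_238)) (BT.leaf c10_239)))) (BT.node 17346 (BT.node 17343 (BT.node 17341 (BT.node 17340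 (BT.leaf c10_240) (BT.leaf c10_241)) (BT.node 17342 (BT.leaf c10_242) (BT.leaf c10_243))) (BT.node 17345 (BT.node 17344 (BT.leaf c10_244) (BT.leaf c10_245)) (BT.leaf c10_246))) (BT.node 17350 (BT.node 17348 (BT.node 17347 (BT.leaf c10_247) (BT.leaf c10_248)) (BT.node 17349 (BT.leaf c10_249) (BT.leaf c10_250))) (BT.node 17352 (BT.node 17351 (BT.leaf c10_251) (BT.leaf c10_252)) (BT.leaf c10_253))))) (BT.node 17367 (BT.node 17360 (BT.node 17357 (BT.node 17355 (BT.node 17354 (BT.leaf c10_254) (BT.leaf c10_255)) (BT.node 17356 (BT.leaf c10_256) (BT.leaf c10_257))) (BT.node 17359 (BT.node 17358 (BT.leaf c10_258) (BT.leaf c10_259)) (BT.leaf c10_260))) (BT.node 17364 (BT.node 17362 (BT.node 17361 (BT.leaf c10_261) (BT.leaf c10_262)) (BT.node 17363 (BT.leaf c10_263) (BT.leaf c10_264))) (BT.node 17366 (BT.node 17365 (BT.leaf c10_265) (BT.leaf c10_266)) (BT.leaf c10_267)))) (BT.node 17374 (BT.node 17371 (BT.node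 17369 (BT.node 17368 (BT.leaf c10_268) (BT.leaf c10_269)) (BT.node 17370 (BT.leaf c10_270) (BT.leaf c10_271))) (BT.node 17373 (BT.node 17372 (BT.leaf c10_272) (BT.leaf c10_273)) (BT.leaf c10_274))) (BT.node 17378 (BT.node 17376 (BT.node 17375 (BT.leaf c10_275) (BT.leaf c10_276)) (BT.node 17377 (BT.leaf c10_277) (BT.leaf c10_278))) (BT.node 17380 (BT.node 17379 (BT.leaf c10_279) (BT.leaf c10_280)) (BT.leaf c10_281)))))) (BT.node 17409 (BT.node 17395 (BT.node 17388 (BT.node 17385 (BT.node 17383 (BT.node 17382 (BT.leaf c10_282) (BT.leaf c10_283)) (BT.node 17384 (BT.leaf c10_284) (BT.leaf c10_285))) (BT.node 17387 (BT.node 17386 (BT.leaf c10_286) (BT.leaf c10_287)) (BT.leaf c10_288))) (BT.node 17392 (BT.node 17390 (BT.node 17389 (BT.leaf c10_289) (BT.leaf c10_290)) (BT.node 17391 (BT.leaf c10_291) (BT.leaf c10_292))) (BT.node 17394 (BT.node 17393 (BT.leaf c10_293) (BT.leaf c10_294)) (BT.leaf c10_295))))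 (BT.node 17402 (BT.node 17399 (BT.node 17397 (BT.node 17396 (BT.leaf c10_296) (BT.leaf c10_297)) (BT.node 17398 (BT.leaf c10_298) (BT.leaf c10_299))) (BT.node 17401 (BT.node 17400 (BT.leaf c10_300) (BT.leaf c10_301)) (BT.leaf c10_302))) (BT.node 17406 (BT.node 17404 (BT.node 17403 (BT.leaf c10_303) (BT.leaf c10_304)) (BT.node 17405 (BT.leaf c10_305) (BT.leaf c10_306))) (BT.node 17408 (BT.node 17407 (BT.leaf c10_307) (BT.leaf c10_308)) (BT.leaf c10_309))))) (BT.node 17423 (BT.node 17416 (BT.node 17413 (BT.node 17411 (BT.node 17410 (BT.leaf c10_310) (BT.leaf c10_311)) (BT.node 17412 (BT.leaf c10_312) (BT.leaf c10_313))) (BT.node 17415 (BT.node 17414 (BT.leaf c10_314) (BT.leaf c10_315)) (BT.leaf c10_316))) (BT.node 17420 (BT.node 17418 (BT.node 17417 (BT.leaf c10_317) (BT.leaf c10_318)) (BT.node 17419 (BT.leaf c10_319) (BT.leaf c10_320))) (BT.node 17422 (BT.node 17421 (BT.leaf c10_321) (BT.leaf c10_322))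 (BT.leaf c10_323)))) (BT.node 17430 (BT.node 17427 (BT.node 17425 (BT.node 17424 (BT.leaf c10_324) (BT.leaf c10_325)) (BT.node 17426 (BT.leaf c10_326) (BT.leaf c10_327))) (BT.node 17429 (BT.node 17428 (BT.leaf c10_328) (BT.leaf c10_329)) (BT.leaf c10_330))) (BT.node 17434 (BT.node 17432 (BT.node 17431 (BT.leaf c10_331) (BT.leaf c10_332)) (BT.node 17433 (BT.leaf c10_333) (BT.leaf c10_334))) (BT.node 17436 (BT.node 17435 (BT.leaf c10_335) (BT.leaf c10_336)) (BT.leaf c10_337))))))) (BT.node 17493 (BT.node 17465 (BT.node 17451 (BT.node 17444 (BT.node 17441 (BT.node 17439 (BT.node 17438 (BT.leaf c10_338) (BT.leaf c10_339)) (BT.node 17440 (BT.leaf c10_340) (BT.leaf c10_341))) (BT.node 17443 (BT.node 17442 (BT.leaf c10_342) (BT.leaf c10_343)) (BT.leaf c10_344))) (BT.node 17448 (BT.node 17446 (BT.node 17445 (BT.leaf c10_345) (BT.leaf c10_346)) (BT.node 17447 (BT.leaf c10_347) (BT.leaf c10_348))) (BT.node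 17450 (BT.node 17449 (BT.leaf c10_349) (BT.leaf c10_350)) (BT.leaf c10_351)))) (BT.node 17458 (BT.node 17455 (BT.node 17453 (BT.node 17452 (BT.leaf c10_352) (BT.leaf c10_353)) (BT.node 17454 (BT.leaf c10_354) (BT.leaf c10_355))) (BT.node 17457 (BT.node 17456 (BT.leaf c10_356) (BT.leaf c10_357)) (BT.leaf c10_358))) (BT.node 17462 (BT.node 17460 (BT.node 17459 (BT.leaf c10_359) (BT.leaf c10_360)) (BT.node 17461 (BT.leaf c10_361) (BT.leaf c10_362))) (BT.node 17464 (BT.node 17463 (BT.leaf c10_363) (BT.leaf c10_364)) (BT.leaf c10_365))))) (BT.node 17479 (BT.node 17472 (BT.node 17469 (BT.node 17467 (BT.node 17466 (BT.leaf c10_366) (BT.leaf c10_367)) (BT.node 17468 (BT.leaf c10_368) (BT.leaf c10_369))) (BT.node 17471 (BT.node 17470 (BT.leaf c10_370) (BT.leaf c10_371)) (BT.leaf c10_372))) (BT.node 17476 (BT.node 17474 (BT.node 17473 (BT.leaf c10_373) (BT.leaf c10_374)) (BT.node 17475 (BT.leaf c10_375) (BT.leaf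 c10_376))) (BT.node 17478 (BT.node 17477 (BT.leaf c10_377) (BT.leaf c10_378)) (BT.leaf c10_379)))) (BT.node 17486 (BT.node 17483 (BT.node 17481 (BT.node 17480 (BT.leaf c10_380) (BT.leaf c10_381)) (BT.node 17482 (BT.leaf c10_382) (BT.leaf c10_383))) (BT.node 17485 (BT.node 17484 (BT.leaf c10_384) (BT.leaf c10_385)) (BT.leaf c10_386))) (BT.node 17490 (BT.node 17488 (BT.node 17487 (BT.leaf c10_387) (BT.leaf c10_388)) (BT.node 17489 (BT.leaf c10_389) (BT.leaf c10_390))) (BT.node 17492 (BT.node 17491 (BT.leaf c10_391) (BT.leaf c10_392)) (BT.leaf c10_393)))))) (BT.node 17521 (BT.node 17507 (BT.node 17500 (BT.node 17497 (BT.node 17495 (BT.node 17494 (BT.leaf c10_394) (BT.leaf c10_395)) (BT.node 17496 (BT.leaf c10_396) (BT.leaf c10_397))) (BT.node 17499 (BT.node 17498 (BT.leaf c10_398) (BT.leaf c10_399)) (BT.leaf c10_400))) (BT.node 17504 (BT.node 17502 (BT.node 17501 (BT.leaf c10_401) (BT.leaf c10_402))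 (BT.node 17503 (BT.leaf c10_403) (BT.leaf c10_404))) (BT.node 17506 (BT.node 17505 (BT.leaf c10_405) (BT.leaf c10_406)) (BT.leaf c10_407)))) (BT.node 17514 (BT.node 17511 (BT.node 17509 (BT.node 17508 (BT.leaf c10_408) (BT.leaf c10_409)) (BT.node 17510 (BT.leaf c10_410) (BT.leaf c10_411))) (BT.node 17513 (BT.node 17512 (BT.leaf c10_412) (BT.leaf c10_413)) (BT.leaf c10_414))) (BT.node 17518 (BT.node 17516 (BT.node 17515 (BT.leaf c10_415) (BT.leaf c10_416)) (BT.node 17517 (BT.leaf c10_417) (BT.leaf c10_418))) (BT.node 17520 (BT.node 17519 (BT.leaf c10_419) (BT.leaf c10_420)) (BT.leaf c10_421))))) (BT.node 17535 (BT.node 17528 (BT.node 17525 (BT.node 17523 (BT.node 17522 (BT.leaf c10_422) (BT.leaf c10_423)) (BT.node 17524 (BT.leaf c10_424) (BT.leaf c10_425))) (BT.node 17527 (BT.node 17526 (BT.leaf c10_426) (BT.leaf c10_427)) (BT.leaf c10_428))) (BT.node 17532 (BT.node 17530 (BT.node 17529 (BT.leaf c10_429)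 (BT.leaf c10_430)) (BT.node 17531 (BT.leaf c10_431) (BT.leaf c10_432))) (BT.node 17534 (BT.node 17533 (BT.leaf c10_433) (BT.leaf c10_434)) (BT.leaf c10_435)))) (BT.node 17542 (BT.node 17539 (BT.node 17537 (BT.node 17536 (BT.leaf c10_436) (BT.leaf c10_437)) (BT.node 17538 (BT.leaf c10_438) (BT.leaf c10_439))) (BT.node 17541 (BT.node 17540 (BT.leaf c10_440) (BT.leaf c10_441)) (BT.leaf c10_442))) (BT.node 17546 (BT.node 17544 (BT.node 17543 (BT.leaf c10_443) (BT.leaf c10_444)) (BT.node 17545 (BT.leaf c10_445) (BT.leaf c10_446))) (BT.node 17548 (BT.node 17547 (BT.leaf c10_447) (BT.leaf c10_448)) (BT.leaf c10_449))))))))) (BT.node 17774 (BT.node 17662 (BT.node 17606 (BT.node 17578 (BT.node 17564 (BT.node 17557 (BT.node 17553 (BT.node 17551 (BT.node 17550 (BT.leaf c10_450) (BT.leaf c10_451)) (BT.node 17552 (BT.leaf c10_452) (BT.leaf c10_453))) (BT.node 17555 (BT.node 17554 (BT.leaf c10_454) (BT.leaf c10_455))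 (BT.node 17556 (BT.leaf c10_456) (BT.leaf c10_457)))) (BT.node 17561 (BT.node 17559 (BT.node 17558 (BT.leaf c10_458) (BT.leaf c10_459)) (BT.node 17560 (BT.leaf c10_460) (BT.leaf c10_461))) (BT.node 17563 (BT.node 17562 (BT.leaf c10_462) (BT.leaf c10_463)) (BT.leaf c10_464)))) (BT.node 17571 (BT.node 17568 (BT.node 17566 (BT.node 17565 (BT.leaf c10_465) (BT.leaf c10_466)) (BT.node 17567 (BT.leaf c10_467) (BT.leaf c10_468))) (BT.node 17570 (BT.node 17569 (BT.leaf c10_469) (BT.leaf c10_470)) (BT.leaf c10_471))) (BT.node 17575 (BT.node 17573 (BT.node 17572 (BT.leaf c10_472) (BT.leaf c10_473)) (BT.node 17574 (BT.leaf c10_474) (BT.leaf c10_475))) (BT.node 17577 (BT.node 17576 (BT.leaf c10_476) (BT.leaf c10_477)) (BT.leaf c10_478))))) (BT.node 17592 (BT.node 17585 (BT.node 17582 (BT.node 17580 (BT.node 17579 (BT.leaf c10_479) (BT.leaf c10_480)) (BT.node 17581 (BT.leaf c10_481) (BT.leaf c10_482))) (BT.node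 17584 (BT.node 17583 (BT.leaf c10_483) (BT.leaf c10_484)) (BT.leaf c10_485))) (BT.node 17589 (BT.node 17587 (BT.node 17586 (BT.leaf c10_486) (BT.leaf c10_487)) (BT.node 17588 (BT.leaf c10_488) (BT.leaf c10_489))) (BT.node 17591 (BT.node 17590 (BT.leaf c10_490) (BT.leaf c10_491)) (BT.leaf c10_492)))) (BT.node 17599 (BT.node 17596 (BT.node 17594 (BT.node 17593 (BT.leaf c10_493) (BT.leaf c10_494)) (BT.node 17595 (BT.leaf c10_495) (BT.leaf c10_496))) (BT.node 17598 (BT.node 17597 (BT.leaf c10_497) (BT.leaf c10_498)) (BT.leaf c10_499))) (BT.node 17603 (BT.node 17601 (BT.node 17600 (BT.leaf c10_500) (BT.leaf c10_501)) (BT.node 17602 (BT.leaf c10_502) (BT.leaf c10_503))) (BT.node 17605 (BT.node 17604 (BT.leaf c10_504) (BT.leaf c10_505)) (BT.leaf c10_506)))))) (BT.node 17634 (BT.node 17620 (BT.node 17613 (BT.node 17610 (BT.node 17608 (BT.node 17607 (BT.leaf c10_507) (BT.leaf c10_508)) (BT.node 17609 (BT.leaf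 c10_509) (BT.leaf c10_510))) (BT.node 17612 (BT.node 17611 (BT.leaf c10_511) (BT.leaf c10_512)) (BT.leaf c10_513))) (BT.node 17617 (BT.node 17615 (BT.node 17614 (BT.leaf c10_514) (BT.leaf c10_515)) (BT.node 17616 (BT.leaf c10_516) (BT.leaf c10_517))) (BT.node 17619 (BT.node 17618 (BT.leaf c10_518) (BT.leaf c10_519)) (BT.leaf c10_520)))) (BT.node 17627 (BT.node 17624 (BT.node 17622 (BT.node 17621 (BT.leaf c10_521) (BT.leaf c10_522)) (BT.node 17623 (BT.leaf c10_523) (BT.leaf c10_524))) (BT.node 17626 (BT.node 17625 (BT.leaf c10_525) (BT.leaf c10_526)) (BT.leaf c10_527))) (BT.node 17631 (BT.node 17629 (BT.node 17628 (BT.leaf c10_528) (BT.leaf c10_529)) (BT.node 17630 (BT.leaf c10_530) (BT.leaf c10_531))) (BT.node 17633 (BT.node 17632 (BT.leaf c10_532) (BT.leaf c10_533)) (BT.leaf c10_534))))) (BT.node 17648 (BT.node 17641 (BT.node 17638 (BT.node 17636 (BT.node 17635 (BT.leaf c10_535) (BT.leaf c10_536))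 (BT.node 17637 (BT.leaf c10_537) (BT.leaf c10_538))) (BT.node 17640 (BT.node 17639 (BT.leaf c10_539) (BT.leaf c10_540)) (BT.leaf c10_541))) (BT.node 17645 (BT.node 17643 (BT.node 17642 (BT.leaf c10_542) (BT.leaf c10_543)) (BT.node 17644 (BT.leaf c10_544) (BT.leaf c10_545))) (BT.node 17647 (BT.node 17646 (BT.leaf c10_546) (BT.leaf c10_547)) (BT.leaf c10_548)))) (BT.node 17655 (BT.node 17652 (BT.node 17650 (BT.node 17649 (BT.leaf c10_549) (BT.leaf c10_550)) (BT.node 17651 (BT.leaf c10_551) (BT.leaf c10_552))) (BT.node 17654 (BT.node 17653 (BT.leaf c10_553) (BT.leaf c10_554)) (BT.leaf c10_555))) (BT.node 17659 (BT.node 17657 (BT.node 17656 (BT.leaf c10_556) (BT.leaf c10_557)) (BT.node 17658 (BT.leaf c10_558) (BT.leaf c10_559))) (BT.node 17661 (BT.node 17660 (BT.leaf c10_560) (BT.leaf c10_561)) (BT.leaf c10_562))))))) (BT.node 17718 (BT.node 17690 (BT.node 17676 (BT.node 17669 (BT.node 17666 (BT.node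 17664 (BT.node 17663 (BT.leaf c10_563) (BT.leaf c10_564)) (BT.node 17665 (BT.leaf c10_565) (BT.leaf c10_566))) (BT.node 17668 (BT.node 17667 (BT.leaf c10_567) (BT.leaf c10_568)) (BT.leaf c10_569))) (BT.node 17673 (BT.node 17671 (BT.node 17670 (BT.leaf c10_570) (BT.leaf c10_571)) (BT.node 17672 (BT.leaf c10_572) (BT.leaf c10_573))) (BT.node 17675 (BT.node 17674 (BT.leaf c10_574) (BT.leaf c10_575)) (BT.leaf c10_576)))) (BT.node 17683 (BT.node 17680 (BT.node 17678 (BT.node 17677 (BT.leaf c10_577) (BT.leaf c10_578)) (BT.node 17679 (BT.leaf c10_579) (BT.leaf c10_580))) (BT.node 17682 (BT.node 17681 (BT.leaf c10_581) (BT.leaf c10_582)) (BT.leaf c10_583))) (BT.node 17687 (BT.node 17685 (BT.node 17684 (BT.leaf c10_584) (BT.leaf c10_585)) (BT.node 17686 (BT.leaf c10_586) (BT.leaf c10_587))) (BT.node 17689 (BT.node 17688 (BT.leaf c10_588) (BT.leaf c10_589)) (BT.leaf c10_590))))) (BT.node 17704 (BT.node 17697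 (BT.node 17694 (BT.node 17692 (BT.node 17691 (BT.leaf c10_591) (BT.leaf c10_592)) (BT.node 17693 (BT.leaf c10_593) (BT.leaf c10_594))) (BT.node 17696 (BT.node 17695 (BT.leaf c10_595) (BT.leaf c10_596)) (BT.leaf c10_597))) (BT.node 17701 (BT.node 17699 (BT.node 17698 (BT.leaf c10_598) (BT.leaf c10_599)) (BT.node 17700 (BT.leaf c10_600) (BT.leaf c10_601))) (BT.node 17703 (BT.node 17702 (BT.leaf c10_602) (BT.leaf c10_603)) (BT.leaf c10_604)))) (BT.node 17711 (BT.node 17708 (BT.node 17706 (BT.node 17705 (BT.leaf c10_605) (BT.leaf c10_606)) (BT.node 17707 (BT.leaf c10_607) (BT.leaf c10_608))) (BT.node 17710 (BT.node 17709 (BT.leaf c10_609) (BT.leaf c10_610)) (BT.leaf c10_611))) (BT.node 17715 (BT.node 17713 (BT.node 17712 (BT.leaf c10_612) (BT.leaf c10_613)) (BT.node 17714 (BT.leaf c10_614) (BT.leaf c10_615))) (BT.node 17717 (BT.node 17716 (BT.leaf c10_616) (BT.leaf c10_617)) (BT.leaf c10_618)))))) (BT.node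 17746 (BT.node 17732 (BT.node 17725 (BT.node 17722 (BT.node 17720 (BT.node 17719 (BT.leaf c10_619) (BT.leaf c10_620)) (BT.node 17721 (BT.leaf c10_621) (BT.leaf c10_622))) (BT.node 17724 (BT.node 17723 (BT.leaf c10_623) (BT.leaf c10_624)) (BT.leaf c10_625))) (BT.node 17729 (BT.node 17727 (BT.node 17726 (BT.leaf c10_626) (BT.leaf c10_627)) (BT.node 17728 (BT.leaf c10_628) (BT.leaf c10_629))) (BT.node 17731 (BT.node 17730 (BT.leaf c10_630) (BT.leaf c10_631)) (BT.leaf c10_632)))) (BT.node 17739 (BT.node 17736 (BT.node 17734 (BT.node 17733 (BT.leaf c10_633) (BT.leaf c10_634)) (BT.node 17735 (BT.leaf c10_635) (BT.leaf c10_636))) (BT.node 17738 (BT.node 17737 (BT.leaf c10_637) (BT.leaf c10_638)) (BT.leaf c10_639))) (BT.node 17743 (BT.node 17741 (BT.node 17740 (BT.leaf c10_640) (BT.leaf c10_641)) (BT.node 17742 (BT.leaf c10_642) (BT.leaf c10_643))) (BT.node 17745 (BT.node 17744 (BT.leaf c10_644) (BT.leaf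 c10_645)) (BT.leaf c10_646))))) (BT.node 17760 (BT.node 17753 (BT.node 17750 (BT.node 17748 (BT.node 17747 (BT.leaf c10_647) (BT.leaf c10_648)) (BT.node 17749 (BT.leaf c10_649) (BT.leaf c10_650))) (BT.node 17752 (BT.node 17751 (BT.leaf c10_651) (BT.leaf c10_652)) (BT.leaf c10_653))) (BT.node 17757 (BT.node 17755 (BT.node 17754 (BT.leaf c10_654) (BT.leaf c10_655)) (BT.node 17756 (BT.leaf c10_656) (BT.leaf c10_657))) (BT.node 17759 (BT.node 17758 (BT.leaf c10_658) (BT.leaf c10_659)) (BT.leaf c10_660)))) (BT.node 17767 (BT.node 17764 (BT.node 17762 (BT.node 17761 (BT.leaf c10_661) (BT.leaf c10_662)) (BT.node 17763 (BT.leaf c10_663) (BT.leaf c10_664))) (BT.node 17766 (BT.node 17765 (BT.leaf c10_665) (BT.leaf c10_666)) (BT.leaf c10_667))) (BT.node 17771 (BT.node 17769 (BT.node 17768 (BT.leaf c10_668) (BT.leaf c10_669)) (BT.node 17770 (BT.leaf c10_670) (BT.leaf c10_671))) (BT.node 17773 (BT.node 17772 (BT.leaf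 c10_672) (BT.leaf c10_673)) (BT.leaf c10_674)))))))) (BT.node 17887 (BT.node 17831 (BT.node 17803 (BT.node 17789 (BT.node 17782 (BT.node 17778 (BT.node 17776 (BT.node 17775 (BT.leaf c10_675) (BT.leaf c10_676)) (BT.node 17777 (BT.leaf c10_677) (BT.leaf c10_678))) (BT.node 17780 (BT.node 17779 (BT.leaf c10_679) (BT.leaf c10_680)) (BT.node 17781 (BT.leaf c10_681) (BT.leaf c10_682)))) (BT.node 17786 (BT.node 17784 (BT.node 17783 (BT.leaf c10_683) (BT.leaf c10_684)) (BT.node 17785 (BT.leaf c10_685) (BT.leaf c10_686))) (BT.node 17788 (BT.node 17787 (BT.leaf c10_687) (BT.leaf c10_688)) (BT.leaf c10_689)))) (BT.node 17796 (BT.node 17793 (BT.node 17791 (BT.node 17790 (BT.leaf c10_690) (BT.leaf c10_691)) (BT.node 17792 (BT.leaf c10_692) (BT.leaf c10_693))) (BT.node 17795 (BT.node 17794 (BT.leaf c10_694) (BT.leaf c10_695)) (BT.leaf c10_696))) (BT.node 17800 (BT.node 17798 (BT.node 17797 (BT.leaf c10_697) (BT.leaf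 c10_698)) (BT.node 17799 (BT.leaf c10_699) (BT.leaf c10_700))) (BT.node 17802 (BT.node 17801 (BT.leaf c10_701) (BT.leaf c10_702)) (BT.leaf c10_703))))) (BT.node 17817 (BT.node 17810 (BT.node 17807 (BT.node 17805 (BT.node 17804 (BT.leaf c10_704) (BT.leaf c10_705)) (BT.node 17806 (BT.leaf c10_706) (BT.leaf c10_707))) (BT.node 17809 (BT.node 17808 (BT.leaf c10_708) (BT.leaf c10_709)) (BT.leaf c10_710))) (BT.node 17814 (BT.node 17812 (BT.node 17811 (BT.leaf c10_711) (BT.leaf c10_712)) (BT.node 17813 (BT.leaf c10_713) (BT.leaf c10_714))) (BT.node 17816 (BT.node 17815 (BT.leaf c10_715) (BT.leaf c10_716)) (BT.leaf c10_717)))) (BT.node 17824 (BT.node 17821 (BT.node 17819 (BT.node 17818 (BT.leaf c10_718) (BT.leaf c10_719)) (BT.node 17820 (BT.leaf c10_720) (BT.leaf c10_721))) (BT.node 17823 (BT.node 17822 (BT.leaf c10_722) (BT.leaf c10_723)) (BT.leaf c10_724))) (BT.node 17828 (BT.node 17826 (BT.node 17825 (BT.leaf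 c10_725) (BT.leaf c10_726)) (BT.node 17827 (BT.leaf c10_727) (BT.leaf c10_728))) (BT.node 17830 (BT.node 17829 (BT.leaf c10_729) (BT.leaf c10_730)) (BT.leaf c10_731)))))) (BT.node 17859 (BT.node 17845 (BT.node 17838 (BT.node 17835 (BT.node 17833 (BT.node 17832 (BT.leaf c10_732) (BT.leaf c10_733)) (BT.node 17834 (BT.leaf c10_734) (BT.leaf c10_735))) (BT.node 17837 (BT.node 17836 (BT.leaf c10_736) (BT.leaf c10_737)) (BT.leaf c10_738))) (BT.node 17842 (BT.node 17840 (BT.node 17839 (BT.leaf c10_739) (BT.leaf c10_740)) (BT.node 17841 (BT.leaf c10_741) (BT.leaf c10_742))) (BT.node 17844 (BT.node 17843 (BT.leaf c10_743) (BT.leaf c10_744)) (BT.leaf c10_745)))) (BT.node 17852 (BT.node 17849 (BT.node 17847 (BT.node 17846 (BT.leaf c10_746) (BT.leaf c10_747)) (BT.node 17848 (BT.leaf c10_748) (BT.leaf c10_749))) (BT.node 17851 (BT.node 17850 (BT.leaf c10_750) (BT.leaf c10_751)) (BT.leaf c10_752))) (BT.node 17856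 (BT.node 17854 (BT.node 17853 (BT.leaf c10_753) (BT.leaf c10_754)) (BT.node 17855 (BT.leaf c10_755) (BT.leaf c10_756))) (BT.node 17858 (BT.node 17857 (BT.leaf c10_757) (BT.leaf c10_758)) (BT.leaf c10_759))))) (BT.node 17873 (BT.node 17866 (BT.node 17863 (BT.node 17861 (BT.node 17860 (BT.leaf c10_760) (BT.leaf c10_761)) (BT.node 17862 (BT.leaf c10_762) (BT.leaf c10_763))) (BT.node 17865 (BT.node 17864 (BT.leaf c10_764) (BT.leaf c10_765)) (BT.leaf c10_766))) (BT.node 17870 (BT.node 17868 (BT.node 17867 (BT.leaf c10_767) (BT.leaf c10_768)) (BT.node 17869 (BT.leaf c10_769) (BT.leaf c10_770))) (BT.node 17872 (BT.node 17871 (BT.leaf c10_771) (BT.leaf c10_772)) (BT.leaf c10_773)))) (BT.node 17880 (BT.node 17877 (BT.node 17875 (BT.node 17874 (BT.leaf c10_774) (BT.leaf c10_775)) (BT.node 17876 (BT.leaf c10_776) (BT.leaf c10_777))) (BT.node 17879 (BT.node 17878 (BT.leaf c10_778) (BT.leaf c10_779)) (BT.leaf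 c10_780))) (BT.node 17884 (BT.node 17882 (BT.node 17881 (BT.leaf c10_781) (BT.leaf c10_782)) (BT.node 17883 (BT.leaf c10_783) (BT.leaf c10_784))) (BT.node 17886 (BT.node 17885 (BT.leaf c10_785) (BT.leaf c10_786)) (BT.leaf c10_787))))))) (BT.node 17943 (BT.node 17915 (BT.node 17901 (BT.node 17894 (BT.node 17891 (BT.node 17889 (BT.node 17888 (BT.leaf c10_788) (BT.leaf c10_789)) (BT.node 17890 (BT.leaf c10_790) (BT.leaf c10_791))) (BT.node 17893 (BT.node 17892 (BT.leaf c10_792) (BT.leaf c10_793)) (BT.leaf c10_794))) (BT.node 17898 (BT.node 17896 (BT.node 17895 (BT.leaf c10_795) (BT.leaf c10_796)) (BT.node 17897 (BT.leaf c10_797) (BT.leaf c10_798))) (BT.node 17900 (BT.node 17899 (BT.leaf c10_799) (BT.leaf c10_800)) (BT.leaf c10_801)))) (BT.node 17908 (BT.node 17905 (BT.node 17903 (BT.node 17902 (BT.leaf c10_802) (BT.leaf c10_803)) (BT.node 17904 (BT.leaf c10_804) (BT.leaf c10_805))) (BT.node 17907 (BT.node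 17906 (BT.leaf c10_806) (BT.leaf c10_807)) (BT.leaf c10_808))) (BT.node 17912 (BT.node 17910 (BT.node 17909 (BT.leaf c10_809) (BT.leaf c10_810)) (BT.node 17911 (BT.leaf c10_811) (BT.leaf c10_812))) (BT.node 17914 (BT.node 17913 (BT.leaf c10_813) (BT.leaf c10_814)) (BT.leaf c10_815))))) (BT.node 17929 (BT.node 17922 (BT.node 17919 (BT.node 17917 (BT.node 17916 (BT.leaf c10_816) (BT.leaf c10_817)) (BT.node 17918 (BT.leaf c10_818) (BT.leaf c10_819))) (BT.node 17921 (BT.node 17920 (BT.leaf c10_820) (BT.leaf c10_821)) (BT.leaf c10_822))) (BT.node 17926 (BT.node 17924 (BT.node 17923 (BT.leaf c10_823) (BT.leaf c10_824)) (BT.node 17925 (BT.leaf c10_825) (BT.leaf c10_826))) (BT.node 17928 (BT.node 17927 (BT.leaf c10_827) (BT.leaf c10_828)) (BT.leaf c10_829)))) (BT.node 17936 (BT.node 17933 (BT.node 17931 (BT.node 17930 (BT.leaf c10_830) (BT.leaf c10_831)) (BT.node 17932 (BT.leaf c10_832) (BT.leaf c10_833)))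 (BT.node 17935 (BT.node 17934 (BT.leaf c10_834) (BT.leaf c10_835)) (BT.leaf c10_836))) (BT.node 17940 (BT.node 17938 (BT.node 17937 (BT.leaf c10_837) (BT.leaf c10_838)) (BT.node 17939 (BT.leaf c10_839) (BT.leaf c10_840))) (BT.node 17942 (BT.node 17941 (BT.leaf c10_841) (BT.leaf c10_842)) (BT.leaf c10_843)))))) (BT.node 17971 (BT.node 17957 (BT.node 17950 (BT.node 17947 (BT.node 17945 (BT.node 17944 (BT.leaf c10_844) (BT.leaf c10_845)) (BT.node 17946 (BT.leaf c10_846) (BT.leaf c10_847))) (BT.node 17949 (BT.node 17948 (BT.leaf c10_848) (BT.leaf c10_849)) (BT.leaf c10_850))) (BT.node 17954 (BT.node 17952 (BT.node 17951 (BT.leaf c10_851) (BT.leaf c10_852)) (BT.node 17953 (BT.leaf c10_853) (BT.leaf c10_854))) (BT.node 17956 (BT.node 17955 (BT.leaf c10_855) (BT.leaf c10_856)) (BT.leaf c10_857)))) (BT.node 17964 (BT.node 17961 (BT.node 17959 (BT.node 17958 (BT.leaf c10_858) (BT.leaf c10_859)) (BT.node 17960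 (BT.leaf c10_860) (BT.leaf c10_861))) (BT.node 17963 (BT.node 17962 (BT.leaf c10_862) (BT.leaf c10_863)) (BT.leaf c10_864))) (BT.node 17968 (BT.node 17966 (BT.node 17965 (BT.leaf c10_865) (BT.leaf c10_866)) (BT.node 17967 (BT.leaf c10_867) (BT.leaf c10_868))) (BT.node 17970 (BT.node 17969 (BT.leaf c10_869) (BT.leaf c10_870)) (BT.leaf c10_871))))) (BT.node 17985 (BT.node 17978 (BT.node 17975 (BT.node 17973 (BT.node 17972 (BT.leaf c10_872) (BT.leaf c10_873)) (BT.node 17974 (BT.leaf c10_874) (BT.leaf c10_875))) (BT.node 17977 (BT.node 17976 (BT.leaf c10_876) (BT.leaf c10_877)) (BT.leaf c10_878))) (BT.node 17982 (BT.node 17980 (BT.node 17979 (BT.leaf c10_879) (BT.leaf c10_880)) (BT.node 17981 (BT.leaf c10_881) (BT.leaf c10_882))) (BT.node 17984 (BT.node 17983 (BT.leaf c10_883) (BT.leaf c10_884)) (BT.leaf c10_885)))) (BT.node 17992 (BT.node 17989 (BT.node 17987 (BT.node 17986 (BT.leaf c10_886) (BT.leaf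 c10_887)) (BT.node 17988 (BT.leaf c10_888) (BT.leaf c10_889))) (BT.node 17991 (BT.node 17990 (BT.leaf c10_890) (BT.leaf c10_891)) (BT.leaf c10_892))) (BT.node 17996 (BT.node 17994 (BT.node 17993 (BT.leaf c10_893) (BT.leaf c10_894)) (BT.node 17995 (BT.leaf c10_895) (BT.leaf c10_896))) (BT.node 17998 (BT.node 17997 (BT.leaf c10_897) (BT.leaf c10_898)) (BT.leaf c10_899))))))))))
/-- the chunks of the letter 20 -/
def colL_20 : BT ℕ := (BT.node 18449 (BT.node 18224 (BT.node 18112 (BT.node 18056 (BT.node 18028 (BT.node 18014 (BT.node 18007 (BT.node 18003 (BT.node 18001 (BT.node 18000 (BT.leaf c11_0) (BT.leaf c11_1)) (BT.node 18002 (BT.leaf c11_2) (BT.leaf c11_3))) (BT.node 18005 (BT.node 18004 (BT.leaf c11_4) (BT.leaf c11_5)) (BT.node 18006 (BT.leaf c11_6) (BT.leaf c11_7)))) (BT.node 18011 (BT.node 18009 (BT.node 18008 (BT.leaf c11_8) (BT.leaf c11_9)) (BT.node 18010 (BT.leaf c11_10) (BT.leaf c11_11)))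 (BT.node 18013 (BT.node 18012 (BT.leaf c11_12) (BT.leaf c11_13)) (BT.leaf c11_14)))) (BT.node 18021 (BT.node 18018 (BT.node 18016 (BT.node 18015 (BT.leaf c11_15) (BT.leaf c11_16)) (BT.node 18017 (BT.leaf c11_17) (BT.leaf c11_18))) (BT.node 18020 (BT.node 18019 (BT.leaf c11_19) (BT.leaf c11_20)) (BT.leaf c11_21))) (BT.node 18025 (BT.node 18023 (BT.node 18022 (BT.leaf c11_22) (BT.leaf c11_23)) (BT.node 18024 (BT.leaf c11_24) (BT.leaf c11_25))) (BT.node 18027 (BT.node 18026 (BT.leaf c11_26) (BT.leaf c11_27)) (BT.leaf c11_28))))) (BT.node 18042 (BT.node 18035 (BT.node 18032 (BT.node 18030 (BT.node 18029 (BT.leaf c11_29) (BT.leaf c11_30)) (BT.node 18031 (BT.leaf c11_31) (BT.leaf c11_32))) (BT.node 18034 (BT.node 18033 (BT.leaf c11_33) (BT.leaf c11_34)) (BT.leaf c11_35))) (BT.node 18039 (BT.node 18037 (BT.node 18036 (BT.leaf c11_36) (BT.leaf c11_37)) (BT.node 18038 (BT.leaf c11_38) (BT.leaf c11_39))) (BT.node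 18041 (BT.node 18040 (BT.leaf c11_40) (BT.leaf c11_41)) (BT.leaf c11_42)))) (BT.node 18049 (BT.node 18046 (BT.node 18044 (BT.node 18043 (BT.leaf c11_43) (BT.leaf c11_44)) (BT.node 18045 (BT.leaf c11_45) (BT.leaf c11_46))) (BT.node 18048 (BT.node 18047 (BT.leaf c11_47) (BT.leaf c11_48)) (BT.leaf c11_49))) (BT.node 18053 (BT.node 18051 (BT.node 18050 (BT.leaf c11_50) (BT.leaf c11_51)) (BT.node 18052 (BT.leaf c11_52) (BT.leaf c11_53))) (BT.node 18055 (BT.node 18054 (BT.leaf c11_54) (BT.leaf c11_55)) (BT.leaf c11_56)))))) (BT.node 18084 (BT.node 18070 (BT.node 18063 (BT.node 18060 (BT.node 18058 (BT.node 18057 (BT.leaf c11_57) (BT.leaf c11_58)) (BT.node 18059 (BT.leaf c11_59) (BT.leaf c11_60))) (BT.node 18062 (BT.node 18061 (BT.leaf c11_61) (BT.leaf c11_62)) (BT.leaf c11_63))) (BT.node 18067 (BT.node 18065 (BT.node 18064 (BT.leaf c11_64) (BT.leaf c11_65)) (BT.node 18066 (BT.leaf c11_66) (BT.leaf c11_67)))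 (BT.node 18069 (BT.node 18068 (BT.leaf c11_68) (BT.leaf c11_69)) (BT.leaf c11_70)))) (BT.node 18077 (BT.node 18074 (BT.node 18072 (BT.node 18071 (BT.leaf c11_71) (BT.leaf c11_72)) (BT.node 18073 (BT.leaf c11_73) (BT.leaf c11_74))) (BT.node 18076 (BT.node 18075 (BT.leaf c11_75) (BT.leaf c11_76)) (BT.leaf c11_77))) (BT.node 18081 (BT.node 18079 (BT.node 18078 (BT.leaf c11_78) (BT.leaf c11_79)) (BT.node 18080 (BT.leaf c11_80) (BT.leaf c11_81))) (BT.node 18083 (BT.node 18082 (BT.leaf c11_82) (BT.leaf c11_83)) (BT.leaf c11_84))))) (BT.node 18098 (BT.node 18091 (BT.node 18088 (BT.node 18086 (BT.node 18085 (BT.leaf c11_85) (BT.leaf c11_86)) (BT.node 18087 (BT.leaf c11_87) (BT.leaf c11_88))) (BT.node 18090 (BT.node 18089 (BT.leaf c11_89) (BT.leaf c11_90)) (BT.leaf c11_91))) (BT.node 18095 (BT.node 18093 (BT.node 18092 (BT.leaf c11_92) (BT.leaf c11_93)) (BT.node 18094 (BT.leaf c11_94) (BT.leaf c11_95))) (BT.node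 18097 (BT.node 18096 (BT.leaf c11_96) (BT.leaf c11_97)) (BT.leaf c11_98)))) (BT.node 18105 (BT.node 18102 (BT.node 18100 (BT.node 18099 (BT.leaf c11_99) (BT.leaf c11_100)) (BT.node 18101 (BT.leaf c11_101) (BT.leaf c11_102))) (BT.node 18104 (BT.node 18103 (BT.leaf c11_103) (BT.leaf c11_104)) (BT.leaf c11_105))) (BT.node 18109 (BT.node 18107 (BT.node 18106 (BT.leaf c11_106) (BT.leaf c11_107)) (BT.node 18108 (BT.leaf c11_108) (BT.leaf c11_109))) (BT.node 18111 (BT.node 18110 (BT.leaf c11_110) (BT.leaf c11_111)) (BT.leaf c11_112))))))) (BT.node 18168 (BT.node 18140 (BT.node 18126 (BT.node 18119 (BT.node 18116 (BT.node 18114 (BT.node 18113 (BT.leaf c11_113) (BT.leaf c11_114)) (BT.node 18115 (BT.leaf c11_115) (BT.leaf c11_116))) (BT.node 18118 (BT.node 18117 (BT.leaf c11_117) (BT.leaf c11_118)) (BT.leaf c11_119))) (BT.node 18123 (BT.node 18121 (BT.node 18120 (BT.leaf c11_120) (BT.leaf c11_121)) (BT.node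 18122 (BT.leaf c11_122) (BT.leaf c11_123))) (BT.node 18125 (BT.node 18124 (BT.leaf c11_124) (BT.leaf c11_125)) (BT.leaf c11_126)))) (BT.node 18133 (BT.node 18130 (BT.node 18128 (BT.node 18127 (BT.leaf c11_127) (BT.leaf c11_128)) (BT.node 18129 (BT.leaf c11_129) (BT.leaf c11_130))) (BT.node 18132 (BT.node 18131 (BT.leaf c11_131) (BT.leaf c11_132)) (BT.leaf c11_133))) (BT.node 18137 (BT.node 18135 (BT.node 18134 (BT.leaf c11_134) (BT.leaf c11_135)) (BT.node 18136 (BT.leaf c11_136) (BT.leaf c11_137))) (BT.node 18139 (BT.node 18138 (BT.leaf c11_138) (BT.leaf c11_139)) (BT.leaf c11_140))))) (BT.node 18154 (BT.node 18147 (BT.node 18144 (BT.node 18142 (BT.node 18141 (BT.leaf c11_141) (BT.leaf c11_142)) (BT.node 18143 (BT.leaf c11_143) (BT.leaf c11_144))) (BT.node 18146 (BT.node 18145 (BT.leaf c11_145) (BT.leaf c11_146)) (BT.leaf c11_147))) (BT.node 18151 (BT.node 18149 (BT.node 18148 (BT.leaf c11_148) (BT.leaf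 c11_149)) (BT.node 18150 (BT.leaf c11_150) (BT.leaf c11_151))) (BT.node 18153 (BT.node 18152 (BT.leaf c11_152) (BT.leaf c11_153)) (BT.leaf c11_154)))) (BT.node 18161 (BT.node 18158 (BT.node 18156 (BT.node 18155 (BT.leaf c11_155) (BT.leaf c11_156)) (BT.node 18157 (BT.leaf c11_157) (BT.leaf c11_158))) (BT.node 18160 (BT.node 18159 (BT.leaf c11_159) (BT.leaf c11_160)) (BT.leaf c11_161))) (BT.node 18165 (BT.node 18163 (BT.node 18162 (BT.leaf c11_162) (BT.leaf c11_163)) (BT.node 18164 (BT.leaf c11_164) (BT.leaf c11_165))) (BT.node 18167 (BT.node 18166 (BT.leaf c11_166) (BT.leaf c11_167)) (BT.leaf c11_168)))))) (BT.node 18196 (BT.node 18182 (BT.node 18175 (BT.node 18172 (BT.node 18170 (BT.node 18169 (BT.leaf c11_169) (BT.leaf c11_170)) (BT.node 18171 (BT.leaf c11_171) (BT.leaf c11_172))) (BT.node 18174 (BT.node 18173 (BT.leaf c11_173) (BT.leaf c11_174)) (BT.leaf c11_175))) (BT.node 18179 (BT.node 18177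 (BT.node 18176 (BT.leaf c11_176) (BT.leaf c11_177)) (BT.node 18178 (BT.leaf c11_178) (BT.leaf c11_179))) (BT.node 18181 (BT.node 18180 (BT.leaf c11_180) (BT.leaf c11_181)) (BT.leaf c11_182)))) (BT.node 18189 (BT.node 18186 (BT.node 18184 (BT.node 18183 (BT.leaf c11_183) (BT.leaf c11_184)) (BT.node 18185 (BT.leaf c11_185) (BT.leaf c11_186))) (BT.node 18188 (BT.node 18187 (BT.leaf c11_187) (BT.leaf c11_188)) (BT.leaf c11_189))) (BT.node 18193 (BT.node 18191 (BT.node 18190 (BT.leaf c11_190) (BT.leaf c11_191)) (BT.node 18192 (BT.leaf c11_192) (BT.leaf c11_193))) (BT.node 18195 (BT.node 18194 (BT.leaf c11_194) (BT.leaf c11_195)) (BT.leaf c11_196))))) (BT.node 18210 (BT.node 18203 (BT.node 18200 (BT.node 18198 (BT.node 18197 (BT.leaf c11_197) (BT.leaf c11_198)) (BT.node 18199 (BT.leaf c11_199) (BT.leaf c11_200))) (BT.node 18202 (BT.node 18201 (BT.leaf c11_201) (BT.leaf c11_202)) (BT.leaf c11_203))) (BT.node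 18207 (BT.node 18205 (BT.node 18204 (BT.leaf c11_204) (BT.leaf c11_205)) (BT.node 18206 (BT.leaf c11_206) (BT.leaf c11_207))) (BT.node 18209 (BT.node 18208 (BT.leaf c11_208) (BT.leaf c11_209)) (BT.leaf c11_210)))) (BT.node 18217 (BT.node 18214 (BT.node 18212 (BT.node 18211 (BT.leaf c11_211) (BT.leaf c11_212)) (BT.node 18213 (BT.leaf c11_213) (BT.leaf c11_214))) (BT.node 18216 (BT.node 18215 (BT.leaf c11_215) (BT.leaf c11_216)) (BT.leaf c11_217))) (BT.node 18221 (BT.node 18219 (BT.node 18218 (BT.leaf c11_218) (BT.leaf c11_219)) (BT.node 18220 (BT.leaf c11_220) (BT.leaf c11_221))) (BT.node 18223 (BT.node 18222 (BT.leaf c11_222) (BT.leaf c11_223)) (BT.leaf c11_224)))))))) (BT.node 18337 (BT.node 18281 (BT.node 18253 (BT.node 18239 (BT.node 18232 (BT.node 18228 (BT.node 18226 (BT.node 18225 (BT.leaf c11_225) (BT.leaf c11_226)) (BT.node 18227 (BT.leaf c11_227) (BT.leaf c11_228))) (BT.node 18230 (BT.node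 18229 (BT.leaf c11_229) (BT.leaf c11_230)) (BT.node 18231 (BT.leaf c11_231) (BT.leaf c11_232)))) (BT.node 18236 (BT.node 18234 (BT.node 18233 (BT.leaf c11_233) (BT.leaf c11_234)) (BT.node 18235 (BT.leaf c11_235) (BT.leaf c11_236))) (BT.node 18238 (BT.node 18237 (BT.leaf c11_237) (BT.leaf c11_238)) (BT.leaf c11_239)))) (BT.node 18246 (BT.node 18243 (BT.node 18241 (BT.node 18240 (BT.leaf c11_240) (BT.leaf c11_241)) (BT.node 18242 (BT.leaf c11_242) (BT.leaf c11_243))) (BT.node 18245 (BT.node 18244 (BT.leaf c11_244) (BT.leaf c11_245)) (BT.leaf c11_246))) (BT.node 18250 (BT.node 18248 (BT.node 18247 (BT.leaf c11_247) (BT.leaf c11_248)) (BT.node 18249 (BT.leaf c11_249) (BT.leaf c11_250))) (BT.node 18252 (BT.node 18251 (BT.leaf c11_251) (BT.leaf c11_252)) (BT.leaf c11_253))))) (BT.node 18267 (BT.node 18260 (BT.node 18257 (BT.node 18255 (BT.node 18254 (BT.leaf c11_254) (BT.leaf c11_255)) (BT.node 18256 (BT.leaf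 c11_256) (BT.leaf c11_257))) (BT.node 18259 (BT.node 18258 (BT.leaf c11_258) (BT.leaf c11_259)) (BT.leaf c11_260))) (BT.node 18264 (BT.node 18262 (BT.node 18261 (BT.leaf c11_261) (BT.leaf c11_262)) (BT.node 18263 (BT.leaf c11_263) (BT.leaf c11_264))) (BT.node 18266 (BT.node 18265 (BT.leaf c11_265) (BT.leaf c11_266)) (BT.leaf c11_267)))) (BT.node 18274 (BT.node 18271 (BT.node 18269 (BT.node 18268 (BT.leaf c11_268) (BT.leaf c11_269)) (BT.node 18270 (BT.leaf c11_270) (BT.leaf c11_271))) (BT.node 18273 (BT.node 18272 (BT.leaf c11_272) (BT.leaf c11_273)) (BT.leaf c11_274))) (BT.node 18278 (BT.node 18276 (BT.node 18275 (BT.leaf c11_275) (BT.leaf c11_276)) (BT.node 18277 (BT.leaf c11_277) (BT.leaf c11_278))) (BT.node 18280 (BT.node 18279 (BT.leaf c11_279) (BT.leaf c11_280)) (BT.leaf c11_281)))))) (BT.node 18309 (BT.node 18295 (BT.node 18288 (BT.node 18285 (BT.node 18283 (BT.node 18282 (BT.leaf c11_282) (BT.leaf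 c11_283)) (BT.node 18284 (BT.leaf c11_284) (BT.leaf c11_285))) (BT.node 18287 (BT.node 18286 (BT.leaf c11_286) (BT.leaf c11_287)) (BT.leaf c11_288))) (BT.node 18292 (BT.node 18290 (BT.node 18289 (BT.leaf c11_289) (BT.leaf c11_290)) (BT.node 18291 (BT.leaf c11_291) (BT.leaf c11_292))) (BT.node 18294 (BT.node 18293 (BT.leaf c11_293) (BT.leaf c11_294)) (BT.leaf c11_295)))) (BT.node 18302 (BT.node 18299 (BT.node 18297 (BT.node 18296 (BT.leaf c11_296) (BT.leaf c11_297)) (BT.node 18298 (BT.leaf c11_298) (BT.leaf c11_299))) (BT.node 18301 (BT.node 18300 (BT.leaf c11_300) (BT.leaf c11_301)) (BT.leaf c11_302))) (BT.node 18306 (BT.node 18304 (BT.node 18303 (BT.leaf c11_303) (BT.leaf c11_304)) (BT.node 18305 (BT.leaf c11_305) (BT.leaf c11_306))) (BT.node 18308 (BT.node 18307 (BT.leaf c11_307) (BT.leaf c11_308)) (BT.leaf c11_309))))) (BT.node 18323 (BT.node 18316 (BT.node 18313 (BT.node 18311 (BT.node 18310 (BT.leaf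 c11_310) (BT.leaf c11_311)) (BT.node 18312 (BT.leaf c11_312) (BT.leaf c11_313))) (BT.node 18315 (BT.node 18314 (BT.leaf c11_314) (BT.leaf c11_315)) (BT.leaf c11_316))) (BT.node 18320 (BT.node 18318 (BT.node 18317 (BT.leaf c11_317) (BT.leaf c11_318)) (BT.node 18319 (BT.leaf c11_319) (BT.leaf c11_320))) (BT.node 18322 (BT.node 18321 (BT.leaf c11_321) (BT.leaf c11_322)) (BT.leaf c11_323)))) (BT.node 18330 (BT.node 18327 (BT.node 18325 (BT.node 18324 (BT.leaf c11_324) (BT.leaf c11_325)) (BT.node 18326 (BT.leaf c11_326) (BT.leaf c11_327))) (BT.node 18329 (BT.node 18328 (BT.leaf c11_328) (BT.leaf c11_329)) (BT.leaf c11_330))) (BT.node 18334 (BT.node 18332 (BT.node 18331 (BT.leaf c11_331) (BT.leaf c11_332)) (BT.node 18333 (BT.leaf c11_333) (BT.leaf c11_334))) (BT.node 18336 (BT.node 18335 (BT.leaf c11_335) (BT.leaf c11_336)) (BT.leaf c11_337))))))) (BT.node 18393 (BT.node 18365 (BT.node 18351 (BT.node 18344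 (BT.node 18341 (BT.node 18339 (BT.node 18338 (BT.leaf c11_338) (BT.leaf c11_339)) (BT.node 18340 (BT.leaf c11_340) (BT.leaf c11_341))) (BT.node 18343 (BT.node 18342 (BT.leaf c11_342) (BT.leaf c11_343)) (BT.leaf c11_344))) (BT.node 18348 (BT.node 18346 (BT.node 18345 (BT.leaf c11_345) (BT.leaf c11_346)) (BT.node 18347 (BT.leaf c11_347) (BT.leaf c11_348))) (BT.node 18350 (BT.node 18349 (BT.leaf c11_349) (BT.leaf c11_350)) (BT.leaf c11_351)))) (BT.node 18358 (BT.node 18355 (BT.node 18353 (BT.node 18352 (BT.leaf c11_352) (BT.leaf c11_353)) (BT.node 18354 (BT.leaf c11_354) (BT.leaf c11_355))) (BT.node 18357 (BT.node 18356 (BT.leaf c11_356) (BT.leaf c11_357)) (BT.leaf c11_358))) (BT.node 18362 (BT.node 18360 (BT.node 18359 (BT.leaf c11_359) (BT.leaf c11_360)) (BT.node 18361 (BT.leaf c11_361) (BT.leaf c11_362))) (BT.node 18364 (BT.node 18363 (BT.leaf c11_363) (BT.leaf c11_364)) (BT.leaf c11_365))))) (BT.node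 18379 (BT.node 18372 (BT.node 18369 (BT.node 18367 (BT.node 18366 (BT.leaf c11_366) (BT.leaf c11_367)) (BT.node 18368 (BT.leaf c11_368) (BT.leaf c11_369))) (BT.node 18371 (BT.node 18370 (BT.leaf c11_370) (BT.leaf c11_371)) (BT.leaf c11_372))) (BT.node 18376 (BT.node 18374 (BT.node 18373 (BT.leaf c11_373) (BT.leaf c11_374)) (BT.node 18375 (BT.leaf c11_375) (BT.leaf c11_376))) (BT.node 18378 (BT.node 18377 (BT.leaf c11_377) (BT.leaf c11_378)) (BT.leaf c11_379)))) (BT.node 18386 (BT.node 18383 (BT.node 18381 (BT.node 18380 (BT.leaf c11_380) (BT.leaf c11_381)) (BT.node 18382 (BT.leaf c11_382) (BT.leaf c11_383))) (BT.node 18385 (BT.node 18384 (BT.leaf c11_384) (BT.leaf c11_385)) (BT.leaf c11_386))) (BT.node 18390 (BT.node 18388 (BT.node 18387 (BT.leaf c11_387) (BT.leaf c11_388)) (BT.node 18389 (BT.leaf c11_389) (BT.leaf c11_390))) (BT.node 18392 (BT.node 18391 (BT.leaf c11_391) (BT.leaf c11_392)) (BT.leaf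 c11_393)))))) (BT.node 18421 (BT.node 18407 (BT.node 18400 (BT.node 18397 (BT.node 18395 (BT.node 18394 (BT.leaf c11_394) (BT.leaf c11_395)) (BT.node 18396 (BT.leaf c11_396) (BT.leaf c11_397))) (BT.node 18399 (BT.node 18398 (BT.leaf c11_398) (BT.leaf c11_399)) (BT.leaf c11_400))) (BT.node 18404 (BT.node 18402 (BT.node 18401 (BT.leaf c11_401) (BT.leaf c11_402)) (BT.node 18403 (BT.leaf c11_403) (BT.leaf c11_404))) (BT.node 18406 (BT.node 18405 (BT.leaf c11_405) (BT.leaf c11_406)) (BT.leaf c11_407)))) (BT.node 18414 (BT.node 18411 (BT.node 18409 (BT.node 18408 (BT.leaf c11_408) (BT.leaf c11_409)) (BT.node 18410 (BT.leaf c11_410) (BT.leaf c11_411))) (BT.node 18413 (BT.node 18412 (BT.leaf c11_412) (BT.leaf c11_413)) (BT.leaf c11_414))) (BT.node 18418 (BT.node 18416 (BT.node 18415 (BT.leaf c11_415) (BT.leaf c11_416)) (BT.node 18417 (BT.leaf c11_417) (BT.leaf c11_418))) (BT.node 18420 (BT.node 18419 (BT.leaf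 c11_419) (BT.leaf c11_420)) (BT.leaf c11_421))))) (BT.node 18435 (BT.node 18428 (BT.node 18425 (BT.node 18423 (BT.node 18422 (BT.leaf c11_422) (BT.leaf c11_423)) (BT.node 18424 (BT.leaf c11_424) (BT.leaf c11_425))) (BT.node 18427 (BT.node 18426 (BT.leaf c11_426) (BT.leaf c11_427)) (BT.leaf c11_428))) (BT.node 18432 (BT.node 18430 (BT.node 18429 (BT.leaf c11_429) (BT.leaf c11_430)) (BT.node 18431 (BT.leaf c11_431) (BT.leaf c11_432))) (BT.node 18434 (BT.node 18433 (BT.leaf c11_433) (BT.leaf c11_434)) (BT.leaf c11_435)))) (BT.node 18442 (BT.node 18439 (BT.node 18437 (BT.node 18436 (BT.leaf c11_436) (BT.leaf c11_437)) (BT.node 18438 (BT.leaf c11_438) (BT.leaf c11_439))) (BT.node 18441 (BT.node 18440 (BT.leaf c11_440) (BT.leaf c11_441)) (BT.leaf c11_442))) (BT.node 18446 (BT.node 18444 (BT.node 18443 (BT.leaf c11_443) (BT.leaf c11_444)) (BT.node 18445 (BT.leaf c11_445) (BT.leaf c11_446))) (BT.node 18448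 (BT.node 18447 (BT.leaf c11_447) (BT.leaf c11_448)) (BT.leaf c11_449))))))))) (BT.node 18674 (BT.node 18562 (BT.node 18506 (BT.node 18478 (BT.node 18464 (BT.node 18457 (BT.node 18453 (BT.node 18451 (BT.node 18450 (BT.leaf c11_450) (BT.leaf c11_451)) (BT.node 18452 (BT.leaf c11_452) (BT.leaf c11_453))) (BT.node 18455 (BT.node 18454 (BT.leaf c11_454) (BT.leaf c11_455)) (BT.node 18456 (BT.leaf c11_456) (BT.leaf c11_457)))) (BT.node 18461 (BT.node 18459 (BT.node 18458 (BT.leaf c11_458) (BT.leaf c11_459)) (BT.node 18460 (BT.leaf c11_460) (BT.leaf c11_461))) (BT.node 18463 (BT.node 18462 (BT.leaf c11_462) (BT.leaf c11_463)) (BT.leaf c11_464)))) (BT.node 18471 (BT.node 18468 (BT.node 18466 (BT.node 18465 (BT.leaf c11_465) (BT.leaf c11_466)) (BT.node 18467 (BT.leaf c11_467) (BT.leaf c11_468))) (BT.node 18470 (BT.node 18469 (BT.leaf c11_469) (BT.leaf c11_470)) (BT.leaf c11_471))) (BT.node 18475 (BT.node 18473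 (BT.node 18472 (BT.leaf c11_472) (BT.leaf c11_473)) (BT.node 18474 (BT.leaf c11_474) (BT.leaf c11_475))) (BT.node 18477 (BT.node 18476 (BT.leaf c11_476) (BT.leaf c11_477)) (BT.leaf c11_478))))) (BT.node 18492 (BT.node 18485 (BT.node 18482 (BT.node 18480 (BT.node 18479 (BT.leaf c11_479) (BT.leaf c11_480)) (BT.node 18481 (BT.leaf c11_481) (BT.leaf c11_482))) (BT.node 18484 (BT.node 18483 (BT.leaf c11_483) (BT.leaf c11_484)) (BT.leaf c11_485))) (BT.node 18489 (BT.node 18487 (BT.node 18486 (BT.leaf c11_486) (BT.leaf c11_487)) (BT.node 18488 (BT.leaf c11_488) (BT.leaf c11_489))) (BT.node 18491 (BT.node 18490 (BT.leaf c11_490) (BT.leaf c11_491)) (BT.leaf c11_492)))) (BT.node 18499 (BT.node 18496 (BT.node 18494 (BT.node 18493 (BT.leaf c11_493) (BT.leaf c11_494)) (BT.node 18495 (BT.leaf c11_495) (BT.leaf c11_496))) (BT.node 18498 (BT.node 18497 (BT.leaf c11_497) (BT.leaf c11_498)) (BT.leaf c11_499))) (BT.node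 18503 (BT.node 18501 (BT.node 18500 (BT.leaf c11_500) (BT.leaf c11_501)) (BT.node 18502 (BT.leaf c11_502) (BT.leaf c11_503))) (BT.node 18505 (BT.node 18504 (BT.leaf c11_504) (BT.leaf c11_505)) (BT.leaf c11_506)))))) (BT.node 18534 (BT.node 18520 (BT.node 18513 (BT.node 18510 (BT.node 18508 (BT.node 18507 (BT.leaf c11_507) (BT.leaf c11_508)) (BT.node 18509 (BT.leaf c11_509) (BT.leaf c11_510))) (BT.node 18512 (BT.node 18511 (BT.leaf c11_511) (BT.leaf c11_512)) (BT.leaf c11_513))) (BT.node 18517 (BT.node 18515 (BT.node 18514 (BT.leaf c11_514) (BT.leaf c11_515)) (BT.node 18516 (BT.leaf c11_516) (BT.leaf c11_517))) (BT.node 18519 (BT.node 18518 (BT.leaf c11_518) (BT.leaf c11_519)) (BT.leaf c11_520)))) (BT.node 18527 (BT.node 18524 (BT.node 18522 (BT.node 18521 (BT.leaf c11_521) (BT.leaf c11_522)) (BT.node 18523 (BT.leaf c11_523) (BT.leaf c11_524))) (BT.node 18526 (BT.node 18525 (BT.leaf c11_525) (BT.leaf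 c11_526)) (BT.leaf c11_527))) (BT.node 18531 (BT.node 18529 (BT.node 18528 (BT.leaf c11_528) (BT.leaf c11_529)) (BT.node 18530 (BT.leaf c11_530) (BT.leaf c11_531))) (BT.node 18533 (BT.node 18532 (BT.leaf c11_532) (BT.leaf c11_533)) (BT.leaf c11_534))))) (BT.node 18548 (BT.node 18541 (BT.node 18538 (BT.node 18536 (BT.node 18535 (BT.leaf c11_535) (BT.leaf c11_536)) (BT.node 18537 (BT.leaf c11_537) (BT.leaf c11_538))) (BT.node 18540 (BT.node 18539 (BT.leaf c11_539) (BT.leaf c11_540)) (BT.leaf c11_541))) (BT.node 18545 (BT.node 18543 (BT.node 18542 (BT.leaf c11_542) (BT.leaf c11_543)) (BT.node 18544 (BT.leaf c11_544) (BT.leaf c11_545))) (BT.node 18547 (BT.node 18546 (BT.leaf c11_546) (BT.leaf c11_547)) (BT.leaf c11_548)))) (BT.node 18555 (BT.node 18552 (BT.node 18550 (BT.node 18549 (BT.leaf c11_549) (BT.leaf c11_550)) (BT.node 18551 (BT.leaf c11_551) (BT.leaf c11_552))) (BT.node 18554 (BT.node 18553 (BT.leaf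 c11_553) (BT.leaf c11_554)) (BT.leaf c11_555))) (BT.node 18559 (BT.node 18557 (BT.node 18556 (BT.leaf c11_556) (BT.leaf c11_557)) (BT.node 18558 (BT.leaf c11_558) (BT.leaf c11_559))) (BT.node 18561 (BT.node 18560 (BT.leaf c11_560) (BT.leaf c11_561)) (BT.leaf c11_562))))))) (BT.node 18618 (BT.node 18590 (BT.node 18576 (BT.node 18569 (BT.node 18566 (BT.node 18564 (BT.node 18563 (BT.leaf c11_563) (BT.leaf c11_564)) (BT.node 18565 (BT.leaf c11_565) (BT.leaf c11_566))) (BT.node 18568 (BT.node 18567 (BT.leaf c11_567) (BT.leaf c11_568)) (BT.leaf c11_569))) (BT.node 18573 (BT.node 18571 (BT.node 18570 (BT.leaf c11_570) (BT.leaf c11_571)) (BT.node 18572 (BT.leaf c11_572) (BT.leaf c11_573))) (BT.node 18575 (BT.node 18574 (BT.leaf c11_574) (BT.leaf c11_575)) (BT.leaf c11_576)))) (BT.node 18583 (BT.node 18580 (BT.node 18578 (BT.node 18577 (BT.leaf c11_577) (BT.leaf c11_578)) (BT.node 18579 (BT.leaf c11_579) (BT.leaf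 c11_580))) (BT.node 18582 (BT.node 18581 (BT.leaf c11_581) (BT.leaf c11_582)) (BT.leaf c11_583))) (BT.node 18587 (BT.node 18585 (BT.node 18584 (BT.leaf c11_584) (BT.leaf c11_585)) (BT.node 18586 (BT.leaf c11_586) (BT.leaf c11_587))) (BT.node 18589 (BT.node 18588 (BT.leaf c11_588) (BT.leaf c11_589)) (BT.leaf c11_590))))) (BT.node 18604 (BT.node 18597 (BT.node 18594 (BT.node 18592 (BT.node 18591 (BT.leaf c11_591) (BT.leaf c11_592)) (BT.node 18593 (BT.leaf c11_593) (BT.leaf c11_594))) (BT.node 18596 (BT.node 18595 (BT.leaf c11_595) (BT.leaf c11_596)) (BT.leaf c11_597))) (BT.node 18601 (BT.node 18599 (BT.node 18598 (BT.leaf c11_598) (BT.leaf c11_599)) (BT.node 18600 (BT.leaf c11_600) (BT.leaf c11_601))) (BT.node 18603 (BT.node 18602 (BT.leaf c11_602) (BT.leaf c11_603)) (BT.leaf c11_604)))) (BT.node 18611 (BT.node 18608 (BT.node 18606 (BT.node 18605 (BT.leaf c11_605) (BT.leaf c11_606)) (BT.node 18607 (BT.leaf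 c11_607) (BT.leaf c11_608))) (BT.node 18610 (BT.node 18609 (BT.leaf c11_609) (BT.leaf c11_610)) (BT.leaf c11_611))) (BT.node 18615 (BT.node 18613 (BT.node 18612 (BT.leaf c11_612) (BT.leaf c11_613)) (BT.node 18614 (BT.leaf c11_614) (BT.leaf c11_615))) (BT.node 18617 (BT.node 18616 (BT.leaf c11_616) (BT.leaf c11_617)) (BT.leaf c11_618)))))) (BT.node 18646 (BT.node 18632 (BT.node 18625 (BT.node 18622 (BT.node 18620 (BT.node 18619 (BT.leaf c11_619) (BT.leaf c11_620)) (BT.node 18621 (BT.leaf c11_621) (BT.leaf c11_622))) (BT.node 18624 (BT.node 18623 (BT.leaf c11_623) (BT.leaf c11_624)) (BT.leaf c11_625))) (BT.node 18629 (BT.node 18627 (BT.node 18626 (BT.leaf c11_626) (BT.leaf c11_627)) (BT.node 18628 (BT.leaf c11_628) (BT.leaf c11_629))) (BT.node 18631 (BT.node 18630 (BT.leaf c11_630) (BT.leaf c11_631)) (BT.leaf c11_632)))) (BT.node 18639 (BT.node 18636 (BT.node 18634 (BT.node 18633 (BT.leaf c11_633) (BT.leaf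 c11_634)) (BT.node 18635 (BT.leaf c11_635) (BT.leaf c11_636))) (BT.node 18638 (BT.node 18637 (BT.leaf c11_637) (BT.leaf c11_638)) (BT.leaf c11_639))) (BT.node 18643 (BT.node 18641 (BT.node 18640 (BT.leaf c11_640) (BT.leaf c11_641)) (BT.node 18642 (BT.leaf c11_642) (BT.leaf c11_643))) (BT.node 18645 (BT.node 18644 (BT.leaf c11_644) (BT.leaf c11_645)) (BT.leaf c11_646))))) (BT.node 18660 (BT.node 18653 (BT.node 18650 (BT.node 18648 (BT.node 18647 (BT.leaf c11_647) (BT.leaf c11_648)) (BT.node 18649 (BT.leaf c11_649) (BT.leaf c11_650))) (BT.node 18652 (BT.node 18651 (BT.leaf c11_651) (BT.leaf c11_652)) (BT.leaf c11_653))) (BT.node 18657 (BT.node 18655 (BT.node 18654 (BT.leaf c11_654) (BT.leaf c11_655)) (BT.node 18656 (BT.leaf c11_656) (BT.leaf c11_657))) (BT.node 18659 (BT.node 18658 (BT.leaf c11_658) (BT.leaf c11_659)) (BT.leaf c11_660)))) (BT.node 18667 (BT.node 18664 (BT.node 18662 (BT.node 18661 (BT.leaf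 c11_661) (BT.leaf c11_662)) (BT.node 18663 (BT.leaf c11_663) (BT.leaf c11_664))) (BT.node 18666 (BT.node 18665 (BT.leaf c11_665) (BT.leaf c11_666)) (BT.leaf c11_667))) (BT.node 18671 (BT.node 18669 (BT.node 18668 (BT.leaf c11_668) (BT.leaf c11_669)) (BT.node 18670 (BT.leaf c11_670) (BT.leaf c11_671))) (BT.node 18673 (BT.node 18672 (BT.leaf c11_672) (BT.leaf c11_673)) (BT.leaf c11_674)))))))) (BT.node 18787 (BT.node 18731 (BT.node 18703 (BT.node 18689 (BT.node 18682 (BT.node 18678 (BT.node 18676 (BT.node 18675 (BT.leaf c11_675) (BT.leaf c11_676)) (BT.node 18677 (BT.leaf c11_677) (BT.leaf c11_678))) (BT.node 18680 (BT.node 18679 (BT.leaf c11_679) (BT.leaf c11_680)) (BT.node 18681 (BT.leaf c11_681) (BT.leaf c11_682)))) (BT.node 18686 (BT.node 18684 (BT.node 18683 (BT.leaf c11_683) (BT.leaf c11_684)) (BT.node 18685 (BT.leaf c11_685) (BT.leaf c11_686))) (BT.node 18688 (BT.node 18687 (BT.leaf c11_687) (BT.leaf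 c11_688)) (BT.leaf c11_689)))) (BT.node 18696 (BT.node 18693 (BT.node 18691 (BT.node 18690 (BT.leaf c11_690) (BT.leaf c11_691)) (BT.node 18692 (BT.leaf c11_692) (BT.leaf c11_693))) (BT.node 18695 (BT.node 18694 (BT.leaf c11_694) (BT.leaf c11_695)) (BT.leaf c11_696))) (BT.node 18700 (BT.node 18698 (BT.node 18697 (BT.leaf c11_697) (BT.leaf c11_698)) (BT.node 18699 (BT.leaf c11_699) (BT.leaf c11_700))) (BT.node 18702 (BT.node 18701 (BT.leaf c11_701) (BT.leaf c11_702)) (BT.leaf c11_703))))) (BT.node 18717 (BT.node 18710 (BT.node 18707 (BT.node 18705 (BT.node 18704 (BT.leaf c11_704) (BT.leaf c11_705)) (BT.node 18706 (BT.leaf c11_706) (BT.leaf c11_707))) (BT.node 18709 (BT.node 18708 (BT.leaf c11_708) (BT.leaf c11_709)) (BT.leaf c11_710))) (BT.node 18714 (BT.node 18712 (BT.node 18711 (BT.leaf c11_711) (BT.leaf c11_712)) (BT.node 18713 (BT.leaf c11_713) (BT.leaf c11_714))) (BT.node 18716 (BT.node 18715 (BT.leaf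 c11_715) (BT.leaf c11_716)) (BT.leaf c11_717)))) (BT.node 18724 (BT.node 18721 (BT.node 18719 (BT.node 18718 (BT.leaf c11_718) (BT.leaf c11_719)) (BT.node 18720 (BT.leaf c11_720) (BT.leaf c11_721))) (BT.node 18723 (BT.node 18722 (BT.leaf c11_722) (BT.leaf c11_723)) (BT.leaf c11_724))) (BT.node 18728 (BT.node 18726 (BT.node 18725 (BT.leaf c11_725) (BT.leaf c11_726)) (BT.node 18727 (BT.leaf c11_727) (BT.leaf c11_728))) (BT.node 18730 (BT.node 18729 (BT.leaf c11_729) (BT.leaf c11_730)) (BT.leaf c11_731)))))) (BT.node 18759 (BT.node 18745 (BT.node 18738 (BT.node 18735 (BT.node 18733 (BT.node 18732 (BT.leaf c11_732) (BT.leaf c11_733)) (BT.node 18734 (BT.leaf c11_734) (BT.leaf c11_735))) (BT.node 18737 (BT.node 18736 (BT.leaf c11_736) (BT.leaf c11_737)) (BT.leaf c11_738))) (BT.node 18742 (BT.node 18740 (BT.node 18739 (BT.leaf c11_739) (BT.leaf c11_740)) (BT.node 18741 (BT.leaf c11_741) (BT.leaf c11_742)))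 (BT.node 18744 (BT.node 18743 (BT.leaf c11_743) (BT.leaf c11_744)) (BT.leaf c11_745)))) (BT.node 18752 (BT.node 18749 (BT.node 18747 (BT.node 18746 (BT.leaf c11_746) (BT.leaf c11_747)) (BT.node 18748 (BT.leaf c11_748) (BT.leaf c11_749))) (BT.node 18751 (BT.node 18750 (BT.leaf c11_750) (BT.leaf c11_751)) (BT.leaf c11_752))) (BT.node 18756 (BT.node 18754 (BT.node 18753 (BT.leaf c11_753) (BT.leaf c11_754)) (BT.node 18755 (BT.leaf c11_755) (BT.leaf c11_756))) (BT.node 18758 (BT.node 18757 (BT.leaf c11_757) (BT.leaf c11_758)) (BT.leaf c11_759))))) (BT.node 18773 (BT.node 18766 (BT.node 18763 (BT.node 18761 (BT.node 18760 (BT.leaf c11_760) (BT.leaf c11_761)) (BT.node 18762 (BT.leaf c11_762) (BT.leaf c11_763))) (BT.node 18765 (BT.node 18764 (BT.leaf c11_764) (BT.leaf c11_765)) (BT.leaf c11_766))) (BT.node 18770 (BT.node 18768 (BT.node 18767 (BT.leaf c11_767) (BT.leaf c11_768)) (BT.node 18769 (BT.leaf c11_769)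 (BT.leaf c11_770))) (BT.node 18772 (BT.node 18771 (BT.leaf c11_771) (BT.leaf c11_772)) (BT.leaf c11_773)))) (BT.node 18780 (BT.node 18777 (BT.node 18775 (BT.node 18774 (BT.leaf c11_774) (BT.leaf c11_775)) (BT.node 18776 (BT.leaf c11_776) (BT.leaf c11_777))) (BT.node 18779 (BT.node 18778 (BT.leaf c11_778) (BT.leaf c11_779)) (BT.leaf c11_780))) (BT.node 18784 (BT.node 18782 (BT.node 18781 (BT.leaf c11_781) (BT.leaf c11_782)) (BT.node 18783 (BT.leaf c11_783) (BT.leaf c11_784))) (BT.node 18786 (BT.node 18785 (BT.leaf c11_785) (BT.leaf c11_786)) (BT.leaf c11_787))))))) (BT.node 18843 (BT.node 18815 (BT.node 18801 (BT.node 18794 (BT.node 18791 (BT.node 18789 (BT.node 18788 (BT.leaf c11_788) (BT.leaf c11_789)) (BT.node 18790 (BT.leaf c11_790) (BT.leaf c11_791))) (BT.node 18793 (BT.node 18792 (BT.leaf c11_792) (BT.leaf c11_793)) (BT.leaf c11_794))) (BT.node 18798 (BT.node 18796 (BT.node 18795 (BT.leaf c11_795)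 (BT.leaf c11_796)) (BT.node 18797 (BT.leaf c11_797) (BT.leaf c11_798))) (BT.node 18800 (BT.node 18799 (BT.leaf c11_799) (BT.leaf c11_800)) (BT.leaf c11_801)))) (BT.node 18808 (BT.node 18805 (BT.node 18803 (BT.node 18802 (BT.leaf c11_802) (BT.leaf c11_803)) (BT.node 18804 (BT.leaf c11_804) (BT.leaf c11_805))) (BT.node 18807 (BT.node 18806 (BT.leaf c11_806) (BT.leaf c11_807)) (BT.leaf c11_808))) (BT.node 18812 (BT.node 18810 (BT.node 18809 (BT.leaf c11_809) (BT.leaf c11_810)) (BT.node 18811 (BT.leaf c11_811) (BT.leaf c11_812))) (BT.node 18814 (BT.node 18813 (BT.leaf c11_813) (BT.leaf c11_814)) (BT.leaf c11_815))))) (BT.node 18829 (BT.node 18822 (BT.node 18819 (BT.node 18817 (BT.node 18816 (BT.leaf c11_816) (BT.leaf c11_817)) (BT.node 18818 (BT.leaf c11_818) (BT.leaf c11_819))) (BT.node 18821 (BT.node 18820 (BT.leaf c11_820) (BT.leaf c11_821)) (BT.leaf c11_822))) (BT.node 18826 (BT.node 18824 (BT.node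 18823 (BT.leaf c11_823) (BT.leaf c11_824)) (BT.node 18825 (BT.leaf c11_825) (BT.leaf c11_826))) (BT.node 18828 (BT.node 18827 (BT.leaf c11_827) (BT.leaf c11_828)) (BT.leaf c11_829)))) (BT.node 18836 (BT.node 18833 (BT.node 18831 (BT.node 18830 (BT.leaf c11_830) (BT.leaf c11_831)) (BT.node 18832 (BT.leaf c11_832) (BT.leaf c11_833))) (BT.node 18835 (BT.node 18834 (BT.leaf c11_834) (BT.leaf c11_835)) (BT.leaf c11_836))) (BT.node 18840 (BT.node 18838 (BT.node 18837 (BT.leaf c11_837) (BT.leaf c11_838)) (BT.node 18839 (BT.leaf c11_839) (BT.leaf c11_840))) (BT.node 18842 (BT.node 18841 (BT.leaf c11_841) (BT.leaf c11_842)) (BT.leaf c11_843)))))) (BT.node 18871 (BT.node 18857 (BT.node 18850 (BT.node 18847 (BT.node 18845 (BT.node 18844 (BT.leaf c11_844) (BT.leaf c11_845)) (BT.node 18846 (BT.leaf c11_846) (BT.leaf c11_847))) (BT.node 18849 (BT.node 18848 (BT.leaf c11_848) (BT.leaf c11_849)) (BT.leaf c11_850)))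 (BT.node 18854 (BT.node 18852 (BT.node 18851 (BT.leaf c11_851) (BT.leaf c11_852)) (BT.node 18853 (BT.leaf c11_853) (BT.leaf c11_854))) (BT.node 18856 (BT.node 18855 (BT.leaf c11_855) (BT.leaf c11_856)) (BT.leaf c11_857)))) (BT.node 18864 (BT.node 18861 (BT.node 18859 (BT.node 18858 (BT.leaf c11_858) (BT.leaf c11_859)) (BT.node 18860 (BT.leaf c11_860) (BT.leaf c11_861))) (BT.node 18863 (BT.node 18862 (BT.leaf c11_862) (BT.leaf c11_863)) (BT.leaf c11_864))) (BT.node 18868 (BT.node 18866 (BT.node 18865 (BT.leaf c11_865) (BT.leaf c11_866)) (BT.node 18867 (BT.leaf c11_867) (BT.leaf c11_868))) (BT.node 18870 (BT.node 18869 (BT.leaf c11_869) (BT.leaf c11_870)) (BT.leaf c11_871))))) (BT.node 18885 (BT.node 18878 (BT.node 18875 (BT.node 18873 (BT.node 18872 (BT.leaf c11_872) (BT.leaf c11_873)) (BT.node 18874 (BT.leaf c11_874) (BT.leaf c11_875))) (BT.node 18877 (BT.node 18876 (BT.leaf c11_876) (BT.leaf c11_877))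 (BT.leaf c11_878))) (BT.node 18882 (BT.node 18880 (BT.node 18879 (BT.leaf c11_879) (BT.leaf c11_880)) (BT.node 18881 (BT.leaf c11_881) (BT.leaf c11_882))) (BT.node 18884 (BT.node 18883 (BT.leaf c11_883) (BT.leaf c11_884)) (BT.leaf c11_885)))) (BT.node 18892 (BT.node 18889 (BT.node 18887 (BT.node 18886 (BT.leaf c11_886) (BT.leaf c11_887)) (BT.node 18888 (BT.leaf c11_888) (BT.leaf c11_889))) (BT.node 18891 (BT.node 18890 (BT.leaf c11_890) (BT.leaf c11_891)) (BT.leaf c11_892))) (BT.node 18896 (BT.node 18894 (BT.node 18893 (BT.leaf c11_893) (BT.leaf c11_894)) (BT.node 18895 (BT.leaf c11_895) (BT.leaf c11_896))) (BT.node 18898 (BT.node 18897 (BT.leaf c11_897) (BT.leaf c11_898)) (BT.leaf c11_899))))))))))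
/-- the chunks of the letter 21 -/
def colL_21 : BT ℕ := (BT.node 19349 (BT.node 19124 (BT.node 19012 (BT.node 18956 (BT.node 18928 (BT.node 18914 (BT.node 18907 (BT.node 18903 (BT.node 18901 (BT.node 18900 (BT.leaf c11_0) (BT.leaf c11_1)) (BT.node 18902 (BT.leaf c11_2) (BT.leaf c11_3))) (BT.node 18905 (BT.node 18904 (BT.leaf c11_4) (BT.leaf c11_5)) (BT.node 18906 (BT.leaf c11_6) (BT.leaf c11_7)))) (BT.node 18911 (BT.node 18909 (BT.node 18908 (BT.leaf c11_8) (BT.leaf c11_9)) (BT.node 18910 (BT.leaf c11_10) (BT.leaf c11_11))) (BT.node 18913 (BT.node 18912 (BT.leaf c11_12) (BT.leaf c11_13)) (BT.leaf c11_14)))) (BT.node 18921 (BT.node 18918 (BT.node 18916 (BT.node 18915 (BT.leaf c11_15) (BT.leaf c11_16)) (BT.node 18917 (BT.leaf c11_17) (BT.leaf c11_18))) (BT.node 18920 (BT.node 18919 (BT.leaf c11_19) (BT.leaf c11_20)) (BT.leaf c11_21))) (BT.node 18925 (BT.node 18923 (BT.node 18922 (BT.leaf c11_22) (BT.leaf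 c11_23)) (BT.node 18924 (BT.leaf c11_24) (BT.leaf c11_25))) (BT.node 18927 (BT.node 18926 (BT.leaf c11_26) (BT.leaf c11_27)) (BT.leaf c11_28))))) (BT.node 18942 (BT.node 18935 (BT.node 18932 (BT.node 18930 (BT.node 18929 (BT.leaf c11_29) (BT.leaf c11_30)) (BT.node 18931 (BT.leaf c11_31) (BT.leaf c11_32))) (BT.node 18934 (BT.node 18933 (BT.leaf c11_33) (BT.leaf c11_34)) (BT.leaf c11_35))) (BT.node 18939 (BT.node 18937 (BT.node 18936 (BT.leaf c11_36) (BT.leaf c11_37)) (BT.node 18938 (BT.leaf c11_38) (BT.leaf c11_39))) (BT.node 18941 (BT.node 18940 (BT.leaf c11_40) (BT.leaf c11_41)) (BT.leaf c11_42)))) (BT.node 18949 (BT.node 18946 (BT.node 18944 (BT.node 18943 (BT.leaf c11_43) (BT.leaf c11_44)) (BT.node 18945 (BT.leaf c11_45) (BT.leaf c11_46))) (BT.node 18948 (BT.node 18947 (BT.leaf c11_47) (BT.leaf c11_48)) (BT.leaf c11_49))) (BT.node 18953 (BT.node 18951 (BT.node 18950 (BT.leaf c11_50) (BT.leaf c11_51))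 (BT.node 18952 (BT.leaf c11_52) (BT.leaf c11_53))) (BT.node 18955 (BT.node 18954 (BT.leaf c11_54) (BT.leaf c11_55)) (BT.leaf c11_56)))))) (BT.node 18984 (BT.node 18970 (BT.node 18963 (BT.node 18960 (BT.node 18958 (BT.node 18957 (BT.leaf c11_57) (BT.leaf c11_58)) (BT.node 18959 (BT.leaf c11_59) (BT.leaf c11_60))) (BT.node 18962 (BT.node 18961 (BT.leaf c11_61) (BT.leaf c11_62)) (BT.leaf c11_63))) (BT.node 18967 (BT.node 18965 (BT.node 18964 (BT.leaf c11_64) (BT.leaf c11_65)) (BT.node 18966 (BT.leaf c11_66) (BT.leaf c11_67))) (BT.node 18969 (BT.node 18968 (BT.leaf c11_68) (BT.leaf c11_69)) (BT.leaf c11_70)))) (BT.node 18977 (BT.node 18974 (BT.node 18972 (BT.node 18971 (BT.leaf c11_71) (BT.leaf c11_72)) (BT.node 18973 (BT.leaf c11_73) (BT.leaf c11_74))) (BT.node 18976 (BT.node 18975 (BT.leaf c11_75) (BT.leaf c11_76)) (BT.leaf c11_77))) (BT.node 18981 (BT.node 18979 (BT.node 18978 (BT.leaf c11_78) (BT.leaf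 c11_79)) (BT.node 18980 (BT.leaf c11_80) (BT.leaf c11_81))) (BT.node 18983 (BT.node 18982 (BT.leaf c11_82) (BT.leaf c11_83)) (BT.leaf c11_84))))) (BT.node 18998 (BT.node 18991 (BT.node 18988 (BT.node 18986 (BT.node 18985 (BT.leaf c11_85) (BT.leaf c11_86)) (BT.node 18987 (BT.leaf c11_87) (BT.leaf c11_88))) (BT.node 18990 (BT.node 18989 (BT.leaf c11_89) (BT.leaf c11_90)) (BT.leaf c11_91))) (BT.node 18995 (BT.node 18993 (BT.node 18992 (BT.leaf c11_92) (BT.leaf c11_93)) (BT.node 18994 (BT.leaf c11_94) (BT.leaf c11_95))) (BT.node 18997 (BT.node 18996 (BT.leaf c11_96) (BT.leaf c11_97)) (BT.leaf c11_98)))) (BT.node 19005 (BT.node 19002 (BT.node 19000 (BT.node 18999 (BT.leaf c11_99) (BT.leaf c11_100)) (BT.node 19001 (BT.leaf c11_101) (BT.leaf c11_102))) (BT.node 19004 (BT.node 19003 (BT.leaf c11_103) (BT.leaf c11_104)) (BT.leaf c11_105))) (BT.node 19009 (BT.node 19007 (BT.node 19006 (BT.leaf c11_106) (BT.leaf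 c11_107)) (BT.node 19008 (BT.leaf c11_108) (BT.leaf c11_109))) (BT.node 19011 (BT.node 19010 (BT.leaf c11_110) (BT.leaf c11_111)) (BT.leaf c11_112))))))) (BT.node 19068 (BT.node 19040 (BT.node 19026 (BT.node 19019 (BT.node 19016 (BT.node 19014 (BT.node 19013 (BT.leaf c11_113) (BT.leaf c11_114)) (BT.node 19015 (BT.leaf c11_115) (BT.leaf c11_116))) (BT.node 19018 (BT.node 19017 (BT.leaf c11_117) (BT.leaf c11_118)) (BT.leaf c11_119))) (BT.node 19023 (BT.node 19021 (BT.node 19020 (BT.leaf c11_120) (BT.leaf c11_121)) (BT.node 19022 (BT.leaf c11_122) (BT.leaf c11_123))) (BT.node 19025 (BT.node 19024 (BT.leaf c11_124) (BT.leaf c11_125)) (BT.leaf c11_126)))) (BT.node 19033 (BT.node 19030 (BT.node 19028 (BT.node 19027 (BT.leaf c11_127) (BT.leaf c11_128)) (BT.node 19029 (BT.leaf c11_129) (BT.leaf c11_130))) (BT.node 19032 (BT.node 19031 (BT.leaf c11_131) (BT.leaf c11_132)) (BT.leaf c11_133))) (BT.node 19037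 (BT.node 19035 (BT.node 19034 (BT.leaf c11_134) (BT.leaf c11_135)) (BT.node 19036 (BT.leaf c11_136) (BT.leaf c11_137))) (BT.node 19039 (BT.node 19038 (BT.leaf c11_138) (BT.leaf c11_139)) (BT.leaf c11_140))))) (BT.node 19054 (BT.node 19047 (BT.node 19044 (BT.node 19042 (BT.node 19041 (BT.leaf c11_141) (BT.leaf c11_142)) (BT.node 19043 (BT.leaf c11_143) (BT.leaf c11_144))) (BT.node 19046 (BT.node 19045 (BT.leaf c11_145) (BT.leaf c11_146)) (BT.leaf c11_147))) (BT.node 19051 (BT.node 19049 (BT.node 19048 (BT.leaf c11_148) (BT.leaf c11_149)) (BT.node 19050 (BT.leaf c11_150) (BT.leaf c11_151))) (BT.node 19053 (BT.node 19052 (BT.leaf c11_152) (BT.leaf c11_153)) (BT.leaf c11_154)))) (BT.node 19061 (BT.node 19058 (BT.node 19056 (BT.node 19055 (BT.leaf c11_155) (BT.leaf c11_156)) (BT.node 19057 (BT.leaf c11_157) (BT.leaf c11_158))) (BT.node 19060 (BT.node 19059 (BT.leaf c11_159) (BT.leaf c11_160)) (BT.leaf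 c11_161))) (BT.node 19065 (BT.node 19063 (BT.node 19062 (BT.leaf c11_162) (BT.leaf c11_163)) (BT.node 19064 (BT.leaf c11_164) (BT.leaf c11_165))) (BT.node 19067 (BT.node 19066 (BT.leaf c11_166) (BT.leaf c11_167)) (BT.leaf c11_168)))))) (BT.node 19096 (BT.node 19082 (BT.node 19075 (BT.node 19072 (BT.node 19070 (BT.node 19069 (BT.leaf c11_169) (BT.leaf c11_170)) (BT.node 19071 (BT.leaf c11_171) (BT.leaf c11_172))) (BT.node 19074 (BT.node 19073 (BT.leaf c11_173) (BT.leaf c11_174)) (BT.leaf c11_175))) (BT.node 19079 (BT.node 19077 (BT.node 19076 (BT.leaf c11_176) (BT.leaf c11_177)) (BT.node 19078 (BT.leaf c11_178) (BT.leaf c11_179))) (BT.node 19081 (BT.node 19080 (BT.leaf c11_180) (BT.leaf c11_181)) (BT.leaf c11_182)))) (BT.node 19089 (BT.node 19086 (BT.node 19084 (BT.node 19083 (BT.leaf c11_183) (BT.leaf c11_184)) (BT.node 19085 (BT.leaf c11_185) (BT.leaf c11_186))) (BT.node 19088 (BT.node 19087 (BT.leaf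 c11_187) (BT.leaf c11_188)) (BT.leaf c11_189))) (BT.node 19093 (BT.node 19091 (BT.node 19090 (BT.leaf c11_190) (BT.leaf c11_191)) (BT.node 19092 (BT.leaf c11_192) (BT.leaf c11_193))) (BT.node 19095 (BT.node 19094 (BT.leaf c11_194) (BT.leaf c11_195)) (BT.leaf c11_196))))) (BT.node 19110 (BT.node 19103 (BT.node 19100 (BT.node 19098 (BT.node 19097 (BT.leaf c11_197) (BT.leaf c11_198)) (BT.node 19099 (BT.leaf c11_199) (BT.leaf c11_200))) (BT.node 19102 (BT.node 19101 (BT.leaf c11_201) (BT.leaf c11_202)) (BT.leaf c11_203))) (BT.node 19107 (BT.node 19105 (BT.node 19104 (BT.leaf c11_204) (BT.leaf c11_205)) (BT.node 19106 (BT.leaf c11_206) (BT.leaf c11_207))) (BT.node 19109 (BT.node 19108 (BT.leaf c11_208) (BT.leaf c11_209)) (BT.leaf c11_210)))) (BT.node 19117 (BT.node 19114 (BT.node 19112 (BT.node 19111 (BT.leaf c11_211) (BT.leaf c11_212)) (BT.node 19113 (BT.leaf c11_213) (BT.leaf c11_214))) (BT.node 19116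 (BT.node 19115 (BT.leaf c11_215) (BT.leaf c11_216)) (BT.leaf c11_217))) (BT.node 19121 (BT.node 19119 (BT.node 19118 (BT.leaf c11_218) (BT.leaf c11_219)) (BT.node 19120 (BT.leaf c11_220) (BT.leaf c11_221))) (BT.node 19123 (BT.node 19122 (BT.leaf c11_222) (BT.leaf c11_223)) (BT.leaf c11_224)))))))) (BT.node 19237 (BT.node 19181 (BT.node 19153 (BT.node 19139 (BT.node 19132 (BT.node 19128 (BT.node 19126 (BT.node 19125 (BT.leaf c11_225) (BT.leaf c11_226)) (BT.node 19127 (BT.leaf c11_227) (BT.leaf c11_228))) (BT.node 19130 (BT.node 19129 (BT.leaf c11_229) (BT.leaf c11_230)) (BT.node 19131 (BT.leaf c11_231) (BT.leaf c11_232)))) (BT.node 19136 (BT.node 19134 (BT.node 19133 (BT.leaf c11_233) (BT.leaf c11_234)) (BT.node 19135 (BT.leaf c11_235) (BT.leaf c11_236))) (BT.node 19138 (BT.node 19137 (BT.leaf c11_237) (BT.leaf c11_238)) (BT.leaf c11_239)))) (BT.node 19146 (BT.node 19143 (BT.node 19141 (BT.node 19140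 (BT.leaf c11_240) (BT.leaf c11_241)) (BT.node 19142 (BT.leaf c11_242) (BT.leaf c11_243))) (BT.node 19145 (BT.node 19144 (BT.leaf c11_244) (BT.leaf c11_245)) (BT.leaf c11_246))) (BT.node 19150 (BT.node 19148 (BT.node 19147 (BT.leaf c11_247) (BT.leaf c11_248)) (BT.node 19149 (BT.leaf c11_249) (BT.leaf c11_250))) (BT.node 19152 (BT.node 19151 (BT.leaf c11_251) (BT.leaf c11_252)) (BT.leaf c11_253))))) (BT.node 19167 (BT.node 19160 (BT.node 19157 (BT.node 19155 (BT.node 19154 (BT.leaf c11_254) (BT.leaf c11_255)) (BT.node 19156 (BT.leaf c11_256) (BT.leaf c11_257))) (BT.node 19159 (BT.node 19158 (BT.leaf c11_258) (BT.leaf c11_259)) (BT.leaf c11_260))) (BT.node 19164 (BT.node 19162 (BT.node 19161 (BT.leaf c11_261) (BT.leaf c11_262)) (BT.node 19163 (BT.leaf c11_263) (BT.leaf c11_264))) (BT.node 19166 (BT.node 19165 (BT.leaf c11_265) (BT.leaf c11_266)) (BT.leaf c11_267)))) (BT.node 19174 (BT.node 19171 (BT.node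 19169 (BT.node 19168 (BT.leaf c11_268) (BT.leaf c11_269)) (BT.node 19170 (BT.leaf c11_270) (BT.leaf c11_271))) (BT.node 19173 (BT.node 19172 (BT.leaf c11_272) (BT.leaf c11_273)) (BT.leaf c11_274))) (BT.node 19178 (BT.node 19176 (BT.node 19175 (BT.leaf c11_275) (BT.leaf c11_276)) (BT.node 19177 (BT.leaf c11_277) (BT.leaf c11_278))) (BT.node 19180 (BT.node 19179 (BT.leaf c11_279) (BT.leaf c11_280)) (BT.leaf c11_281)))))) (BT.node 19209 (BT.node 19195 (BT.node 19188 (BT.node 19185 (BT.node 19183 (BT.node 19182 (BT.leaf c11_282) (BT.leaf c11_283)) (BT.node 19184 (BT.leaf c11_284) (BT.leaf c11_285))) (BT.node 19187 (BT.node 19186 (BT.leaf c11_286) (BT.leaf c11_287)) (BT.leaf c11_288))) (BT.node 19192 (BT.node 19190 (BT.node 19189 (BT.leaf c11_289) (BT.leaf c11_290)) (BT.node 19191 (BT.leaf c11_291) (BT.leaf c11_292))) (BT.node 19194 (BT.node 19193 (BT.leaf c11_293) (BT.leaf c11_294)) (BT.leaf c11_295))))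 (BT.node 19202 (BT.node 19199 (BT.node 19197 (BT.node 19196 (BT.leaf c11_296) (BT.leaf c11_297)) (BT.node 19198 (BT.leaf c11_298) (BT.leaf c11_299))) (BT.node 19201 (BT.node 19200 (BT.leaf c11_300) (BT.leaf c11_301)) (BT.leaf c11_302))) (BT.node 19206 (BT.node 19204 (BT.node 19203 (BT.leaf c11_303) (BT.leaf c11_304)) (BT.node 19205 (BT.leaf c11_305) (BT.leaf c11_306))) (BT.node 19208 (BT.node 19207 (BT.leaf c11_307) (BT.leaf c11_308)) (BT.leaf c11_309))))) (BT.node 19223 (BT.node 19216 (BT.node 19213 (BT.node 19211 (BT.node 19210 (BT.leaf c11_310) (BT.leaf c11_311)) (BT.node 19212 (BT.leaf c11_312) (BT.leaf c11_313))) (BT.node 19215 (BT.node 19214 (BT.leaf c11_314) (BT.leaf c11_315)) (BT.leaf c11_316))) (BT.node 19220 (BT.node 19218 (BT.node 19217 (BT.leaf c11_317) (BT.leaf c11_318)) (BT.node 19219 (BT.leaf c11_319) (BT.leaf c11_320))) (BT.node 19222 (BT.node 19221 (BT.leaf c11_321) (BT.leaf c11_322))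 (BT.leaf c11_323)))) (BT.node 19230 (BT.node 19227 (BT.node 19225 (BT.node 19224 (BT.leaf c11_324) (BT.leaf c11_325)) (BT.node 19226 (BT.leaf c11_326) (BT.leaf c11_327))) (BT.node 19229 (BT.node 19228 (BT.leaf c11_328) (BT.leaf c11_329)) (BT.leaf c11_330))) (BT.node 19234 (BT.node 19232 (BT.node 19231 (BT.leaf c11_331) (BT.leaf c11_332)) (BT.node 19233 (BT.leaf c11_333) (BT.leaf c11_334))) (BT.node 19236 (BT.node 19235 (BT.leaf c11_335) (BT.leaf c11_336)) (BT.leaf c11_337))))))) (BT.node 19293 (BT.node 19265 (BT.node 19251 (BT.node 19244 (BT.node 19241 (BT.node 19239 (BT.node 19238 (BT.leaf c11_338) (BT.leaf c11_339)) (BT.node 19240 (BT.leaf c11_340) (BT.leaf c11_341))) (BT.node 19243 (BT.node 19242 (BT.leaf c11_342) (BT.leaf c11_343)) (BT.leaf c11_344))) (BT.node 19248 (BT.node 19246 (BT.node 19245 (BT.leaf c11_345) (BT.leaf c11_346)) (BT.node 19247 (BT.leaf c11_347) (BT.leaf c11_348))) (BT.node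 19250 (BT.node 19249 (BT.leaf c11_349) (BT.leaf c11_350)) (BT.leaf c11_351)))) (BT.node 19258 (BT.node 19255 (BT.node 19253 (BT.node 19252 (BT.leaf c11_352) (BT.leaf c11_353)) (BT.node 19254 (BT.leaf c11_354) (BT.leaf c11_355))) (BT.node 19257 (BT.node 19256 (BT.leaf c11_356) (BT.leaf c11_357)) (BT.leaf c11_358))) (BT.node 19262 (BT.node 19260 (BT.node 19259 (BT.leaf c11_359) (BT.leaf c11_360)) (BT.node 19261 (BT.leaf c11_361) (BT.leaf c11_362))) (BT.node 19264 (BT.node 19263 (BT.leaf c11_363) (BT.leaf c11_364)) (BT.leaf c11_365))))) (BT.node 19279 (BT.node 19272 (BT.node 19269 (BT.node 19267 (BT.node 19266 (BT.leaf c11_366) (BT.leaf c11_367)) (BT.node 19268 (BT.leaf c11_368) (BT.leaf c11_369))) (BT.node 19271 (BT.node 19270 (BT.leaf c11_370) (BT.leaf c11_371)) (BT.leaf c11_372))) (BT.node 19276 (BT.node 19274 (BT.node 19273 (BT.leaf c11_373) (BT.leaf c11_374)) (BT.node 19275 (BT.leaf c11_375) (BT.leaf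 c11_376))) (BT.node 19278 (BT.node 19277 (BT.leaf c11_377) (BT.leaf c11_378)) (BT.leaf c11_379)))) (BT.node 19286 (BT.node 19283 (BT.node 19281 (BT.node 19280 (BT.leaf c11_380) (BT.leaf c11_381)) (BT.node 19282 (BT.leaf c11_382) (BT.leaf c11_383))) (BT.node 19285 (BT.node 19284 (BT.leaf c11_384) (BT.leaf c11_385)) (BT.leaf c11_386))) (BT.node 19290 (BT.node 19288 (BT.node 19287 (BT.leaf c11_387) (BT.leaf c11_388)) (BT.node 19289 (BT.leaf c11_389) (BT.leaf c11_390))) (BT.node 19292 (BT.node 19291 (BT.leaf c11_391) (BT.leaf c11_392)) (BT.leaf c11_393)))))) (BT.node 19321 (BT.node 19307 (BT.node 19300 (BT.node 19297 (BT.node 19295 (BT.node 19294 (BT.leaf c11_394) (BT.leaf c11_395)) (BT.node 19296 (BT.leaf c11_396) (BT.leaf c11_397))) (BT.node 19299 (BT.node 19298 (BT.leaf c11_398) (BT.leaf c11_399)) (BT.leaf c11_400))) (BT.node 19304 (BT.node 19302 (BT.node 19301 (BT.leaf c11_401) (BT.leaf c11_402))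 (BT.node 19303 (BT.leaf c11_403) (BT.leaf c11_404))) (BT.node 19306 (BT.node 19305 (BT.leaf c11_405) (BT.leaf c11_406)) (BT.leaf c11_407)))) (BT.node 19314 (BT.node 19311 (BT.node 19309 (BT.node 19308 (BT.leaf c11_408) (BT.leaf c11_409)) (BT.node 19310 (BT.leaf c11_410) (BT.leaf c11_411))) (BT.node 19313 (BT.node 19312 (BT.leaf c11_412) (BT.leaf c11_413)) (BT.leaf c11_414))) (BT.node 19318 (BT.node 19316 (BT.node 19315 (BT.leaf c11_415) (BT.leaf c11_416)) (BT.node 19317 (BT.leaf c11_417) (BT.leaf c11_418))) (BT.node 19320 (BT.node 19319 (BT.leaf c11_419) (BT.leaf c11_420)) (BT.leaf c11_421))))) (BT.node 19335 (BT.node 19328 (BT.node 19325 (BT.node 19323 (BT.node 19322 (BT.leaf c11_422) (BT.leaf c11_423)) (BT.node 19324 (BT.leaf c11_424) (BT.leaf c11_425))) (BT.node 19327 (BT.node 19326 (BT.leaf c11_426) (BT.leaf c11_427)) (BT.leaf c11_428))) (BT.node 19332 (BT.node 19330 (BT.node 19329 (BT.leaf c11_429)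 (BT.leaf c11_430)) (BT.node 19331 (BT.leaf c11_431) (BT.leaf c11_432))) (BT.node 19334 (BT.node 19333 (BT.leaf c11_433) (BT.leaf c11_434)) (BT.leaf c11_435)))) (BT.node 19342 (BT.node 19339 (BT.node 19337 (BT.node 19336 (BT.leaf c11_436) (BT.leaf c11_437)) (BT.node 19338 (BT.leaf c11_438) (BT.leaf c11_439))) (BT.node 19341 (BT.node 19340 (BT.leaf c11_440) (BT.leaf c11_441)) (BT.leaf c11_442))) (BT.node 19346 (BT.node 19344 (BT.node 19343 (BT.leaf c11_443) (BT.leaf c11_444)) (BT.node 19345 (BT.leaf c11_445) (BT.leaf c11_446))) (BT.node 19348 (BT.node 19347 (BT.leaf c11_447) (BT.leaf c11_448)) (BT.leaf c11_449))))))))) (BT.node 19574 (BT.node 19462 (BT.node 19406 (BT.node 19378 (BT.node 19364 (BT.node 19357 (BT.node 19353 (BT.node 19351 (BT.node 19350 (BT.leaf c11_450) (BT.leaf c11_451)) (BT.node 19352 (BT.leaf c11_452) (BT.leaf c11_453))) (BT.node 19355 (BT.node 19354 (BT.leaf c11_454) (BT.leaf c11_455))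 (BT.node 19356 (BT.leaf c11_456) (BT.leaf c11_457)))) (BT.node 19361 (BT.node 19359 (BT.node 19358 (BT.leaf c11_458) (BT.leaf c11_459)) (BT.node 19360 (BT.leaf c11_460) (BT.leaf c11_461))) (BT.node 19363 (BT.node 19362 (BT.leaf c11_462) (BT.leaf c11_463)) (BT.leaf c11_464)))) (BT.node 19371 (BT.node 19368 (BT.node 19366 (BT.node 19365 (BT.leaf c11_465) (BT.leaf c11_466)) (BT.node 19367 (BT.leaf c11_467) (BT.leaf c11_468))) (BT.node 19370 (BT.node 19369 (BT.leaf c11_469) (BT.leaf c11_470)) (BT.leaf c11_471))) (BT.node 19375 (BT.node 19373 (BT.node 19372 (BT.leaf c11_472) (BT.leaf c11_473)) (BT.node 19374 (BT.leaf c11_474) (BT.leaf c11_475))) (BT.node 19377 (BT.node 19376 (BT.leaf c11_476) (BT.leaf c11_477)) (BT.leaf c11_478))))) (BT.node 19392 (BT.node 19385 (BT.node 19382 (BT.node 19380 (BT.node 19379 (BT.leaf c11_479) (BT.leaf c11_480)) (BT.node 19381 (BT.leaf c11_481) (BT.leaf c11_482))) (BT.node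 19384 (BT.node 19383 (BT.leaf c11_483) (BT.leaf c11_484)) (BT.leaf c11_485))) (BT.node 19389 (BT.node 19387 (BT.node 19386 (BT.leaf c11_486) (BT.leaf c11_487)) (BT.node 19388 (BT.leaf c11_488) (BT.leaf c11_489))) (BT.node 19391 (BT.node 19390 (BT.leaf c11_490) (BT.leaf c11_491)) (BT.leaf c11_492)))) (BT.node 19399 (BT.node 19396 (BT.node 19394 (BT.node 19393 (BT.leaf c11_493) (BT.leaf c11_494)) (BT.node 19395 (BT.leaf c11_495) (BT.leaf c11_496))) (BT.node 19398 (BT.node 19397 (BT.leaf c11_497) (BT.leaf c11_498)) (BT.leaf c11_499))) (BT.node 19403 (BT.node 19401 (BT.node 19400 (BT.leaf c11_500) (BT.leaf c11_501)) (BT.node 19402 (BT.leaf c11_502) (BT.leaf c11_503))) (BT.node 19405 (BT.node 19404 (BT.leaf c11_504) (BT.leaf c11_505)) (BT.leaf c11_506)))))) (BT.node 19434 (BT.node 19420 (BT.node 19413 (BT.node 19410 (BT.node 19408 (BT.node 19407 (BT.leaf c11_507) (BT.leaf c11_508)) (BT.node 19409 (BT.leaf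 c11_509) (BT.leaf c11_510))) (BT.node 19412 (BT.node 19411 (BT.leaf c11_511) (BT.leaf c11_512)) (BT.leaf c11_513))) (BT.node 19417 (BT.node 19415 (BT.node 19414 (BT.leaf c11_514) (BT.leaf c11_515)) (BT.node 19416 (BT.leaf c11_516) (BT.leaf c11_517))) (BT.node 19419 (BT.node 19418 (BT.leaf c11_518) (BT.leaf c11_519)) (BT.leaf c11_520)))) (BT.node 19427 (BT.node 19424 (BT.node 19422 (BT.node 19421 (BT.leaf c11_521) (BT.leaf c11_522)) (BT.node 19423 (BT.leaf c11_523) (BT.leaf c11_524))) (BT.node 19426 (BT.node 19425 (BT.leaf c11_525) (BT.leaf c11_526)) (BT.leaf c11_527))) (BT.node 19431 (BT.node 19429 (BT.node 19428 (BT.leaf c11_528) (BT.leaf c11_529)) (BT.node 19430 (BT.leaf c11_530) (BT.leaf c11_531))) (BT.node 19433 (BT.node 19432 (BT.leaf c11_532) (BT.leaf c11_533)) (BT.leaf c11_534))))) (BT.node 19448 (BT.node 19441 (BT.node 19438 (BT.node 19436 (BT.node 19435 (BT.leaf c11_535) (BT.leaf c11_536))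 (BT.node 19437 (BT.leaf c11_537) (BT.leaf c11_538))) (BT.node 19440 (BT.node 19439 (BT.leaf c11_539) (BT.leaf c11_540)) (BT.leaf c11_541))) (BT.node 19445 (BT.node 19443 (BT.node 19442 (BT.leaf c11_542) (BT.leaf c11_543)) (BT.node 19444 (BT.leaf c11_544) (BT.leaf c11_545))) (BT.node 19447 (BT.node 19446 (BT.leaf c11_546) (BT.leaf c11_547)) (BT.leaf c11_548)))) (BT.node 19455 (BT.node 19452 (BT.node 19450 (BT.node 19449 (BT.leaf c11_549) (BT.leaf c11_550)) (BT.node 19451 (BT.leaf c11_551) (BT.leaf c11_552))) (BT.node 19454 (BT.node 19453 (BT.leaf c11_553) (BT.leaf c11_554)) (BT.leaf c11_555))) (BT.node 19459 (BT.node 19457 (BT.node 19456 (BT.leaf c11_556) (BT.leaf c11_557)) (BT.node 19458 (BT.leaf c11_558) (BT.leaf c11_559))) (BT.node 19461 (BT.node 19460 (BT.leaf c11_560) (BT.leaf c11_561)) (BT.leaf c11_562))))))) (BT.node 19518 (BT.node 19490 (BT.node 19476 (BT.node 19469 (BT.node 19466 (BT.node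 19464 (BT.node 19463 (BT.leaf c11_563) (BT.leaf c11_564)) (BT.node 19465 (BT.leaf c11_565) (BT.leaf c11_566))) (BT.node 19468 (BT.node 19467 (BT.leaf c11_567) (BT.leaf c11_568)) (BT.leaf c11_569))) (BT.node 19473 (BT.node 19471 (BT.node 19470 (BT.leaf c11_570) (BT.leaf c11_571)) (BT.node 19472 (BT.leaf c11_572) (BT.leaf c11_573))) (BT.node 19475 (BT.node 19474 (BT.leaf c11_574) (BT.leaf c11_575)) (BT.leaf c11_576)))) (BT.node 19483 (BT.node 19480 (BT.node 19478 (BT.node 19477 (BT.leaf c11_577) (BT.leaf c11_578)) (BT.node 19479 (BT.leaf c11_579) (BT.leaf c11_580))) (BT.node 19482 (BT.node 19481 (BT.leaf c11_581) (BT.leaf c11_582)) (BT.leaf c11_583))) (BT.node 19487 (BT.node 19485 (BT.node 19484 (BT.leaf c11_584) (BT.leaf c11_585)) (BT.node 19486 (BT.leaf c11_586) (BT.leaf c11_587))) (BT.node 19489 (BT.node 19488 (BT.leaf c11_588) (BT.leaf c11_589)) (BT.leaf c11_590))))) (BT.node 19504 (BT.node 19497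 (BT.node 19494 (BT.node 19492 (BT.node 19491 (BT.leaf c11_591) (BT.leaf c11_592)) (BT.node 19493 (BT.leaf c11_593) (BT.leaf c11_594))) (BT.node 19496 (BT.node 19495 (BT.leaf c11_595) (BT.leaf c11_596)) (BT.leaf c11_597))) (BT.node 19501 (BT.node 19499 (BT.node 19498 (BT.leaf c11_598) (BT.leaf c11_599)) (BT.node 19500 (BT.leaf c11_600) (BT.leaf c11_601))) (BT.node 19503 (BT.node 19502 (BT.leaf c11_602) (BT.leaf c11_603)) (BT.leaf c11_604)))) (BT.node 19511 (BT.node 19508 (BT.node 19506 (BT.node 19505 (BT.leaf c11_605) (BT.leaf c11_606)) (BT.node 19507 (BT.leaf c11_607) (BT.leaf c11_608))) (BT.node 19510 (BT.node 19509 (BT.leaf c11_609) (BT.leaf c11_610)) (BT.leaf c11_611))) (BT.node 19515 (BT.node 19513 (BT.node 19512 (BT.leaf c11_612) (BT.leaf c11_613)) (BT.node 19514 (BT.leaf c11_614) (BT.leaf c11_615))) (BT.node 19517 (BT.node 19516 (BT.leaf c11_616) (BT.leaf c11_617)) (BT.leaf c11_618)))))) (BT.node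 19546 (BT.node 19532 (BT.node 19525 (BT.node 19522 (BT.node 19520 (BT.node 19519 (BT.leaf c11_619) (BT.leaf c11_620)) (BT.node 19521 (BT.leaf c11_621) (BT.leaf c11_622))) (BT.node 19524 (BT.node 19523 (BT.leaf c11_623) (BT.leaf c11_624)) (BT.leaf c11_625))) (BT.node 19529 (BT.node 19527 (BT.node 19526 (BT.leaf c11_626) (BT.leaf c11_627)) (BT.node 19528 (BT.leaf c11_628) (BT.leaf c11_629))) (BT.node 19531 (BT.node 19530 (BT.leaf c11_630) (BT.leaf c11_631)) (BT.leaf c11_632)))) (BT.node 19539 (BT.node 19536 (BT.node 19534 (BT.node 19533 (BT.leaf c11_633) (BT.leaf c11_634)) (BT.node 19535 (BT.leaf c11_635) (BT.leaf c11_636))) (BT.node 19538 (BT.node 19537 (BT.leaf c11_637) (BT.leaf c11_638)) (BT.leaf c11_639))) (BT.node 19543 (BT.node 19541 (BT.node 19540 (BT.leaf c11_640) (BT.leaf c11_641)) (BT.node 19542 (BT.leaf c11_642) (BT.leaf c11_643))) (BT.node 19545 (BT.node 19544 (BT.leaf c11_644) (BT.leaf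 c11_645)) (BT.leaf c11_646))))) (BT.node 19560 (BT.node 19553 (BT.node 19550 (BT.node 19548 (BT.node 19547 (BT.leaf c11_647) (BT.leaf c11_648)) (BT.node 19549 (BT.leaf c11_649) (BT.leaf c11_650))) (BT.node 19552 (BT.node 19551 (BT.leaf c11_651) (BT.leaf c11_652)) (BT.leaf c11_653))) (BT.node 19557 (BT.node 19555 (BT.node 19554 (BT.leaf c11_654) (BT.leaf c11_655)) (BT.node 19556 (BT.leaf c11_656) (BT.leaf c11_657))) (BT.node 19559 (BT.node 19558 (BT.leaf c11_658) (BT.leaf c11_659)) (BT.leaf c11_660)))) (BT.node 19567 (BT.node 19564 (BT.node 19562 (BT.node 19561 (BT.leaf c11_661) (BT.leaf c11_662)) (BT.node 19563 (BT.leaf c11_663) (BT.leaf c11_664))) (BT.node 19566 (BT.node 19565 (BT.leaf c11_665) (BT.leaf c11_666)) (BT.leaf c11_667))) (BT.node 19571 (BT.node 19569 (BT.node 19568 (BT.leaf c11_668) (BT.leaf c11_669)) (BT.node 19570 (BT.leaf c11_670) (BT.leaf c11_671))) (BT.node 19573 (BT.node 19572 (BT.leaf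 c11_672) (BT.leaf c11_673)) (BT.leaf c11_674)))))))) (BT.node 19687 (BT.node 19631 (BT.node 19603 (BT.node 19589 (BT.node 19582 (BT.node 19578 (BT.node 19576 (BT.node 19575 (BT.leaf c11_675) (BT.leaf c11_676)) (BT.node 19577 (BT.leaf c11_677) (BT.leaf c11_678))) (BT.node 19580 (BT.node 19579 (BT.leaf c11_679) (BT.leaf c11_680)) (BT.node 19581 (BT.leaf c11_681) (BT.leaf c11_682)))) (BT.node 19586 (BT.node 19584 (BT.node 19583 (BT.leaf c11_683) (BT.leaf c11_684)) (BT.node 19585 (BT.leaf c11_685) (BT.leaf c11_686))) (BT.node 19588 (BT.node 19587 (BT.leaf c11_687) (BT.leaf c11_688)) (BT.leaf c11_689)))) (BT.node 19596 (BT.node 19593 (BT.node 19591 (BT.node 19590 (BT.leaf c11_690) (BT.leaf c11_691)) (BT.node 19592 (BT.leaf c11_692) (BT.leaf c11_693))) (BT.node 19595 (BT.node 19594 (BT.leaf c11_694) (BT.leaf c11_695)) (BT.leaf c11_696))) (BT.node 19600 (BT.node 19598 (BT.node 19597 (BT.leaf c11_697) (BT.leaf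 c11_698)) (BT.node 19599 (BT.leaf c11_699) (BT.leaf c11_700))) (BT.node 19602 (BT.node 19601 (BT.leaf c11_701) (BT.leaf c11_702)) (BT.leaf c11_703))))) (BT.node 19617 (BT.node 19610 (BT.node 19607 (BT.node 19605 (BT.node 19604 (BT.leaf c11_704) (BT.leaf c11_705)) (BT.node 19606 (BT.leaf c11_706) (BT.leaf c11_707))) (BT.node 19609 (BT.node 19608 (BT.leaf c11_708) (BT.leaf c11_709)) (BT.leaf c11_710))) (BT.node 19614 (BT.node 19612 (BT.node 19611 (BT.leaf c11_711) (BT.leaf c11_712)) (BT.node 19613 (BT.leaf c11_713) (BT.leaf c11_714))) (BT.node 19616 (BT.node 19615 (BT.leaf c11_715) (BT.leaf c11_716)) (BT.leaf c11_717)))) (BT.node 19624 (BT.node 19621 (BT.node 19619 (BT.node 19618 (BT.leaf c11_718) (BT.leaf c11_719)) (BT.node 19620 (BT.leaf c11_720) (BT.leaf c11_721))) (BT.node 19623 (BT.node 19622 (BT.leaf c11_722) (BT.leaf c11_723)) (BT.leaf c11_724))) (BT.node 19628 (BT.node 19626 (BT.node 19625 (BT.leaf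 c11_725) (BT.leaf c11_726)) (BT.node 19627 (BT.leaf c11_727) (BT.leaf c11_728))) (BT.node 19630 (BT.node 19629 (BT.leaf c11_729) (BT.leaf c11_730)) (BT.leaf c11_731)))))) (BT.node 19659 (BT.node 19645 (BT.node 19638 (BT.node 19635 (BT.node 19633 (BT.node 19632 (BT.leaf c11_732) (BT.leaf c11_733)) (BT.node 19634 (BT.leaf c11_734) (BT.leaf c11_735))) (BT.node 19637 (BT.node 19636 (BT.leaf c11_736) (BT.leaf c11_737)) (BT.leaf c11_738))) (BT.node 19642 (BT.node 19640 (BT.node 19639 (BT.leaf c11_739) (BT.leaf c11_740)) (BT.node 19641 (BT.leaf c11_741) (BT.leaf c11_742))) (BT.node 19644 (BT.node 19643 (BT.leaf c11_743) (BT.leaf c11_744)) (BT.leaf c11_745)))) (BT.node 19652 (BT.node 19649 (BT.node 19647 (BT.node 19646 (BT.leaf c11_746) (BT.leaf c11_747)) (BT.node 19648 (BT.leaf c11_748) (BT.leaf c11_749))) (BT.node 19651 (BT.node 19650 (BT.leaf c11_750) (BT.leaf c11_751)) (BT.leaf c11_752))) (BT.node 19656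 (BT.node 19654 (BT.node 19653 (BT.leaf c11_753) (BT.leaf c11_754)) (BT.node 19655 (BT.leaf c11_755) (BT.leaf c11_756))) (BT.node 19658 (BT.node 19657 (BT.leaf c11_757) (BT.leaf c11_758)) (BT.leaf c11_759))))) (BT.node 19673 (BT.node 19666 (BT.node 19663 (BT.node 19661 (BT.node 19660 (BT.leaf c11_760) (BT.leaf c11_761)) (BT.node 19662 (BT.leaf c11_762) (BT.leaf c11_763))) (BT.node 19665 (BT.node 19664 (BT.leaf c11_764) (BT.leaf c11_765)) (BT.leaf c11_766))) (BT.node 19670 (BT.node 19668 (BT.node 19667 (BT.leaf c11_767) (BT.leaf c11_768)) (BT.node 19669 (BT.leaf c11_769) (BT.leaf c11_770))) (BT.node 19672 (BT.node 19671 (BT.leaf c11_771) (BT.leaf c11_772)) (BT.leaf c11_773)))) (BT.node 19680 (BT.node 19677 (BT.node 19675 (BT.node 19674 (BT.leaf c11_774) (BT.leaf c11_775)) (BT.node 19676 (BT.leaf c11_776) (BT.leaf c11_777))) (BT.node 19679 (BT.node 19678 (BT.leaf c11_778) (BT.leaf c11_779)) (BT.leaf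 c11_780))) (BT.node 19684 (BT.node 19682 (BT.node 19681 (BT.leaf c11_781) (BT.leaf c11_782)) (BT.node 19683 (BT.leaf c11_783) (BT.leaf c11_784))) (BT.node 19686 (BT.node 19685 (BT.leaf c11_785) (BT.leaf c11_786)) (BT.leaf c11_787))))))) (BT.node 19743 (BT.node 19715 (BT.node 19701 (BT.node 19694 (BT.node 19691 (BT.node 19689 (BT.node 19688 (BT.leaf c11_788) (BT.leaf c11_789)) (BT.node 19690 (BT.leaf c11_790) (BT.leaf c11_791))) (BT.node 19693 (BT.node 19692 (BT.leaf c11_792) (BT.leaf c11_793)) (BT.leaf c11_794))) (BT.node 19698 (BT.node 19696 (BT.node 19695 (BT.leaf c11_795) (BT.leaf c11_796)) (BT.node 19697 (BT.leaf c11_797) (BT.leaf c11_798))) (BT.node 19700 (BT.node 19699 (BT.leaf c11_799) (BT.leaf c11_800)) (BT.leaf c11_801)))) (BT.node 19708 (BT.node 19705 (BT.node 19703 (BT.node 19702 (BT.leaf c11_802) (BT.leaf c11_803)) (BT.node 19704 (BT.leaf c11_804) (BT.leaf c11_805))) (BT.node 19707 (BT.node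 19706 (BT.leaf c11_806) (BT.leaf c11_807)) (BT.leaf c11_808))) (BT.node 19712 (BT.node 19710 (BT.node 19709 (BT.leaf c11_809) (BT.leaf c11_810)) (BT.node 19711 (BT.leaf c11_811) (BT.leaf c11_812))) (BT.node 19714 (BT.node 19713 (BT.leaf c11_813) (BT.leaf c11_814)) (BT.leaf c11_815))))) (BT.node 19729 (BT.node 19722 (BT.node 19719 (BT.node 19717 (BT.node 19716 (BT.leaf c11_816) (BT.leaf c11_817)) (BT.node 19718 (BT.leaf c11_818) (BT.leaf c11_819))) (BT.node 19721 (BT.node 19720 (BT.leaf c11_820) (BT.leaf c11_821)) (BT.leaf c11_822))) (BT.node 19726 (BT.node 19724 (BT.node 19723 (BT.leaf c11_823) (BT.leaf c11_824)) (BT.node 19725 (BT.leaf c11_825) (BT.leaf c11_826))) (BT.node 19728 (BT.node 19727 (BT.leaf c11_827) (BT.leaf c11_828)) (BT.leaf c11_829)))) (BT.node 19736 (BT.node 19733 (BT.node 19731 (BT.node 19730 (BT.leaf c11_830) (BT.leaf c11_831)) (BT.node 19732 (BT.leaf c11_832) (BT.leaf c11_833)))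 (BT.node 19735 (BT.node 19734 (BT.leaf c11_834) (BT.leaf c11_835)) (BT.leaf c11_836))) (BT.node 19740 (BT.node 19738 (BT.node 19737 (BT.leaf c11_837) (BT.leaf c11_838)) (BT.node 19739 (BT.leaf c11_839) (BT.leaf c11_840))) (BT.node 19742 (BT.node 19741 (BT.leaf c11_841) (BT.leaf c11_842)) (BT.leaf c11_843)))))) (BT.node 19771 (BT.node 19757 (BT.node 19750 (BT.node 19747 (BT.node 19745 (BT.node 19744 (BT.leaf c11_844) (BT.leaf c11_845)) (BT.node 19746 (BT.leaf c11_846) (BT.leaf c11_847))) (BT.node 19749 (BT.node 19748 (BT.leaf c11_848) (BT.leaf c11_849)) (BT.leaf c11_850))) (BT.node 19754 (BT.node 19752 (BT.node 19751 (BT.leaf c11_851) (BT.leaf c11_852)) (BT.node 19753 (BT.leaf c11_853) (BT.leaf c11_854))) (BT.node 19756 (BT.node 19755 (BT.leaf c11_855) (BT.leaf c11_856)) (BT.leaf c11_857)))) (BT.node 19764 (BT.node 19761 (BT.node 19759 (BT.node 19758 (BT.leaf c11_858) (BT.leaf c11_859)) (BT.node 19760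 (BT.leaf c11_860) (BT.leaf c11_861))) (BT.node 19763 (BT.node 19762 (BT.leaf c11_862) (BT.leaf c11_863)) (BT.leaf c11_864))) (BT.node 19768 (BT.node 19766 (BT.node 19765 (BT.leaf c11_865) (BT.leaf c11_866)) (BT.node 19767 (BT.leaf c11_867) (BT.leaf c11_868))) (BT.node 19770 (BT.node 19769 (BT.leaf c11_869) (BT.leaf c11_870)) (BT.leaf c11_871))))) (BT.node 19785 (BT.node 19778 (BT.node 19775 (BT.node 19773 (BT.node 19772 (BT.leaf c11_872) (BT.leaf c11_873)) (BT.node 19774 (BT.leaf c11_874) (BT.leaf c11_875))) (BT.node 19777 (BT.node 19776 (BT.leaf c11_876) (BT.leaf c11_877)) (BT.leaf c11_878))) (BT.node 19782 (BT.node 19780 (BT.node 19779 (BT.leaf c11_879) (BT.leaf c11_880)) (BT.node 19781 (BT.leaf c11_881) (BT.leaf c11_882))) (BT.node 19784 (BT.node 19783 (BT.leaf c11_883) (BT.leaf c11_884)) (BT.leaf c11_885)))) (BT.node 19792 (BT.node 19789 (BT.node 19787 (BT.node 19786 (BT.leaf c11_886) (BT.leaf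 c11_887)) (BT.node 19788 (BT.leaf c11_888) (BT.leaf c11_889))) (BT.node 19791 (BT.node 19790 (BT.leaf c11_890) (BT.leaf c11_891)) (BT.leaf c11_892))) (BT.node 19796 (BT.node 19794 (BT.node 19793 (BT.leaf c11_893) (BT.leaf c11_894)) (BT.node 19795 (BT.leaf c11_895) (BT.leaf c11_896))) (BT.node 19798 (BT.node 19797 (BT.leaf c11_897) (BT.leaf c11_898)) (BT.leaf c11_899))))))))))
/-- the chunks of the letter 22 -/
def colL_22 : BT ℕ := (BT.node 20249 (BT.node 20024 (BT.node 19912 (BT.node 19856 (BT.node 19828 (BT.node 19814 (BT.node 19807 (BT.node 19803 (BT.node 19801 (BT.node 19800 (BT.leaf c12_0) (BT.leaf c12_1)) (BT.node 19802 (BT.leaf c12_2) (BT.leaf c12_3))) (BT.node 19805 (BT.node 19804 (BT.leaf c12_4) (BT.leaf c12_5)) (BT.node 19806 (BT.leaf c12_6) (BT.leaf c12_7)))) (BT.node 19811 (BT.node 19809 (BT.node 19808 (BT.leaf c12_8) (BT.leaf c12_9)) (BT.node 19810 (BT.leaf c12_10) (BT.leaf c12_11)))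 (BT.node 19813 (BT.node 19812 (BT.leaf c12_12) (BT.leaf c12_13)) (BT.leaf c12_14)))) (BT.node 19821 (BT.node 19818 (BT.node 19816 (BT.node 19815 (BT.leaf c12_15) (BT.leaf c12_16)) (BT.node 19817 (BT.leaf c12_17) (BT.leaf c12_18))) (BT.node 19820 (BT.node 19819 (BT.leaf c12_19) (BT.leaf c12_20)) (BT.leaf c12_21))) (BT.node 19825 (BT.node 19823 (BT.node 19822 (BT.leaf c12_22) (BT.leaf c12_23)) (BT.node 19824 (BT.leaf c12_24) (BT.leaf c12_25))) (BT.node 19827 (BT.node 19826 (BT.leaf c12_26) (BT.leaf c12_27)) (BT.leaf c12_28))))) (BT.node 19842 (BT.node 19835 (BT.node 19832 (BT.node 19830 (BT.node 19829 (BT.leaf c12_29) (BT.leaf c12_30)) (BT.node 19831 (BT.leaf c12_31) (BT.leaf c12_32))) (BT.node 19834 (BT.node 19833 (BT.leaf c12_33) (BT.leaf c12_34)) (BT.leaf c12_35))) (BT.node 19839 (BT.node 19837 (BT.node 19836 (BT.leaf c12_36) (BT.leaf c12_37)) (BT.node 19838 (BT.leaf c12_38) (BT.leaf c12_39))) (BT.node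 19841 (BT.node 19840 (BT.leaf c12_40) (BT.leaf c12_41)) (BT.leaf c12_42)))) (BT.node 19849 (BT.node 19846 (BT.node 19844 (BT.node 19843 (BT.leaf c12_43) (BT.leaf c12_44)) (BT.node 19845 (BT.leaf c12_45) (BT.leaf c12_46))) (BT.node 19848 (BT.node 19847 (BT.leaf c12_47) (BT.leaf c12_48)) (BT.leaf c12_49))) (BT.node 19853 (BT.node 19851 (BT.node 19850 (BT.leaf c12_50) (BT.leaf c12_51)) (BT.node 19852 (BT.leaf c12_52) (BT.leaf c12_53))) (BT.node 19855 (BT.node 19854 (BT.leaf c12_54) (BT.leaf c12_55)) (BT.leaf c12_56)))))) (BT.node 19884 (BT.node 19870 (BT.node 19863 (BT.node 19860 (BT.node 19858 (BT.node 19857 (BT.leaf c12_57) (BT.leaf c12_58)) (BT.node 19859 (BT.leaf c12_59) (BT.leaf c12_60))) (BT.node 19862 (BT.node 19861 (BT.leaf c12_61) (BT.leaf c12_62)) (BT.leaf c12_63))) (BT.node 19867 (BT.node 19865 (BT.node 19864 (BT.leaf c12_64) (BT.leaf c12_65)) (BT.node 19866 (BT.leaf c12_66) (BT.leaf c12_67)))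 (BT.node 19869 (BT.node 19868 (BT.leaf c12_68) (BT.leaf c12_69)) (BT.leaf c12_70)))) (BT.node 19877 (BT.node 19874 (BT.node 19872 (BT.node 19871 (BT.leaf c12_71) (BT.leaf c12_72)) (BT.node 19873 (BT.leaf c12_73) (BT.leaf c12_74))) (BT.node 19876 (BT.node 19875 (BT.leaf c12_75) (BT.leaf c12_76)) (BT.leaf c12_77))) (BT.node 19881 (BT.node 19879 (BT.node 19878 (BT.leaf c12_78) (BT.leaf c12_79)) (BT.node 19880 (BT.leaf c12_80) (BT.leaf c12_81))) (BT.node 19883 (BT.node 19882 (BT.leaf c12_82) (BT.leaf c12_83)) (BT.leaf c12_84))))) (BT.node 19898 (BT.node 19891 (BT.node 19888 (BT.node 19886 (BT.node 19885 (BT.leaf c12_85) (BT.leaf c12_86)) (BT.node 19887 (BT.leaf c12_87) (BT.leaf c12_88))) (BT.node 19890 (BT.node 19889 (BT.leaf c12_89) (BT.leaf c12_90)) (BT.leaf c12_91))) (BT.node 19895 (BT.node 19893 (BT.node 19892 (BT.leaf c12_92) (BT.leaf c12_93)) (BT.node 19894 (BT.leaf c12_94) (BT.leaf c12_95))) (BT.node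 19897 (BT.node 19896 (BT.leaf c12_96) (BT.leaf c12_97)) (BT.leaf c12_98)))) (BT.node 19905 (BT.node 19902 (BT.node 19900 (BT.node 19899 (BT.leaf c12_99) (BT.leaf c12_100)) (BT.node 19901 (BT.leaf c12_101) (BT.leaf c12_102))) (BT.node 19904 (BT.node 19903 (BT.leaf c12_103) (BT.leaf c12_104)) (BT.leaf c12_105))) (BT.node 19909 (BT.node 19907 (BT.node 19906 (BT.leaf c12_106) (BT.leaf c12_107)) (BT.node 19908 (BT.leaf c12_108) (BT.leaf c12_109))) (BT.node 19911 (BT.node 19910 (BT.leaf c12_110) (BT.leaf c12_111)) (BT.leaf c12_112))))))) (BT.node 19968 (BT.node 19940 (BT.node 19926 (BT.node 19919 (BT.node 19916 (BT.node 19914 (BT.node 19913 (BT.leaf c12_113) (BT.leaf c12_114)) (BT.node 19915 (BT.leaf c12_115) (BT.leaf c12_116))) (BT.node 19918 (BT.node 19917 (BT.leaf c12_117) (BT.leaf c12_118)) (BT.leaf c12_119))) (BT.node 19923 (BT.node 19921 (BT.node 19920 (BT.leaf c12_120) (BT.leaf c12_121)) (BT.node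 19922 (BT.leaf c12_122) (BT.leaf c12_123))) (BT.node 19925 (BT.node 19924 (BT.leaf c12_124) (BT.leaf c12_125)) (BT.leaf c12_126)))) (BT.node 19933 (BT.node 19930 (BT.node 19928 (BT.node 19927 (BT.leaf c12_127) (BT.leaf c12_128)) (BT.node 19929 (BT.leaf c12_129) (BT.leaf c12_130))) (BT.node 19932 (BT.node 19931 (BT.leaf c12_131) (BT.leaf c12_132)) (BT.leaf c12_133))) (BT.node 19937 (BT.node 19935 (BT.node 19934 (BT.leaf c12_134) (BT.leaf c12_135)) (BT.node 19936 (BT.leaf c12_136) (BT.leaf c12_137))) (BT.node 19939 (BT.node 19938 (BT.leaf c12_138) (BT.leaf c12_139)) (BT.leaf c12_140))))) (BT.node 19954 (BT.node 19947 (BT.node 19944 (BT.node 19942 (BT.node 19941 (BT.leaf c12_141) (BT.leaf c12_142)) (BT.node 19943 (BT.leaf c12_143) (BT.leaf c12_144))) (BT.node 19946 (BT.node 19945 (BT.leaf c12_145) (BT.leaf c12_146)) (BT.leaf c12_147))) (BT.node 19951 (BT.node 19949 (BT.node 19948 (BT.leaf c12_148) (BT.leaf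 c12_149)) (BT.node 19950 (BT.leaf c12_150) (BT.leaf c12_151))) (BT.node 19953 (BT.node 19952 (BT.leaf c12_152) (BT.leaf c12_153)) (BT.leaf c12_154)))) (BT.node 19961 (BT.node 19958 (BT.node 19956 (BT.node 19955 (BT.leaf c12_155) (BT.leaf c12_156)) (BT.node 19957 (BT.leaf c12_157) (BT.leaf c12_158))) (BT.node 19960 (BT.node 19959 (BT.leaf c12_159) (BT.leaf c12_160)) (BT.leaf c12_161))) (BT.node 19965 (BT.node 19963 (BT.node 19962 (BT.leaf c12_162) (BT.leaf c12_163)) (BT.node 19964 (BT.leaf c12_164) (BT.leaf c12_165))) (BT.node 19967 (BT.node 19966 (BT.leaf c12_166) (BT.leaf c12_167)) (BT.leaf c12_168)))))) (BT.node 19996 (BT.node 19982 (BT.node 19975 (BT.node 19972 (BT.node 19970 (BT.node 19969 (BT.leaf c12_169) (BT.leaf c12_170)) (BT.node 19971 (BT.leaf c12_171) (BT.leaf c12_172))) (BT.node 19974 (BT.node 19973 (BT.leaf c12_173) (BT.leaf c12_174)) (BT.leaf c12_175))) (BT.node 19979 (BT.node 19977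 (BT.node 19976 (BT.leaf c12_176) (BT.leaf c12_177)) (BT.node 19978 (BT.leaf c12_178) (BT.leaf c12_179))) (BT.node 19981 (BT.node 19980 (BT.leaf c12_180) (BT.leaf c12_181)) (BT.leaf c12_182)))) (BT.node 19989 (BT.node 19986 (BT.node 19984 (BT.node 19983 (BT.leaf c12_183) (BT.leaf c12_184)) (BT.node 19985 (BT.leaf c12_185) (BT.leaf c12_186))) (BT.node 19988 (BT.node 19987 (BT.leaf c12_187) (BT.leaf c12_188)) (BT.leaf c12_189))) (BT.node 19993 (BT.node 19991 (BT.node 19990 (BT.leaf c12_190) (BT.leaf c12_191)) (BT.node 19992 (BT.leaf c12_192) (BT.leaf c12_193))) (BT.node 19995 (BT.node 19994 (BT.leaf c12_194) (BT.leaf c12_195)) (BT.leaf c12_196))))) (BT.node 20010 (BT.node 20003 (BT.node 20000 (BT.node 19998 (BT.node 19997 (BT.leaf c12_197) (BT.leaf c12_198)) (BT.node 19999 (BT.leaf c12_199) (BT.leaf c12_200))) (BT.node 20002 (BT.node 20001 (BT.leaf c12_201) (BT.leaf c12_202)) (BT.leaf c12_203))) (BT.node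 20007 (BT.node 20005 (BT.node 20004 (BT.leaf c12_204) (BT.leaf c12_205)) (BT.node 20006 (BT.leaf c12_206) (BT.leaf c12_207))) (BT.node 20009 (BT.node 20008 (BT.leaf c12_208) (BT.leaf c12_209)) (BT.leaf c12_210)))) (BT.node 20017 (BT.node 20014 (BT.node 20012 (BT.node 20011 (BT.leaf c12_211) (BT.leaf c12_212)) (BT.node 20013 (BT.leaf c12_213) (BT.leaf c12_214))) (BT.node 20016 (BT.node 20015 (BT.leaf c12_215) (BT.leaf c12_216)) (BT.leaf c12_217))) (BT.node 20021 (BT.node 20019 (BT.node 20018 (BT.leaf c12_218) (BT.leaf c12_219)) (BT.node 20020 (BT.leaf c12_220) (BT.leaf c12_221))) (BT.node 20023 (BT.node 20022 (BT.leaf c12_222) (BT.leaf c12_223)) (BT.leaf c12_224)))))))) (BT.node 20137 (BT.node 20081 (BT.node 20053 (BT.node 20039 (BT.node 20032 (BT.node 20028 (BT.node 20026 (BT.node 20025 (BT.leaf c12_225) (BT.leaf c12_226)) (BT.node 20027 (BT.leaf c12_227) (BT.leaf c12_228))) (BT.node 20030 (BT.node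 20029 (BT.leaf c12_229) (BT.leaf c12_230)) (BT.node 20031 (BT.leaf c12_231) (BT.leaf c12_232)))) (BT.node 20036 (BT.node 20034 (BT.node 20033 (BT.leaf c12_233) (BT.leaf c12_234)) (BT.node 20035 (BT.leaf c12_235) (BT.leaf c12_236))) (BT.node 20038 (BT.node 20037 (BT.leaf c12_237) (BT.leaf c12_238)) (BT.leaf c12_239)))) (BT.node 20046 (BT.node 20043 (BT.node 20041 (BT.node 20040 (BT.leaf c12_240) (BT.leaf c12_241)) (BT.node 20042 (BT.leaf c12_242) (BT.leaf c12_243))) (BT.node 20045 (BT.node 20044 (BT.leaf c12_244) (BT.leaf c12_245)) (BT.leaf c12_246))) (BT.node 20050 (BT.node 20048 (BT.node 20047 (BT.leaf c12_247) (BT.leaf c12_248)) (BT.node 20049 (BT.leaf c12_249) (BT.leaf c12_250))) (BT.node 20052 (BT.node 20051 (BT.leaf c12_251) (BT.leaf c12_252)) (BT.leaf c12_253))))) (BT.node 20067 (BT.node 20060 (BT.node 20057 (BT.node 20055 (BT.node 20054 (BT.leaf c12_254) (BT.leaf c12_255)) (BT.node 20056 (BT.leaf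 c12_256) (BT.leaf c12_257))) (BT.node 20059 (BT.node 20058 (BT.leaf c12_258) (BT.leaf c12_259)) (BT.leaf c12_260))) (BT.node 20064 (BT.node 20062 (BT.node 20061 (BT.leaf c12_261) (BT.leaf c12_262)) (BT.node 20063 (BT.leaf c12_263) (BT.leaf c12_264))) (BT.node 20066 (BT.node 20065 (BT.leaf c12_265) (BT.leaf c12_266)) (BT.leaf c12_267)))) (BT.node 20074 (BT.node 20071 (BT.node 20069 (BT.node 20068 (BT.leaf c12_268) (BT.leaf c12_269)) (BT.node 20070 (BT.leaf c12_270) (BT.leaf c12_271))) (BT.node 20073 (BT.node 20072 (BT.leaf c12_272) (BT.leaf c12_273)) (BT.leaf c12_274))) (BT.node 20078 (BT.node 20076 (BT.node 20075 (BT.leaf c12_275) (BT.leaf c12_276)) (BT.node 20077 (BT.leaf c12_277) (BT.leaf c12_278))) (BT.node 20080 (BT.node 20079 (BT.leaf c12_279) (BT.leaf c12_280)) (BT.leaf c12_281)))))) (BT.node 20109 (BT.node 20095 (BT.node 20088 (BT.node 20085 (BT.node 20083 (BT.node 20082 (BT.leaf c12_282) (BT.leaf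 c12_283)) (BT.node 20084 (BT.leaf c12_284) (BT.leaf c12_285))) (BT.node 20087 (BT.node 20086 (BT.leaf c12_286) (BT.leaf c12_287)) (BT.leaf c12_288))) (BT.node 20092 (BT.node 20090 (BT.node 20089 (BT.leaf c12_289) (BT.leaf c12_290)) (BT.node 20091 (BT.leaf c12_291) (BT.leaf c12_292))) (BT.node 20094 (BT.node 20093 (BT.leaf c12_293) (BT.leaf c12_294)) (BT.leaf c12_295)))) (BT.node 20102 (BT.node 20099 (BT.node 20097 (BT.node 20096 (BT.leaf c12_296) (BT.leaf c12_297)) (BT.node 20098 (BT.leaf c12_298) (BT.leaf c12_299))) (BT.node 20101 (BT.node 20100 (BT.leaf c12_300) (BT.leaf c12_301)) (BT.leaf c12_302))) (BT.node 20106 (BT.node 20104 (BT.node 20103 (BT.leaf c12_303) (BT.leaf c12_304)) (BT.node 20105 (BT.leaf c12_305) (BT.leaf c12_306))) (BT.node 20108 (BT.node 20107 (BT.leaf c12_307) (BT.leaf c12_308)) (BT.leaf c12_309))))) (BT.node 20123 (BT.node 20116 (BT.node 20113 (BT.node 20111 (BT.node 20110 (BT.leaf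 c12_310) (BT.leaf c12_311)) (BT.node 20112 (BT.leaf c12_312) (BT.leaf c12_313))) (BT.node 20115 (BT.node 20114 (BT.leaf c12_314) (BT.leaf c12_315)) (BT.leaf c12_316))) (BT.node 20120 (BT.node 20118 (BT.node 20117 (BT.leaf c12_317) (BT.leaf c12_318)) (BT.node 20119 (BT.leaf c12_319) (BT.leaf c12_320))) (BT.node 20122 (BT.node 20121 (BT.leaf c12_321) (BT.leaf c12_322)) (BT.leaf c12_323)))) (BT.node 20130 (BT.node 20127 (BT.node 20125 (BT.node 20124 (BT.leaf c12_324) (BT.leaf c12_325)) (BT.node 20126 (BT.leaf c12_326) (BT.leaf c12_327))) (BT.node 20129 (BT.node 20128 (BT.leaf c12_328) (BT.leaf c12_329)) (BT.leaf c12_330))) (BT.node 20134 (BT.node 20132 (BT.node 20131 (BT.leaf c12_331) (BT.leaf c12_332)) (BT.node 20133 (BT.leaf c12_333) (BT.leaf c12_334))) (BT.node 20136 (BT.node 20135 (BT.leaf c12_335) (BT.leaf c12_336)) (BT.leaf c12_337))))))) (BT.node 20193 (BT.node 20165 (BT.node 20151 (BT.node 20144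 (BT.node 20141 (BT.node 20139 (BT.node 20138 (BT.leaf c12_338) (BT.leaf c12_339)) (BT.node 20140 (BT.leaf c12_340) (BT.leaf c12_341))) (BT.node 20143 (BT.node 20142 (BT.leaf c12_342) (BT.leaf c12_343)) (BT.leaf c12_344))) (BT.node 20148 (BT.node 20146 (BT.node 20145 (BT.leaf c12_345) (BT.leaf c12_346)) (BT.node 20147 (BT.leaf c12_347) (BT.leaf c12_348))) (BT.node 20150 (BT.node 20149 (BT.leaf c12_349) (BT.leaf c12_350)) (BT.leaf c12_351)))) (BT.node 20158 (BT.node 20155 (BT.node 20153 (BT.node 20152 (BT.leaf c12_352) (BT.leaf c12_353)) (BT.node 20154 (BT.leaf c12_354) (BT.leaf c12_355))) (BT.node 20157 (BT.node 20156 (BT.leaf c12_356) (BT.leaf c12_357)) (BT.leaf c12_358))) (BT.node 20162 (BT.node 20160 (BT.node 20159 (BT.leaf c12_359) (BT.leaf c12_360)) (BT.node 20161 (BT.leaf c12_361) (BT.leaf c12_362))) (BT.node 20164 (BT.node 20163 (BT.leaf c12_363) (BT.leaf c12_364)) (BT.leaf c12_365))))) (BT.node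 20179 (BT.node 20172 (BT.node 20169 (BT.node 20167 (BT.node 20166 (BT.leaf c12_366) (BT.leaf c12_367)) (BT.node 20168 (BT.leaf c12_368) (BT.leaf c12_369))) (BT.node 20171 (BT.node 20170 (BT.leaf c12_370) (BT.leaf c12_371)) (BT.leaf c12_372))) (BT.node 20176 (BT.node 20174 (BT.node 20173 (BT.leaf c12_373) (BT.leaf c12_374)) (BT.node 20175 (BT.leaf c12_375) (BT.leaf c12_376))) (BT.node 20178 (BT.node 20177 (BT.leaf c12_377) (BT.leaf c12_378)) (BT.leaf c12_379)))) (BT.node 20186 (BT.node 20183 (BT.node 20181 (BT.node 20180 (BT.leaf c12_380) (BT.leaf c12_381)) (BT.node 20182 (BT.leaf c12_382) (BT.leaf c12_383))) (BT.node 20185 (BT.node 20184 (BT.leaf c12_384) (BT.leaf c12_385)) (BT.leaf c12_386))) (BT.node 20190 (BT.node 20188 (BT.node 20187 (BT.leaf c12_387) (BT.leaf c12_388)) (BT.node 20189 (BT.leaf c12_389) (BT.leaf c12_390))) (BT.node 20192 (BT.node 20191 (BT.leaf c12_391) (BT.leaf c12_392)) (BT.leaf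 c12_393)))))) (BT.node 20221 (BT.node 20207 (BT.node 20200 (BT.node 20197 (BT.node 20195 (BT.node 20194 (BT.leaf c12_394) (BT.leaf c12_395)) (BT.node 20196 (BT.leaf c12_396) (BT.leaf c12_397))) (BT.node 20199 (BT.node 20198 (BT.leaf c12_398) (BT.leaf c12_399)) (BT.leaf c12_400))) (BT.node 20204 (BT.node 20202 (BT.node 20201 (BT.leaf c12_401) (BT.leaf c12_402)) (BT.node 20203 (BT.leaf c12_403) (BT.leaf c12_404))) (BT.node 20206 (BT.node 20205 (BT.leaf c12_405) (BT.leaf c12_406)) (BT.leaf c12_407)))) (BT.node 20214 (BT.node 20211 (BT.node 20209 (BT.node 20208 (BT.leaf c12_408) (BT.leaf c12_409)) (BT.node 20210 (BT.leaf c12_410) (BT.leaf c12_411))) (BT.node 20213 (BT.node 20212 (BT.leaf c12_412) (BT.leaf c12_413)) (BT.leaf c12_414))) (BT.node 20218 (BT.node 20216 (BT.node 20215 (BT.leaf c12_415) (BT.leaf c12_416)) (BT.node 20217 (BT.leaf c12_417) (BT.leaf c12_418))) (BT.node 20220 (BT.node 20219 (BT.leaf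 c12_419) (BT.leaf c12_420)) (BT.leaf c12_421))))) (BT.node 20235 (BT.node 20228 (BT.node 20225 (BT.node 20223 (BT.node 20222 (BT.leaf c12_422) (BT.leaf c12_423)) (BT.node 20224 (BT.leaf c12_424) (BT.leaf c12_425))) (BT.node 20227 (BT.node 20226 (BT.leaf c12_426) (BT.leaf c12_427)) (BT.leaf c12_428))) (BT.node 20232 (BT.node 20230 (BT.node 20229 (BT.leaf c12_429) (BT.leaf c12_430)) (BT.node 20231 (BT.leaf c12_431) (BT.leaf c12_432))) (BT.node 20234 (BT.node 20233 (BT.leaf c12_433) (BT.leaf c12_434)) (BT.leaf c12_435)))) (BT.node 20242 (BT.node 20239 (BT.node 20237 (BT.node 20236 (BT.leaf c12_436) (BT.leaf c12_437)) (BT.node 20238 (BT.leaf c12_438) (BT.leaf c12_439))) (BT.node 20241 (BT.node 20240 (BT.leaf c12_440) (BT.leaf c12_441)) (BT.leaf c12_442))) (BT.node 20246 (BT.node 20244 (BT.node 20243 (BT.leaf c12_443) (BT.leaf c12_444)) (BT.node 20245 (BT.leaf c12_445) (BT.leaf c12_446))) (BT.node 20248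 (BT.node 20247 (BT.leaf c12_447) (BT.leaf c12_448)) (BT.leaf c12_449))))))))) (BT.node 20474 (BT.node 20362 (BT.node 20306 (BT.node 20278 (BT.node 20264 (BT.node 20257 (BT.node 20253 (BT.node 20251 (BT.node 20250 (BT.leaf c12_450) (BT.leaf c12_451)) (BT.node 20252 (BT.leaf c12_452) (BT.leaf c12_453))) (BT.node 20255 (BT.node 20254 (BT.leaf c12_454) (BT.leaf c12_455)) (BT.node 20256 (BT.leaf c12_456) (BT.leaf c12_457)))) (BT.node 20261 (BT.node 20259 (BT.node 20258 (BT.leaf c12_458) (BT.leaf c12_459)) (BT.node 20260 (BT.leaf c12_460) (BT.leaf c12_461))) (BT.node 20263 (BT.node 20262 (BT.leaf c12_462) (BT.leaf c12_463)) (BT.leaf c12_464)))) (BT.node 20271 (BT.node 20268 (BT.node 20266 (BT.node 20265 (BT.leaf c12_465) (BT.leaf c12_466)) (BT.node 20267 (BT.leaf c12_467) (BT.leaf c12_468))) (BT.node 20270 (BT.node 20269 (BT.leaf c12_469) (BT.leaf c12_470)) (BT.leaf c12_471))) (BT.node 20275 (BT.node 20273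 (BT.node 20272 (BT.leaf c12_472) (BT.leaf c12_473)) (BT.node 20274 (BT.leaf c12_474) (BT.leaf c12_475))) (BT.node 20277 (BT.node 20276 (BT.leaf c12_476) (BT.leaf c12_477)) (BT.leaf c12_478))))) (BT.node 20292 (BT.node 20285 (BT.node 20282 (BT.node 20280 (BT.node 20279 (BT.leaf c12_479) (BT.leaf c12_480)) (BT.node 20281 (BT.leaf c12_481) (BT.leaf c12_482))) (BT.node 20284 (BT.node 20283 (BT.leaf c12_483) (BT.leaf c12_484)) (BT.leaf c12_485))) (BT.node 20289 (BT.node 20287 (BT.node 20286 (BT.leaf c12_486) (BT.leaf c12_487)) (BT.node 20288 (BT.leaf c12_488) (BT.leaf c12_489))) (BT.node 20291 (BT.node 20290 (BT.leaf c12_490) (BT.leaf c12_491)) (BT.leaf c12_492)))) (BT.node 20299 (BT.node 20296 (BT.node 20294 (BT.node 20293 (BT.leaf c12_493) (BT.leaf c12_494)) (BT.node 20295 (BT.leaf c12_495) (BT.leaf c12_496))) (BT.node 20298 (BT.node 20297 (BT.leaf c12_497) (BT.leaf c12_498)) (BT.leaf c12_499))) (BT.node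 20303 (BT.node 20301 (BT.node 20300 (BT.leaf c12_500) (BT.leaf c12_501)) (BT.node 20302 (BT.leaf c12_502) (BT.leaf c12_503))) (BT.node 20305 (BT.node 20304 (BT.leaf c12_504) (BT.leaf c12_505)) (BT.leaf c12_506)))))) (BT.node 20334 (BT.node 20320 (BT.node 20313 (BT.node 20310 (BT.node 20308 (BT.node 20307 (BT.leaf c12_507) (BT.leaf c12_508)) (BT.node 20309 (BT.leaf c12_509) (BT.leaf c12_510))) (BT.node 20312 (BT.node 20311 (BT.leaf c12_511) (BT.leaf c12_512)) (BT.leaf c12_513))) (BT.node 20317 (BT.node 20315 (BT.node 20314 (BT.leaf c12_514) (BT.leaf c12_515)) (BT.node 20316 (BT.leaf c12_516) (BT.leaf c12_517))) (BT.node 20319 (BT.node 20318 (BT.leaf c12_518) (BT.leaf c12_519)) (BT.leaf c12_520)))) (BT.node 20327 (BT.node 20324 (BT.node 20322 (BT.node 20321 (BT.leaf c12_521) (BT.leaf c12_522)) (BT.node 20323 (BT.leaf c12_523) (BT.leaf c12_524))) (BT.node 20326 (BT.node 20325 (BT.leaf c12_525) (BT.leaf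 c12_526)) (BT.leaf c12_527))) (BT.node 20331 (BT.node 20329 (BT.node 20328 (BT.leaf c12_528) (BT.leaf c12_529)) (BT.node 20330 (BT.leaf c12_530) (BT.leaf c12_531))) (BT.node 20333 (BT.node 20332 (BT.leaf c12_532) (BT.leaf c12_533)) (BT.leaf c12_534))))) (BT.node 20348 (BT.node 20341 (BT.node 20338 (BT.node 20336 (BT.node 20335 (BT.leaf c12_535) (BT.leaf c12_536)) (BT.node 20337 (BT.leaf c12_537) (BT.leaf c12_538))) (BT.node 20340 (BT.node 20339 (BT.leaf c12_539) (BT.leaf c12_540)) (BT.leaf c12_541))) (BT.node 20345 (BT.node 20343 (BT.node 20342 (BT.leaf c12_542) (BT.leaf c12_543)) (BT.node 20344 (BT.leaf c12_544) (BT.leaf c12_545))) (BT.node 20347 (BT.node 20346 (BT.leaf c12_546) (BT.leaf c12_547)) (BT.leaf c12_548)))) (BT.node 20355 (BT.node 20352 (BT.node 20350 (BT.node 20349 (BT.leaf c12_549) (BT.leaf c12_550)) (BT.node 20351 (BT.leaf c12_551) (BT.leaf c12_552))) (BT.node 20354 (BT.node 20353 (BT.leaf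 c12_553) (BT.leaf c12_554)) (BT.leaf c12_555))) (BT.node 20359 (BT.node 20357 (BT.node 20356 (BT.leaf c12_556) (BT.leaf c12_557)) (BT.node 20358 (BT.leaf c12_558) (BT.leaf c12_559))) (BT.node 20361 (BT.node 20360 (BT.leaf c12_560) (BT.leaf c12_561)) (BT.leaf c12_562))))))) (BT.node 20418 (BT.node 20390 (BT.node 20376 (BT.node 20369 (BT.node 20366 (BT.node 20364 (BT.node 20363 (BT.leaf c12_563) (BT.leaf c12_564)) (BT.node 20365 (BT.leaf c12_565) (BT.leaf c12_566))) (BT.node 20368 (BT.node 20367 (BT.leaf c12_567) (BT.leaf c12_568)) (BT.leaf c12_569))) (BT.node 20373 (BT.node 20371 (BT.node 20370 (BT.leaf c12_570) (BT.leaf c12_571)) (BT.node 20372 (BT.leaf c12_572) (BT.leaf c12_573))) (BT.node 20375 (BT.node 20374 (BT.leaf c12_574) (BT.leaf c12_575)) (BT.leaf c12_576)))) (BT.node 20383 (BT.node 20380 (BT.node 20378 (BT.node 20377 (BT.leaf c12_577) (BT.leaf c12_578)) (BT.node 20379 (BT.leaf c12_579) (BT.leaf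 c12_580))) (BT.node 20382 (BT.node 20381 (BT.leaf c12_581) (BT.leaf c12_582)) (BT.leaf c12_583))) (BT.node 20387 (BT.node 20385 (BT.node 20384 (BT.leaf c12_584) (BT.leaf c12_585)) (BT.node 20386 (BT.leaf c12_586) (BT.leaf c12_587))) (BT.node 20389 (BT.node 20388 (BT.leaf c12_588) (BT.leaf c12_589)) (BT.leaf c12_590))))) (BT.node 20404 (BT.node 20397 (BT.node 20394 (BT.node 20392 (BT.node 20391 (BT.leaf c12_591) (BT.leaf c12_592)) (BT.node 20393 (BT.leaf c12_593) (BT.leaf c12_594))) (BT.node 20396 (BT.node 20395 (BT.leaf c12_595) (BT.leaf c12_596)) (BT.leaf c12_597))) (BT.node 20401 (BT.node 20399 (BT.node 20398 (BT.leaf c12_598) (BT.leaf c12_599)) (BT.node 20400 (BT.leaf c12_600) (BT.leaf c12_601))) (BT.node 20403 (BT.node 20402 (BT.leaf c12_602) (BT.leaf c12_603)) (BT.leaf c12_604)))) (BT.node 20411 (BT.node 20408 (BT.node 20406 (BT.node 20405 (BT.leaf c12_605) (BT.leaf c12_606)) (BT.node 20407 (BT.leaf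 c12_607) (BT.leaf c12_608))) (BT.node 20410 (BT.node 20409 (BT.leaf c12_609) (BT.leaf c12_610)) (BT.leaf c12_611))) (BT.node 20415 (BT.node 20413 (BT.node 20412 (BT.leaf c12_612) (BT.leaf c12_613)) (BT.node 20414 (BT.leaf c12_614) (BT.leaf c12_615))) (BT.node 20417 (BT.node 20416 (BT.leaf c12_616) (BT.leaf c12_617)) (BT.leaf c12_618)))))) (BT.node 20446 (BT.node 20432 (BT.node 20425 (BT.node 20422 (BT.node 20420 (BT.node 20419 (BT.leaf c12_619) (BT.leaf c12_620)) (BT.node 20421 (BT.leaf c12_621) (BT.leaf c12_622))) (BT.node 20424 (BT.node 20423 (BT.leaf c12_623) (BT.leaf c12_624)) (BT.leaf c12_625))) (BT.node 20429 (BT.node 20427 (BT.node 20426 (BT.leaf c12_626) (BT.leaf c12_627)) (BT.node 20428 (BT.leaf c12_628) (BT.leaf c12_629))) (BT.node 20431 (BT.node 20430 (BT.leaf c12_630) (BT.leaf c12_631)) (BT.leaf c12_632)))) (BT.node 20439 (BT.node 20436 (BT.node 20434 (BT.node 20433 (BT.leaf c12_633) (BT.leaf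 c12_634)) (BT.node 20435 (BT.leaf c12_635) (BT.leaf c12_636))) (BT.node 20438 (BT.node 20437 (BT.leaf c12_637) (BT.leaf c12_638)) (BT.leaf c12_639))) (BT.node 20443 (BT.node 20441 (BT.node 20440 (BT.leaf c12_640) (BT.leaf c12_641)) (BT.node 20442 (BT.leaf c12_642) (BT.leaf c12_643))) (BT.node 20445 (BT.node 20444 (BT.leaf c12_644) (BT.leaf c12_645)) (BT.leaf c12_646))))) (BT.node 20460 (BT.node 20453 (BT.node 20450 (BT.node 20448 (BT.node 20447 (BT.leaf c12_647) (BT.leaf c12_648)) (BT.node 20449 (BT.leaf c12_649) (BT.leaf c12_650))) (BT.node 20452 (BT.node 20451 (BT.leaf c12_651) (BT.leaf c12_652)) (BT.leaf c12_653))) (BT.node 20457 (BT.node 20455 (BT.node 20454 (BT.leaf c12_654) (BT.leaf c12_655)) (BT.node 20456 (BT.leaf c12_656) (BT.leaf c12_657))) (BT.node 20459 (BT.node 20458 (BT.leaf c12_658) (BT.leaf c12_659)) (BT.leaf c12_660)))) (BT.node 20467 (BT.node 20464 (BT.node 20462 (BT.node 20461 (BT.leaf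 c12_661) (BT.leaf c12_662)) (BT.node 20463 (BT.leaf c12_663) (BT.leaf c12_664))) (BT.node 20466 (BT.node 20465 (BT.leaf c12_665) (BT.leaf c12_666)) (BT.leaf c12_667))) (BT.node 20471 (BT.node 20469 (BT.node 20468 (BT.leaf c12_668) (BT.leaf c12_669)) (BT.node 20470 (BT.leaf c12_670) (BT.leaf c12_671))) (BT.node 20473 (BT.node 20472 (BT.leaf c12_672) (BT.leaf c12_673)) (BT.leaf c12_674)))))))) (BT.node 20587 (BT.node 20531 (BT.node 20503 (BT.node 20489 (BT.node 20482 (BT.node 20478 (BT.node 20476 (BT.node 20475 (BT.leaf c12_675) (BT.leaf c12_676)) (BT.node 20477 (BT.leaf c12_677) (BT.leaf c12_678))) (BT.node 20480 (BT.node 20479 (BT.leaf c12_679) (BT.leaf c12_680)) (BT.node 20481 (BT.leaf c12_681) (BT.leaf c12_682)))) (BT.node 20486 (BT.node 20484 (BT.node 20483 (BT.leaf c12_683) (BT.leaf c12_684)) (BT.node 20485 (BT.leaf c12_685) (BT.leaf c12_686))) (BT.node 20488 (BT.node 20487 (BT.leaf c12_687) (BT.leaf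 c12_688)) (BT.leaf c12_689)))) (BT.node 20496 (BT.node 20493 (BT.node 20491 (BT.node 20490 (BT.leaf c12_690) (BT.leaf c12_691)) (BT.node 20492 (BT.leaf c12_692) (BT.leaf c12_693))) (BT.node 20495 (BT.node 20494 (BT.leaf c12_694) (BT.leaf c12_695)) (BT.leaf c12_696))) (BT.node 20500 (BT.node 20498 (BT.node 20497 (BT.leaf c12_697) (BT.leaf c12_698)) (BT.node 20499 (BT.leaf c12_699) (BT.leaf c12_700))) (BT.node 20502 (BT.node 20501 (BT.leaf c12_701) (BT.leaf c12_702)) (BT.leaf c12_703))))) (BT.node 20517 (BT.node 20510 (BT.node 20507 (BT.node 20505 (BT.node 20504 (BT.leaf c12_704) (BT.leaf c12_705)) (BT.node 20506 (BT.leaf c12_706) (BT.leaf c12_707))) (BT.node 20509 (BT.node 20508 (BT.leaf c12_708) (BT.leaf c12_709)) (BT.leaf c12_710))) (BT.node 20514 (BT.node 20512 (BT.node 20511 (BT.leaf c12_711) (BT.leaf c12_712)) (BT.node 20513 (BT.leaf c12_713) (BT.leaf c12_714))) (BT.node 20516 (BT.node 20515 (BT.leaf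 c12_715) (BT.leaf c12_716)) (BT.leaf c12_717)))) (BT.node 20524 (BT.node 20521 (BT.node 20519 (BT.node 20518 (BT.leaf c12_718) (BT.leaf c12_719)) (BT.node 20520 (BT.leaf c12_720) (BT.leaf c12_721))) (BT.node 20523 (BT.node 20522 (BT.leaf c12_722) (BT.leaf c12_723)) (BT.leaf c12_724))) (BT.node 20528 (BT.node 20526 (BT.node 20525 (BT.leaf c12_725) (BT.leaf c12_726)) (BT.node 20527 (BT.leaf c12_727) (BT.leaf c12_728))) (BT.node 20530 (BT.node 20529 (BT.leaf c12_729) (BT.leaf c12_730)) (BT.leaf c12_731)))))) (BT.node 20559 (BT.node 20545 (BT.node 20538 (BT.node 20535 (BT.node 20533 (BT.node 20532 (BT.leaf c12_732) (BT.leaf c12_733)) (BT.node 20534 (BT.leaf c12_734) (BT.leaf c12_735))) (BT.node 20537 (BT.node 20536 (BT.leaf c12_736) (BT.leaf c12_737)) (BT.leaf c12_738))) (BT.node 20542 (BT.node 20540 (BT.node 20539 (BT.leaf c12_739) (BT.leaf c12_740)) (BT.node 20541 (BT.leaf c12_741) (BT.leaf c12_742)))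 (BT.node 20544 (BT.node 20543 (BT.leaf c12_743) (BT.leaf c12_744)) (BT.leaf c12_745)))) (BT.node 20552 (BT.node 20549 (BT.node 20547 (BT.node 20546 (BT.leaf c12_746) (BT.leaf c12_747)) (BT.node 20548 (BT.leaf c12_748) (BT.leaf c12_749))) (BT.node 20551 (BT.node 20550 (BT.leaf c12_750) (BT.leaf c12_751)) (BT.leaf c12_752))) (BT.node 20556 (BT.node 20554 (BT.node 20553 (BT.leaf c12_753) (BT.leaf c12_754)) (BT.node 20555 (BT.leaf c12_755) (BT.leaf c12_756))) (BT.node 20558 (BT.node 20557 (BT.leaf c12_757) (BT.leaf c12_758)) (BT.leaf c12_759))))) (BT.node 20573 (BT.node 20566 (BT.node 20563 (BT.node 20561 (BT.node 20560 (BT.leaf c12_760) (BT.leaf c12_761)) (BT.node 20562 (BT.leaf c12_762) (BT.leaf c12_763))) (BT.node 20565 (BT.node 20564 (BT.leaf c12_764) (BT.leaf c12_765)) (BT.leaf c12_766))) (BT.node 20570 (BT.node 20568 (BT.node 20567 (BT.leaf c12_767) (BT.leaf c12_768)) (BT.node 20569 (BT.leaf c12_769)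 (BT.leaf c12_770))) (BT.node 20572 (BT.node 20571 (BT.leaf c12_771) (BT.leaf c12_772)) (BT.leaf c12_773)))) (BT.node 20580 (BT.node 20577 (BT.node 20575 (BT.node 20574 (BT.leaf c12_774) (BT.leaf c12_775)) (BT.node 20576 (BT.leaf c12_776) (BT.leaf c12_777))) (BT.node 20579 (BT.node 20578 (BT.leaf c12_778) (BT.leaf c12_779)) (BT.leaf c12_780))) (BT.node 20584 (BT.node 20582 (BT.node 20581 (BT.leaf c12_781) (BT.leaf c12_782)) (BT.node 20583 (BT.leaf c12_783) (BT.leaf c12_784))) (BT.node 20586 (BT.node 20585 (BT.leaf c12_785) (BT.leaf c12_786)) (BT.leaf c12_787))))))) (BT.node 20643 (BT.node 20615 (BT.node 20601 (BT.node 20594 (BT.node 20591 (BT.node 20589 (BT.node 20588 (BT.leaf c12_788) (BT.leaf c12_789)) (BT.node 20590 (BT.leaf c12_790) (BT.leaf c12_791))) (BT.node 20593 (BT.node 20592 (BT.leaf c12_792) (BT.leaf c12_793)) (BT.leaf c12_794))) (BT.node 20598 (BT.node 20596 (BT.node 20595 (BT.leaf c12_795)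 (BT.leaf c12_796)) (BT.node 20597 (BT.leaf c12_797) (BT.leaf c12_798))) (BT.node 20600 (BT.node 20599 (BT.leaf c12_799) (BT.leaf c12_800)) (BT.leaf c12_801)))) (BT.node 20608 (BT.node 20605 (BT.node 20603 (BT.node 20602 (BT.leaf c12_802) (BT.leaf c12_803)) (BT.node 20604 (BT.leaf c12_804) (BT.leaf c12_805))) (BT.node 20607 (BT.node 20606 (BT.leaf c12_806) (BT.leaf c12_807)) (BT.leaf c12_808))) (BT.node 20612 (BT.node 20610 (BT.node 20609 (BT.leaf c12_809) (BT.leaf c12_810)) (BT.node 20611 (BT.leaf c12_811) (BT.leaf c12_812))) (BT.node 20614 (BT.node 20613 (BT.leaf c12_813) (BT.leaf c12_814)) (BT.leaf c12_815))))) (BT.node 20629 (BT.node 20622 (BT.node 20619 (BT.node 20617 (BT.node 20616 (BT.leaf c12_816) (BT.leaf c12_817)) (BT.node 20618 (BT.leaf c12_818) (BT.leaf c12_819))) (BT.node 20621 (BT.node 20620 (BT.leaf c12_820) (BT.leaf c12_821)) (BT.leaf c12_822))) (BT.node 20626 (BT.node 20624 (BT.node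 20623 (BT.leaf c12_823) (BT.leaf c12_824)) (BT.node 20625 (BT.leaf c12_825) (BT.leaf c12_826))) (BT.node 20628 (BT.node 20627 (BT.leaf c12_827) (BT.leaf c12_828)) (BT.leaf c12_829)))) (BT.node 20636 (BT.node 20633 (BT.node 20631 (BT.node 20630 (BT.leaf c12_830) (BT.leaf c12_831)) (BT.node 20632 (BT.leaf c12_832) (BT.leaf c12_833))) (BT.node 20635 (BT.node 20634 (BT.leaf c12_834) (BT.leaf c12_835)) (BT.leaf c12_836))) (BT.node 20640 (BT.node 20638 (BT.node 20637 (BT.leaf c12_837) (BT.leaf c12_838)) (BT.node 20639 (BT.leaf c12_839) (BT.leaf c12_840))) (BT.node 20642 (BT.node 20641 (BT.leaf c12_841) (BT.leaf c12_842)) (BT.leaf c12_843)))))) (BT.node 20671 (BT.node 20657 (BT.node 20650 (BT.node 20647 (BT.node 20645 (BT.node 20644 (BT.leaf c12_844) (BT.leaf c12_845)) (BT.node 20646 (BT.leaf c12_846) (BT.leaf c12_847))) (BT.node 20649 (BT.node 20648 (BT.leaf c12_848) (BT.leaf c12_849)) (BT.leaf c12_850)))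 (BT.node 20654 (BT.node 20652 (BT.node 20651 (BT.leaf c12_851) (BT.leaf c12_852)) (BT.node 20653 (BT.leaf c12_853) (BT.leaf c12_854))) (BT.node 20656 (BT.node 20655 (BT.leaf c12_855) (BT.leaf c12_856)) (BT.leaf c12_857)))) (BT.node 20664 (BT.node 20661 (BT.node 20659 (BT.node 20658 (BT.leaf c12_858) (BT.leaf c12_859)) (BT.node 20660 (BT.leaf c12_860) (BT.leaf c12_861))) (BT.node 20663 (BT.node 20662 (BT.leaf c12_862) (BT.leaf c12_863)) (BT.leaf c12_864))) (BT.node 20668 (BT.node 20666 (BT.node 20665 (BT.leaf c12_865) (BT.leaf c12_866)) (BT.node 20667 (BT.leaf c12_867) (BT.leaf c12_868))) (BT.node 20670 (BT.node 20669 (BT.leaf c12_869) (BT.leaf c12_870)) (BT.leaf c12_871))))) (BT.node 20685 (BT.node 20678 (BT.node 20675 (BT.node 20673 (BT.node 20672 (BT.leaf c12_872) (BT.leaf c12_873)) (BT.node 20674 (BT.leaf c12_874) (BT.leaf c12_875))) (BT.node 20677 (BT.node 20676 (BT.leaf c12_876) (BT.leaf c12_877))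 (BT.leaf c12_878))) (BT.node 20682 (BT.node 20680 (BT.node 20679 (BT.leaf c12_879) (BT.leaf c12_880)) (BT.node 20681 (BT.leaf c12_881) (BT.leaf c12_882))) (BT.node 20684 (BT.node 20683 (BT.leaf c12_883) (BT.leaf c12_884)) (BT.leaf c12_885)))) (BT.node 20692 (BT.node 20689 (BT.node 20687 (BT.node 20686 (BT.leaf c12_886) (BT.leaf c12_887)) (BT.node 20688 (BT.leaf c12_888) (BT.leaf c12_889))) (BT.node 20691 (BT.node 20690 (BT.leaf c12_890) (BT.leaf c12_891)) (BT.leaf c12_892))) (BT.node 20696 (BT.node 20694 (BT.node 20693 (BT.leaf c12_893) (BT.leaf c12_894)) (BT.node 20695 (BT.leaf c12_895) (BT.leaf c12_896))) (BT.node 20698 (BT.node 20697 (BT.leaf c12_897) (BT.leaf c12_898)) (BT.leaf c12_899))))))))))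
/-- the chunks of the letter 23 -/
def colL_23 : BT ℕ := (BT.node 21149 (BT.node 20924 (BT.node 20812 (BT.node 20756 (BT.node 20728 (BT.node 20714 (BT.node 20707 (BT.node 20703 (BT.node 20701 (BT.node 20700 (BT.leaf c13_0) (BT.leaf c13_1)) (BT.node 20702 (BT.leaf c13_2) (BT.leaf c13_3))) (BT.node 20705 (BT.node 20704 (BT.leaf c13_4) (BT.leaf c13_5)) (BT.node 20706 (BT.leaf c13_6) (BT.leaf c13_7)))) (BT.node 20711 (BT.node 20709 (BT.node 20708 (BT.leaf c13_8) (BT.leaf c13_9)) (BT.node 20710 (BT.leaf c13_10) (BT.leaf c13_11))) (BT.node 20713 (BT.node 20712 (BT.leaf c13_12) (BT.leaf c13_13)) (BT.leaf c13_14)))) (BT.node 20721 (BT.node 20718 (BT.node 20716 (BT.node 20715 (BT.leaf c13_15) (BT.leaf c13_16)) (BT.node 20717 (BT.leaf c13_17) (BT.leaf c13_18))) (BT.node 20720 (BT.node 20719 (BT.leaf c13_19) (BT.leaf c13_20)) (BT.leaf c13_21))) (BT.node 20725 (BT.node 20723 (BT.node 20722 (BT.leaf c13_22) (BT.leaf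 c13_23)) (BT.node 20724 (BT.leaf c13_24) (BT.leaf c13_25))) (BT.node 20727 (BT.node 20726 (BT.leaf c13_26) (BT.leaf c13_27)) (BT.leaf c13_28))))) (BT.node 20742 (BT.node 20735 (BT.node 20732 (BT.node 20730 (BT.node 20729 (BT.leaf c13_29) (BT.leaf c13_30)) (BT.node 20731 (BT.leaf c13_31) (BT.leaf c13_32))) (BT.node 20734 (BT.node 20733 (BT.leaf c13_33) (BT.leaf c13_34)) (BT.leaf c13_35))) (BT.node 20739 (BT.node 20737 (BT.node 20736 (BT.leaf c13_36) (BT.leaf c13_37)) (BT.node 20738 (BT.leaf c13_38) (BT.leaf c13_39))) (BT.node 20741 (BT.node 20740 (BT.leaf c13_40) (BT.leaf c13_41)) (BT.leaf c13_42)))) (BT.node 20749 (BT.node 20746 (BT.node 20744 (BT.node 20743 (BT.leaf c13_43) (BT.leaf c13_44)) (BT.node 20745 (BT.leaf c13_45) (BT.leaf c13_46))) (BT.node 20748 (BT.node 20747 (BT.leaf c13_47) (BT.leaf c13_48)) (BT.leaf c13_49))) (BT.node 20753 (BT.node 20751 (BT.node 20750 (BT.leaf c13_50) (BT.leaf c13_51))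 (BT.node 20752 (BT.leaf c13_52) (BT.leaf c13_53))) (BT.node 20755 (BT.node 20754 (BT.leaf c13_54) (BT.leaf c13_55)) (BT.leaf c13_56)))))) (BT.node 20784 (BT.node 20770 (BT.node 20763 (BT.node 20760 (BT.node 20758 (BT.node 20757 (BT.leaf c13_57) (BT.leaf c13_58)) (BT.node 20759 (BT.leaf c13_59) (BT.leaf c13_60))) (BT.node 20762 (BT.node 20761 (BT.leaf c13_61) (BT.leaf c13_62)) (BT.leaf c13_63))) (BT.node 20767 (BT.node 20765 (BT.node 20764 (BT.leaf c13_64) (BT.leaf c13_65)) (BT.node 20766 (BT.leaf c13_66) (BT.leaf c13_67))) (BT.node 20769 (BT.node 20768 (BT.leaf c13_68) (BT.leaf c13_69)) (BT.leaf c13_70)))) (BT.node 20777 (BT.node 20774 (BT.node 20772 (BT.node 20771 (BT.leaf c13_71) (BT.leaf c13_72)) (BT.node 20773 (BT.leaf c13_73) (BT.leaf c13_74))) (BT.node 20776 (BT.node 20775 (BT.leaf c13_75) (BT.leaf c13_76)) (BT.leaf c13_77))) (BT.node 20781 (BT.node 20779 (BT.node 20778 (BT.leaf c13_78) (BT.leaf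 c13_79)) (BT.node 20780 (BT.leaf c13_80) (BT.leaf c13_81))) (BT.node 20783 (BT.node 20782 (BT.leaf c13_82) (BT.leaf c13_83)) (BT.leaf c13_84))))) (BT.node 20798 (BT.node 20791 (BT.node 20788 (BT.node 20786 (BT.node 20785 (BT.leaf c13_85) (BT.leaf c13_86)) (BT.node 20787 (BT.leaf c13_87) (BT.leaf c13_88))) (BT.node 20790 (BT.node 20789 (BT.leaf c13_89) (BT.leaf c13_90)) (BT.leaf c13_91))) (BT.node 20795 (BT.node 20793 (BT.node 20792 (BT.leaf c13_92) (BT.leaf c13_93)) (BT.node 20794 (BT.leaf c13_94) (BT.leaf c13_95))) (BT.node 20797 (BT.node 20796 (BT.leaf c13_96) (BT.leaf c13_97)) (BT.leaf c13_98)))) (BT.node 20805 (BT.node 20802 (BT.node 20800 (BT.node 20799 (BT.leaf c13_99) (BT.leaf c13_100)) (BT.node 20801 (BT.leaf c13_101) (BT.leaf c13_102))) (BT.node 20804 (BT.node 20803 (BT.leaf c13_103) (BT.leaf c13_104)) (BT.leaf c13_105))) (BT.node 20809 (BT.node 20807 (BT.node 20806 (BT.leaf c13_106) (BT.leaf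 c13_107)) (BT.node 20808 (BT.leaf c13_108) (BT.leaf c13_109))) (BT.node 20811 (BT.node 20810 (BT.leaf c13_110) (BT.leaf c13_111)) (BT.leaf c13_112))))))) (BT.node 20868 (BT.node 20840 (BT.node 20826 (BT.node 20819 (BT.node 20816 (BT.node 20814 (BT.node 20813 (BT.leaf c13_113) (BT.leaf c13_114)) (BT.node 20815 (BT.leaf c13_115) (BT.leaf c13_116))) (BT.node 20818 (BT.node 20817 (BT.leaf c13_117) (BT.leaf c13_118)) (BT.leaf c13_119))) (BT.node 20823 (BT.node 20821 (BT.node 20820 (BT.leaf c13_120) (BT.leaf c13_121)) (BT.node 20822 (BT.leaf c13_122) (BT.leaf c13_123))) (BT.node 20825 (BT.node 20824 (BT.leaf c13_124) (BT.leaf c13_125)) (BT.leaf c13_126)))) (BT.node 20833 (BT.node 20830 (BT.node 20828 (BT.node 20827 (BT.leaf c13_127) (BT.leaf c13_128)) (BT.node 20829 (BT.leaf c13_129) (BT.leaf c13_130))) (BT.node 20832 (BT.node 20831 (BT.leaf c13_131) (BT.leaf c13_132)) (BT.leaf c13_133))) (BT.node 20837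 (BT.node 20835 (BT.node 20834 (BT.leaf c13_134) (BT.leaf c13_135)) (BT.node 20836 (BT.leaf c13_136) (BT.leaf c13_137))) (BT.node 20839 (BT.node 20838 (BT.leaf c13_138) (BT.leaf c13_139)) (BT.leaf c13_140))))) (BT.node 20854 (BT.node 20847 (BT.node 20844 (BT.node 20842 (BT.node 20841 (BT.leaf c13_141) (BT.leaf c13_142)) (BT.node 20843 (BT.leaf c13_143) (BT.leaf c13_144))) (BT.node 20846 (BT.node 20845 (BT.leaf c13_145) (BT.leaf c13_146)) (BT.leaf c13_147))) (BT.node 20851 (BT.node 20849 (BT.node 20848 (BT.leaf c13_148) (BT.leaf c13_149)) (BT.node 20850 (BT.leaf c13_150) (BT.leaf c13_151))) (BT.node 20853 (BT.node 20852 (BT.leaf c13_152) (BT.leaf c13_153)) (BT.leaf c13_154)))) (BT.node 20861 (BT.node 20858 (BT.node 20856 (BT.node 20855 (BT.leaf c13_155) (BT.leaf c13_156)) (BT.node 20857 (BT.leaf c13_157) (BT.leaf c13_158))) (BT.node 20860 (BT.node 20859 (BT.leaf c13_159) (BT.leaf c13_160)) (BT.leaf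 c13_161))) (BT.node 20865 (BT.node 20863 (BT.node 20862 (BT.leaf c13_162) (BT.leaf c13_163)) (BT.node 20864 (BT.leaf c13_164) (BT.leaf c13_165))) (BT.node 20867 (BT.node 20866 (BT.leaf c13_166) (BT.leaf c13_167)) (BT.leaf c13_168)))))) (BT.node 20896 (BT.node 20882 (BT.node 20875 (BT.node 20872 (BT.node 20870 (BT.node 20869 (BT.leaf c13_169) (BT.leaf c13_170)) (BT.node 20871 (BT.leaf c13_171) (BT.leaf c13_172))) (BT.node 20874 (BT.node 20873 (BT.leaf c13_173) (BT.leaf c13_174)) (BT.leaf c13_175))) (BT.node 20879 (BT.node 20877 (BT.node 20876 (BT.leaf c13_176) (BT.leaf c13_177)) (BT.node 20878 (BT.leaf c13_178) (BT.leaf c13_179))) (BT.node 20881 (BT.node 20880 (BT.leaf c13_180) (BT.leaf c13_181)) (BT.leaf c13_182)))) (BT.node 20889 (BT.node 20886 (BT.node 20884 (BT.node 20883 (BT.leaf c13_183) (BT.leaf c13_184)) (BT.node 20885 (BT.leaf c13_185) (BT.leaf c13_186))) (BT.node 20888 (BT.node 20887 (BT.leaf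 c13_187) (BT.leaf c13_188)) (BT.leaf c13_189))) (BT.node 20893 (BT.node 20891 (BT.node 20890 (BT.leaf c13_190) (BT.leaf c13_191)) (BT.node 20892 (BT.leaf c13_192) (BT.leaf c13_193))) (BT.node 20895 (BT.node 20894 (BT.leaf c13_194) (BT.leaf c13_195)) (BT.leaf c13_196))))) (BT.node 20910 (BT.node 20903 (BT.node 20900 (BT.node 20898 (BT.node 20897 (BT.leaf c13_197) (BT.leaf c13_198)) (BT.node 20899 (BT.leaf c13_199) (BT.leaf c13_200))) (BT.node 20902 (BT.node 20901 (BT.leaf c13_201) (BT.leaf c13_202)) (BT.leaf c13_203))) (BT.node 20907 (BT.node 20905 (BT.node 20904 (BT.leaf c13_204) (BT.leaf c13_205)) (BT.node 20906 (BT.leaf c13_206) (BT.leaf c13_207))) (BT.node 20909 (BT.node 20908 (BT.leaf c13_208) (BT.leaf c13_209)) (BT.leaf c13_210)))) (BT.node 20917 (BT.node 20914 (BT.node 20912 (BT.node 20911 (BT.leaf c13_211) (BT.leaf c13_212)) (BT.node 20913 (BT.leaf c13_213) (BT.leaf c13_214))) (BT.node 20916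 (BT.node 20915 (BT.leaf c13_215) (BT.leaf c13_216)) (BT.leaf c13_217))) (BT.node 20921 (BT.node 20919 (BT.node 20918 (BT.leaf c13_218) (BT.leaf c13_219)) (BT.node 20920 (BT.leaf c13_220) (BT.leaf c13_221))) (BT.node 20923 (BT.node 20922 (BT.leaf c13_222) (BT.leaf c13_223)) (BT.leaf c13_224)))))))) (BT.node 21037 (BT.node 20981 (BT.node 20953 (BT.node 20939 (BT.node 20932 (BT.node 20928 (BT.node 20926 (BT.node 20925 (BT.leaf c13_225) (BT.leaf c13_226)) (BT.node 20927 (BT.leaf c13_227) (BT.leaf c13_228))) (BT.node 20930 (BT.node 20929 (BT.leaf c13_229) (BT.leaf c13_230)) (BT.node 20931 (BT.leaf c13_231) (BT.leaf c13_232)))) (BT.node 20936 (BT.node 20934 (BT.node 20933 (BT.leaf c13_233) (BT.leaf c13_234)) (BT.node 20935 (BT.leaf c13_235) (BT.leaf c13_236))) (BT.node 20938 (BT.node 20937 (BT.leaf c13_237) (BT.leaf c13_238)) (BT.leaf c13_239)))) (BT.node 20946 (BT.node 20943 (BT.node 20941 (BT.node 20940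 (BT.leaf c13_240) (BT.leaf c13_241)) (BT.node 20942 (BT.leaf c13_242) (BT.leaf c13_243))) (BT.node 20945 (BT.node 20944 (BT.leaf c13_244) (BT.leaf c13_245)) (BT.leaf c13_246))) (BT.node 20950 (BT.node 20948 (BT.node 20947 (BT.leaf c13_247) (BT.leaf c13_248)) (BT.node 20949 (BT.leaf c13_249) (BT.leaf c13_250))) (BT.node 20952 (BT.node 20951 (BT.leaf c13_251) (BT.leaf c13_252)) (BT.leaf c13_253))))) (BT.node 20967 (BT.node 20960 (BT.node 20957 (BT.node 20955 (BT.node 20954 (BT.leaf c13_254) (BT.leaf c13_255)) (BT.node 20956 (BT.leaf c13_256) (BT.leaf c13_257))) (BT.node 20959 (BT.node 20958 (BT.leaf c13_258) (BT.leaf c13_259)) (BT.leaf c13_260))) (BT.node 20964 (BT.node 20962 (BT.node 20961 (BT.leaf c13_261) (BT.leaf c13_262)) (BT.node 20963 (BT.leaf c13_263) (BT.leaf c13_264))) (BT.node 20966 (BT.node 20965 (BT.leaf c13_265) (BT.leaf c13_266)) (BT.leaf c13_267)))) (BT.node 20974 (BT.node 20971 (BT.node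 20969 (BT.node 20968 (BT.leaf c13_268) (BT.leaf c13_269)) (BT.node 20970 (BT.leaf c13_270) (BT.leaf c13_271))) (BT.node 20973 (BT.node 20972 (BT.leaf c13_272) (BT.leaf c13_273)) (BT.leaf c13_274))) (BT.node 20978 (BT.node 20976 (BT.node 20975 (BT.leaf c13_275) (BT.leaf c13_276)) (BT.node 20977 (BT.leaf c13_277) (BT.leaf c13_278))) (BT.node 20980 (BT.node 20979 (BT.leaf c13_279) (BT.leaf c13_280)) (BT.leaf c13_281)))))) (BT.node 21009 (BT.node 20995 (BT.node 20988 (BT.node 20985 (BT.node 20983 (BT.node 20982 (BT.leaf c13_282) (BT.leaf c13_283)) (BT.node 20984 (BT.leaf c13_284) (BT.leaf c13_285))) (BT.node 20987 (BT.node 20986 (BT.leaf c13_286) (BT.leaf c13_287)) (BT.leaf c13_288))) (BT.node 20992 (BT.node 20990 (BT.node 20989 (BT.leaf c13_289) (BT.leaf c13_290)) (BT.node 20991 (BT.leaf c13_291) (BT.leaf c13_292))) (BT.node 20994 (BT.node 20993 (BT.leaf c13_293) (BT.leaf c13_294)) (BT.leaf c13_295))))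 (BT.node 21002 (BT.node 20999 (BT.node 20997 (BT.node 20996 (BT.leaf c13_296) (BT.leaf c13_297)) (BT.node 20998 (BT.leaf c13_298) (BT.leaf c13_299))) (BT.node 21001 (BT.node 21000 (BT.leaf c13_300) (BT.leaf c13_301)) (BT.leaf c13_302))) (BT.node 21006 (BT.node 21004 (BT.node 21003 (BT.leaf c13_303) (BT.leaf c13_304)) (BT.node 21005 (BT.leaf c13_305) (BT.leaf c13_306))) (BT.node 21008 (BT.node 21007 (BT.leaf c13_307) (BT.leaf c13_308)) (BT.leaf c13_309))))) (BT.node 21023 (BT.node 21016 (BT.node 21013 (BT.node 21011 (BT.node 21010 (BT.leaf c13_310) (BT.leaf c13_311)) (BT.node 21012 (BT.leaf c13_312) (BT.leaf c13_313))) (BT.node 21015 (BT.node 21014 (BT.leaf c13_314) (BT.leaf c13_315)) (BT.leaf c13_316))) (BT.node 21020 (BT.node 21018 (BT.node 21017 (BT.leaf c13_317) (BT.leaf c13_318)) (BT.node 21019 (BT.leaf c13_319) (BT.leaf c13_320))) (BT.node 21022 (BT.node 21021 (BT.leaf c13_321) (BT.leaf c13_322))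 (BT.leaf c13_323)))) (BT.node 21030 (BT.node 21027 (BT.node 21025 (BT.node 21024 (BT.leaf c13_324) (BT.leaf c13_325)) (BT.node 21026 (BT.leaf c13_326) (BT.leaf c13_327))) (BT.node 21029 (BT.node 21028 (BT.leaf c13_328) (BT.leaf c13_329)) (BT.leaf c13_330))) (BT.node 21034 (BT.node 21032 (BT.node 21031 (BT.leaf c13_331) (BT.leaf c13_332)) (BT.node 21033 (BT.leaf c13_333) (BT.leaf c13_334))) (BT.node 21036 (BT.node 21035 (BT.leaf c13_335) (BT.leaf c13_336)) (BT.leaf c13_337))))))) (BT.node 21093 (BT.node 21065 (BT.node 21051 (BT.node 21044 (BT.node 21041 (BT.node 21039 (BT.node 21038 (BT.leaf c13_338) (BT.leaf c13_339)) (BT.node 21040 (BT.leaf c13_340) (BT.leaf c13_341))) (BT.node 21043 (BT.node 21042 (BT.leaf c13_342) (BT.leaf c13_343)) (BT.leaf c13_344))) (BT.node 21048 (BT.node 21046 (BT.node 21045 (BT.leaf c13_345) (BT.leaf c13_346)) (BT.node 21047 (BT.leaf c13_347) (BT.leaf c13_348))) (BT.node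 21050 (BT.node 21049 (BT.leaf c13_349) (BT.leaf c13_350)) (BT.leaf c13_351)))) (BT.node 21058 (BT.node 21055 (BT.node 21053 (BT.node 21052 (BT.leaf c13_352) (BT.leaf c13_353)) (BT.node 21054 (BT.leaf c13_354) (BT.leaf c13_355))) (BT.node 21057 (BT.node 21056 (BT.leaf c13_356) (BT.leaf c13_357)) (BT.leaf c13_358))) (BT.node 21062 (BT.node 21060 (BT.node 21059 (BT.leaf c13_359) (BT.leaf c13_360)) (BT.node 21061 (BT.leaf c13_361) (BT.leaf c13_362))) (BT.node 21064 (BT.node 21063 (BT.leaf c13_363) (BT.leaf c13_364)) (BT.leaf c13_365))))) (BT.node 21079 (BT.node 21072 (BT.node 21069 (BT.node 21067 (BT.node 21066 (BT.leaf c13_366) (BT.leaf c13_367)) (BT.node 21068 (BT.leaf c13_368) (BT.leaf c13_369))) (BT.node 21071 (BT.node 21070 (BT.leaf c13_370) (BT.leaf c13_371)) (BT.leaf c13_372))) (BT.node 21076 (BT.node 21074 (BT.node 21073 (BT.leaf c13_373) (BT.leaf c13_374)) (BT.node 21075 (BT.leaf c13_375) (BT.leaf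 c13_376))) (BT.node 21078 (BT.node 21077 (BT.leaf c13_377) (BT.leaf c13_378)) (BT.leaf c13_379)))) (BT.node 21086 (BT.node 21083 (BT.node 21081 (BT.node 21080 (BT.leaf c13_380) (BT.leaf c13_381)) (BT.node 21082 (BT.leaf c13_382) (BT.leaf c13_383))) (BT.node 21085 (BT.node 21084 (BT.leaf c13_384) (BT.leaf c13_385)) (BT.leaf c13_386))) (BT.node 21090 (BT.node 21088 (BT.node 21087 (BT.leaf c13_387) (BT.leaf c13_388)) (BT.node 21089 (BT.leaf c13_389) (BT.leaf c13_390))) (BT.node 21092 (BT.node 21091 (BT.leaf c13_391) (BT.leaf c13_392)) (BT.leaf c13_393)))))) (BT.node 21121 (BT.node 21107 (BT.node 21100 (BT.node 21097 (BT.node 21095 (BT.node 21094 (BT.leaf c13_394) (BT.leaf c13_395)) (BT.node 21096 (BT.leaf c13_396) (BT.leaf c13_397))) (BT.node 21099 (BT.node 21098 (BT.leaf c13_398) (BT.leaf c13_399)) (BT.leaf c13_400))) (BT.node 21104 (BT.node 21102 (BT.node 21101 (BT.leaf c13_401) (BT.leaf c13_402))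 (BT.node 21103 (BT.leaf c13_403) (BT.leaf c13_404))) (BT.node 21106 (BT.node 21105 (BT.leaf c13_405) (BT.leaf c13_406)) (BT.leaf c13_407)))) (BT.node 21114 (BT.node 21111 (BT.node 21109 (BT.node 21108 (BT.leaf c13_408) (BT.leaf c13_409)) (BT.node 21110 (BT.leaf c13_410) (BT.leaf c13_411))) (BT.node 21113 (BT.node 21112 (BT.leaf c13_412) (BT.leaf c13_413)) (BT.leaf c13_414))) (BT.node 21118 (BT.node 21116 (BT.node 21115 (BT.leaf c13_415) (BT.leaf c13_416)) (BT.node 21117 (BT.leaf c13_417) (BT.leaf c13_418))) (BT.node 21120 (BT.node 21119 (BT.leaf c13_419) (BT.leaf c13_420)) (BT.leaf c13_421))))) (BT.node 21135 (BT.node 21128 (BT.node 21125 (BT.node 21123 (BT.node 21122 (BT.leaf c13_422) (BT.leaf c13_423)) (BT.node 21124 (BT.leaf c13_424) (BT.leaf c13_425))) (BT.node 21127 (BT.node 21126 (BT.leaf c13_426) (BT.leaf c13_427)) (BT.leaf c13_428))) (BT.node 21132 (BT.node 21130 (BT.node 21129 (BT.leaf c13_429)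 (BT.leaf c13_430)) (BT.node 21131 (BT.leaf c13_431) (BT.leaf c13_432))) (BT.node 21134 (BT.node 21133 (BT.leaf c13_433) (BT.leaf c13_434)) (BT.leaf c13_435)))) (BT.node 21142 (BT.node 21139 (BT.node 21137 (BT.node 21136 (BT.leaf c13_436) (BT.leaf c13_437)) (BT.node 21138 (BT.leaf c13_438) (BT.leaf c13_439))) (BT.node 21141 (BT.node 21140 (BT.leaf c13_440) (BT.leaf c13_441)) (BT.leaf c13_442))) (BT.node 21146 (BT.node 21144 (BT.node 21143 (BT.leaf c13_443) (BT.leaf c13_444)) (BT.node 21145 (BT.leaf c13_445) (BT.leaf c13_446))) (BT.node 21148 (BT.node 21147 (BT.leaf c13_447) (BT.leaf c13_448)) (BT.leaf c13_449))))))))) (BT.node 21374 (BT.node 21262 (BT.node 21206 (BT.node 21178 (BT.node 21164 (BT.node 21157 (BT.node 21153 (BT.node 21151 (BT.node 21150 (BT.leaf c13_450) (BT.leaf c13_451)) (BT.node 21152 (BT.leaf c13_452) (BT.leaf c13_453))) (BT.node 21155 (BT.node 21154 (BT.leaf c13_454) (BT.leaf c13_455))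 (BT.node 21156 (BT.leaf c13_456) (BT.leaf c13_457)))) (BT.node 21161 (BT.node 21159 (BT.node 21158 (BT.leaf c13_458) (BT.leaf c13_459)) (BT.node 21160 (BT.leaf c13_460) (BT.leaf c13_461))) (BT.node 21163 (BT.node 21162 (BT.leaf c13_462) (BT.leaf c13_463)) (BT.leaf c13_464)))) (BT.node 21171 (BT.node 21168 (BT.node 21166 (BT.node 21165 (BT.leaf c13_465) (BT.leaf c13_466)) (BT.node 21167 (BT.leaf c13_467) (BT.leaf c13_468))) (BT.node 21170 (BT.node 21169 (BT.leaf c13_469) (BT.leaf c13_470)) (BT.leaf c13_471))) (BT.node 21175 (BT.node 21173 (BT.node 21172 (BT.leaf c13_472) (BT.leaf c13_473)) (BT.node 21174 (BT.leaf c13_474) (BT.leaf c13_475))) (BT.node 21177 (BT.node 21176 (BT.leaf c13_476) (BT.leaf c13_477)) (BT.leaf c13_478))))) (BT.node 21192 (BT.node 21185 (BT.node 21182 (BT.node 21180 (BT.node 21179 (BT.leaf c13_479) (BT.leaf c13_480)) (BT.node 21181 (BT.leaf c13_481) (BT.leaf c13_482))) (BT.node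 21184 (BT.node 21183 (BT.leaf c13_483) (BT.leaf c13_484)) (BT.leaf c13_485))) (BT.node 21189 (BT.node 21187 (BT.node 21186 (BT.leaf c13_486) (BT.leaf c13_487)) (BT.node 21188 (BT.leaf c13_488) (BT.leaf c13_489))) (BT.node 21191 (BT.node 21190 (BT.leaf c13_490) (BT.leaf c13_491)) (BT.leaf c13_492)))) (BT.node 21199 (BT.node 21196 (BT.node 21194 (BT.node 21193 (BT.leaf c13_493) (BT.leaf c13_494)) (BT.node 21195 (BT.leaf c13_495) (BT.leaf c13_496))) (BT.node 21198 (BT.node 21197 (BT.leaf c13_497) (BT.leaf c13_498)) (BT.leaf c13_499))) (BT.node 21203 (BT.node 21201 (BT.node 21200 (BT.leaf c13_500) (BT.leaf c13_501)) (BT.node 21202 (BT.leaf c13_502) (BT.leaf c13_503))) (BT.node 21205 (BT.node 21204 (BT.leaf c13_504) (BT.leaf c13_505)) (BT.leaf c13_506)))))) (BT.node 21234 (BT.node 21220 (BT.node 21213 (BT.node 21210 (BT.node 21208 (BT.node 21207 (BT.leaf c13_507) (BT.leaf c13_508)) (BT.node 21209 (BT.leaf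 c13_509) (BT.leaf c13_510))) (BT.node 21212 (BT.node 21211 (BT.leaf c13_511) (BT.leaf c13_512)) (BT.leaf c13_513))) (BT.node 21217 (BT.node 21215 (BT.node 21214 (BT.leaf c13_514) (BT.leaf c13_515)) (BT.node 21216 (BT.leaf c13_516) (BT.leaf c13_517))) (BT.node 21219 (BT.node 21218 (BT.leaf c13_518) (BT.leaf c13_519)) (BT.leaf c13_520)))) (BT.node 21227 (BT.node 21224 (BT.node 21222 (BT.node 21221 (BT.leaf c13_521) (BT.leaf c13_522)) (BT.node 21223 (BT.leaf c13_523) (BT.leaf c13_524))) (BT.node 21226 (BT.node 21225 (BT.leaf c13_525) (BT.leaf c13_526)) (BT.leaf c13_527))) (BT.node 21231 (BT.node 21229 (BT.node 21228 (BT.leaf c13_528) (BT.leaf c13_529)) (BT.node 21230 (BT.leaf c13_530) (BT.leaf c13_531))) (BT.node 21233 (BT.node 21232 (BT.leaf c13_532) (BT.leaf c13_533)) (BT.leaf c13_534))))) (BT.node 21248 (BT.node 21241 (BT.node 21238 (BT.node 21236 (BT.node 21235 (BT.leaf c13_535) (BT.leaf c13_536))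 (BT.node 21237 (BT.leaf c13_537) (BT.leaf c13_538))) (BT.node 21240 (BT.node 21239 (BT.leaf c13_539) (BT.leaf c13_540)) (BT.leaf c13_541))) (BT.node 21245 (BT.node 21243 (BT.node 21242 (BT.leaf c13_542) (BT.leaf c13_543)) (BT.node 21244 (BT.leaf c13_544) (BT.leaf c13_545))) (BT.node 21247 (BT.node 21246 (BT.leaf c13_546) (BT.leaf c13_547)) (BT.leaf c13_548)))) (BT.node 21255 (BT.node 21252 (BT.node 21250 (BT.node 21249 (BT.leaf c13_549) (BT.leaf c13_550)) (BT.node 21251 (BT.leaf c13_551) (BT.leaf c13_552))) (BT.node 21254 (BT.node 21253 (BT.leaf c13_553) (BT.leaf c13_554)) (BT.leaf c13_555))) (BT.node 21259 (BT.node 21257 (BT.node 21256 (BT.leaf c13_556) (BT.leaf c13_557)) (BT.node 21258 (BT.leaf c13_558) (BT.leaf c13_559))) (BT.node 21261 (BT.node 21260 (BT.leaf c13_560) (BT.leaf c13_561)) (BT.leaf c13_562))))))) (BT.node 21318 (BT.node 21290 (BT.node 21276 (BT.node 21269 (BT.node 21266 (BT.node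 21264 (BT.node 21263 (BT.leaf c13_563) (BT.leaf c13_564)) (BT.node 21265 (BT.leaf c13_565) (BT.leaf c13_566))) (BT.node 21268 (BT.node 21267 (BT.leaf c13_567) (BT.leaf c13_568)) (BT.leaf c13_569))) (BT.node 21273 (BT.node 21271 (BT.node 21270 (BT.leaf c13_570) (BT.leaf c13_571)) (BT.node 21272 (BT.leaf c13_572) (BT.leaf c13_573))) (BT.node 21275 (BT.node 21274 (BT.leaf c13_574) (BT.leaf c13_575)) (BT.leaf c13_576)))) (BT.node 21283 (BT.node 21280 (BT.node 21278 (BT.node 21277 (BT.leaf c13_577) (BT.leaf c13_578)) (BT.node 21279 (BT.leaf c13_579) (BT.leaf c13_580))) (BT.node 21282 (BT.node 21281 (BT.leaf c13_581) (BT.leaf c13_582)) (BT.leaf c13_583))) (BT.node 21287 (BT.node 21285 (BT.node 21284 (BT.leaf c13_584) (BT.leaf c13_585)) (BT.node 21286 (BT.leaf c13_586) (BT.leaf c13_587))) (BT.node 21289 (BT.node 21288 (BT.leaf c13_588) (BT.leaf c13_589)) (BT.leaf c13_590))))) (BT.node 21304 (BT.node 21297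 (BT.node 21294 (BT.node 21292 (BT.node 21291 (BT.leaf c13_591) (BT.leaf c13_592)) (BT.node 21293 (BT.leaf c13_593) (BT.leaf c13_594))) (BT.node 21296 (BT.node 21295 (BT.leaf c13_595) (BT.leaf c13_596)) (BT.leaf c13_597))) (BT.node 21301 (BT.node 21299 (BT.node 21298 (BT.leaf c13_598) (BT.leaf c13_599)) (BT.node 21300 (BT.leaf c13_600) (BT.leaf c13_601))) (BT.node 21303 (BT.node 21302 (BT.leaf c13_602) (BT.leaf c13_603)) (BT.leaf c13_604)))) (BT.node 21311 (BT.node 21308 (BT.node 21306 (BT.node 21305 (BT.leaf c13_605) (BT.leaf c13_606)) (BT.node 21307 (BT.leaf c13_607) (BT.leaf c13_608))) (BT.node 21310 (BT.node 21309 (BT.leaf c13_609) (BT.leaf c13_610)) (BT.leaf c13_611))) (BT.node 21315 (BT.node 21313 (BT.node 21312 (BT.leaf c13_612) (BT.leaf c13_613)) (BT.node 21314 (BT.leaf c13_614) (BT.leaf c13_615))) (BT.node 21317 (BT.node 21316 (BT.leaf c13_616) (BT.leaf c13_617)) (BT.leaf c13_618)))))) (BT.node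 21346 (BT.node 21332 (BT.node 21325 (BT.node 21322 (BT.node 21320 (BT.node 21319 (BT.leaf c13_619) (BT.leaf c13_620)) (BT.node 21321 (BT.leaf c13_621) (BT.leaf c13_622))) (BT.node 21324 (BT.node 21323 (BT.leaf c13_623) (BT.leaf c13_624)) (BT.leaf c13_625))) (BT.node 21329 (BT.node 21327 (BT.node 21326 (BT.leaf c13_626) (BT.leaf c13_627)) (BT.node 21328 (BT.leaf c13_628) (BT.leaf c13_629))) (BT.node 21331 (BT.node 21330 (BT.leaf c13_630) (BT.leaf c13_631)) (BT.leaf c13_632)))) (BT.node 21339 (BT.node 21336 (BT.node 21334 (BT.node 21333 (BT.leaf c13_633) (BT.leaf c13_634)) (BT.node 21335 (BT.leaf c13_635) (BT.leaf c13_636))) (BT.node 21338 (BT.node 21337 (BT.leaf c13_637) (BT.leaf c13_638)) (BT.leaf c13_639))) (BT.node 21343 (BT.node 21341 (BT.node 21340 (BT.leaf c13_640) (BT.leaf c13_641)) (BT.node 21342 (BT.leaf c13_642) (BT.leaf c13_643))) (BT.node 21345 (BT.node 21344 (BT.leaf c13_644) (BT.leaf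 c13_645)) (BT.leaf c13_646))))) (BT.node 21360 (BT.node 21353 (BT.node 21350 (BT.node 21348 (BT.node 21347 (BT.leaf c13_647) (BT.leaf c13_648)) (BT.node 21349 (BT.leaf c13_649) (BT.leaf c13_650))) (BT.node 21352 (BT.node 21351 (BT.leaf c13_651) (BT.leaf c13_652)) (BT.leaf c13_653))) (BT.node 21357 (BT.node 21355 (BT.node 21354 (BT.leaf c13_654) (BT.leaf c13_655)) (BT.node 21356 (BT.leaf c13_656) (BT.leaf c13_657))) (BT.node 21359 (BT.node 21358 (BT.leaf c13_658) (BT.leaf c13_659)) (BT.leaf c13_660)))) (BT.node 21367 (BT.node 21364 (BT.node 21362 (BT.node 21361 (BT.leaf c13_661) (BT.leaf c13_662)) (BT.node 21363 (BT.leaf c13_663) (BT.leaf c13_664))) (BT.node 21366 (BT.node 21365 (BT.leaf c13_665) (BT.leaf c13_666)) (BT.leaf c13_667))) (BT.node 21371 (BT.node 21369 (BT.node 21368 (BT.leaf c13_668) (BT.leaf c13_669)) (BT.node 21370 (BT.leaf c13_670) (BT.leaf c13_671))) (BT.node 21373 (BT.node 21372 (BT.leaf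 c13_672) (BT.leaf c13_673)) (BT.leaf c13_674)))))))) (BT.node 21487 (BT.node 21431 (BT.node 21403 (BT.node 21389 (BT.node 21382 (BT.node 21378 (BT.node 21376 (BT.node 21375 (BT.leaf c13_675) (BT.leaf c13_676)) (BT.node 21377 (BT.leaf c13_677) (BT.leaf c13_678))) (BT.node 21380 (BT.node 21379 (BT.leaf c13_679) (BT.leaf c13_680)) (BT.node 21381 (BT.leaf c13_681) (BT.leaf c13_682)))) (BT.node 21386 (BT.node 21384 (BT.node 21383 (BT.leaf c13_683) (BT.leaf c13_684)) (BT.node 21385 (BT.leaf c13_685) (BT.leaf c13_686))) (BT.node 21388 (BT.node 21387 (BT.leaf c13_687) (BT.leaf c13_688)) (BT.leaf c13_689)))) (BT.node 21396 (BT.node 21393 (BT.node 21391 (BT.node 21390 (BT.leaf c13_690) (BT.leaf c13_691)) (BT.node 21392 (BT.leaf c13_692) (BT.leaf c13_693))) (BT.node 21395 (BT.node 21394 (BT.leaf c13_694) (BT.leaf c13_695)) (BT.leaf c13_696))) (BT.node 21400 (BT.node 21398 (BT.node 21397 (BT.leaf c13_697) (BT.leaf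 c13_698)) (BT.node 21399 (BT.leaf c13_699) (BT.leaf c13_700))) (BT.node 21402 (BT.node 21401 (BT.leaf c13_701) (BT.leaf c13_702)) (BT.leaf c13_703))))) (BT.node 21417 (BT.node 21410 (BT.node 21407 (BT.node 21405 (BT.node 21404 (BT.leaf c13_704) (BT.leaf c13_705)) (BT.node 21406 (BT.leaf c13_706) (BT.leaf c13_707))) (BT.node 21409 (BT.node 21408 (BT.leaf c13_708) (BT.leaf c13_709)) (BT.leaf c13_710))) (BT.node 21414 (BT.node 21412 (BT.node 21411 (BT.leaf c13_711) (BT.leaf c13_712)) (BT.node 21413 (BT.leaf c13_713) (BT.leaf c13_714))) (BT.node 21416 (BT.node 21415 (BT.leaf c13_715) (BT.leaf c13_716)) (BT.leaf c13_717)))) (BT.node 21424 (BT.node 21421 (BT.node 21419 (BT.node 21418 (BT.leaf c13_718) (BT.leaf c13_719)) (BT.node 21420 (BT.leaf c13_720) (BT.leaf c13_721))) (BT.node 21423 (BT.node 21422 (BT.leaf c13_722) (BT.leaf c13_723)) (BT.leaf c13_724))) (BT.node 21428 (BT.node 21426 (BT.node 21425 (BT.leaf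 c13_725) (BT.leaf c13_726)) (BT.node 21427 (BT.leaf c13_727) (BT.leaf c13_728))) (BT.node 21430 (BT.node 21429 (BT.leaf c13_729) (BT.leaf c13_730)) (BT.leaf c13_731)))))) (BT.node 21459 (BT.node 21445 (BT.node 21438 (BT.node 21435 (BT.node 21433 (BT.node 21432 (BT.leaf c13_732) (BT.leaf c13_733)) (BT.node 21434 (BT.leaf c13_734) (BT.leaf c13_735))) (BT.node 21437 (BT.node 21436 (BT.leaf c13_736) (BT.leaf c13_737)) (BT.leaf c13_738))) (BT.node 21442 (BT.node 21440 (BT.node 21439 (BT.leaf c13_739) (BT.leaf c13_740)) (BT.node 21441 (BT.leaf c13_741) (BT.leaf c13_742))) (BT.node 21444 (BT.node 21443 (BT.leaf c13_743) (BT.leaf c13_744)) (BT.leaf c13_745)))) (BT.node 21452 (BT.node 21449 (BT.node 21447 (BT.node 21446 (BT.leaf c13_746) (BT.leaf c13_747)) (BT.node 21448 (BT.leaf c13_748) (BT.leaf c13_749))) (BT.node 21451 (BT.node 21450 (BT.leaf c13_750) (BT.leaf c13_751)) (BT.leaf c13_752))) (BT.node 21456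 (BT.node 21454 (BT.node 21453 (BT.leaf c13_753) (BT.leaf c13_754)) (BT.node 21455 (BT.leaf c13_755) (BT.leaf c13_756))) (BT.node 21458 (BT.node 21457 (BT.leaf c13_757) (BT.leaf c13_758)) (BT.leaf c13_759))))) (BT.node 21473 (BT.node 21466 (BT.node 21463 (BT.node 21461 (BT.node 21460 (BT.leaf c13_760) (BT.leaf c13_761)) (BT.node 21462 (BT.leaf c13_762) (BT.leaf c13_763))) (BT.node 21465 (BT.node 21464 (BT.leaf c13_764) (BT.leaf c13_765)) (BT.leaf c13_766))) (BT.node 21470 (BT.node 21468 (BT.node 21467 (BT.leaf c13_767) (BT.leaf c13_768)) (BT.node 21469 (BT.leaf c13_769) (BT.leaf c13_770))) (BT.node 21472 (BT.node 21471 (BT.leaf c13_771) (BT.leaf c13_772)) (BT.leaf c13_773)))) (BT.node 21480 (BT.node 21477 (BT.node 21475 (BT.node 21474 (BT.leaf c13_774) (BT.leaf c13_775)) (BT.node 21476 (BT.leaf c13_776) (BT.leaf c13_777))) (BT.node 21479 (BT.node 21478 (BT.leaf c13_778) (BT.leaf c13_779)) (BT.leaf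 c13_780))) (BT.node 21484 (BT.node 21482 (BT.node 21481 (BT.leaf c13_781) (BT.leaf c13_782)) (BT.node 21483 (BT.leaf c13_783) (BT.leaf c13_784))) (BT.node 21486 (BT.node 21485 (BT.leaf c13_785) (BT.leaf c13_786)) (BT.leaf c13_787))))))) (BT.node 21543 (BT.node 21515 (BT.node 21501 (BT.node 21494 (BT.node 21491 (BT.node 21489 (BT.node 21488 (BT.leaf c13_788) (BT.leaf c13_789)) (BT.node 21490 (BT.leaf c13_790) (BT.leaf c13_791))) (BT.node 21493 (BT.node 21492 (BT.leaf c13_792) (BT.leaf c13_793)) (BT.leaf c13_794))) (BT.node 21498 (BT.node 21496 (BT.node 21495 (BT.leaf c13_795) (BT.leaf c13_796)) (BT.node 21497 (BT.leaf c13_797) (BT.leaf c13_798))) (BT.node 21500 (BT.node 21499 (BT.leaf c13_799) (BT.leaf c13_800)) (BT.leaf c13_801)))) (BT.node 21508 (BT.node 21505 (BT.node 21503 (BT.node 21502 (BT.leaf c13_802) (BT.leaf c13_803)) (BT.node 21504 (BT.leaf c13_804) (BT.leaf c13_805))) (BT.node 21507 (BT.node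 21506 (BT.leaf c13_806) (BT.leaf c13_807)) (BT.leaf c13_808))) (BT.node 21512 (BT.node 21510 (BT.node 21509 (BT.leaf c13_809) (BT.leaf c13_810)) (BT.node 21511 (BT.leaf c13_811) (BT.leaf c13_812))) (BT.node 21514 (BT.node 21513 (BT.leaf c13_813) (BT.leaf c13_814)) (BT.leaf c13_815))))) (BT.node 21529 (BT.node 21522 (BT.node 21519 (BT.node 21517 (BT.node 21516 (BT.leaf c13_816) (BT.leaf c13_817)) (BT.node 21518 (BT.leaf c13_818) (BT.leaf c13_819))) (BT.node 21521 (BT.node 21520 (BT.leaf c13_820) (BT.leaf c13_821)) (BT.leaf c13_822))) (BT.node 21526 (BT.node 21524 (BT.node 21523 (BT.leaf c13_823) (BT.leaf c13_824)) (BT.node 21525 (BT.leaf c13_825) (BT.leaf c13_826))) (BT.node 21528 (BT.node 21527 (BT.leaf c13_827) (BT.leaf c13_828)) (BT.leaf c13_829)))) (BT.node 21536 (BT.node 21533 (BT.node 21531 (BT.node 21530 (BT.leaf c13_830) (BT.leaf c13_831)) (BT.node 21532 (BT.leaf c13_832) (BT.leaf c13_833)))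 (BT.node 21535 (BT.node 21534 (BT.leaf c13_834) (BT.leaf c13_835)) (BT.leaf c13_836))) (BT.node 21540 (BT.node 21538 (BT.node 21537 (BT.leaf c13_837) (BT.leaf c13_838)) (BT.node 21539 (BT.leaf c13_839) (BT.leaf c13_840))) (BT.node 21542 (BT.node 21541 (BT.leaf c13_841) (BT.leaf c13_842)) (BT.leaf c13_843)))))) (BT.node 21571 (BT.node 21557 (BT.node 21550 (BT.node 21547 (BT.node 21545 (BT.node 21544 (BT.leaf c13_844) (BT.leaf c13_845)) (BT.node 21546 (BT.leaf c13_846) (BT.leaf c13_847))) (BT.node 21549 (BT.node 21548 (BT.leaf c13_848) (BT.leaf c13_849)) (BT.leaf c13_850))) (BT.node 21554 (BT.node 21552 (BT.node 21551 (BT.leaf c13_851) (BT.leaf c13_852)) (BT.node 21553 (BT.leaf c13_853) (BT.leaf c13_854))) (BT.node 21556 (BT.node 21555 (BT.leaf c13_855) (BT.leaf c13_856)) (BT.leaf c13_857)))) (BT.node 21564 (BT.node 21561 (BT.node 21559 (BT.node 21558 (BT.leaf c13_858) (BT.leaf c13_859)) (BT.node 21560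 (BT.leaf c13_860) (BT.leaf c13_861))) (BT.node 21563 (BT.node 21562 (BT.leaf c13_862) (BT.leaf c13_863)) (BT.leaf c13_864))) (BT.node 21568 (BT.node 21566 (BT.node 21565 (BT.leaf c13_865) (BT.leaf c13_866)) (BT.node 21567 (BT.leaf c13_867) (BT.leaf c13_868))) (BT.node 21570 (BT.node 21569 (BT.leaf c13_869) (BT.leaf c13_870)) (BT.leaf c13_871))))) (BT.node 21585 (BT.node 21578 (BT.node 21575 (BT.node 21573 (BT.node 21572 (BT.leaf c13_872) (BT.leaf c13_873)) (BT.node 21574 (BT.leaf c13_874) (BT.leaf c13_875))) (BT.node 21577 (BT.node 21576 (BT.leaf c13_876) (BT.leaf c13_877)) (BT.leaf c13_878))) (BT.node 21582 (BT.node 21580 (BT.node 21579 (BT.leaf c13_879) (BT.leaf c13_880)) (BT.node 21581 (BT.leaf c13_881) (BT.leaf c13_882))) (BT.node 21584 (BT.node 21583 (BT.leaf c13_883) (BT.leaf c13_884)) (BT.leaf c13_885)))) (BT.node 21592 (BT.node 21589 (BT.node 21587 (BT.node 21586 (BT.leaf c13_886) (BT.leaf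 c13_887)) (BT.node 21588 (BT.leaf c13_888) (BT.leaf c13_889))) (BT.node 21591 (BT.node 21590 (BT.leaf c13_890) (BT.leaf c13_891)) (BT.leaf c13_892))) (BT.node 21596 (BT.node 21594 (BT.node 21593 (BT.leaf c13_893) (BT.leaf c13_894)) (BT.node 21595 (BT.leaf c13_895) (BT.leaf c13_896))) (BT.node 21598 (BT.node 21597 (BT.leaf c13_897) (BT.leaf c13_898)) (BT.leaf c13_899))))))))))
/-- the chunks of the letter 24 -/
def colL_24 : BT ℕ := (BT.node 22049 (BT.node 21824 (BT.node 21712 (BT.node 21656 (BT.node 21628 (BT.node 21614 (BT.node 21607 (BT.node 21603 (BT.node 21601 (BT.node 21600 (BT.leaf c14_0) (BT.leaf c14_1)) (BT.node 21602 (BT.leaf c14_2) (BT.leaf c14_3))) (BT.node 21605 (BT.node 21604 (BT.leaf c14_4) (BT.leaf c14_5)) (BT.node 21606 (BT.leaf c14_6) (BT.leaf c14_7)))) (BT.node 21611 (BT.node 21609 (BT.node 21608 (BT.leaf c14_8) (BT.leaf c14_9)) (BT.node 21610 (BT.leaf c14_10) (BT.leaf c14_11)))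 (BT.node 21613 (BT.node 21612 (BT.leaf c14_12) (BT.leaf c14_13)) (BT.leaf c14_14)))) (BT.node 21621 (BT.node 21618 (BT.node 21616 (BT.node 21615 (BT.leaf c14_15) (BT.leaf c14_16)) (BT.node 21617 (BT.leaf c14_17) (BT.leaf c14_18))) (BT.node 21620 (BT.node 21619 (BT.leaf c14_19) (BT.leaf c14_20)) (BT.leaf c14_21))) (BT.node 21625 (BT.node 21623 (BT.node 21622 (BT.leaf c14_22) (BT.leaf c14_23)) (BT.node 21624 (BT.leaf c14_24) (BT.leaf c14_25))) (BT.node 21627 (BT.node 21626 (BT.leaf c14_26) (BT.leaf c14_27)) (BT.leaf c14_28))))) (BT.node 21642 (BT.node 21635 (BT.node 21632 (BT.node 21630 (BT.node 21629 (BT.leaf c14_29) (BT.leaf c14_30)) (BT.node 21631 (BT.leaf c14_31) (BT.leaf c14_32))) (BT.node 21634 (BT.node 21633 (BT.leaf c14_33) (BT.leaf c14_34)) (BT.leaf c14_35))) (BT.node 21639 (BT.node 21637 (BT.node 21636 (BT.leaf c14_36) (BT.leaf c14_37)) (BT.node 21638 (BT.leaf c14_38) (BT.leaf c14_39))) (BT.node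 21641 (BT.node 21640 (BT.leaf c14_40) (BT.leaf c14_41)) (BT.leaf c14_42)))) (BT.node 21649 (BT.node 21646 (BT.node 21644 (BT.node 21643 (BT.leaf c14_43) (BT.leaf c14_44)) (BT.node 21645 (BT.leaf c14_45) (BT.leaf c14_46))) (BT.node 21648 (BT.node 21647 (BT.leaf c14_47) (BT.leaf c14_48)) (BT.leaf c14_49))) (BT.node 21653 (BT.node 21651 (BT.node 21650 (BT.leaf c14_50) (BT.leaf c14_51)) (BT.node 21652 (BT.leaf c14_52) (BT.leaf c14_53))) (BT.node 21655 (BT.node 21654 (BT.leaf c14_54) (BT.leaf c14_55)) (BT.leaf c14_56)))))) (BT.node 21684 (BT.node 21670 (BT.node 21663 (BT.node 21660 (BT.node 21658 (BT.node 21657 (BT.leaf c14_57) (BT.leaf c14_58)) (BT.node 21659 (BT.leaf c14_59) (BT.leaf c14_60))) (BT.node 21662 (BT.node 21661 (BT.leaf c14_61) (BT.leaf c14_62)) (BT.leaf c14_63))) (BT.node 21667 (BT.node 21665 (BT.node 21664 (BT.leaf c14_64) (BT.leaf c14_65)) (BT.node 21666 (BT.leaf c14_66) (BT.leaf c14_67)))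 (BT.node 21669 (BT.node 21668 (BT.leaf c14_68) (BT.leaf c14_69)) (BT.leaf c14_70)))) (BT.node 21677 (BT.node 21674 (BT.node 21672 (BT.node 21671 (BT.leaf c14_71) (BT.leaf c14_72)) (BT.node 21673 (BT.leaf c14_73) (BT.leaf c14_74))) (BT.node 21676 (BT.node 21675 (BT.leaf c14_75) (BT.leaf c14_76)) (BT.leaf c14_77))) (BT.node 21681 (BT.node 21679 (BT.node 21678 (BT.leaf c14_78) (BT.leaf c14_79)) (BT.node 21680 (BT.leaf c14_80) (BT.leaf c14_81))) (BT.node 21683 (BT.node 21682 (BT.leaf c14_82) (BT.leaf c14_83)) (BT.leaf c14_84))))) (BT.node 21698 (BT.node 21691 (BT.node 21688 (BT.node 21686 (BT.node 21685 (BT.leaf c14_85) (BT.leaf c14_86)) (BT.node 21687 (BT.leaf c14_87) (BT.leaf c14_88))) (BT.node 21690 (BT.node 21689 (BT.leaf c14_89) (BT.leaf c14_90)) (BT.leaf c14_91))) (BT.node 21695 (BT.node 21693 (BT.node 21692 (BT.leaf c14_92) (BT.leaf c14_93)) (BT.node 21694 (BT.leaf c14_94) (BT.leaf c14_95))) (BT.node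 21697 (BT.node 21696 (BT.leaf c14_96) (BT.leaf c14_97)) (BT.leaf c14_98)))) (BT.node 21705 (BT.node 21702 (BT.node 21700 (BT.node 21699 (BT.leaf c14_99) (BT.leaf c14_100)) (BT.node 21701 (BT.leaf c14_101) (BT.leaf c14_102))) (BT.node 21704 (BT.node 21703 (BT.leaf c14_103) (BT.leaf c14_104)) (BT.leaf c14_105))) (BT.node 21709 (BT.node 21707 (BT.node 21706 (BT.leaf c14_106) (BT.leaf c14_107)) (BT.node 21708 (BT.leaf c14_108) (BT.leaf c14_109))) (BT.node 21711 (BT.node 21710 (BT.leaf c14_110) (BT.leaf c14_111)) (BT.leaf c14_112))))))) (BT.node 21768 (BT.node 21740 (BT.node 21726 (BT.node 21719 (BT.node 21716 (BT.node 21714 (BT.node 21713 (BT.leaf c14_113) (BT.leaf c14_114)) (BT.node 21715 (BT.leaf c14_115) (BT.leaf c14_116))) (BT.node 21718 (BT.node 21717 (BT.leaf c14_117) (BT.leaf c14_118)) (BT.leaf c14_119))) (BT.node 21723 (BT.node 21721 (BT.node 21720 (BT.leaf c14_120) (BT.leaf c14_121)) (BT.node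 21722 (BT.leaf c14_122) (BT.leaf c14_123))) (BT.node 21725 (BT.node 21724 (BT.leaf c14_124) (BT.leaf c14_125)) (BT.leaf c14_126)))) (BT.node 21733 (BT.node 21730 (BT.node 21728 (BT.node 21727 (BT.leaf c14_127) (BT.leaf c14_128)) (BT.node 21729 (BT.leaf c14_129) (BT.leaf c14_130))) (BT.node 21732 (BT.node 21731 (BT.leaf c14_131) (BT.leaf c14_132)) (BT.leaf c14_133))) (BT.node 21737 (BT.node 21735 (BT.node 21734 (BT.leaf c14_134) (BT.leaf c14_135)) (BT.node 21736 (BT.leaf c14_136) (BT.leaf c14_137))) (BT.node 21739 (BT.node 21738 (BT.leaf c14_138) (BT.leaf c14_139)) (BT.leaf c14_140))))) (BT.node 21754 (BT.node 21747 (BT.node 21744 (BT.node 21742 (BT.node 21741 (BT.leaf c14_141) (BT.leaf c14_142)) (BT.node 21743 (BT.leaf c14_143) (BT.leaf c14_144))) (BT.node 21746 (BT.node 21745 (BT.leaf c14_145) (BT.leaf c14_146)) (BT.leaf c14_147))) (BT.node 21751 (BT.node 21749 (BT.node 21748 (BT.leaf c14_148) (BT.leaf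 c14_149)) (BT.node 21750 (BT.leaf c14_150) (BT.leaf c14_151))) (BT.node 21753 (BT.node 21752 (BT.leaf c14_152) (BT.leaf c14_153)) (BT.leaf c14_154)))) (BT.node 21761 (BT.node 21758 (BT.node 21756 (BT.node 21755 (BT.leaf c14_155) (BT.leaf c14_156)) (BT.node 21757 (BT.leaf c14_157) (BT.leaf c14_158))) (BT.node 21760 (BT.node 21759 (BT.leaf c14_159) (BT.leaf c14_160)) (BT.leaf c14_161))) (BT.node 21765 (BT.node 21763 (BT.node 21762 (BT.leaf c14_162) (BT.leaf c14_163)) (BT.node 21764 (BT.leaf c14_164) (BT.leaf c14_165))) (BT.node 21767 (BT.node 21766 (BT.leaf c14_166) (BT.leaf c14_167)) (BT.leaf c14_168)))))) (BT.node 21796 (BT.node 21782 (BT.node 21775 (BT.node 21772 (BT.node 21770 (BT.node 21769 (BT.leaf c14_169) (BT.leaf c14_170)) (BT.node 21771 (BT.leaf c14_171) (BT.leaf c14_172))) (BT.node 21774 (BT.node 21773 (BT.leaf c14_173) (BT.leaf c14_174)) (BT.leaf c14_175))) (BT.node 21779 (BT.node 21777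 (BT.node 21776 (BT.leaf c14_176) (BT.leaf c14_177)) (BT.node 21778 (BT.leaf c14_178) (BT.leaf c14_179))) (BT.node 21781 (BT.node 21780 (BT.leaf c14_180) (BT.leaf c14_181)) (BT.leaf c14_182)))) (BT.node 21789 (BT.node 21786 (BT.node 21784 (BT.node 21783 (BT.leaf c14_183) (BT.leaf c14_184)) (BT.node 21785 (BT.leaf c14_185) (BT.leaf c14_186))) (BT.node 21788 (BT.node 21787 (BT.leaf c14_187) (BT.leaf c14_188)) (BT.leaf c14_189))) (BT.node 21793 (BT.node 21791 (BT.node 21790 (BT.leaf c14_190) (BT.leaf c14_191)) (BT.node 21792 (BT.leaf c14_192) (BT.leaf c14_193))) (BT.node 21795 (BT.node 21794 (BT.leaf c14_194) (BT.leaf c14_195)) (BT.leaf c14_196))))) (BT.node 21810 (BT.node 21803 (BT.node 21800 (BT.node 21798 (BT.node 21797 (BT.leaf c14_197) (BT.leaf c14_198)) (BT.node 21799 (BT.leaf c14_199) (BT.leaf c14_200))) (BT.node 21802 (BT.node 21801 (BT.leaf c14_201) (BT.leaf c14_202)) (BT.leaf c14_203))) (BT.node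 21807 (BT.node 21805 (BT.node 21804 (BT.leaf c14_204) (BT.leaf c14_205)) (BT.node 21806 (BT.leaf c14_206) (BT.leaf c14_207))) (BT.node 21809 (BT.node 21808 (BT.leaf c14_208) (BT.leaf c14_209)) (BT.leaf c14_210)))) (BT.node 21817 (BT.node 21814 (BT.node 21812 (BT.node 21811 (BT.leaf c14_211) (BT.leaf c14_212)) (BT.node 21813 (BT.leaf c14_213) (BT.leaf c14_214))) (BT.node 21816 (BT.node 21815 (BT.leaf c14_215) (BT.leaf c14_216)) (BT.leaf c14_217))) (BT.node 21821 (BT.node 21819 (BT.node 21818 (BT.leaf c14_218) (BT.leaf c14_219)) (BT.node 21820 (BT.leaf c14_220) (BT.leaf c14_221))) (BT.node 21823 (BT.node 21822 (BT.leaf c14_222) (BT.leaf c14_223)) (BT.leaf c14_224)))))))) (BT.node 21937 (BT.node 21881 (BT.node 21853 (BT.node 21839 (BT.node 21832 (BT.node 21828 (BT.node 21826 (BT.node 21825 (BT.leaf c14_225) (BT.leaf c14_226)) (BT.node 21827 (BT.leaf c14_227) (BT.leaf c14_228))) (BT.node 21830 (BT.node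 21829 (BT.leaf c14_229) (BT.leaf c14_230)) (BT.node 21831 (BT.leaf c14_231) (BT.leaf c14_232)))) (BT.node 21836 (BT.node 21834 (BT.node 21833 (BT.leaf c14_233) (BT.leaf c14_234)) (BT.node 21835 (BT.leaf c14_235) (BT.leaf c14_236))) (BT.node 21838 (BT.node 21837 (BT.leaf c14_237) (BT.leaf c14_238)) (BT.leaf c14_239)))) (BT.node 21846 (BT.node 21843 (BT.node 21841 (BT.node 21840 (BT.leaf c14_240) (BT.leaf c14_241)) (BT.node 21842 (BT.leaf c14_242) (BT.leaf c14_243))) (BT.node 21845 (BT.node 21844 (BT.leaf c14_244) (BT.leaf c14_245)) (BT.leaf c14_246))) (BT.node 21850 (BT.node 21848 (BT.node 21847 (BT.leaf c14_247) (BT.leaf c14_248)) (BT.node 21849 (BT.leaf c14_249) (BT.leaf c14_250))) (BT.node 21852 (BT.node 21851 (BT.leaf c14_251) (BT.leaf c14_252)) (BT.leaf c14_253))))) (BT.node 21867 (BT.node 21860 (BT.node 21857 (BT.node 21855 (BT.node 21854 (BT.leaf c14_254) (BT.leaf c14_255)) (BT.node 21856 (BT.leaf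 c14_256) (BT.leaf c14_257))) (BT.node 21859 (BT.node 21858 (BT.leaf c14_258) (BT.leaf c14_259)) (BT.leaf c14_260))) (BT.node 21864 (BT.node 21862 (BT.node 21861 (BT.leaf c14_261) (BT.leaf c14_262)) (BT.node 21863 (BT.leaf c14_263) (BT.leaf c14_264))) (BT.node 21866 (BT.node 21865 (BT.leaf c14_265) (BT.leaf c14_266)) (BT.leaf c14_267)))) (BT.node 21874 (BT.node 21871 (BT.node 21869 (BT.node 21868 (BT.leaf c14_268) (BT.leaf c14_269)) (BT.node 21870 (BT.leaf c14_270) (BT.leaf c14_271))) (BT.node 21873 (BT.node 21872 (BT.leaf c14_272) (BT.leaf c14_273)) (BT.leaf c14_274))) (BT.node 21878 (BT.node 21876 (BT.node 21875 (BT.leaf c14_275) (BT.leaf c14_276)) (BT.node 21877 (BT.leaf c14_277) (BT.leaf c14_278))) (BT.node 21880 (BT.node 21879 (BT.leaf c14_279) (BT.leaf c14_280)) (BT.leaf c14_281)))))) (BT.node 21909 (BT.node 21895 (BT.node 21888 (BT.node 21885 (BT.node 21883 (BT.node 21882 (BT.leaf c14_282) (BT.leaf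 c14_283)) (BT.node 21884 (BT.leaf c14_284) (BT.leaf c14_285))) (BT.node 21887 (BT.node 21886 (BT.leaf c14_286) (BT.leaf c14_287)) (BT.leaf c14_288))) (BT.node 21892 (BT.node 21890 (BT.node 21889 (BT.leaf c14_289) (BT.leaf c14_290)) (BT.node 21891 (BT.leaf c14_291) (BT.leaf c14_292))) (BT.node 21894 (BT.node 21893 (BT.leaf c14_293) (BT.leaf c14_294)) (BT.leaf c14_295)))) (BT.node 21902 (BT.node 21899 (BT.node 21897 (BT.node 21896 (BT.leaf c14_296) (BT.leaf c14_297)) (BT.node 21898 (BT.leaf c14_298) (BT.leaf c14_299))) (BT.node 21901 (BT.node 21900 (BT.leaf c14_300) (BT.leaf c14_301)) (BT.leaf c14_302))) (BT.node 21906 (BT.node 21904 (BT.node 21903 (BT.leaf c14_303) (BT.leaf c14_304)) (BT.node 21905 (BT.leaf c14_305) (BT.leaf c14_306))) (BT.node 21908 (BT.node 21907 (BT.leaf c14_307) (BT.leaf c14_308)) (BT.leaf c14_309))))) (BT.node 21923 (BT.node 21916 (BT.node 21913 (BT.node 21911 (BT.node 21910 (BT.leaf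 c14_310) (BT.leaf c14_311)) (BT.node 21912 (BT.leaf c14_312) (BT.leaf c14_313))) (BT.node 21915 (BT.node 21914 (BT.leaf c14_314) (BT.leaf c14_315)) (BT.leaf c14_316))) (BT.node 21920 (BT.node 21918 (BT.node 21917 (BT.leaf c14_317) (BT.leaf c14_318)) (BT.node 21919 (BT.leaf c14_319) (BT.leaf c14_320))) (BT.node 21922 (BT.node 21921 (BT.leaf c14_321) (BT.leaf c14_322)) (BT.leaf c14_323)))) (BT.node 21930 (BT.node 21927 (BT.node 21925 (BT.node 21924 (BT.leaf c14_324) (BT.leaf c14_325)) (BT.node 21926 (BT.leaf c14_326) (BT.leaf c14_327))) (BT.node 21929 (BT.node 21928 (BT.leaf c14_328) (BT.leaf c14_329)) (BT.leaf c14_330))) (BT.node 21934 (BT.node 21932 (BT.node 21931 (BT.leaf c14_331) (BT.leaf c14_332)) (BT.node 21933 (BT.leaf c14_333) (BT.leaf c14_334))) (BT.node 21936 (BT.node 21935 (BT.leaf c14_335) (BT.leaf c14_336)) (BT.leaf c14_337))))))) (BT.node 21993 (BT.node 21965 (BT.node 21951 (BT.node 21944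 (BT.node 21941 (BT.node 21939 (BT.node 21938 (BT.leaf c14_338) (BT.leaf c14_339)) (BT.node 21940 (BT.leaf c14_340) (BT.leaf c14_341))) (BT.node 21943 (BT.node 21942 (BT.leaf c14_342) (BT.leaf c14_343)) (BT.leaf c14_344))) (BT.node 21948 (BT.node 21946 (BT.node 21945 (BT.leaf c14_345) (BT.leaf c14_346)) (BT.node 21947 (BT.leaf c14_347) (BT.leaf c14_348))) (BT.node 21950 (BT.node 21949 (BT.leaf c14_349) (BT.leaf c14_350)) (BT.leaf c14_351)))) (BT.node 21958 (BT.node 21955 (BT.node 21953 (BT.node 21952 (BT.leaf c14_352) (BT.leaf c14_353)) (BT.node 21954 (BT.leaf c14_354) (BT.leaf c14_355))) (BT.node 21957 (BT.node 21956 (BT.leaf c14_356) (BT.leaf c14_357)) (BT.leaf c14_358))) (BT.node 21962 (BT.node 21960 (BT.node 21959 (BT.leaf c14_359) (BT.leaf c14_360)) (BT.node 21961 (BT.leaf c14_361) (BT.leaf c14_362))) (BT.node 21964 (BT.node 21963 (BT.leaf c14_363) (BT.leaf c14_364)) (BT.leaf c14_365))))) (BT.node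 21979 (BT.node 21972 (BT.node 21969 (BT.node 21967 (BT.node 21966 (BT.leaf c14_366) (BT.leaf c14_367)) (BT.node 21968 (BT.leaf c14_368) (BT.leaf c14_369))) (BT.node 21971 (BT.node 21970 (BT.leaf c14_370) (BT.leaf c14_371)) (BT.leaf c14_372))) (BT.node 21976 (BT.node 21974 (BT.node 21973 (BT.leaf c14_373) (BT.leaf c14_374)) (BT.node 21975 (BT.leaf c14_375) (BT.leaf c14_376))) (BT.node 21978 (BT.node 21977 (BT.leaf c14_377) (BT.leaf c14_378)) (BT.leaf c14_379)))) (BT.node 21986 (BT.node 21983 (BT.node 21981 (BT.node 21980 (BT.leaf c14_380) (BT.leaf c14_381)) (BT.node 21982 (BT.leaf c14_382) (BT.leaf c14_383))) (BT.node 21985 (BT.node 21984 (BT.leaf c14_384) (BT.leaf c14_385)) (BT.leaf c14_386))) (BT.node 21990 (BT.node 21988 (BT.node 21987 (BT.leaf c14_387) (BT.leaf c14_388)) (BT.node 21989 (BT.leaf c14_389) (BT.leaf c14_390))) (BT.node 21992 (BT.node 21991 (BT.leaf c14_391) (BT.leaf c14_392)) (BT.leaf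 c14_393)))))) (BT.node 22021 (BT.node 22007 (BT.node 22000 (BT.node 21997 (BT.node 21995 (BT.node 21994 (BT.leaf c14_394) (BT.leaf c14_395)) (BT.node 21996 (BT.leaf c14_396) (BT.leaf c14_397))) (BT.node 21999 (BT.node 21998 (BT.leaf c14_398) (BT.leaf c14_399)) (BT.leaf c14_400))) (BT.node 22004 (BT.node 22002 (BT.node 22001 (BT.leaf c14_401) (BT.leaf c14_402)) (BT.node 22003 (BT.leaf c14_403) (BT.leaf c14_404))) (BT.node 22006 (BT.node 22005 (BT.leaf c14_405) (BT.leaf c14_406)) (BT.leaf c14_407)))) (BT.node 22014 (BT.node 22011 (BT.node 22009 (BT.node 22008 (BT.leaf c14_408) (BT.leaf c14_409)) (BT.node 22010 (BT.leaf c14_410) (BT.leaf c14_411))) (BT.node 22013 (BT.node 22012 (BT.leaf c14_412) (BT.leaf c14_413)) (BT.leaf c14_414))) (BT.node 22018 (BT.node 22016 (BT.node 22015 (BT.leaf c14_415) (BT.leaf c14_416)) (BT.node 22017 (BT.leaf c14_417) (BT.leaf c14_418))) (BT.node 22020 (BT.node 22019 (BT.leaf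 c14_419) (BT.leaf c14_420)) (BT.leaf c14_421))))) (BT.node 22035 (BT.node 22028 (BT.node 22025 (BT.node 22023 (BT.node 22022 (BT.leaf c14_422) (BT.leaf c14_423)) (BT.node 22024 (BT.leaf c14_424) (BT.leaf c14_425))) (BT.node 22027 (BT.node 22026 (BT.leaf c14_426) (BT.leaf c14_427)) (BT.leaf c14_428))) (BT.node 22032 (BT.node 22030 (BT.node 22029 (BT.leaf c14_429) (BT.leaf c14_430)) (BT.node 22031 (BT.leaf c14_431) (BT.leaf c14_432))) (BT.node 22034 (BT.node 22033 (BT.leaf c14_433) (BT.leaf c14_434)) (BT.leaf c14_435)))) (BT.node 22042 (BT.node 22039 (BT.node 22037 (BT.node 22036 (BT.leaf c14_436) (BT.leaf c14_437)) (BT.node 22038 (BT.leaf c14_438) (BT.leaf c14_439))) (BT.node 22041 (BT.node 22040 (BT.leaf c14_440) (BT.leaf c14_441)) (BT.leaf c14_442))) (BT.node 22046 (BT.node 22044 (BT.node 22043 (BT.leaf c14_443) (BT.leaf c14_444)) (BT.node 22045 (BT.leaf c14_445) (BT.leaf c14_446))) (BT.node 22048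 (BT.node 22047 (BT.leaf c14_447) (BT.leaf c14_448)) (BT.leaf c14_449))))))))) (BT.node 22274 (BT.node 22162 (BT.node 22106 (BT.node 22078 (BT.node 22064 (BT.node 22057 (BT.node 22053 (BT.node 22051 (BT.node 22050 (BT.leaf c14_450) (BT.leaf c14_451)) (BT.node 22052 (BT.leaf c14_452) (BT.leaf c14_453))) (BT.node 22055 (BT.node 22054 (BT.leaf c14_454) (BT.leaf c14_455)) (BT.node 22056 (BT.leaf c14_456) (BT.leaf c14_457)))) (BT.node 22061 (BT.node 22059 (BT.node 22058 (BT.leaf c14_458) (BT.leaf c14_459)) (BT.node 22060 (BT.leaf c14_460) (BT.leaf c14_461))) (BT.node 22063 (BT.node 22062 (BT.leaf c14_462) (BT.leaf c14_463)) (BT.leaf c14_464)))) (BT.node 22071 (BT.node 22068 (BT.node 22066 (BT.node 22065 (BT.leaf c14_465) (BT.leaf c14_466)) (BT.node 22067 (BT.leaf c14_467) (BT.leaf c14_468))) (BT.node 22070 (BT.node 22069 (BT.leaf c14_469) (BT.leaf c14_470)) (BT.leaf c14_471))) (BT.node 22075 (BT.node 22073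 (BT.node 22072 (BT.leaf c14_472) (BT.leaf c14_473)) (BT.node 22074 (BT.leaf c14_474) (BT.leaf c14_475))) (BT.node 22077 (BT.node 22076 (BT.leaf c14_476) (BT.leaf c14_477)) (BT.leaf c14_478))))) (BT.node 22092 (BT.node 22085 (BT.node 22082 (BT.node 22080 (BT.node 22079 (BT.leaf c14_479) (BT.leaf c14_480)) (BT.node 22081 (BT.leaf c14_481) (BT.leaf c14_482))) (BT.node 22084 (BT.node 22083 (BT.leaf c14_483) (BT.leaf c14_484)) (BT.leaf c14_485))) (BT.node 22089 (BT.node 22087 (BT.node 22086 (BT.leaf c14_486) (BT.leaf c14_487)) (BT.node 22088 (BT.leaf c14_488) (BT.leaf c14_489))) (BT.node 22091 (BT.node 22090 (BT.leaf c14_490) (BT.leaf c14_491)) (BT.leaf c14_492)))) (BT.node 22099 (BT.node 22096 (BT.node 22094 (BT.node 22093 (BT.leaf c14_493) (BT.leaf c14_494)) (BT.node 22095 (BT.leaf c14_495) (BT.leaf c14_496))) (BT.node 22098 (BT.node 22097 (BT.leaf c14_497) (BT.leaf c14_498)) (BT.leaf c14_499))) (BT.node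 22103 (BT.node 22101 (BT.node 22100 (BT.leaf c14_500) (BT.leaf c14_501)) (BT.node 22102 (BT.leaf c14_502) (BT.leaf c14_503))) (BT.node 22105 (BT.node 22104 (BT.leaf c14_504) (BT.leaf c14_505)) (BT.leaf c14_506)))))) (BT.node 22134 (BT.node 22120 (BT.node 22113 (BT.node 22110 (BT.node 22108 (BT.node 22107 (BT.leaf c14_507) (BT.leaf c14_508)) (BT.node 22109 (BT.leaf c14_509) (BT.leaf c14_510))) (BT.node 22112 (BT.node 22111 (BT.leaf c14_511) (BT.leaf c14_512)) (BT.leaf c14_513))) (BT.node 22117 (BT.node 22115 (BT.node 22114 (BT.leaf c14_514) (BT.leaf c14_515)) (BT.node 22116 (BT.leaf c14_516) (BT.leaf c14_517))) (BT.node 22119 (BT.node 22118 (BT.leaf c14_518) (BT.leaf c14_519)) (BT.leaf c14_520)))) (BT.node 22127 (BT.node 22124 (BT.node 22122 (BT.node 22121 (BT.leaf c14_521) (BT.leaf c14_522)) (BT.node 22123 (BT.leaf c14_523) (BT.leaf c14_524))) (BT.node 22126 (BT.node 22125 (BT.leaf c14_525) (BT.leaf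 c14_526)) (BT.leaf c14_527))) (BT.node 22131 (BT.node 22129 (BT.node 22128 (BT.leaf c14_528) (BT.leaf c14_529)) (BT.node 22130 (BT.leaf c14_530) (BT.leaf c14_531))) (BT.node 22133 (BT.node 22132 (BT.leaf c14_532) (BT.leaf c14_533)) (BT.leaf c14_534))))) (BT.node 22148 (BT.node 22141 (BT.node 22138 (BT.node 22136 (BT.node 22135 (BT.leaf c14_535) (BT.leaf c14_536)) (BT.node 22137 (BT.leaf c14_537) (BT.leaf c14_538))) (BT.node 22140 (BT.node 22139 (BT.leaf c14_539) (BT.leaf c14_540)) (BT.leaf c14_541))) (BT.node 22145 (BT.node 22143 (BT.node 22142 (BT.leaf c14_542) (BT.leaf c14_543)) (BT.node 22144 (BT.leaf c14_544) (BT.leaf c14_545))) (BT.node 22147 (BT.node 22146 (BT.leaf c14_546) (BT.leaf c14_547)) (BT.leaf c14_548)))) (BT.node 22155 (BT.node 22152 (BT.node 22150 (BT.node 22149 (BT.leaf c14_549) (BT.leaf c14_550)) (BT.node 22151 (BT.leaf c14_551) (BT.leaf c14_552))) (BT.node 22154 (BT.node 22153 (BT.leaf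 c14_553) (BT.leaf c14_554)) (BT.leaf c14_555))) (BT.node 22159 (BT.node 22157 (BT.node 22156 (BT.leaf c14_556) (BT.leaf c14_557)) (BT.node 22158 (BT.leaf c14_558) (BT.leaf c14_559))) (BT.node 22161 (BT.node 22160 (BT.leaf c14_560) (BT.leaf c14_561)) (BT.leaf c14_562))))))) (BT.node 22218 (BT.node 22190 (BT.node 22176 (BT.node 22169 (BT.node 22166 (BT.node 22164 (BT.node 22163 (BT.leaf c14_563) (BT.leaf c14_564)) (BT.node 22165 (BT.leaf c14_565) (BT.leaf c14_566))) (BT.node 22168 (BT.node 22167 (BT.leaf c14_567) (BT.leaf c14_568)) (BT.leaf c14_569))) (BT.node 22173 (BT.node 22171 (BT.node 22170 (BT.leaf c14_570) (BT.leaf c14_571)) (BT.node 22172 (BT.leaf c14_572) (BT.leaf c14_573))) (BT.node 22175 (BT.node 22174 (BT.leaf c14_574) (BT.leaf c14_575)) (BT.leaf c14_576)))) (BT.node 22183 (BT.node 22180 (BT.node 22178 (BT.node 22177 (BT.leaf c14_577) (BT.leaf c14_578)) (BT.node 22179 (BT.leaf c14_579) (BT.leaf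 c14_580))) (BT.node 22182 (BT.node 22181 (BT.leaf c14_581) (BT.leaf c14_582)) (BT.leaf c14_583))) (BT.node 22187 (BT.node 22185 (BT.node 22184 (BT.leaf c14_584) (BT.leaf c14_585)) (BT.node 22186 (BT.leaf c14_586) (BT.leaf c14_587))) (BT.node 22189 (BT.node 22188 (BT.leaf c14_588) (BT.leaf c14_589)) (BT.leaf c14_590))))) (BT.node 22204 (BT.node 22197 (BT.node 22194 (BT.node 22192 (BT.node 22191 (BT.leaf c14_591) (BT.leaf c14_592)) (BT.node 22193 (BT.leaf c14_593) (BT.leaf c14_594))) (BT.node 22196 (BT.node 22195 (BT.leaf c14_595) (BT.leaf c14_596)) (BT.leaf c14_597))) (BT.node 22201 (BT.node 22199 (BT.node 22198 (BT.leaf c14_598) (BT.leaf c14_599)) (BT.node 22200 (BT.leaf c14_600) (BT.leaf c14_601))) (BT.node 22203 (BT.node 22202 (BT.leaf c14_602) (BT.leaf c14_603)) (BT.leaf c14_604)))) (BT.node 22211 (BT.node 22208 (BT.node 22206 (BT.node 22205 (BT.leaf c14_605) (BT.leaf c14_606)) (BT.node 22207 (BT.leaf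 c14_607) (BT.leaf c14_608))) (BT.node 22210 (BT.node 22209 (BT.leaf c14_609) (BT.leaf c14_610)) (BT.leaf c14_611))) (BT.node 22215 (BT.node 22213 (BT.node 22212 (BT.leaf c14_612) (BT.leaf c14_613)) (BT.node 22214 (BT.leaf c14_614) (BT.leaf c14_615))) (BT.node 22217 (BT.node 22216 (BT.leaf c14_616) (BT.leaf c14_617)) (BT.leaf c14_618)))))) (BT.node 22246 (BT.node 22232 (BT.node 22225 (BT.node 22222 (BT.node 22220 (BT.node 22219 (BT.leaf c14_619) (BT.leaf c14_620)) (BT.node 22221 (BT.leaf c14_621) (BT.leaf c14_622))) (BT.node 22224 (BT.node 22223 (BT.leaf c14_623) (BT.leaf c14_624)) (BT.leaf c14_625))) (BT.node 22229 (BT.node 22227 (BT.node 22226 (BT.leaf c14_626) (BT.leaf c14_627)) (BT.node 22228 (BT.leaf c14_628) (BT.leaf c14_629))) (BT.node 22231 (BT.node 22230 (BT.leaf c14_630) (BT.leaf c14_631)) (BT.leaf c14_632)))) (BT.node 22239 (BT.node 22236 (BT.node 22234 (BT.node 22233 (BT.leaf c14_633) (BT.leaf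 c14_634)) (BT.node 22235 (BT.leaf c14_635) (BT.leaf c14_636))) (BT.node 22238 (BT.node 22237 (BT.leaf c14_637) (BT.leaf c14_638)) (BT.leaf c14_639))) (BT.node 22243 (BT.node 22241 (BT.node 22240 (BT.leaf c14_640) (BT.leaf c14_641)) (BT.node 22242 (BT.leaf c14_642) (BT.leaf c14_643))) (BT.node 22245 (BT.node 22244 (BT.leaf c14_644) (BT.leaf c14_645)) (BT.leaf c14_646))))) (BT.node 22260 (BT.node 22253 (BT.node 22250 (BT.node 22248 (BT.node 22247 (BT.leaf c14_647) (BT.leaf c14_648)) (BT.node 22249 (BT.leaf c14_649) (BT.leaf c14_650))) (BT.node 22252 (BT.node 22251 (BT.leaf c14_651) (BT.leaf c14_652)) (BT.leaf c14_653))) (BT.node 22257 (BT.node 22255 (BT.node 22254 (BT.leaf c14_654) (BT.leaf c14_655)) (BT.node 22256 (BT.leaf c14_656) (BT.leaf c14_657))) (BT.node 22259 (BT.node 22258 (BT.leaf c14_658) (BT.leaf c14_659)) (BT.leaf c14_660)))) (BT.node 22267 (BT.node 22264 (BT.node 22262 (BT.node 22261 (BT.leaf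 c14_661) (BT.leaf c14_662)) (BT.node 22263 (BT.leaf c14_663) (BT.leaf c14_664))) (BT.node 22266 (BT.node 22265 (BT.leaf c14_665) (BT.leaf c14_666)) (BT.leaf c14_667))) (BT.node 22271 (BT.node 22269 (BT.node 22268 (BT.leaf c14_668) (BT.leaf c14_669)) (BT.node 22270 (BT.leaf c14_670) (BT.leaf c14_671))) (BT.node 22273 (BT.node 22272 (BT.leaf c14_672) (BT.leaf c14_673)) (BT.leaf c14_674)))))))) (BT.node 22387 (BT.node 22331 (BT.node 22303 (BT.node 22289 (BT.node 22282 (BT.node 22278 (BT.node 22276 (BT.node 22275 (BT.leaf c14_675) (BT.leaf c14_676)) (BT.node 22277 (BT.leaf c14_677) (BT.leaf c14_678))) (BT.node 22280 (BT.node 22279 (BT.leaf c14_679) (BT.leaf c14_680)) (BT.node 22281 (BT.leaf c14_681) (BT.leaf c14_682)))) (BT.node 22286 (BT.node 22284 (BT.node 22283 (BT.leaf c14_683) (BT.leaf c14_684)) (BT.node 22285 (BT.leaf c14_685) (BT.leaf c14_686))) (BT.node 22288 (BT.node 22287 (BT.leaf c14_687) (BT.leaf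 c14_688)) (BT.leaf c14_689)))) (BT.node 22296 (BT.node 22293 (BT.node 22291 (BT.node 22290 (BT.leaf c14_690) (BT.leaf c14_691)) (BT.node 22292 (BT.leaf c14_692) (BT.leaf c14_693))) (BT.node 22295 (BT.node 22294 (BT.leaf c14_694) (BT.leaf c14_695)) (BT.leaf c14_696))) (BT.node 22300 (BT.node 22298 (BT.node 22297 (BT.leaf c14_697) (BT.leaf c14_698)) (BT.node 22299 (BT.leaf c14_699) (BT.leaf c14_700))) (BT.node 22302 (BT.node 22301 (BT.leaf c14_701) (BT.leaf c14_702)) (BT.leaf c14_703))))) (BT.node 22317 (BT.node 22310 (BT.node 22307 (BT.node 22305 (BT.node 22304 (BT.leaf c14_704) (BT.leaf c14_705)) (BT.node 22306 (BT.leaf c14_706) (BT.leaf c14_707))) (BT.node 22309 (BT.node 22308 (BT.leaf c14_708) (BT.leaf c14_709)) (BT.leaf c14_710))) (BT.node 22314 (BT.node 22312 (BT.node 22311 (BT.leaf c14_711) (BT.leaf c14_712)) (BT.node 22313 (BT.leaf c14_713) (BT.leaf c14_714))) (BT.node 22316 (BT.node 22315 (BT.leaf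 c14_715) (BT.leaf c14_716)) (BT.leaf c14_717)))) (BT.node 22324 (BT.node 22321 (BT.node 22319 (BT.node 22318 (BT.leaf c14_718) (BT.leaf c14_719)) (BT.node 22320 (BT.leaf c14_720) (BT.leaf c14_721))) (BT.node 22323 (BT.node 22322 (BT.leaf c14_722) (BT.leaf c14_723)) (BT.leaf c14_724))) (BT.node 22328 (BT.node 22326 (BT.node 22325 (BT.leaf c14_725) (BT.leaf c14_726)) (BT.node 22327 (BT.leaf c14_727) (BT.leaf c14_728))) (BT.node 22330 (BT.node 22329 (BT.leaf c14_729) (BT.leaf c14_730)) (BT.leaf c14_731)))))) (BT.node 22359 (BT.node 22345 (BT.node 22338 (BT.node 22335 (BT.node 22333 (BT.node 22332 (BT.leaf c14_732) (BT.leaf c14_733)) (BT.node 22334 (BT.leaf c14_734) (BT.leaf c14_735))) (BT.node 22337 (BT.node 22336 (BT.leaf c14_736) (BT.leaf c14_737)) (BT.leaf c14_738))) (BT.node 22342 (BT.node 22340 (BT.node 22339 (BT.leaf c14_739) (BT.leaf c14_740)) (BT.node 22341 (BT.leaf c14_741) (BT.leaf c14_742)))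 (BT.node 22344 (BT.node 22343 (BT.leaf c14_743) (BT.leaf c14_744)) (BT.leaf c14_745)))) (BT.node 22352 (BT.node 22349 (BT.node 22347 (BT.node 22346 (BT.leaf c14_746) (BT.leaf c14_747)) (BT.node 22348 (BT.leaf c14_748) (BT.leaf c14_749))) (BT.node 22351 (BT.node 22350 (BT.leaf c14_750) (BT.leaf c14_751)) (BT.leaf c14_752))) (BT.node 22356 (BT.node 22354 (BT.node 22353 (BT.leaf c14_753) (BT.leaf c14_754)) (BT.node 22355 (BT.leaf c14_755) (BT.leaf c14_756))) (BT.node 22358 (BT.node 22357 (BT.leaf c14_757) (BT.leaf c14_758)) (BT.leaf c14_759))))) (BT.node 22373 (BT.node 22366 (BT.node 22363 (BT.node 22361 (BT.node 22360 (BT.leaf c14_760) (BT.leaf c14_761)) (BT.node 22362 (BT.leaf c14_762) (BT.leaf c14_763))) (BT.node 22365 (BT.node 22364 (BT.leaf c14_764) (BT.leaf c14_765)) (BT.leaf c14_766))) (BT.node 22370 (BT.node 22368 (BT.node 22367 (BT.leaf c14_767) (BT.leaf c14_768)) (BT.node 22369 (BT.leaf c14_769)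 (BT.leaf c14_770))) (BT.node 22372 (BT.node 22371 (BT.leaf c14_771) (BT.leaf c14_772)) (BT.leaf c14_773)))) (BT.node 22380 (BT.node 22377 (BT.node 22375 (BT.node 22374 (BT.leaf c14_774) (BT.leaf c14_775)) (BT.node 22376 (BT.leaf c14_776) (BT.leaf c14_777))) (BT.node 22379 (BT.node 22378 (BT.leaf c14_778) (BT.leaf c14_779)) (BT.leaf c14_780))) (BT.node 22384 (BT.node 22382 (BT.node 22381 (BT.leaf c14_781) (BT.leaf c14_782)) (BT.node 22383 (BT.leaf c14_783) (BT.leaf c14_784))) (BT.node 22386 (BT.node 22385 (BT.leaf c14_785) (BT.leaf c14_786)) (BT.leaf c14_787))))))) (BT.node 22443 (BT.node 22415 (BT.node 22401 (BT.node 22394 (BT.node 22391 (BT.node 22389 (BT.node 22388 (BT.leaf c14_788) (BT.leaf c14_789)) (BT.node 22390 (BT.leaf c14_790) (BT.leaf c14_791))) (BT.node 22393 (BT.node 22392 (BT.leaf c14_792) (BT.leaf c14_793)) (BT.leaf c14_794))) (BT.node 22398 (BT.node 22396 (BT.node 22395 (BT.leaf c14_795)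 (BT.leaf c14_796)) (BT.node 22397 (BT.leaf c14_797) (BT.leaf c14_798))) (BT.node 22400 (BT.node 22399 (BT.leaf c14_799) (BT.leaf c14_800)) (BT.leaf c14_801)))) (BT.node 22408 (BT.node 22405 (BT.node 22403 (BT.node 22402 (BT.leaf c14_802) (BT.leaf c14_803)) (BT.node 22404 (BT.leaf c14_804) (BT.leaf c14_805))) (BT.node 22407 (BT.node 22406 (BT.leaf c14_806) (BT.leaf c14_807)) (BT.leaf c14_808))) (BT.node 22412 (BT.node 22410 (BT.node 22409 (BT.leaf c14_809) (BT.leaf c14_810)) (BT.node 22411 (BT.leaf c14_811) (BT.leaf c14_812))) (BT.node 22414 (BT.node 22413 (BT.leaf c14_813) (BT.leaf c14_814)) (BT.leaf c14_815))))) (BT.node 22429 (BT.node 22422 (BT.node 22419 (BT.node 22417 (BT.node 22416 (BT.leaf c14_816) (BT.leaf c14_817)) (BT.node 22418 (BT.leaf c14_818) (BT.leaf c14_819))) (BT.node 22421 (BT.node 22420 (BT.leaf c14_820) (BT.leaf c14_821)) (BT.leaf c14_822))) (BT.node 22426 (BT.node 22424 (BT.node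 22423 (BT.leaf c14_823) (BT.leaf c14_824)) (BT.node 22425 (BT.leaf c14_825) (BT.leaf c14_826))) (BT.node 22428 (BT.node 22427 (BT.leaf c14_827) (BT.leaf c14_828)) (BT.leaf c14_829)))) (BT.node 22436 (BT.node 22433 (BT.node 22431 (BT.node 22430 (BT.leaf c14_830) (BT.leaf c14_831)) (BT.node 22432 (BT.leaf c14_832) (BT.leaf c14_833))) (BT.node 22435 (BT.node 22434 (BT.leaf c14_834) (BT.leaf c14_835)) (BT.leaf c14_836))) (BT.node 22440 (BT.node 22438 (BT.node 22437 (BT.leaf c14_837) (BT.leaf c14_838)) (BT.node 22439 (BT.leaf c14_839) (BT.leaf c14_840))) (BT.node 22442 (BT.node 22441 (BT.leaf c14_841) (BT.leaf c14_842)) (BT.leaf c14_843)))))) (BT.node 22471 (BT.node 22457 (BT.node 22450 (BT.node 22447 (BT.node 22445 (BT.node 22444 (BT.leaf c14_844) (BT.leaf c14_845)) (BT.node 22446 (BT.leaf c14_846) (BT.leaf c14_847))) (BT.node 22449 (BT.node 22448 (BT.leaf c14_848) (BT.leaf c14_849)) (BT.leaf c14_850)))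 (BT.node 22454 (BT.node 22452 (BT.node 22451 (BT.leaf c14_851) (BT.leaf c14_852)) (BT.node 22453 (BT.leaf c14_853) (BT.leaf c14_854))) (BT.node 22456 (BT.node 22455 (BT.leaf c14_855) (BT.leaf c14_856)) (BT.leaf c14_857)))) (BT.node 22464 (BT.node 22461 (BT.node 22459 (BT.node 22458 (BT.leaf c14_858) (BT.leaf c14_859)) (BT.node 22460 (BT.leaf c14_860) (BT.leaf c14_861))) (BT.node 22463 (BT.node 22462 (BT.leaf c14_862) (BT.leaf c14_863)) (BT.leaf c14_864))) (BT.node 22468 (BT.node 22466 (BT.node 22465 (BT.leaf c14_865) (BT.leaf c14_866)) (BT.node 22467 (BT.leaf c14_867) (BT.leaf c14_868))) (BT.node 22470 (BT.node 22469 (BT.leaf c14_869) (BT.leaf c14_870)) (BT.leaf c14_871))))) (BT.node 22485 (BT.node 22478 (BT.node 22475 (BT.node 22473 (BT.node 22472 (BT.leaf c14_872) (BT.leaf c14_873)) (BT.node 22474 (BT.leaf c14_874) (BT.leaf c14_875))) (BT.node 22477 (BT.node 22476 (BT.leaf c14_876) (BT.leaf c14_877))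 (BT.leaf c14_878))) (BT.node 22482 (BT.node 22480 (BT.node 22479 (BT.leaf c14_879) (BT.leaf c14_880)) (BT.node 22481 (BT.leaf c14_881) (BT.leaf c14_882))) (BT.node 22484 (BT.node 22483 (BT.leaf c14_883) (BT.leaf c14_884)) (BT.leaf c14_885)))) (BT.node 22492 (BT.node 22489 (BT.node 22487 (BT.node 22486 (BT.leaf c14_886) (BT.leaf c14_887)) (BT.node 22488 (BT.leaf c14_888) (BT.leaf c14_889))) (BT.node 22491 (BT.node 22490 (BT.leaf c14_890) (BT.leaf c14_891)) (BT.leaf c14_892))) (BT.node 22496 (BT.node 22494 (BT.node 22493 (BT.leaf c14_893) (BT.leaf c14_894)) (BT.node 22495 (BT.leaf c14_895) (BT.leaf c14_896))) (BT.node 22498 (BT.node 22497 (BT.leaf c14_897) (BT.leaf c14_898)) (BT.leaf c14_899))))))))))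
/-- the chunks of the letter 25 -/
def colL_25 : BT ℕ := (BT.node 22949 (BT.node 22724 (BT.node 22612 (BT.node 22556 (BT.node 22528 (BT.node 22514 (BT.node 22507 (BT.node 22503 (BT.node 22501 (BT.node 22500 (BT.leaf c15_0) (BT.leaf c15_1)) (BT.node 22502 (BT.leaf c15_2) (BT.leaf c15_3))) (BT.node 22505 (BT.node 22504 (BT.leaf c15_4) (BT.leaf c15_5)) (BT.node 22506 (BT.leaf c15_6) (BT.leaf c15_7)))) (BT.node 22511 (BT.node 22509 (BT.node 22508 (BT.leaf c15_8) (BT.leaf c15_9)) (BT.node 22510 (BT.leaf c15_10) (BT.leaf c15_11))) (BT.node 22513 (BT.node 22512 (BT.leaf c15_12) (BT.leaf c15_13)) (BT.leaf c15_14)))) (BT.node 22521 (BT.node 22518 (BT.node 22516 (BT.node 22515 (BT.leaf c15_15) (BT.leaf c15_16)) (BT.node 22517 (BT.leaf c15_17) (BT.leaf c15_18))) (BT.node 22520 (BT.node 22519 (BT.leaf c15_19) (BT.leaf c15_20)) (BT.leaf c15_21))) (BT.node 22525 (BT.node 22523 (BT.node 22522 (BT.leaf c15_22) (BT.leaf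 c15_23)) (BT.node 22524 (BT.leaf c15_24) (BT.leaf c15_25))) (BT.node 22527 (BT.node 22526 (BT.leaf c15_26) (BT.leaf c15_27)) (BT.leaf c15_28))))) (BT.node 22542 (BT.node 22535 (BT.node 22532 (BT.node 22530 (BT.node 22529 (BT.leaf c15_29) (BT.leaf c15_30)) (BT.node 22531 (BT.leaf c15_31) (BT.leaf c15_32))) (BT.node 22534 (BT.node 22533 (BT.leaf c15_33) (BT.leaf c15_34)) (BT.leaf c15_35))) (BT.node 22539 (BT.node 22537 (BT.node 22536 (BT.leaf c15_36) (BT.leaf c15_37)) (BT.node 22538 (BT.leaf c15_38) (BT.leaf c15_39))) (BT.node 22541 (BT.node 22540 (BT.leaf c15_40) (BT.leaf c15_41)) (BT.leaf c15_42)))) (BT.node 22549 (BT.node 22546 (BT.node 22544 (BT.node 22543 (BT.leaf c15_43) (BT.leaf c15_44)) (BT.node 22545 (BT.leaf c15_45) (BT.leaf c15_46))) (BT.node 22548 (BT.node 22547 (BT.leaf c15_47) (BT.leaf c15_48)) (BT.leaf c15_49))) (BT.node 22553 (BT.node 22551 (BT.node 22550 (BT.leaf c15_50) (BT.leaf c15_51))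 (BT.node 22552 (BT.leaf c15_52) (BT.leaf c15_53))) (BT.node 22555 (BT.node 22554 (BT.leaf c15_54) (BT.leaf c15_55)) (BT.leaf c15_56)))))) (BT.node 22584 (BT.node 22570 (BT.node 22563 (BT.node 22560 (BT.node 22558 (BT.node 22557 (BT.leaf c15_57) (BT.leaf c15_58)) (BT.node 22559 (BT.leaf c15_59) (BT.leaf c15_60))) (BT.node 22562 (BT.node 22561 (BT.leaf c15_61) (BT.leaf c15_62)) (BT.leaf c15_63))) (BT.node 22567 (BT.node 22565 (BT.node 22564 (BT.leaf c15_64) (BT.leaf c15_65)) (BT.node 22566 (BT.leaf c15_66) (BT.leaf c15_67))) (BT.node 22569 (BT.node 22568 (BT.leaf c15_68) (BT.leaf c15_69)) (BT.leaf c15_70)))) (BT.node 22577 (BT.node 22574 (BT.node 22572 (BT.node 22571 (BT.leaf c15_71) (BT.leaf c15_72)) (BT.node 22573 (BT.leaf c15_73) (BT.leaf c15_74))) (BT.node 22576 (BT.node 22575 (BT.leaf c15_75) (BT.leaf c15_76)) (BT.leaf c15_77))) (BT.node 22581 (BT.node 22579 (BT.node 22578 (BT.leaf c15_78) (BT.leaf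 c15_79)) (BT.node 22580 (BT.leaf c15_80) (BT.leaf c15_81))) (BT.node 22583 (BT.node 22582 (BT.leaf c15_82) (BT.leaf c15_83)) (BT.leaf c15_84))))) (BT.node 22598 (BT.node 22591 (BT.node 22588 (BT.node 22586 (BT.node 22585 (BT.leaf c15_85) (BT.leaf c15_86)) (BT.node 22587 (BT.leaf c15_87) (BT.leaf c15_88))) (BT.node 22590 (BT.node 22589 (BT.leaf c15_89) (BT.leaf c15_90)) (BT.leaf c15_91))) (BT.node 22595 (BT.node 22593 (BT.node 22592 (BT.leaf c15_92) (BT.leaf c15_93)) (BT.node 22594 (BT.leaf c15_94) (BT.leaf c15_95))) (BT.node 22597 (BT.node 22596 (BT.leaf c15_96) (BT.leaf c15_97)) (BT.leaf c15_98)))) (BT.node 22605 (BT.node 22602 (BT.node 22600 (BT.node 22599 (BT.leaf c15_99) (BT.leaf c15_100)) (BT.node 22601 (BT.leaf c15_101) (BT.leaf c15_102))) (BT.node 22604 (BT.node 22603 (BT.leaf c15_103) (BT.leaf c15_104)) (BT.leaf c15_105))) (BT.node 22609 (BT.node 22607 (BT.node 22606 (BT.leaf c15_106) (BT.leaf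 c15_107)) (BT.node 22608 (BT.leaf c15_108) (BT.leaf c15_109))) (BT.node 22611 (BT.node 22610 (BT.leaf c15_110) (BT.leaf c15_111)) (BT.leaf c15_112))))))) (BT.node 22668 (BT.node 22640 (BT.node 22626 (BT.node 22619 (BT.node 22616 (BT.node 22614 (BT.node 22613 (BT.leaf c15_113) (BT.leaf c15_114)) (BT.node 22615 (BT.leaf c15_115) (BT.leaf c15_116))) (BT.node 22618 (BT.node 22617 (BT.leaf c15_117) (BT.leaf c15_118)) (BT.leaf c15_119))) (BT.node 22623 (BT.node 22621 (BT.node 22620 (BT.leaf c15_120) (BT.leaf c15_121)) (BT.node 22622 (BT.leaf c15_122) (BT.leaf c15_123))) (BT.node 22625 (BT.node 22624 (BT.leaf c15_124) (BT.leaf c15_125)) (BT.leaf c15_126)))) (BT.node 22633 (BT.node 22630 (BT.node 22628 (BT.node 22627 (BT.leaf c15_127) (BT.leaf c15_128)) (BT.node 22629 (BT.leaf c15_129) (BT.leaf c15_130))) (BT.node 22632 (BT.node 22631 (BT.leaf c15_131) (BT.leaf c15_132)) (BT.leaf c15_133))) (BT.node 22637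 (BT.node 22635 (BT.node 22634 (BT.leaf c15_134) (BT.leaf c15_135)) (BT.node 22636 (BT.leaf c15_136) (BT.leaf c15_137))) (BT.node 22639 (BT.node 22638 (BT.leaf c15_138) (BT.leaf c15_139)) (BT.leaf c15_140))))) (BT.node 22654 (BT.node 22647 (BT.node 22644 (BT.node 22642 (BT.node 22641 (BT.leaf c15_141) (BT.leaf c15_142)) (BT.node 22643 (BT.leaf c15_143) (BT.leaf c15_144))) (BT.node 22646 (BT.node 22645 (BT.leaf c15_145) (BT.leaf c15_146)) (BT.leaf c15_147))) (BT.node 22651 (BT.node 22649 (BT.node 22648 (BT.leaf c15_148) (BT.leaf c15_149)) (BT.node 22650 (BT.leaf c15_150) (BT.leaf c15_151))) (BT.node 22653 (BT.node 22652 (BT.leaf c15_152) (BT.leaf c15_153)) (BT.leaf c15_154)))) (BT.node 22661 (BT.node 22658 (BT.node 22656 (BT.node 22655 (BT.leaf c15_155) (BT.leaf c15_156)) (BT.node 22657 (BT.leaf c15_157) (BT.leaf c15_158))) (BT.node 22660 (BT.node 22659 (BT.leaf c15_159) (BT.leaf c15_160)) (BT.leaf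 c15_161))) (BT.node 22665 (BT.node 22663 (BT.node 22662 (BT.leaf c15_162) (BT.leaf c15_163)) (BT.node 22664 (BT.leaf c15_164) (BT.leaf c15_165))) (BT.node 22667 (BT.node 22666 (BT.leaf c15_166) (BT.leaf c15_167)) (BT.leaf c15_168)))))) (BT.node 22696 (BT.node 22682 (BT.node 22675 (BT.node 22672 (BT.node 22670 (BT.node 22669 (BT.leaf c15_169) (BT.leaf c15_170)) (BT.node 22671 (BT.leaf c15_171) (BT.leaf c15_172))) (BT.node 22674 (BT.node 22673 (BT.leaf c15_173) (BT.leaf c15_174)) (BT.leaf c15_175))) (BT.node 22679 (BT.node 22677 (BT.node 22676 (BT.leaf c15_176) (BT.leaf c15_177)) (BT.node 22678 (BT.leaf c15_178) (BT.leaf c15_179))) (BT.node 22681 (BT.node 22680 (BT.leaf c15_180) (BT.leaf c15_181)) (BT.leaf c15_182)))) (BT.node 22689 (BT.node 22686 (BT.node 22684 (BT.node 22683 (BT.leaf c15_183) (BT.leaf c15_184)) (BT.node 22685 (BT.leaf c15_185) (BT.leaf c15_186))) (BT.node 22688 (BT.node 22687 (BT.leaf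 c15_187) (BT.leaf c15_188)) (BT.leaf c15_189))) (BT.node 22693 (BT.node 22691 (BT.node 22690 (BT.leaf c15_190) (BT.leaf c15_191)) (BT.node 22692 (BT.leaf c15_192) (BT.leaf c15_193))) (BT.node 22695 (BT.node 22694 (BT.leaf c15_194) (BT.leaf c15_195)) (BT.leaf c15_196))))) (BT.node 22710 (BT.node 22703 (BT.node 22700 (BT.node 22698 (BT.node 22697 (BT.leaf c15_197) (BT.leaf c15_198)) (BT.node 22699 (BT.leaf c15_199) (BT.leaf c15_200))) (BT.node 22702 (BT.node 22701 (BT.leaf c15_201) (BT.leaf c15_202)) (BT.leaf c15_203))) (BT.node 22707 (BT.node 22705 (BT.node 22704 (BT.leaf c15_204) (BT.leaf c15_205)) (BT.node 22706 (BT.leaf c15_206) (BT.leaf c15_207))) (BT.node 22709 (BT.node 22708 (BT.leaf c15_208) (BT.leaf c15_209)) (BT.leaf c15_210)))) (BT.node 22717 (BT.node 22714 (BT.node 22712 (BT.node 22711 (BT.leaf c15_211) (BT.leaf c15_212)) (BT.node 22713 (BT.leaf c15_213) (BT.leaf c15_214))) (BT.node 22716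 (BT.node 22715 (BT.leaf c15_215) (BT.leaf c15_216)) (BT.leaf c15_217))) (BT.node 22721 (BT.node 22719 (BT.node 22718 (BT.leaf c15_218) (BT.leaf c15_219)) (BT.node 22720 (BT.leaf c15_220) (BT.leaf c15_221))) (BT.node 22723 (BT.node 22722 (BT.leaf c15_222) (BT.leaf c15_223)) (BT.leaf c15_224)))))))) (BT.node 22837 (BT.node 22781 (BT.node 22753 (BT.node 22739 (BT.node 22732 (BT.node 22728 (BT.node 22726 (BT.node 22725 (BT.leaf c15_225) (BT.leaf c15_226)) (BT.node 22727 (BT.leaf c15_227) (BT.leaf c15_228))) (BT.node 22730 (BT.node 22729 (BT.leaf c15_229) (BT.leaf c15_230)) (BT.node 22731 (BT.leaf c15_231) (BT.leaf c15_232)))) (BT.node 22736 (BT.node 22734 (BT.node 22733 (BT.leaf c15_233) (BT.leaf c15_234)) (BT.node 22735 (BT.leaf c15_235) (BT.leaf c15_236))) (BT.node 22738 (BT.node 22737 (BT.leaf c15_237) (BT.leaf c15_238)) (BT.leaf c15_239)))) (BT.node 22746 (BT.node 22743 (BT.node 22741 (BT.node 22740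 (BT.leaf c15_240) (BT.leaf c15_241)) (BT.node 22742 (BT.leaf c15_242) (BT.leaf c15_243))) (BT.node 22745 (BT.node 22744 (BT.leaf c15_244) (BT.leaf c15_245)) (BT.leaf c15_246))) (BT.node 22750 (BT.node 22748 (BT.node 22747 (BT.leaf c15_247) (BT.leaf c15_248)) (BT.node 22749 (BT.leaf c15_249) (BT.leaf c15_250))) (BT.node 22752 (BT.node 22751 (BT.leaf c15_251) (BT.leaf c15_252)) (BT.leaf c15_253))))) (BT.node 22767 (BT.node 22760 (BT.node 22757 (BT.node 22755 (BT.node 22754 (BT.leaf c15_254) (BT.leaf c15_255)) (BT.node 22756 (BT.leaf c15_256) (BT.leaf c15_257))) (BT.node 22759 (BT.node 22758 (BT.leaf c15_258) (BT.leaf c15_259)) (BT.leaf c15_260))) (BT.node 22764 (BT.node 22762 (BT.node 22761 (BT.leaf c15_261) (BT.leaf c15_262)) (BT.node 22763 (BT.leaf c15_263) (BT.leaf c15_264))) (BT.node 22766 (BT.node 22765 (BT.leaf c15_265) (BT.leaf c15_266)) (BT.leaf c15_267)))) (BT.node 22774 (BT.node 22771 (BT.node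 22769 (BT.node 22768 (BT.leaf c15_268) (BT.leaf c15_269)) (BT.node 22770 (BT.leaf c15_270) (BT.leaf c15_271))) (BT.node 22773 (BT.node 22772 (BT.leaf c15_272) (BT.leaf c15_273)) (BT.leaf c15_274))) (BT.node 22778 (BT.node 22776 (BT.node 22775 (BT.leaf c15_275) (BT.leaf c15_276)) (BT.node 22777 (BT.leaf c15_277) (BT.leaf c15_278))) (BT.node 22780 (BT.node 22779 (BT.leaf c15_279) (BT.leaf c15_280)) (BT.leaf c15_281)))))) (BT.node 22809 (BT.node 22795 (BT.node 22788 (BT.node 22785 (BT.node 22783 (BT.node 22782 (BT.leaf c15_282) (BT.leaf c15_283)) (BT.node 22784 (BT.leaf c15_284) (BT.leaf c15_285))) (BT.node 22787 (BT.node 22786 (BT.leaf c15_286) (BT.leaf c15_287)) (BT.leaf c15_288))) (BT.node 22792 (BT.node 22790 (BT.node 22789 (BT.leaf c15_289) (BT.leaf c15_290)) (BT.node 22791 (BT.leaf c15_291) (BT.leaf c15_292))) (BT.node 22794 (BT.node 22793 (BT.leaf c15_293) (BT.leaf c15_294)) (BT.leaf c15_295))))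 (BT.node 22802 (BT.node 22799 (BT.node 22797 (BT.node 22796 (BT.leaf c15_296) (BT.leaf c15_297)) (BT.node 22798 (BT.leaf c15_298) (BT.leaf c15_299))) (BT.node 22801 (BT.node 22800 (BT.leaf c15_300) (BT.leaf c15_301)) (BT.leaf c15_302))) (BT.node 22806 (BT.node 22804 (BT.node 22803 (BT.leaf c15_303) (BT.leaf c15_304)) (BT.node 22805 (BT.leaf c15_305) (BT.leaf c15_306))) (BT.node 22808 (BT.node 22807 (BT.leaf c15_307) (BT.leaf c15_308)) (BT.leaf c15_309))))) (BT.node 22823 (BT.node 22816 (BT.node 22813 (BT.node 22811 (BT.node 22810 (BT.leaf c15_310) (BT.leaf c15_311)) (BT.node 22812 (BT.leaf c15_312) (BT.leaf c15_313))) (BT.node 22815 (BT.node 22814 (BT.leaf c15_314) (BT.leaf c15_315)) (BT.leaf c15_316))) (BT.node 22820 (BT.node 22818 (BT.node 22817 (BT.leaf c15_317) (BT.leaf c15_318)) (BT.node 22819 (BT.leaf c15_319) (BT.leaf c15_320))) (BT.node 22822 (BT.node 22821 (BT.leaf c15_321) (BT.leaf c15_322))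 (BT.leaf c15_323)))) (BT.node 22830 (BT.node 22827 (BT.node 22825 (BT.node 22824 (BT.leaf c15_324) (BT.leaf c15_325)) (BT.node 22826 (BT.leaf c15_326) (BT.leaf c15_327))) (BT.node 22829 (BT.node 22828 (BT.leaf c15_328) (BT.leaf c15_329)) (BT.leaf c15_330))) (BT.node 22834 (BT.node 22832 (BT.node 22831 (BT.leaf c15_331) (BT.leaf c15_332)) (BT.node 22833 (BT.leaf c15_333) (BT.leaf c15_334))) (BT.node 22836 (BT.node 22835 (BT.leaf c15_335) (BT.leaf c15_336)) (BT.leaf c15_337))))))) (BT.node 22893 (BT.node 22865 (BT.node 22851 (BT.node 22844 (BT.node 22841 (BT.node 22839 (BT.node 22838 (BT.leaf c15_338) (BT.leaf c15_339)) (BT.node 22840 (BT.leaf c15_340) (BT.leaf c15_341))) (BT.node 22843 (BT.node 22842 (BT.leaf c15_342) (BT.leaf c15_343)) (BT.leaf c15_344))) (BT.node 22848 (BT.node 22846 (BT.node 22845 (BT.leaf c15_345) (BT.leaf c15_346)) (BT.node 22847 (BT.leaf c15_347) (BT.leaf c15_348))) (BT.node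 22850 (BT.node 22849 (BT.leaf c15_349) (BT.leaf c15_350)) (BT.leaf c15_351)))) (BT.node 22858 (BT.node 22855 (BT.node 22853 (BT.node 22852 (BT.leaf c15_352) (BT.leaf c15_353)) (BT.node 22854 (BT.leaf c15_354) (BT.leaf c15_355))) (BT.node 22857 (BT.node 22856 (BT.leaf c15_356) (BT.leaf c15_357)) (BT.leaf c15_358))) (BT.node 22862 (BT.node 22860 (BT.node 22859 (BT.leaf c15_359) (BT.leaf c15_360)) (BT.node 22861 (BT.leaf c15_361) (BT.leaf c15_362))) (BT.node 22864 (BT.node 22863 (BT.leaf c15_363) (BT.leaf c15_364)) (BT.leaf c15_365))))) (BT.node 22879 (BT.node 22872 (BT.node 22869 (BT.node 22867 (BT.node 22866 (BT.leaf c15_366) (BT.leaf c15_367)) (BT.node 22868 (BT.leaf c15_368) (BT.leaf c15_369))) (BT.node 22871 (BT.node 22870 (BT.leaf c15_370) (BT.leaf c15_371)) (BT.leaf c15_372))) (BT.node 22876 (BT.node 22874 (BT.node 22873 (BT.leaf c15_373) (BT.leaf c15_374)) (BT.node 22875 (BT.leaf c15_375) (BT.leaf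 c15_376))) (BT.node 22878 (BT.node 22877 (BT.leaf c15_377) (BT.leaf c15_378)) (BT.leaf c15_379)))) (BT.node 22886 (BT.node 22883 (BT.node 22881 (BT.node 22880 (BT.leaf c15_380) (BT.leaf c15_381)) (BT.node 22882 (BT.leaf c15_382) (BT.leaf c15_383))) (BT.node 22885 (BT.node 22884 (BT.leaf c15_384) (BT.leaf c15_385)) (BT.leaf c15_386))) (BT.node 22890 (BT.node 22888 (BT.node 22887 (BT.leaf c15_387) (BT.leaf c15_388)) (BT.node 22889 (BT.leaf c15_389) (BT.leaf c15_390))) (BT.node 22892 (BT.node 22891 (BT.leaf c15_391) (BT.leaf c15_392)) (BT.leaf c15_393)))))) (BT.node 22921 (BT.node 22907 (BT.node 22900 (BT.node 22897 (BT.node 22895 (BT.node 22894 (BT.leaf c15_394) (BT.leaf c15_395)) (BT.node 22896 (BT.leaf c15_396) (BT.leaf c15_397))) (BT.node 22899 (BT.node 22898 (BT.leaf c15_398) (BT.leaf c15_399)) (BT.leaf c15_400))) (BT.node 22904 (BT.node 22902 (BT.node 22901 (BT.leaf c15_401) (BT.leaf c15_402))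 (BT.node 22903 (BT.leaf c15_403) (BT.leaf c15_404))) (BT.node 22906 (BT.node 22905 (BT.leaf c15_405) (BT.leaf c15_406)) (BT.leaf c15_407)))) (BT.node 22914 (BT.node 22911 (BT.node 22909 (BT.node 22908 (BT.leaf c15_408) (BT.leaf c15_409)) (BT.node 22910 (BT.leaf c15_410) (BT.leaf c15_411))) (BT.node 22913 (BT.node 22912 (BT.leaf c15_412) (BT.leaf c15_413)) (BT.leaf c15_414))) (BT.node 22918 (BT.node 22916 (BT.node 22915 (BT.leaf c15_415) (BT.leaf c15_416)) (BT.node 22917 (BT.leaf c15_417) (BT.leaf c15_418))) (BT.node 22920 (BT.node 22919 (BT.leaf c15_419) (BT.leaf c15_420)) (BT.leaf c15_421))))) (BT.node 22935 (BT.node 22928 (BT.node 22925 (BT.node 22923 (BT.node 22922 (BT.leaf c15_422) (BT.leaf c15_423)) (BT.node 22924 (BT.leaf c15_424) (BT.leaf c15_425))) (BT.node 22927 (BT.node 22926 (BT.leaf c15_426) (BT.leaf c15_427)) (BT.leaf c15_428))) (BT.node 22932 (BT.node 22930 (BT.node 22929 (BT.leaf c15_429)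 (BT.leaf c15_430)) (BT.node 22931 (BT.leaf c15_431) (BT.leaf c15_432))) (BT.node 22934 (BT.node 22933 (BT.leaf c15_433) (BT.leaf c15_434)) (BT.leaf c15_435)))) (BT.node 22942 (BT.node 22939 (BT.node 22937 (BT.node 22936 (BT.leaf c15_436) (BT.leaf c15_437)) (BT.node 22938 (BT.leaf c15_438) (BT.leaf c15_439))) (BT.node 22941 (BT.node 22940 (BT.leaf c15_440) (BT.leaf c15_441)) (BT.leaf c15_442))) (BT.node 22946 (BT.node 22944 (BT.node 22943 (BT.leaf c15_443) (BT.leaf c15_444)) (BT.node 22945 (BT.leaf c15_445) (BT.leaf c15_446))) (BT.node 22948 (BT.node 22947 (BT.leaf c15_447) (BT.leaf c15_448)) (BT.leaf c15_449))))))))) (BT.node 23174 (BT.node 23062 (BT.node 23006 (BT.node 22978 (BT.node 22964 (BT.node 22957 (BT.node 22953 (BT.node 22951 (BT.node 22950 (BT.leaf c15_450) (BT.leaf c15_451)) (BT.node 22952 (BT.leaf c15_452) (BT.leaf c15_453))) (BT.node 22955 (BT.node 22954 (BT.leaf c15_454) (BT.leaf c15_455))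 (BT.node 22956 (BT.leaf c15_456) (BT.leaf c15_457)))) (BT.node 22961 (BT.node 22959 (BT.node 22958 (BT.leaf c15_458) (BT.leaf c15_459)) (BT.node 22960 (BT.leaf c15_460) (BT.leaf c15_461))) (BT.node 22963 (BT.node 22962 (BT.leaf c15_462) (BT.leaf c15_463)) (BT.leaf c15_464)))) (BT.node 22971 (BT.node 22968 (BT.node 22966 (BT.node 22965 (BT.leaf c15_465) (BT.leaf c15_466)) (BT.node 22967 (BT.leaf c15_467) (BT.leaf c15_468))) (BT.node 22970 (BT.node 22969 (BT.leaf c15_469) (BT.leaf c15_470)) (BT.leaf c15_471))) (BT.node 22975 (BT.node 22973 (BT.node 22972 (BT.leaf c15_472) (BT.leaf c15_473)) (BT.node 22974 (BT.leaf c15_474) (BT.leaf c15_475))) (BT.node 22977 (BT.node 22976 (BT.leaf c15_476) (BT.leaf c15_477)) (BT.leaf c15_478))))) (BT.node 22992 (BT.node 22985 (BT.node 22982 (BT.node 22980 (BT.node 22979 (BT.leaf c15_479) (BT.leaf c15_480)) (BT.node 22981 (BT.leaf c15_481) (BT.leaf c15_482))) (BT.node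 22984 (BT.node 22983 (BT.leaf c15_483) (BT.leaf c15_484)) (BT.leaf c15_485))) (BT.node 22989 (BT.node 22987 (BT.node 22986 (BT.leaf c15_486) (BT.leaf c15_487)) (BT.node 22988 (BT.leaf c15_488) (BT.leaf c15_489))) (BT.node 22991 (BT.node 22990 (BT.leaf c15_490) (BT.leaf c15_491)) (BT.leaf c15_492)))) (BT.node 22999 (BT.node 22996 (BT.node 22994 (BT.node 22993 (BT.leaf c15_493) (BT.leaf c15_494)) (BT.node 22995 (BT.leaf c15_495) (BT.leaf c15_496))) (BT.node 22998 (BT.node 22997 (BT.leaf c15_497) (BT.leaf c15_498)) (BT.leaf c15_499))) (BT.node 23003 (BT.node 23001 (BT.node 23000 (BT.leaf c15_500) (BT.leaf c15_501)) (BT.node 23002 (BT.leaf c15_502) (BT.leaf c15_503))) (BT.node 23005 (BT.node 23004 (BT.leaf c15_504) (BT.leaf c15_505)) (BT.leaf c15_506)))))) (BT.node 23034 (BT.node 23020 (BT.node 23013 (BT.node 23010 (BT.node 23008 (BT.node 23007 (BT.leaf c15_507) (BT.leaf c15_508)) (BT.node 23009 (BT.leaf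 c15_509) (BT.leaf c15_510))) (BT.node 23012 (BT.node 23011 (BT.leaf c15_511) (BT.leaf c15_512)) (BT.leaf c15_513))) (BT.node 23017 (BT.node 23015 (BT.node 23014 (BT.leaf c15_514) (BT.leaf c15_515)) (BT.node 23016 (BT.leaf c15_516) (BT.leaf c15_517))) (BT.node 23019 (BT.node 23018 (BT.leaf c15_518) (BT.leaf c15_519)) (BT.leaf c15_520)))) (BT.node 23027 (BT.node 23024 (BT.node 23022 (BT.node 23021 (BT.leaf c15_521) (BT.leaf c15_522)) (BT.node 23023 (BT.leaf c15_523) (BT.leaf c15_524))) (BT.node 23026 (BT.node 23025 (BT.leaf c15_525) (BT.leaf c15_526)) (BT.leaf c15_527))) (BT.node 23031 (BT.node 23029 (BT.node 23028 (BT.leaf c15_528) (BT.leaf c15_529)) (BT.node 23030 (BT.leaf c15_530) (BT.leaf c15_531))) (BT.node 23033 (BT.node 23032 (BT.leaf c15_532) (BT.leaf c15_533)) (BT.leaf c15_534))))) (BT.node 23048 (BT.node 23041 (BT.node 23038 (BT.node 23036 (BT.node 23035 (BT.leaf c15_535) (BT.leaf c15_536))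 (BT.node 23037 (BT.leaf c15_537) (BT.leaf c15_538))) (BT.node 23040 (BT.node 23039 (BT.leaf c15_539) (BT.leaf c15_540)) (BT.leaf c15_541))) (BT.node 23045 (BT.node 23043 (BT.node 23042 (BT.leaf c15_542) (BT.leaf c15_543)) (BT.node 23044 (BT.leaf c15_544) (BT.leaf c15_545))) (BT.node 23047 (BT.node 23046 (BT.leaf c15_546) (BT.leaf c15_547)) (BT.leaf c15_548)))) (BT.node 23055 (BT.node 23052 (BT.node 23050 (BT.node 23049 (BT.leaf c15_549) (BT.leaf c15_550)) (BT.node 23051 (BT.leaf c15_551) (BT.leaf c15_552))) (BT.node 23054 (BT.node 23053 (BT.leaf c15_553) (BT.leaf c15_554)) (BT.leaf c15_555))) (BT.node 23059 (BT.node 23057 (BT.node 23056 (BT.leaf c15_556) (BT.leaf c15_557)) (BT.node 23058 (BT.leaf c15_558) (BT.leaf c15_559))) (BT.node 23061 (BT.node 23060 (BT.leaf c15_560) (BT.leaf c15_561)) (BT.leaf c15_562))))))) (BT.node 23118 (BT.node 23090 (BT.node 23076 (BT.node 23069 (BT.node 23066 (BT.node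 23064 (BT.node 23063 (BT.leaf c15_563) (BT.leaf c15_564)) (BT.node 23065 (BT.leaf c15_565) (BT.leaf c15_566))) (BT.node 23068 (BT.node 23067 (BT.leaf c15_567) (BT.leaf c15_568)) (BT.leaf c15_569))) (BT.node 23073 (BT.node 23071 (BT.node 23070 (BT.leaf c15_570) (BT.leaf c15_571)) (BT.node 23072 (BT.leaf c15_572) (BT.leaf c15_573))) (BT.node 23075 (BT.node 23074 (BT.leaf c15_574) (BT.leaf c15_575)) (BT.leaf c15_576)))) (BT.node 23083 (BT.node 23080 (BT.node 23078 (BT.node 23077 (BT.leaf c15_577) (BT.leaf c15_578)) (BT.node 23079 (BT.leaf c15_579) (BT.leaf c15_580))) (BT.node 23082 (BT.node 23081 (BT.leaf c15_581) (BT.leaf c15_582)) (BT.leaf c15_583))) (BT.node 23087 (BT.node 23085 (BT.node 23084 (BT.leaf c15_584) (BT.leaf c15_585)) (BT.node 23086 (BT.leaf c15_586) (BT.leaf c15_587))) (BT.node 23089 (BT.node 23088 (BT.leaf c15_588) (BT.leaf c15_589)) (BT.leaf c15_590))))) (BT.node 23104 (BT.node 23097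 (BT.node 23094 (BT.node 23092 (BT.node 23091 (BT.leaf c15_591) (BT.leaf c15_592)) (BT.node 23093 (BT.leaf c15_593) (BT.leaf c15_594))) (BT.node 23096 (BT.node 23095 (BT.leaf c15_595) (BT.leaf c15_596)) (BT.leaf c15_597))) (BT.node 23101 (BT.node 23099 (BT.node 23098 (BT.leaf c15_598) (BT.leaf c15_599)) (BT.node 23100 (BT.leaf c15_600) (BT.leaf c15_601))) (BT.node 23103 (BT.node 23102 (BT.leaf c15_602) (BT.leaf c15_603)) (BT.leaf c15_604)))) (BT.node 23111 (BT.node 23108 (BT.node 23106 (BT.node 23105 (BT.leaf c15_605) (BT.leaf c15_606)) (BT.node 23107 (BT.leaf c15_607) (BT.leaf c15_608))) (BT.node 23110 (BT.node 23109 (BT.leaf c15_609) (BT.leaf c15_610)) (BT.leaf c15_611))) (BT.node 23115 (BT.node 23113 (BT.node 23112 (BT.leaf c15_612) (BT.leaf c15_613)) (BT.node 23114 (BT.leaf c15_614) (BT.leaf c15_615))) (BT.node 23117 (BT.node 23116 (BT.leaf c15_616) (BT.leaf c15_617)) (BT.leaf c15_618)))))) (BT.node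 23146 (BT.node 23132 (BT.node 23125 (BT.node 23122 (BT.node 23120 (BT.node 23119 (BT.leaf c15_619) (BT.leaf c15_620)) (BT.node 23121 (BT.leaf c15_621) (BT.leaf c15_622))) (BT.node 23124 (BT.node 23123 (BT.leaf c15_623) (BT.leaf c15_624)) (BT.leaf c15_625))) (BT.node 23129 (BT.node 23127 (BT.node 23126 (BT.leaf c15_626) (BT.leaf c15_627)) (BT.node 23128 (BT.leaf c15_628) (BT.leaf c15_629))) (BT.node 23131 (BT.node 23130 (BT.leaf c15_630) (BT.leaf c15_631)) (BT.leaf c15_632)))) (BT.node 23139 (BT.node 23136 (BT.node 23134 (BT.node 23133 (BT.leaf c15_633) (BT.leaf c15_634)) (BT.node 23135 (BT.leaf c15_635) (BT.leaf c15_636))) (BT.node 23138 (BT.node 23137 (BT.leaf c15_637) (BT.leaf c15_638)) (BT.leaf c15_639))) (BT.node 23143 (BT.node 23141 (BT.node 23140 (BT.leaf c15_640) (BT.leaf c15_641)) (BT.node 23142 (BT.leaf c15_642) (BT.leaf c15_643))) (BT.node 23145 (BT.node 23144 (BT.leaf c15_644) (BT.leaf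 c15_645)) (BT.leaf c15_646))))) (BT.node 23160 (BT.node 23153 (BT.node 23150 (BT.node 23148 (BT.node 23147 (BT.leaf c15_647) (BT.leaf c15_648)) (BT.node 23149 (BT.leaf c15_649) (BT.leaf c15_650))) (BT.node 23152 (BT.node 23151 (BT.leaf c15_651) (BT.leaf c15_652)) (BT.leaf c15_653))) (BT.node 23157 (BT.node 23155 (BT.node 23154 (BT.leaf c15_654) (BT.leaf c15_655)) (BT.node 23156 (BT.leaf c15_656) (BT.leaf c15_657))) (BT.node 23159 (BT.node 23158 (BT.leaf c15_658) (BT.leaf c15_659)) (BT.leaf c15_660)))) (BT.node 23167 (BT.node 23164 (BT.node 23162 (BT.node 23161 (BT.leaf c15_661) (BT.leaf c15_662)) (BT.node 23163 (BT.leaf c15_663) (BT.leaf c15_664))) (BT.node 23166 (BT.node 23165 (BT.leaf c15_665) (BT.leaf c15_666)) (BT.leaf c15_667))) (BT.node 23171 (BT.node 23169 (BT.node 23168 (BT.leaf c15_668) (BT.leaf c15_669)) (BT.node 23170 (BT.leaf c15_670) (BT.leaf c15_671))) (BT.node 23173 (BT.node 23172 (BT.leaf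 c15_672) (BT.leaf c15_673)) (BT.leaf c15_674)))))))) (BT.node 23287 (BT.node 23231 (BT.node 23203 (BT.node 23189 (BT.node 23182 (BT.node 23178 (BT.node 23176 (BT.node 23175 (BT.leaf c15_675) (BT.leaf c15_676)) (BT.node 23177 (BT.leaf c15_677) (BT.leaf c15_678))) (BT.node 23180 (BT.node 23179 (BT.leaf c15_679) (BT.leaf c15_680)) (BT.node 23181 (BT.leaf c15_681) (BT.leaf c15_682)))) (BT.node 23186 (BT.node 23184 (BT.node 23183 (BT.leaf c15_683) (BT.leaf c15_684)) (BT.node 23185 (BT.leaf c15_685) (BT.leaf c15_686))) (BT.node 23188 (BT.node 23187 (BT.leaf c15_687) (BT.leaf c15_688)) (BT.leaf c15_689)))) (BT.node 23196 (BT.node 23193 (BT.node 23191 (BT.node 23190 (BT.leaf c15_690) (BT.leaf c15_691)) (BT.node 23192 (BT.leaf c15_692) (BT.leaf c15_693))) (BT.node 23195 (BT.node 23194 (BT.leaf c15_694) (BT.leaf c15_695)) (BT.leaf c15_696))) (BT.node 23200 (BT.node 23198 (BT.node 23197 (BT.leaf c15_697) (BT.leaf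 c15_698)) (BT.node 23199 (BT.leaf c15_699) (BT.leaf c15_700))) (BT.node 23202 (BT.node 23201 (BT.leaf c15_701) (BT.leaf c15_702)) (BT.leaf c15_703))))) (BT.node 23217 (BT.node 23210 (BT.node 23207 (BT.node 23205 (BT.node 23204 (BT.leaf c15_704) (BT.leaf c15_705)) (BT.node 23206 (BT.leaf c15_706) (BT.leaf c15_707))) (BT.node 23209 (BT.node 23208 (BT.leaf c15_708) (BT.leaf c15_709)) (BT.leaf c15_710))) (BT.node 23214 (BT.node 23212 (BT.node 23211 (BT.leaf c15_711) (BT.leaf c15_712)) (BT.node 23213 (BT.leaf c15_713) (BT.leaf c15_714))) (BT.node 23216 (BT.node 23215 (BT.leaf c15_715) (BT.leaf c15_716)) (BT.leaf c15_717)))) (BT.node 23224 (BT.node 23221 (BT.node 23219 (BT.node 23218 (BT.leaf c15_718) (BT.leaf c15_719)) (BT.node 23220 (BT.leaf c15_720) (BT.leaf c15_721))) (BT.node 23223 (BT.node 23222 (BT.leaf c15_722) (BT.leaf c15_723)) (BT.leaf c15_724))) (BT.node 23228 (BT.node 23226 (BT.node 23225 (BT.leaf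 c15_725) (BT.leaf c15_726)) (BT.node 23227 (BT.leaf c15_727) (BT.leaf c15_728))) (BT.node 23230 (BT.node 23229 (BT.leaf c15_729) (BT.leaf c15_730)) (BT.leaf c15_731)))))) (BT.node 23259 (BT.node 23245 (BT.node 23238 (BT.node 23235 (BT.node 23233 (BT.node 23232 (BT.leaf c15_732) (BT.leaf c15_733)) (BT.node 23234 (BT.leaf c15_734) (BT.leaf c15_735))) (BT.node 23237 (BT.node 23236 (BT.leaf c15_736) (BT.leaf c15_737)) (BT.leaf c15_738))) (BT.node 23242 (BT.node 23240 (BT.node 23239 (BT.leaf c15_739) (BT.leaf c15_740)) (BT.node 23241 (BT.leaf c15_741) (BT.leaf c15_742))) (BT.node 23244 (BT.node 23243 (BT.leaf c15_743) (BT.leaf c15_744)) (BT.leaf c15_745)))) (BT.node 23252 (BT.node 23249 (BT.node 23247 (BT.node 23246 (BT.leaf c15_746) (BT.leaf c15_747)) (BT.node 23248 (BT.leaf c15_748) (BT.leaf c15_749))) (BT.node 23251 (BT.node 23250 (BT.leaf c15_750) (BT.leaf c15_751)) (BT.leaf c15_752))) (BT.node 23256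 (BT.node 23254 (BT.node 23253 (BT.leaf c15_753) (BT.leaf c15_754)) (BT.node 23255 (BT.leaf c15_755) (BT.leaf c15_756))) (BT.node 23258 (BT.node 23257 (BT.leaf c15_757) (BT.leaf c15_758)) (BT.leaf c15_759))))) (BT.node 23273 (BT.node 23266 (BT.node 23263 (BT.node 23261 (BT.node 23260 (BT.leaf c15_760) (BT.leaf c15_761)) (BT.node 23262 (BT.leaf c15_762) (BT.leaf c15_763))) (BT.node 23265 (BT.node 23264 (BT.leaf c15_764) (BT.leaf c15_765)) (BT.leaf c15_766))) (BT.node 23270 (BT.node 23268 (BT.node 23267 (BT.leaf c15_767) (BT.leaf c15_768)) (BT.node 23269 (BT.leaf c15_769) (BT.leaf c15_770))) (BT.node 23272 (BT.node 23271 (BT.leaf c15_771) (BT.leaf c15_772)) (BT.leaf c15_773)))) (BT.node 23280 (BT.node 23277 (BT.node 23275 (BT.node 23274 (BT.leaf c15_774) (BT.leaf c15_775)) (BT.node 23276 (BT.leaf c15_776) (BT.leaf c15_777))) (BT.node 23279 (BT.node 23278 (BT.leaf c15_778) (BT.leaf c15_779)) (BT.leaf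 c15_780))) (BT.node 23284 (BT.node 23282 (BT.node 23281 (BT.leaf c15_781) (BT.leaf c15_782)) (BT.node 23283 (BT.leaf c15_783) (BT.leaf c15_784))) (BT.node 23286 (BT.node 23285 (BT.leaf c15_785) (BT.leaf c15_786)) (BT.leaf c15_787))))))) (BT.node 23343 (BT.node 23315 (BT.node 23301 (BT.node 23294 (BT.node 23291 (BT.node 23289 (BT.node 23288 (BT.leaf c15_788) (BT.leaf c15_789)) (BT.node 23290 (BT.leaf c15_790) (BT.leaf c15_791))) (BT.node 23293 (BT.node 23292 (BT.leaf c15_792) (BT.leaf c15_793)) (BT.leaf c15_794))) (BT.node 23298 (BT.node 23296 (BT.node 23295 (BT.leaf c15_795) (BT.leaf c15_796)) (BT.node 23297 (BT.leaf c15_797) (BT.leaf c15_798))) (BT.node 23300 (BT.node 23299 (BT.leaf c15_799) (BT.leaf c15_800)) (BT.leaf c15_801)))) (BT.node 23308 (BT.node 23305 (BT.node 23303 (BT.node 23302 (BT.leaf c15_802) (BT.leaf c15_803)) (BT.node 23304 (BT.leaf c15_804) (BT.leaf c15_805))) (BT.node 23307 (BT.node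 23306 (BT.leaf c15_806) (BT.leaf c15_807)) (BT.leaf c15_808))) (BT.node 23312 (BT.node 23310 (BT.node 23309 (BT.leaf c15_809) (BT.leaf c15_810)) (BT.node 23311 (BT.leaf c15_811) (BT.leaf c15_812))) (BT.node 23314 (BT.node 23313 (BT.leaf c15_813) (BT.leaf c15_814)) (BT.leaf c15_815))))) (BT.node 23329 (BT.node 23322 (BT.node 23319 (BT.node 23317 (BT.node 23316 (BT.leaf c15_816) (BT.leaf c15_817)) (BT.node 23318 (BT.leaf c15_818) (BT.leaf c15_819))) (BT.node 23321 (BT.node 23320 (BT.leaf c15_820) (BT.leaf c15_821)) (BT.leaf c15_822))) (BT.node 23326 (BT.node 23324 (BT.node 23323 (BT.leaf c15_823) (BT.leaf c15_824)) (BT.node 23325 (BT.leaf c15_825) (BT.leaf c15_826))) (BT.node 23328 (BT.node 23327 (BT.leaf c15_827) (BT.leaf c15_828)) (BT.leaf c15_829)))) (BT.node 23336 (BT.node 23333 (BT.node 23331 (BT.node 23330 (BT.leaf c15_830) (BT.leaf c15_831)) (BT.node 23332 (BT.leaf c15_832) (BT.leaf c15_833)))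 (BT.node 23335 (BT.node 23334 (BT.leaf c15_834) (BT.leaf c15_835)) (BT.leaf c15_836))) (BT.node 23340 (BT.node 23338 (BT.node 23337 (BT.leaf c15_837) (BT.leaf c15_838)) (BT.node 23339 (BT.leaf c15_839) (BT.leaf c15_840))) (BT.node 23342 (BT.node 23341 (BT.leaf c15_841) (BT.leaf c15_842)) (BT.leaf c15_843)))))) (BT.node 23371 (BT.node 23357 (BT.node 23350 (BT.node 23347 (BT.node 23345 (BT.node 23344 (BT.leaf c15_844) (BT.leaf c15_845)) (BT.node 23346 (BT.leaf c15_846) (BT.leaf c15_847))) (BT.node 23349 (BT.node 23348 (BT.leaf c15_848) (BT.leaf c15_849)) (BT.leaf c15_850))) (BT.node 23354 (BT.node 23352 (BT.node 23351 (BT.leaf c15_851) (BT.leaf c15_852)) (BT.node 23353 (BT.leaf c15_853) (BT.leaf c15_854))) (BT.node 23356 (BT.node 23355 (BT.leaf c15_855) (BT.leaf c15_856)) (BT.leaf c15_857)))) (BT.node 23364 (BT.node 23361 (BT.node 23359 (BT.node 23358 (BT.leaf c15_858) (BT.leaf c15_859)) (BT.node 23360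 (BT.leaf c15_860) (BT.leaf c15_861))) (BT.node 23363 (BT.node 23362 (BT.leaf c15_862) (BT.leaf c15_863)) (BT.leaf c15_864))) (BT.node 23368 (BT.node 23366 (BT.node 23365 (BT.leaf c15_865) (BT.leaf c15_866)) (BT.node 23367 (BT.leaf c15_867) (BT.leaf c15_868))) (BT.node 23370 (BT.node 23369 (BT.leaf c15_869) (BT.leaf c15_870)) (BT.leaf c15_871))))) (BT.node 23385 (BT.node 23378 (BT.node 23375 (BT.node 23373 (BT.node 23372 (BT.leaf c15_872) (BT.leaf c15_873)) (BT.node 23374 (BT.leaf c15_874) (BT.leaf c15_875))) (BT.node 23377 (BT.node 23376 (BT.leaf c15_876) (BT.leaf c15_877)) (BT.leaf c15_878))) (BT.node 23382 (BT.node 23380 (BT.node 23379 (BT.leaf c15_879) (BT.leaf c15_880)) (BT.node 23381 (BT.leaf c15_881) (BT.leaf c15_882))) (BT.node 23384 (BT.node 23383 (BT.leaf c15_883) (BT.leaf c15_884)) (BT.leaf c15_885)))) (BT.node 23392 (BT.node 23389 (BT.node 23387 (BT.node 23386 (BT.leaf c15_886) (BT.leaf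 c15_887)) (BT.node 23388 (BT.leaf c15_888) (BT.leaf c15_889))) (BT.node 23391 (BT.node 23390 (BT.leaf c15_890) (BT.leaf c15_891)) (BT.leaf c15_892))) (BT.node 23396 (BT.node 23394 (BT.node 23393 (BT.leaf c15_893) (BT.leaf c15_894)) (BT.node 23395 (BT.leaf c15_895) (BT.leaf c15_896))) (BT.node 23398 (BT.node 23397 (BT.leaf c15_897) (BT.leaf c15_898)) (BT.leaf c15_899))))))))))
/-- the chunks of the letter 26 -/
def colL_26 : BT ℕ := (BT.node 23849 (BT.node 23624 (BT.node 23512 (BT.node 23456 (BT.node 23428 (BT.node 23414 (BT.node 23407 (BT.node 23403 (BT.node 23401 (BT.node 23400 (BT.leaf c16_0) (BT.leaf c16_1)) (BT.node 23402 (BT.leaf c16_2) (BT.leaf c16_3))) (BT.node 23405 (BT.node 23404 (BT.leaf c16_4) (BT.leaf c16_5)) (BT.node 23406 (BT.leaf c16_6) (BT.leaf c16_7)))) (BT.node 23411 (BT.node 23409 (BT.node 23408 (BT.leaf c16_8) (BT.leaf c16_9)) (BT.node 23410 (BT.leaf c16_10) (BT.leaf c16_11)))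 (BT.node 23413 (BT.node 23412 (BT.leaf c16_12) (BT.leaf c16_13)) (BT.leaf c16_14)))) (BT.node 23421 (BT.node 23418 (BT.node 23416 (BT.node 23415 (BT.leaf c16_15) (BT.leaf c16_16)) (BT.node 23417 (BT.leaf c16_17) (BT.leaf c16_18))) (BT.node 23420 (BT.node 23419 (BT.leaf c16_19) (BT.leaf c16_20)) (BT.leaf c16_21))) (BT.node 23425 (BT.node 23423 (BT.node 23422 (BT.leaf c16_22) (BT.leaf c16_23)) (BT.node 23424 (BT.leaf c16_24) (BT.leaf c16_25))) (BT.node 23427 (BT.node 23426 (BT.leaf c16_26) (BT.leaf c16_27)) (BT.leaf c16_28))))) (BT.node 23442 (BT.node 23435 (BT.node 23432 (BT.node 23430 (BT.node 23429 (BT.leaf c16_29) (BT.leaf c16_30)) (BT.node 23431 (BT.leaf c16_31) (BT.leaf c16_32))) (BT.node 23434 (BT.node 23433 (BT.leaf c16_33) (BT.leaf c16_34)) (BT.leaf c16_35))) (BT.node 23439 (BT.node 23437 (BT.node 23436 (BT.leaf c16_36) (BT.leaf c16_37)) (BT.node 23438 (BT.leaf c16_38) (BT.leaf c16_39))) (BT.node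 23441 (BT.node 23440 (BT.leaf c16_40) (BT.leaf c16_41)) (BT.leaf c16_42)))) (BT.node 23449 (BT.node 23446 (BT.node 23444 (BT.node 23443 (BT.leaf c16_43) (BT.leaf c16_44)) (BT.node 23445 (BT.leaf c16_45) (BT.leaf c16_46))) (BT.node 23448 (BT.node 23447 (BT.leaf c16_47) (BT.leaf c16_48)) (BT.leaf c16_49))) (BT.node 23453 (BT.node 23451 (BT.node 23450 (BT.leaf c16_50) (BT.leaf c16_51)) (BT.node 23452 (BT.leaf c16_52) (BT.leaf c16_53))) (BT.node 23455 (BT.node 23454 (BT.leaf c16_54) (BT.leaf c16_55)) (BT.leaf c16_56)))))) (BT.node 23484 (BT.node 23470 (BT.node 23463 (BT.node 23460 (BT.node 23458 (BT.node 23457 (BT.leaf c16_57) (BT.leaf c16_58)) (BT.node 23459 (BT.leaf c16_59) (BT.leaf c16_60))) (BT.node 23462 (BT.node 23461 (BT.leaf c16_61) (BT.leaf c16_62)) (BT.leaf c16_63))) (BT.node 23467 (BT.node 23465 (BT.node 23464 (BT.leaf c16_64) (BT.leaf c16_65)) (BT.node 23466 (BT.leaf c16_66) (BT.leaf c16_67)))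 (BT.node 23469 (BT.node 23468 (BT.leaf c16_68) (BT.leaf c16_69)) (BT.leaf c16_70)))) (BT.node 23477 (BT.node 23474 (BT.node 23472 (BT.node 23471 (BT.leaf c16_71) (BT.leaf c16_72)) (BT.node 23473 (BT.leaf c16_73) (BT.leaf c16_74))) (BT.node 23476 (BT.node 23475 (BT.leaf c16_75) (BT.leaf c16_76)) (BT.leaf c16_77))) (BT.node 23481 (BT.node 23479 (BT.node 23478 (BT.leaf c16_78) (BT.leaf c16_79)) (BT.node 23480 (BT.leaf c16_80) (BT.leaf c16_81))) (BT.node 23483 (BT.node 23482 (BT.leaf c16_82) (BT.leaf c16_83)) (BT.leaf c16_84))))) (BT.node 23498 (BT.node 23491 (BT.node 23488 (BT.node 23486 (BT.node 23485 (BT.leaf c16_85) (BT.leaf c16_86)) (BT.node 23487 (BT.leaf c16_87) (BT.leaf c16_88))) (BT.node 23490 (BT.node 23489 (BT.leaf c16_89) (BT.leaf c16_90)) (BT.leaf c16_91))) (BT.node 23495 (BT.node 23493 (BT.node 23492 (BT.leaf c16_92) (BT.leaf c16_93)) (BT.node 23494 (BT.leaf c16_94) (BT.leaf c16_95))) (BT.node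 23497 (BT.node 23496 (BT.leaf c16_96) (BT.leaf c16_97)) (BT.leaf c16_98)))) (BT.node 23505 (BT.node 23502 (BT.node 23500 (BT.node 23499 (BT.leaf c16_99) (BT.leaf c16_100)) (BT.node 23501 (BT.leaf c16_101) (BT.leaf c16_102))) (BT.node 23504 (BT.node 23503 (BT.leaf c16_103) (BT.leaf c16_104)) (BT.leaf c16_105))) (BT.node 23509 (BT.node 23507 (BT.node 23506 (BT.leaf c16_106) (BT.leaf c16_107)) (BT.node 23508 (BT.leaf c16_108) (BT.leaf c16_109))) (BT.node 23511 (BT.node 23510 (BT.leaf c16_110) (BT.leaf c16_111)) (BT.leaf c16_112))))))) (BT.node 23568 (BT.node 23540 (BT.node 23526 (BT.node 23519 (BT.node 23516 (BT.node 23514 (BT.node 23513 (BT.leaf c16_113) (BT.leaf c16_114)) (BT.node 23515 (BT.leaf c16_115) (BT.leaf c16_116))) (BT.node 23518 (BT.node 23517 (BT.leaf c16_117) (BT.leaf c16_118)) (BT.leaf c16_119))) (BT.node 23523 (BT.node 23521 (BT.node 23520 (BT.leaf c16_120) (BT.leaf c16_121)) (BT.node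 23522 (BT.leaf c16_122) (BT.leaf c16_123))) (BT.node 23525 (BT.node 23524 (BT.leaf c16_124) (BT.leaf c16_125)) (BT.leaf c16_126)))) (BT.node 23533 (BT.node 23530 (BT.node 23528 (BT.node 23527 (BT.leaf c16_127) (BT.leaf c16_128)) (BT.node 23529 (BT.leaf c16_129) (BT.leaf c16_130))) (BT.node 23532 (BT.node 23531 (BT.leaf c16_131) (BT.leaf c16_132)) (BT.leaf c16_133))) (BT.node 23537 (BT.node 23535 (BT.node 23534 (BT.leaf c16_134) (BT.leaf c16_135)) (BT.node 23536 (BT.leaf c16_136) (BT.leaf c16_137))) (BT.node 23539 (BT.node 23538 (BT.leaf c16_138) (BT.leaf c16_139)) (BT.leaf c16_140))))) (BT.node 23554 (BT.node 23547 (BT.node 23544 (BT.node 23542 (BT.node 23541 (BT.leaf c16_141) (BT.leaf c16_142)) (BT.node 23543 (BT.leaf c16_143) (BT.leaf c16_144))) (BT.node 23546 (BT.node 23545 (BT.leaf c16_145) (BT.leaf c16_146)) (BT.leaf c16_147))) (BT.node 23551 (BT.node 23549 (BT.node 23548 (BT.leaf c16_148) (BT.leaf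 c16_149)) (BT.node 23550 (BT.leaf c16_150) (BT.leaf c16_151))) (BT.node 23553 (BT.node 23552 (BT.leaf c16_152) (BT.leaf c16_153)) (BT.leaf c16_154)))) (BT.node 23561 (BT.node 23558 (BT.node 23556 (BT.node 23555 (BT.leaf c16_155) (BT.leaf c16_156)) (BT.node 23557 (BT.leaf c16_157) (BT.leaf c16_158))) (BT.node 23560 (BT.node 23559 (BT.leaf c16_159) (BT.leaf c16_160)) (BT.leaf c16_161))) (BT.node 23565 (BT.node 23563 (BT.node 23562 (BT.leaf c16_162) (BT.leaf c16_163)) (BT.node 23564 (BT.leaf c16_164) (BT.leaf c16_165))) (BT.node 23567 (BT.node 23566 (BT.leaf c16_166) (BT.leaf c16_167)) (BT.leaf c16_168)))))) (BT.node 23596 (BT.node 23582 (BT.node 23575 (BT.node 23572 (BT.node 23570 (BT.node 23569 (BT.leaf c16_169) (BT.leaf c16_170)) (BT.node 23571 (BT.leaf c16_171) (BT.leaf c16_172))) (BT.node 23574 (BT.node 23573 (BT.leaf c16_173) (BT.leaf c16_174)) (BT.leaf c16_175))) (BT.node 23579 (BT.node 23577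 (BT.node 23576 (BT.leaf c16_176) (BT.leaf c16_177)) (BT.node 23578 (BT.leaf c16_178) (BT.leaf c16_179))) (BT.node 23581 (BT.node 23580 (BT.leaf c16_180) (BT.leaf c16_181)) (BT.leaf c16_182)))) (BT.node 23589 (BT.node 23586 (BT.node 23584 (BT.node 23583 (BT.leaf c16_183) (BT.leaf c16_184)) (BT.node 23585 (BT.leaf c16_185) (BT.leaf c16_186))) (BT.node 23588 (BT.node 23587 (BT.leaf c16_187) (BT.leaf c16_188)) (BT.leaf c16_189))) (BT.node 23593 (BT.node 23591 (BT.node 23590 (BT.leaf c16_190) (BT.leaf c16_191)) (BT.node 23592 (BT.leaf c16_192) (BT.leaf c16_193))) (BT.node 23595 (BT.node 23594 (BT.leaf c16_194) (BT.leaf c16_195)) (BT.leaf c16_196))))) (BT.node 23610 (BT.node 23603 (BT.node 23600 (BT.node 23598 (BT.node 23597 (BT.leaf c16_197) (BT.leaf c16_198)) (BT.node 23599 (BT.leaf c16_199) (BT.leaf c16_200))) (BT.node 23602 (BT.node 23601 (BT.leaf c16_201) (BT.leaf c16_202)) (BT.leaf c16_203))) (BT.node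 23607 (BT.node 23605 (BT.node 23604 (BT.leaf c16_204) (BT.leaf c16_205)) (BT.node 23606 (BT.leaf c16_206) (BT.leaf c16_207))) (BT.node 23609 (BT.node 23608 (BT.leaf c16_208) (BT.leaf c16_209)) (BT.leaf c16_210)))) (BT.node 23617 (BT.node 23614 (BT.node 23612 (BT.node 23611 (BT.leaf c16_211) (BT.leaf c16_212)) (BT.node 23613 (BT.leaf c16_213) (BT.leaf c16_214))) (BT.node 23616 (BT.node 23615 (BT.leaf c16_215) (BT.leaf c16_216)) (BT.leaf c16_217))) (BT.node 23621 (BT.node 23619 (BT.node 23618 (BT.leaf c16_218) (BT.leaf c16_219)) (BT.node 23620 (BT.leaf c16_220) (BT.leaf c16_221))) (BT.node 23623 (BT.node 23622 (BT.leaf c16_222) (BT.leaf c16_223)) (BT.leaf c16_224)))))))) (BT.node 23737 (BT.node 23681 (BT.node 23653 (BT.node 23639 (BT.node 23632 (BT.node 23628 (BT.node 23626 (BT.node 23625 (BT.leaf c16_225) (BT.leaf c16_226)) (BT.node 23627 (BT.leaf c16_227) (BT.leaf c16_228))) (BT.node 23630 (BT.node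 23629 (BT.leaf c16_229) (BT.leaf c16_230)) (BT.node 23631 (BT.leaf c16_231) (BT.leaf c16_232)))) (BT.node 23636 (BT.node 23634 (BT.node 23633 (BT.leaf c16_233) (BT.leaf c16_234)) (BT.node 23635 (BT.leaf c16_235) (BT.leaf c16_236))) (BT.node 23638 (BT.node 23637 (BT.leaf c16_237) (BT.leaf c16_238)) (BT.leaf c16_239)))) (BT.node 23646 (BT.node 23643 (BT.node 23641 (BT.node 23640 (BT.leaf c16_240) (BT.leaf c16_241)) (BT.node 23642 (BT.leaf c16_242) (BT.leaf c16_243))) (BT.node 23645 (BT.node 23644 (BT.leaf c16_244) (BT.leaf c16_245)) (BT.leaf c16_246))) (BT.node 23650 (BT.node 23648 (BT.node 23647 (BT.leaf c16_247) (BT.leaf c16_248)) (BT.node 23649 (BT.leaf c16_249) (BT.leaf c16_250))) (BT.node 23652 (BT.node 23651 (BT.leaf c16_251) (BT.leaf c16_252)) (BT.leaf c16_253))))) (BT.node 23667 (BT.node 23660 (BT.node 23657 (BT.node 23655 (BT.node 23654 (BT.leaf c16_254) (BT.leaf c16_255)) (BT.node 23656 (BT.leaf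 c16_256) (BT.leaf c16_257))) (BT.node 23659 (BT.node 23658 (BT.leaf c16_258) (BT.leaf c16_259)) (BT.leaf c16_260))) (BT.node 23664 (BT.node 23662 (BT.node 23661 (BT.leaf c16_261) (BT.leaf c16_262)) (BT.node 23663 (BT.leaf c16_263) (BT.leaf c16_264))) (BT.node 23666 (BT.node 23665 (BT.leaf c16_265) (BT.leaf c16_266)) (BT.leaf c16_267)))) (BT.node 23674 (BT.node 23671 (BT.node 23669 (BT.node 23668 (BT.leaf c16_268) (BT.leaf c16_269)) (BT.node 23670 (BT.leaf c16_270) (BT.leaf c16_271))) (BT.node 23673 (BT.node 23672 (BT.leaf c16_272) (BT.leaf c16_273)) (BT.leaf c16_274))) (BT.node 23678 (BT.node 23676 (BT.node 23675 (BT.leaf c16_275) (BT.leaf c16_276)) (BT.node 23677 (BT.leaf c16_277) (BT.leaf c16_278))) (BT.node 23680 (BT.node 23679 (BT.leaf c16_279) (BT.leaf c16_280)) (BT.leaf c16_281)))))) (BT.node 23709 (BT.node 23695 (BT.node 23688 (BT.node 23685 (BT.node 23683 (BT.node 23682 (BT.leaf c16_282) (BT.leaf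 c16_283)) (BT.node 23684 (BT.leaf c16_284) (BT.leaf c16_285))) (BT.node 23687 (BT.node 23686 (BT.leaf c16_286) (BT.leaf c16_287)) (BT.leaf c16_288))) (BT.node 23692 (BT.node 23690 (BT.node 23689 (BT.leaf c16_289) (BT.leaf c16_290)) (BT.node 23691 (BT.leaf c16_291) (BT.leaf c16_292))) (BT.node 23694 (BT.node 23693 (BT.leaf c16_293) (BT.leaf c16_294)) (BT.leaf c16_295)))) (BT.node 23702 (BT.node 23699 (BT.node 23697 (BT.node 23696 (BT.leaf c16_296) (BT.leaf c16_297)) (BT.node 23698 (BT.leaf c16_298) (BT.leaf c16_299))) (BT.node 23701 (BT.node 23700 (BT.leaf c16_300) (BT.leaf c16_301)) (BT.leaf c16_302))) (BT.node 23706 (BT.node 23704 (BT.node 23703 (BT.leaf c16_303) (BT.leaf c16_304)) (BT.node 23705 (BT.leaf c16_305) (BT.leaf c16_306))) (BT.node 23708 (BT.node 23707 (BT.leaf c16_307) (BT.leaf c16_308)) (BT.leaf c16_309))))) (BT.node 23723 (BT.node 23716 (BT.node 23713 (BT.node 23711 (BT.node 23710 (BT.leaf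 c16_310) (BT.leaf c16_311)) (BT.node 23712 (BT.leaf c16_312) (BT.leaf c16_313))) (BT.node 23715 (BT.node 23714 (BT.leaf c16_314) (BT.leaf c16_315)) (BT.leaf c16_316))) (BT.node 23720 (BT.node 23718 (BT.node 23717 (BT.leaf c16_317) (BT.leaf c16_318)) (BT.node 23719 (BT.leaf c16_319) (BT.leaf c16_320))) (BT.node 23722 (BT.node 23721 (BT.leaf c16_321) (BT.leaf c16_322)) (BT.leaf c16_323)))) (BT.node 23730 (BT.node 23727 (BT.node 23725 (BT.node 23724 (BT.leaf c16_324) (BT.leaf c16_325)) (BT.node 23726 (BT.leaf c16_326) (BT.leaf c16_327))) (BT.node 23729 (BT.node 23728 (BT.leaf c16_328) (BT.leaf c16_329)) (BT.leaf c16_330))) (BT.node 23734 (BT.node 23732 (BT.node 23731 (BT.leaf c16_331) (BT.leaf c16_332)) (BT.node 23733 (BT.leaf c16_333) (BT.leaf c16_334))) (BT.node 23736 (BT.node 23735 (BT.leaf c16_335) (BT.leaf c16_336)) (BT.leaf c16_337))))))) (BT.node 23793 (BT.node 23765 (BT.node 23751 (BT.node 23744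 (BT.node 23741 (BT.node 23739 (BT.node 23738 (BT.leaf c16_338) (BT.leaf c16_339)) (BT.node 23740 (BT.leaf c16_340) (BT.leaf c16_341))) (BT.node 23743 (BT.node 23742 (BT.leaf c16_342) (BT.leaf c16_343)) (BT.leaf c16_344))) (BT.node 23748 (BT.node 23746 (BT.node 23745 (BT.leaf c16_345) (BT.leaf c16_346)) (BT.node 23747 (BT.leaf c16_347) (BT.leaf c16_348))) (BT.node 23750 (BT.node 23749 (BT.leaf c16_349) (BT.leaf c16_350)) (BT.leaf c16_351)))) (BT.node 23758 (BT.node 23755 (BT.node 23753 (BT.node 23752 (BT.leaf c16_352) (BT.leaf c16_353)) (BT.node 23754 (BT.leaf c16_354) (BT.leaf c16_355))) (BT.node 23757 (BT.node 23756 (BT.leaf c16_356) (BT.leaf c16_357)) (BT.leaf c16_358))) (BT.node 23762 (BT.node 23760 (BT.node 23759 (BT.leaf c16_359) (BT.leaf c16_360)) (BT.node 23761 (BT.leaf c16_361) (BT.leaf c16_362))) (BT.node 23764 (BT.node 23763 (BT.leaf c16_363) (BT.leaf c16_364)) (BT.leaf c16_365))))) (BT.node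 23779 (BT.node 23772 (BT.node 23769 (BT.node 23767 (BT.node 23766 (BT.leaf c16_366) (BT.leaf c16_367)) (BT.node 23768 (BT.leaf c16_368) (BT.leaf c16_369))) (BT.node 23771 (BT.node 23770 (BT.leaf c16_370) (BT.leaf c16_371)) (BT.leaf c16_372))) (BT.node 23776 (BT.node 23774 (BT.node 23773 (BT.leaf c16_373) (BT.leaf c16_374)) (BT.node 23775 (BT.leaf c16_375) (BT.leaf c16_376))) (BT.node 23778 (BT.node 23777 (BT.leaf c16_377) (BT.leaf c16_378)) (BT.leaf c16_379)))) (BT.node 23786 (BT.node 23783 (BT.node 23781 (BT.node 23780 (BT.leaf c16_380) (BT.leaf c16_381)) (BT.node 23782 (BT.leaf c16_382) (BT.leaf c16_383))) (BT.node 23785 (BT.node 23784 (BT.leaf c16_384) (BT.leaf c16_385)) (BT.leaf c16_386))) (BT.node 23790 (BT.node 23788 (BT.node 23787 (BT.leaf c16_387) (BT.leaf c16_388)) (BT.node 23789 (BT.leaf c16_389) (BT.leaf c16_390))) (BT.node 23792 (BT.node 23791 (BT.leaf c16_391) (BT.leaf c16_392)) (BT.leaf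 c16_393)))))) (BT.node 23821 (BT.node 23807 (BT.node 23800 (BT.node 23797 (BT.node 23795 (BT.node 23794 (BT.leaf c16_394) (BT.leaf c16_395)) (BT.node 23796 (BT.leaf c16_396) (BT.leaf c16_397))) (BT.node 23799 (BT.node 23798 (BT.leaf c16_398) (BT.leaf c16_399)) (BT.leaf c16_400))) (BT.node 23804 (BT.node 23802 (BT.node 23801 (BT.leaf c16_401) (BT.leaf c16_402)) (BT.node 23803 (BT.leaf c16_403) (BT.leaf c16_404))) (BT.node 23806 (BT.node 23805 (BT.leaf c16_405) (BT.leaf c16_406)) (BT.leaf c16_407)))) (BT.node 23814 (BT.node 23811 (BT.node 23809 (BT.node 23808 (BT.leaf c16_408) (BT.leaf c16_409)) (BT.node 23810 (BT.leaf c16_410) (BT.leaf c16_411))) (BT.node 23813 (BT.node 23812 (BT.leaf c16_412) (BT.leaf c16_413)) (BT.leaf c16_414))) (BT.node 23818 (BT.node 23816 (BT.node 23815 (BT.leaf c16_415) (BT.leaf c16_416)) (BT.node 23817 (BT.leaf c16_417) (BT.leaf c16_418))) (BT.node 23820 (BT.node 23819 (BT.leaf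 c16_419) (BT.leaf c16_420)) (BT.leaf c16_421))))) (BT.node 23835 (BT.node 23828 (BT.node 23825 (BT.node 23823 (BT.node 23822 (BT.leaf c16_422) (BT.leaf c16_423)) (BT.node 23824 (BT.leaf c16_424) (BT.leaf c16_425))) (BT.node 23827 (BT.node 23826 (BT.leaf c16_426) (BT.leaf c16_427)) (BT.leaf c16_428))) (BT.node 23832 (BT.node 23830 (BT.node 23829 (BT.leaf c16_429) (BT.leaf c16_430)) (BT.node 23831 (BT.leaf c16_431) (BT.leaf c16_432))) (BT.node 23834 (BT.node 23833 (BT.leaf c16_433) (BT.leaf c16_434)) (BT.leaf c16_435)))) (BT.node 23842 (BT.node 23839 (BT.node 23837 (BT.node 23836 (BT.leaf c16_436) (BT.leaf c16_437)) (BT.node 23838 (BT.leaf c16_438) (BT.leaf c16_439))) (BT.node 23841 (BT.node 23840 (BT.leaf c16_440) (BT.leaf c16_441)) (BT.leaf c16_442))) (BT.node 23846 (BT.node 23844 (BT.node 23843 (BT.leaf c16_443) (BT.leaf c16_444)) (BT.node 23845 (BT.leaf c16_445) (BT.leaf c16_446))) (BT.node 23848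 (BT.node 23847 (BT.leaf c16_447) (BT.leaf c16_448)) (BT.leaf c16_449))))))))) (BT.node 24074 (BT.node 23962 (BT.node 23906 (BT.node 23878 (BT.node 23864 (BT.node 23857 (BT.node 23853 (BT.node 23851 (BT.node 23850 (BT.leaf c16_450) (BT.leaf c16_451)) (BT.node 23852 (BT.leaf c16_452) (BT.leaf c16_453))) (BT.node 23855 (BT.node 23854 (BT.leaf c16_454) (BT.leaf c16_455)) (BT.node 23856 (BT.leaf c16_456) (BT.leaf c16_457)))) (BT.node 23861 (BT.node 23859 (BT.node 23858 (BT.leaf c16_458) (BT.leaf c16_459)) (BT.node 23860 (BT.leaf c16_460) (BT.leaf c16_461))) (BT.node 23863 (BT.node 23862 (BT.leaf c16_462) (BT.leaf c16_463)) (BT.leaf c16_464)))) (BT.node 23871 (BT.node 23868 (BT.node 23866 (BT.node 23865 (BT.leaf c16_465) (BT.leaf c16_466)) (BT.node 23867 (BT.leaf c16_467) (BT.leaf c16_468))) (BT.node 23870 (BT.node 23869 (BT.leaf c16_469) (BT.leaf c16_470)) (BT.leaf c16_471))) (BT.node 23875 (BT.node 23873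 (BT.node 23872 (BT.leaf c16_472) (BT.leaf c16_473)) (BT.node 23874 (BT.leaf c16_474) (BT.leaf c16_475))) (BT.node 23877 (BT.node 23876 (BT.leaf c16_476) (BT.leaf c16_477)) (BT.leaf c16_478))))) (BT.node 23892 (BT.node 23885 (BT.node 23882 (BT.node 23880 (BT.node 23879 (BT.leaf c16_479) (BT.leaf c16_480)) (BT.node 23881 (BT.leaf c16_481) (BT.leaf c16_482))) (BT.node 23884 (BT.node 23883 (BT.leaf c16_483) (BT.leaf c16_484)) (BT.leaf c16_485))) (BT.node 23889 (BT.node 23887 (BT.node 23886 (BT.leaf c16_486) (BT.leaf c16_487)) (BT.node 23888 (BT.leaf c16_488) (BT.leaf c16_489))) (BT.node 23891 (BT.node 23890 (BT.leaf c16_490) (BT.leaf c16_491)) (BT.leaf c16_492)))) (BT.node 23899 (BT.node 23896 (BT.node 23894 (BT.node 23893 (BT.leaf c16_493) (BT.leaf c16_494)) (BT.node 23895 (BT.leaf c16_495) (BT.leaf c16_496))) (BT.node 23898 (BT.node 23897 (BT.leaf c16_497) (BT.leaf c16_498)) (BT.leaf c16_499))) (BT.node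 23903 (BT.node 23901 (BT.node 23900 (BT.leaf c16_500) (BT.leaf c16_501)) (BT.node 23902 (BT.leaf c16_502) (BT.leaf c16_503))) (BT.node 23905 (BT.node 23904 (BT.leaf c16_504) (BT.leaf c16_505)) (BT.leaf c16_506)))))) (BT.node 23934 (BT.node 23920 (BT.node 23913 (BT.node 23910 (BT.node 23908 (BT.node 23907 (BT.leaf c16_507) (BT.leaf c16_508)) (BT.node 23909 (BT.leaf c16_509) (BT.leaf c16_510))) (BT.node 23912 (BT.node 23911 (BT.leaf c16_511) (BT.leaf c16_512)) (BT.leaf c16_513))) (BT.node 23917 (BT.node 23915 (BT.node 23914 (BT.leaf c16_514) (BT.leaf c16_515)) (BT.node 23916 (BT.leaf c16_516) (BT.leaf c16_517))) (BT.node 23919 (BT.node 23918 (BT.leaf c16_518) (BT.leaf c16_519)) (BT.leaf c16_520)))) (BT.node 23927 (BT.node 23924 (BT.node 23922 (BT.node 23921 (BT.leaf c16_521) (BT.leaf c16_522)) (BT.node 23923 (BT.leaf c16_523) (BT.leaf c16_524))) (BT.node 23926 (BT.node 23925 (BT.leaf c16_525) (BT.leaf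 c16_526)) (BT.leaf c16_527))) (BT.node 23931 (BT.node 23929 (BT.node 23928 (BT.leaf c16_528) (BT.leaf c16_529)) (BT.node 23930 (BT.leaf c16_530) (BT.leaf c16_531))) (BT.node 23933 (BT.node 23932 (BT.leaf c16_532) (BT.leaf c16_533)) (BT.leaf c16_534))))) (BT.node 23948 (BT.node 23941 (BT.node 23938 (BT.node 23936 (BT.node 23935 (BT.leaf c16_535) (BT.leaf c16_536)) (BT.node 23937 (BT.leaf c16_537) (BT.leaf c16_538))) (BT.node 23940 (BT.node 23939 (BT.leaf c16_539) (BT.leaf c16_540)) (BT.leaf c16_541))) (BT.node 23945 (BT.node 23943 (BT.node 23942 (BT.leaf c16_542) (BT.leaf c16_543)) (BT.node 23944 (BT.leaf c16_544) (BT.leaf c16_545))) (BT.node 23947 (BT.node 23946 (BT.leaf c16_546) (BT.leaf c16_547)) (BT.leaf c16_548)))) (BT.node 23955 (BT.node 23952 (BT.node 23950 (BT.node 23949 (BT.leaf c16_549) (BT.leaf c16_550)) (BT.node 23951 (BT.leaf c16_551) (BT.leaf c16_552))) (BT.node 23954 (BT.node 23953 (BT.leaf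 c16_553) (BT.leaf c16_554)) (BT.leaf c16_555))) (BT.node 23959 (BT.node 23957 (BT.node 23956 (BT.leaf c16_556) (BT.leaf c16_557)) (BT.node 23958 (BT.leaf c16_558) (BT.leaf c16_559))) (BT.node 23961 (BT.node 23960 (BT.leaf c16_560) (BT.leaf c16_561)) (BT.leaf c16_562))))))) (BT.node 24018 (BT.node 23990 (BT.node 23976 (BT.node 23969 (BT.node 23966 (BT.node 23964 (BT.node 23963 (BT.leaf c16_563) (BT.leaf c16_564)) (BT.node 23965 (BT.leaf c16_565) (BT.leaf c16_566))) (BT.node 23968 (BT.node 23967 (BT.leaf c16_567) (BT.leaf c16_568)) (BT.leaf c16_569))) (BT.node 23973 (BT.node 23971 (BT.node 23970 (BT.leaf c16_570) (BT.leaf c16_571)) (BT.node 23972 (BT.leaf c16_572) (BT.leaf c16_573))) (BT.node 23975 (BT.node 23974 (BT.leaf c16_574) (BT.leaf c16_575)) (BT.leaf c16_576)))) (BT.node 23983 (BT.node 23980 (BT.node 23978 (BT.node 23977 (BT.leaf c16_577) (BT.leaf c16_578)) (BT.node 23979 (BT.leaf c16_579) (BT.leaf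 c16_580))) (BT.node 23982 (BT.node 23981 (BT.leaf c16_581) (BT.leaf c16_582)) (BT.leaf c16_583))) (BT.node 23987 (BT.node 23985 (BT.node 23984 (BT.leaf c16_584) (BT.leaf c16_585)) (BT.node 23986 (BT.leaf c16_586) (BT.leaf c16_587))) (BT.node 23989 (BT.node 23988 (BT.leaf c16_588) (BT.leaf c16_589)) (BT.leaf c16_590))))) (BT.node 24004 (BT.node 23997 (BT.node 23994 (BT.node 23992 (BT.node 23991 (BT.leaf c16_591) (BT.leaf c16_592)) (BT.node 23993 (BT.leaf c16_593) (BT.leaf c16_594))) (BT.node 23996 (BT.node 23995 (BT.leaf c16_595) (BT.leaf c16_596)) (BT.leaf c16_597))) (BT.node 24001 (BT.node 23999 (BT.node 23998 (BT.leaf c16_598) (BT.leaf c16_599)) (BT.node 24000 (BT.leaf c16_600) (BT.leaf c16_601))) (BT.node 24003 (BT.node 24002 (BT.leaf c16_602) (BT.leaf c16_603)) (BT.leaf c16_604)))) (BT.node 24011 (BT.node 24008 (BT.node 24006 (BT.node 24005 (BT.leaf c16_605) (BT.leaf c16_606)) (BT.node 24007 (BT.leaf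 c16_607) (BT.leaf c16_608))) (BT.node 24010 (BT.node 24009 (BT.leaf c16_609) (BT.leaf c16_610)) (BT.leaf c16_611))) (BT.node 24015 (BT.node 24013 (BT.node 24012 (BT.leaf c16_612) (BT.leaf c16_613)) (BT.node 24014 (BT.leaf c16_614) (BT.leaf c16_615))) (BT.node 24017 (BT.node 24016 (BT.leaf c16_616) (BT.leaf c16_617)) (BT.leaf c16_618)))))) (BT.node 24046 (BT.node 24032 (BT.node 24025 (BT.node 24022 (BT.node 24020 (BT.node 24019 (BT.leaf c16_619) (BT.leaf c16_620)) (BT.node 24021 (BT.leaf c16_621) (BT.leaf c16_622))) (BT.node 24024 (BT.node 24023 (BT.leaf c16_623) (BT.leaf c16_624)) (BT.leaf c16_625))) (BT.node 24029 (BT.node 24027 (BT.node 24026 (BT.leaf c16_626) (BT.leaf c16_627)) (BT.node 24028 (BT.leaf c16_628) (BT.leaf c16_629))) (BT.node 24031 (BT.node 24030 (BT.leaf c16_630) (BT.leaf c16_631)) (BT.leaf c16_632)))) (BT.node 24039 (BT.node 24036 (BT.node 24034 (BT.node 24033 (BT.leaf c16_633) (BT.leaf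 c16_634)) (BT.node 24035 (BT.leaf c16_635) (BT.leaf c16_636))) (BT.node 24038 (BT.node 24037 (BT.leaf c16_637) (BT.leaf c16_638)) (BT.leaf c16_639))) (BT.node 24043 (BT.node 24041 (BT.node 24040 (BT.leaf c16_640) (BT.leaf c16_641)) (BT.node 24042 (BT.leaf c16_642) (BT.leaf c16_643))) (BT.node 24045 (BT.node 24044 (BT.leaf c16_644) (BT.leaf c16_645)) (BT.leaf c16_646))))) (BT.node 24060 (BT.node 24053 (BT.node 24050 (BT.node 24048 (BT.node 24047 (BT.leaf c16_647) (BT.leaf c16_648)) (BT.node 24049 (BT.leaf c16_649) (BT.leaf c16_650))) (BT.node 24052 (BT.node 24051 (BT.leaf c16_651) (BT.leaf c16_652)) (BT.leaf c16_653))) (BT.node 24057 (BT.node 24055 (BT.node 24054 (BT.leaf c16_654) (BT.leaf c16_655)) (BT.node 24056 (BT.leaf c16_656) (BT.leaf c16_657))) (BT.node 24059 (BT.node 24058 (BT.leaf c16_658) (BT.leaf c16_659)) (BT.leaf c16_660)))) (BT.node 24067 (BT.node 24064 (BT.node 24062 (BT.node 24061 (BT.leaf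 c16_661) (BT.leaf c16_662)) (BT.node 24063 (BT.leaf c16_663) (BT.leaf c16_664))) (BT.node 24066 (BT.node 24065 (BT.leaf c16_665) (BT.leaf c16_666)) (BT.leaf c16_667))) (BT.node 24071 (BT.node 24069 (BT.node 24068 (BT.leaf c16_668) (BT.leaf c16_669)) (BT.node 24070 (BT.leaf c16_670) (BT.leaf c16_671))) (BT.node 24073 (BT.node 24072 (BT.leaf c16_672) (BT.leaf c16_673)) (BT.leaf c16_674)))))))) (BT.node 24187 (BT.node 24131 (BT.node 24103 (BT.node 24089 (BT.node 24082 (BT.node 24078 (BT.node 24076 (BT.node 24075 (BT.leaf c16_675) (BT.leaf c16_676)) (BT.node 24077 (BT.leaf c16_677) (BT.leaf c16_678))) (BT.node 24080 (BT.node 24079 (BT.leaf c16_679) (BT.leaf c16_680)) (BT.node 24081 (BT.leaf c16_681) (BT.leaf c16_682)))) (BT.node 24086 (BT.node 24084 (BT.node 24083 (BT.leaf c16_683) (BT.leaf c16_684)) (BT.node 24085 (BT.leaf c16_685) (BT.leaf c16_686))) (BT.node 24088 (BT.node 24087 (BT.leaf c16_687) (BT.leaf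 c16_688)) (BT.leaf c16_689)))) (BT.node 24096 (BT.node 24093 (BT.node 24091 (BT.node 24090 (BT.leaf c16_690) (BT.leaf c16_691)) (BT.node 24092 (BT.leaf c16_692) (BT.leaf c16_693))) (BT.node 24095 (BT.node 24094 (BT.leaf c16_694) (BT.leaf c16_695)) (BT.leaf c16_696))) (BT.node 24100 (BT.node 24098 (BT.node 24097 (BT.leaf c16_697) (BT.leaf c16_698)) (BT.node 24099 (BT.leaf c16_699) (BT.leaf c16_700))) (BT.node 24102 (BT.node 24101 (BT.leaf c16_701) (BT.leaf c16_702)) (BT.leaf c16_703))))) (BT.node 24117 (BT.node 24110 (BT.node 24107 (BT.node 24105 (BT.node 24104 (BT.leaf c16_704) (BT.leaf c16_705)) (BT.node 24106 (BT.leaf c16_706) (BT.leaf c16_707))) (BT.node 24109 (BT.node 24108 (BT.leaf c16_708) (BT.leaf c16_709)) (BT.leaf c16_710))) (BT.node 24114 (BT.node 24112 (BT.node 24111 (BT.leaf c16_711) (BT.leaf c16_712)) (BT.node 24113 (BT.leaf c16_713) (BT.leaf c16_714))) (BT.node 24116 (BT.node 24115 (BT.leaf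 c16_715) (BT.leaf c16_716)) (BT.leaf c16_717)))) (BT.node 24124 (BT.node 24121 (BT.node 24119 (BT.node 24118 (BT.leaf c16_718) (BT.leaf c16_719)) (BT.node 24120 (BT.leaf c16_720) (BT.leaf c16_721))) (BT.node 24123 (BT.node 24122 (BT.leaf c16_722) (BT.leaf c16_723)) (BT.leaf c16_724))) (BT.node 24128 (BT.node 24126 (BT.node 24125 (BT.leaf c16_725) (BT.leaf c16_726)) (BT.node 24127 (BT.leaf c16_727) (BT.leaf c16_728))) (BT.node 24130 (BT.node 24129 (BT.leaf c16_729) (BT.leaf c16_730)) (BT.leaf c16_731)))))) (BT.node 24159 (BT.node 24145 (BT.node 24138 (BT.node 24135 (BT.node 24133 (BT.node 24132 (BT.leaf c16_732) (BT.leaf c16_733)) (BT.node 24134 (BT.leaf c16_734) (BT.leaf c16_735))) (BT.node 24137 (BT.node 24136 (BT.leaf c16_736) (BT.leaf c16_737)) (BT.leaf c16_738))) (BT.node 24142 (BT.node 24140 (BT.node 24139 (BT.leaf c16_739) (BT.leaf c16_740)) (BT.node 24141 (BT.leaf c16_741) (BT.leaf c16_742)))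 (BT.node 24144 (BT.node 24143 (BT.leaf c16_743) (BT.leaf c16_744)) (BT.leaf c16_745)))) (BT.node 24152 (BT.node 24149 (BT.node 24147 (BT.node 24146 (BT.leaf c16_746) (BT.leaf c16_747)) (BT.node 24148 (BT.leaf c16_748) (BT.leaf c16_749))) (BT.node 24151 (BT.node 24150 (BT.leaf c16_750) (BT.leaf c16_751)) (BT.leaf c16_752))) (BT.node 24156 (BT.node 24154 (BT.node 24153 (BT.leaf c16_753) (BT.leaf c16_754)) (BT.node 24155 (BT.leaf c16_755) (BT.leaf c16_756))) (BT.node 24158 (BT.node 24157 (BT.leaf c16_757) (BT.leaf c16_758)) (BT.leaf c16_759))))) (BT.node 24173 (BT.node 24166 (BT.node 24163 (BT.node 24161 (BT.node 24160 (BT.leaf c16_760) (BT.leaf c16_761)) (BT.node 24162 (BT.leaf c16_762) (BT.leaf c16_763))) (BT.node 24165 (BT.node 24164 (BT.leaf c16_764) (BT.leaf c16_765)) (BT.leaf c16_766))) (BT.node 24170 (BT.node 24168 (BT.node 24167 (BT.leaf c16_767) (BT.leaf c16_768)) (BT.node 24169 (BT.leaf c16_769)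 (BT.leaf c16_770))) (BT.node 24172 (BT.node 24171 (BT.leaf c16_771) (BT.leaf c16_772)) (BT.leaf c16_773)))) (BT.node 24180 (BT.node 24177 (BT.node 24175 (BT.node 24174 (BT.leaf c16_774) (BT.leaf c16_775)) (BT.node 24176 (BT.leaf c16_776) (BT.leaf c16_777))) (BT.node 24179 (BT.node 24178 (BT.leaf c16_778) (BT.leaf c16_779)) (BT.leaf c16_780))) (BT.node 24184 (BT.node 24182 (BT.node 24181 (BT.leaf c16_781) (BT.leaf c16_782)) (BT.node 24183 (BT.leaf c16_783) (BT.leaf c16_784))) (BT.node 24186 (BT.node 24185 (BT.leaf c16_785) (BT.leaf c16_786)) (BT.leaf c16_787))))))) (BT.node 24243 (BT.node 24215 (BT.node 24201 (BT.node 24194 (BT.node 24191 (BT.node 24189 (BT.node 24188 (BT.leaf c16_788) (BT.leaf c16_789)) (BT.node 24190 (BT.leaf c16_790) (BT.leaf c16_791))) (BT.node 24193 (BT.node 24192 (BT.leaf c16_792) (BT.leaf c16_793)) (BT.leaf c16_794))) (BT.node 24198 (BT.node 24196 (BT.node 24195 (BT.leaf c16_795)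 (BT.leaf c16_796)) (BT.node 24197 (BT.leaf c16_797) (BT.leaf c16_798))) (BT.node 24200 (BT.node 24199 (BT.leaf c16_799) (BT.leaf c16_800)) (BT.leaf c16_801)))) (BT.node 24208 (BT.node 24205 (BT.node 24203 (BT.node 24202 (BT.leaf c16_802) (BT.leaf c16_803)) (BT.node 24204 (BT.leaf c16_804) (BT.leaf c16_805))) (BT.node 24207 (BT.node 24206 (BT.leaf c16_806) (BT.leaf c16_807)) (BT.leaf c16_808))) (BT.node 24212 (BT.node 24210 (BT.node 24209 (BT.leaf c16_809) (BT.leaf c16_810)) (BT.node 24211 (BT.leaf c16_811) (BT.leaf c16_812))) (BT.node 24214 (BT.node 24213 (BT.leaf c16_813) (BT.leaf c16_814)) (BT.leaf c16_815))))) (BT.node 24229 (BT.node 24222 (BT.node 24219 (BT.node 24217 (BT.node 24216 (BT.leaf c16_816) (BT.leaf c16_817)) (BT.node 24218 (BT.leaf c16_818) (BT.leaf c16_819))) (BT.node 24221 (BT.node 24220 (BT.leaf c16_820) (BT.leaf c16_821)) (BT.leaf c16_822))) (BT.node 24226 (BT.node 24224 (BT.node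 24223 (BT.leaf c16_823) (BT.leaf c16_824)) (BT.node 24225 (BT.leaf c16_825) (BT.leaf c16_826))) (BT.node 24228 (BT.node 24227 (BT.leaf c16_827) (BT.leaf c16_828)) (BT.leaf c16_829)))) (BT.node 24236 (BT.node 24233 (BT.node 24231 (BT.node 24230 (BT.leaf c16_830) (BT.leaf c16_831)) (BT.node 24232 (BT.leaf c16_832) (BT.leaf c16_833))) (BT.node 24235 (BT.node 24234 (BT.leaf c16_834) (BT.leaf c16_835)) (BT.leaf c16_836))) (BT.node 24240 (BT.node 24238 (BT.node 24237 (BT.leaf c16_837) (BT.leaf c16_838)) (BT.node 24239 (BT.leaf c16_839) (BT.leaf c16_840))) (BT.node 24242 (BT.node 24241 (BT.leaf c16_841) (BT.leaf c16_842)) (BT.leaf c16_843)))))) (BT.node 24271 (BT.node 24257 (BT.node 24250 (BT.node 24247 (BT.node 24245 (BT.node 24244 (BT.leaf c16_844) (BT.leaf c16_845)) (BT.node 24246 (BT.leaf c16_846) (BT.leaf c16_847))) (BT.node 24249 (BT.node 24248 (BT.leaf c16_848) (BT.leaf c16_849)) (BT.leaf c16_850)))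 (BT.node 24254 (BT.node 24252 (BT.node 24251 (BT.leaf c16_851) (BT.leaf c16_852)) (BT.node 24253 (BT.leaf c16_853) (BT.leaf c16_854))) (BT.node 24256 (BT.node 24255 (BT.leaf c16_855) (BT.leaf c16_856)) (BT.leaf c16_857)))) (BT.node 24264 (BT.node 24261 (BT.node 24259 (BT.node 24258 (BT.leaf c16_858) (BT.leaf c16_859)) (BT.node 24260 (BT.leaf c16_860) (BT.leaf c16_861))) (BT.node 24263 (BT.node 24262 (BT.leaf c16_862) (BT.leaf c16_863)) (BT.leaf c16_864))) (BT.node 24268 (BT.node 24266 (BT.node 24265 (BT.leaf c16_865) (BT.leaf c16_866)) (BT.node 24267 (BT.leaf c16_867) (BT.leaf c16_868))) (BT.node 24270 (BT.node 24269 (BT.leaf c16_869) (BT.leaf c16_870)) (BT.leaf c16_871))))) (BT.node 24285 (BT.node 24278 (BT.node 24275 (BT.node 24273 (BT.node 24272 (BT.leaf c16_872) (BT.leaf c16_873)) (BT.node 24274 (BT.leaf c16_874) (BT.leaf c16_875))) (BT.node 24277 (BT.node 24276 (BT.leaf c16_876) (BT.leaf c16_877))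 (BT.leaf c16_878))) (BT.node 24282 (BT.node 24280 (BT.node 24279 (BT.leaf c16_879) (BT.leaf c16_880)) (BT.node 24281 (BT.leaf c16_881) (BT.leaf c16_882))) (BT.node 24284 (BT.node 24283 (BT.leaf c16_883) (BT.leaf c16_884)) (BT.leaf c16_885)))) (BT.node 24292 (BT.node 24289 (BT.node 24287 (BT.node 24286 (BT.leaf c16_886) (BT.leaf c16_887)) (BT.node 24288 (BT.leaf c16_888) (BT.leaf c16_889))) (BT.node 24291 (BT.node 24290 (BT.leaf c16_890) (BT.leaf c16_891)) (BT.leaf c16_892))) (BT.node 24296 (BT.node 24294 (BT.node 24293 (BT.leaf c16_893) (BT.leaf c16_894)) (BT.node 24295 (BT.leaf c16_895) (BT.leaf c16_896))) (BT.node 24298 (BT.node 24297 (BT.leaf c16_897) (BT.leaf c16_898)) (BT.leaf c16_899))))))))))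
/-- the chunks of the letter 27 -/
def colL_27 : BT ℕ := (BT.node 24749 (BT.node 24524 (BT.node 24412 (BT.node 24356 (BT.node 24328 (BT.node 24314 (BT.node 24307 (BT.node 24303 (BT.node 24301 (BT.node 24300 (BT.leaf c17_0) (BT.leaf c17_1)) (BT.node 24302 (BT.leaf c17_2) (BT.leaf c17_3))) (BT.node 24305 (BT.node 24304 (BT.leaf c17_4) (BT.leaf c17_5)) (BT.node 24306 (BT.leaf c17_6) (BT.leaf c17_7)))) (BT.node 24311 (BT.node 24309 (BT.node 24308 (BT.leaf c17_8) (BT.leaf c17_9)) (BT.node 24310 (BT.leaf c17_10) (BT.leaf c17_11))) (BT.node 24313 (BT.node 24312 (BT.leaf c17_12) (BT.leaf c17_13)) (BT.leaf c17_14)))) (BT.node 24321 (BT.node 24318 (BT.node 24316 (BT.node 24315 (BT.leaf c17_15) (BT.leaf c17_16)) (BT.node 24317 (BT.leaf c17_17) (BT.leaf c17_18))) (BT.node 24320 (BT.node 24319 (BT.leaf c17_19) (BT.leaf c17_20)) (BT.leaf c17_21))) (BT.node 24325 (BT.node 24323 (BT.node 24322 (BT.leaf c17_22) (BT.leaf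 c17_23)) (BT.node 24324 (BT.leaf c17_24) (BT.leaf c17_25))) (BT.node 24327 (BT.node 24326 (BT.leaf c17_26) (BT.leaf c17_27)) (BT.leaf c17_28))))) (BT.node 24342 (BT.node 24335 (BT.node 24332 (BT.node 24330 (BT.node 24329 (BT.leaf c17_29) (BT.leaf c17_30)) (BT.node 24331 (BT.leaf c17_31) (BT.leaf c17_32))) (BT.node 24334 (BT.node 24333 (BT.leaf c17_33) (BT.leaf c17_34)) (BT.leaf c17_35))) (BT.node 24339 (BT.node 24337 (BT.node 24336 (BT.leaf c17_36) (BT.leaf c17_37)) (BT.node 24338 (BT.leaf c17_38) (BT.leaf c17_39))) (BT.node 24341 (BT.node 24340 (BT.leaf c17_40) (BT.leaf c17_41)) (BT.leaf c17_42)))) (BT.node 24349 (BT.node 24346 (BT.node 24344 (BT.node 24343 (BT.leaf c17_43) (BT.leaf c17_44)) (BT.node 24345 (BT.leaf c17_45) (BT.leaf c17_46))) (BT.node 24348 (BT.node 24347 (BT.leaf c17_47) (BT.leaf c17_48)) (BT.leaf c17_49))) (BT.node 24353 (BT.node 24351 (BT.node 24350 (BT.leaf c17_50) (BT.leaf c17_51))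 (BT.node 24352 (BT.leaf c17_52) (BT.leaf c17_53))) (BT.node 24355 (BT.node 24354 (BT.leaf c17_54) (BT.leaf c17_55)) (BT.leaf c17_56)))))) (BT.node 24384 (BT.node 24370 (BT.node 24363 (BT.node 24360 (BT.node 24358 (BT.node 24357 (BT.leaf c17_57) (BT.leaf c17_58)) (BT.node 24359 (BT.leaf c17_59) (BT.leaf c17_60))) (BT.node 24362 (BT.node 24361 (BT.leaf c17_61) (BT.leaf c17_62)) (BT.leaf c17_63))) (BT.node 24367 (BT.node 24365 (BT.node 24364 (BT.leaf c17_64) (BT.leaf c17_65)) (BT.node 24366 (BT.leaf c17_66) (BT.leaf c17_67))) (BT.node 24369 (BT.node 24368 (BT.leaf c17_68) (BT.leaf c17_69)) (BT.leaf c17_70)))) (BT.node 24377 (BT.node 24374 (BT.node 24372 (BT.node 24371 (BT.leaf c17_71) (BT.leaf c17_72)) (BT.node 24373 (BT.leaf c17_73) (BT.leaf c17_74))) (BT.node 24376 (BT.node 24375 (BT.leaf c17_75) (BT.leaf c17_76)) (BT.leaf c17_77))) (BT.node 24381 (BT.node 24379 (BT.node 24378 (BT.leaf c17_78) (BT.leaf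 c17_79)) (BT.node 24380 (BT.leaf c17_80) (BT.leaf c17_81))) (BT.node 24383 (BT.node 24382 (BT.leaf c17_82) (BT.leaf c17_83)) (BT.leaf c17_84))))) (BT.node 24398 (BT.node 24391 (BT.node 24388 (BT.node 24386 (BT.node 24385 (BT.leaf c17_85) (BT.leaf c17_86)) (BT.node 24387 (BT.leaf c17_87) (BT.leaf c17_88))) (BT.node 24390 (BT.node 24389 (BT.leaf c17_89) (BT.leaf c17_90)) (BT.leaf c17_91))) (BT.node 24395 (BT.node 24393 (BT.node 24392 (BT.leaf c17_92) (BT.leaf c17_93)) (BT.node 24394 (BT.leaf c17_94) (BT.leaf c17_95))) (BT.node 24397 (BT.node 24396 (BT.leaf c17_96) (BT.leaf c17_97)) (BT.leaf c17_98)))) (BT.node 24405 (BT.node 24402 (BT.node 24400 (BT.node 24399 (BT.leaf c17_99) (BT.leaf c17_100)) (BT.node 24401 (BT.leaf c17_101) (BT.leaf c17_102))) (BT.node 24404 (BT.node 24403 (BT.leaf c17_103) (BT.leaf c17_104)) (BT.leaf c17_105))) (BT.node 24409 (BT.node 24407 (BT.node 24406 (BT.leaf c17_106) (BT.leaf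 c17_107)) (BT.node 24408 (BT.leaf c17_108) (BT.leaf c17_109))) (BT.node 24411 (BT.node 24410 (BT.leaf c17_110) (BT.leaf c17_111)) (BT.leaf c17_112))))))) (BT.node 24468 (BT.node 24440 (BT.node 24426 (BT.node 24419 (BT.node 24416 (BT.node 24414 (BT.node 24413 (BT.leaf c17_113) (BT.leaf c17_114)) (BT.node 24415 (BT.leaf c17_115) (BT.leaf c17_116))) (BT.node 24418 (BT.node 24417 (BT.leaf c17_117) (BT.leaf c17_118)) (BT.leaf c17_119))) (BT.node 24423 (BT.node 24421 (BT.node 24420 (BT.leaf c17_120) (BT.leaf c17_121)) (BT.node 24422 (BT.leaf c17_122) (BT.leaf c17_123))) (BT.node 24425 (BT.node 24424 (BT.leaf c17_124) (BT.leaf c17_125)) (BT.leaf c17_126)))) (BT.node 24433 (BT.node 24430 (BT.node 24428 (BT.node 24427 (BT.leaf c17_127) (BT.leaf c17_128)) (BT.node 24429 (BT.leaf c17_129) (BT.leaf c17_130))) (BT.node 24432 (BT.node 24431 (BT.leaf c17_131) (BT.leaf c17_132)) (BT.leaf c17_133))) (BT.node 24437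 (BT.node 24435 (BT.node 24434 (BT.leaf c17_134) (BT.leaf c17_135)) (BT.node 24436 (BT.leaf c17_136) (BT.leaf c17_137))) (BT.node 24439 (BT.node 24438 (BT.leaf c17_138) (BT.leaf c17_139)) (BT.leaf c17_140))))) (BT.node 24454 (BT.node 24447 (BT.node 24444 (BT.node 24442 (BT.node 24441 (BT.leaf c17_141) (BT.leaf c17_142)) (BT.node 24443 (BT.leaf c17_143) (BT.leaf c17_144))) (BT.node 24446 (BT.node 24445 (BT.leaf c17_145) (BT.leaf c17_146)) (BT.leaf c17_147))) (BT.node 24451 (BT.node 24449 (BT.node 24448 (BT.leaf c17_148) (BT.leaf c17_149)) (BT.node 24450 (BT.leaf c17_150) (BT.leaf c17_151))) (BT.node 24453 (BT.node 24452 (BT.leaf c17_152) (BT.leaf c17_153)) (BT.leaf c17_154)))) (BT.node 24461 (BT.node 24458 (BT.node 24456 (BT.node 24455 (BT.leaf c17_155) (BT.leaf c17_156)) (BT.node 24457 (BT.leaf c17_157) (BT.leaf c17_158))) (BT.node 24460 (BT.node 24459 (BT.leaf c17_159) (BT.leaf c17_160)) (BT.leaf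 c17_161))) (BT.node 24465 (BT.node 24463 (BT.node 24462 (BT.leaf c17_162) (BT.leaf c17_163)) (BT.node 24464 (BT.leaf c17_164) (BT.leaf c17_165))) (BT.node 24467 (BT.node 24466 (BT.leaf c17_166) (BT.leaf c17_167)) (BT.leaf c17_168)))))) (BT.node 24496 (BT.node 24482 (BT.node 24475 (BT.node 24472 (BT.node 24470 (BT.node 24469 (BT.leaf c17_169) (BT.leaf c17_170)) (BT.node 24471 (BT.leaf c17_171) (BT.leaf c17_172))) (BT.node 24474 (BT.node 24473 (BT.leaf c17_173) (BT.leaf c17_174)) (BT.leaf c17_175))) (BT.node 24479 (BT.node 24477 (BT.node 24476 (BT.leaf c17_176) (BT.leaf c17_177)) (BT.node 24478 (BT.leaf c17_178) (BT.leaf c17_179))) (BT.node 24481 (BT.node 24480 (BT.leaf c17_180) (BT.leaf c17_181)) (BT.leaf c17_182)))) (BT.node 24489 (BT.node 24486 (BT.node 24484 (BT.node 24483 (BT.leaf c17_183) (BT.leaf c17_184)) (BT.node 24485 (BT.leaf c17_185) (BT.leaf c17_186))) (BT.node 24488 (BT.node 24487 (BT.leaf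 c17_187) (BT.leaf c17_188)) (BT.leaf c17_189))) (BT.node 24493 (BT.node 24491 (BT.node 24490 (BT.leaf c17_190) (BT.leaf c17_191)) (BT.node 24492 (BT.leaf c17_192) (BT.leaf c17_193))) (BT.node 24495 (BT.node 24494 (BT.leaf c17_194) (BT.leaf c17_195)) (BT.leaf c17_196))))) (BT.node 24510 (BT.node 24503 (BT.node 24500 (BT.node 24498 (BT.node 24497 (BT.leaf c17_197) (BT.leaf c17_198)) (BT.node 24499 (BT.leaf c17_199) (BT.leaf c17_200))) (BT.node 24502 (BT.node 24501 (BT.leaf c17_201) (BT.leaf c17_202)) (BT.leaf c17_203))) (BT.node 24507 (BT.node 24505 (BT.node 24504 (BT.leaf c17_204) (BT.leaf c17_205)) (BT.node 24506 (BT.leaf c17_206) (BT.leaf c17_207))) (BT.node 24509 (BT.node 24508 (BT.leaf c17_208) (BT.leaf c17_209)) (BT.leaf c17_210)))) (BT.node 24517 (BT.node 24514 (BT.node 24512 (BT.node 24511 (BT.leaf c17_211) (BT.leaf c17_212)) (BT.node 24513 (BT.leaf c17_213) (BT.leaf c17_214))) (BT.node 24516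 (BT.node 24515 (BT.leaf c17_215) (BT.leaf c17_216)) (BT.leaf c17_217))) (BT.node 24521 (BT.node 24519 (BT.node 24518 (BT.leaf c17_218) (BT.leaf c17_219)) (BT.node 24520 (BT.leaf c17_220) (BT.leaf c17_221))) (BT.node 24523 (BT.node 24522 (BT.leaf c17_222) (BT.leaf c17_223)) (BT.leaf c17_224)))))))) (BT.node 24637 (BT.node 24581 (BT.node 24553 (BT.node 24539 (BT.node 24532 (BT.node 24528 (BT.node 24526 (BT.node 24525 (BT.leaf c17_225) (BT.leaf c17_226)) (BT.node 24527 (BT.leaf c17_227) (BT.leaf c17_228))) (BT.node 24530 (BT.node 24529 (BT.leaf c17_229) (BT.leaf c17_230)) (BT.node 24531 (BT.leaf c17_231) (BT.leaf c17_232)))) (BT.node 24536 (BT.node 24534 (BT.node 24533 (BT.leaf c17_233) (BT.leaf c17_234)) (BT.node 24535 (BT.leaf c17_235) (BT.leaf c17_236))) (BT.node 24538 (BT.node 24537 (BT.leaf c17_237) (BT.leaf c17_238)) (BT.leaf c17_239)))) (BT.node 24546 (BT.node 24543 (BT.node 24541 (BT.node 24540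 (BT.leaf c17_240) (BT.leaf c17_241)) (BT.node 24542 (BT.leaf c17_242) (BT.leaf c17_243))) (BT.node 24545 (BT.node 24544 (BT.leaf c17_244) (BT.leaf c17_245)) (BT.leaf c17_246))) (BT.node 24550 (BT.node 24548 (BT.node 24547 (BT.leaf c17_247) (BT.leaf c17_248)) (BT.node 24549 (BT.leaf c17_249) (BT.leaf c17_250))) (BT.node 24552 (BT.node 24551 (BT.leaf c17_251) (BT.leaf c17_252)) (BT.leaf c17_253))))) (BT.node 24567 (BT.node 24560 (BT.node 24557 (BT.node 24555 (BT.node 24554 (BT.leaf c17_254) (BT.leaf c17_255)) (BT.node 24556 (BT.leaf c17_256) (BT.leaf c17_257))) (BT.node 24559 (BT.node 24558 (BT.leaf c17_258) (BT.leaf c17_259)) (BT.leaf c17_260))) (BT.node 24564 (BT.node 24562 (BT.node 24561 (BT.leaf c17_261) (BT.leaf c17_262)) (BT.node 24563 (BT.leaf c17_263) (BT.leaf c17_264))) (BT.node 24566 (BT.node 24565 (BT.leaf c17_265) (BT.leaf c17_266)) (BT.leaf c17_267)))) (BT.node 24574 (BT.node 24571 (BT.node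 24569 (BT.node 24568 (BT.leaf c17_268) (BT.leaf c17_269)) (BT.node 24570 (BT.leaf c17_270) (BT.leaf c17_271))) (BT.node 24573 (BT.node 24572 (BT.leaf c17_272) (BT.leaf c17_273)) (BT.leaf c17_274))) (BT.node 24578 (BT.node 24576 (BT.node 24575 (BT.leaf c17_275) (BT.leaf c17_276)) (BT.node 24577 (BT.leaf c17_277) (BT.leaf c17_278))) (BT.node 24580 (BT.node 24579 (BT.leaf c17_279) (BT.leaf c17_280)) (BT.leaf c17_281)))))) (BT.node 24609 (BT.node 24595 (BT.node 24588 (BT.node 24585 (BT.node 24583 (BT.node 24582 (BT.leaf c17_282) (BT.leaf c17_283)) (BT.node 24584 (BT.leaf c17_284) (BT.leaf c17_285))) (BT.node 24587 (BT.node 24586 (BT.leaf c17_286) (BT.leaf c17_287)) (BT.leaf c17_288))) (BT.node 24592 (BT.node 24590 (BT.node 24589 (BT.leaf c17_289) (BT.leaf c17_290)) (BT.node 24591 (BT.leaf c17_291) (BT.leaf c17_292))) (BT.node 24594 (BT.node 24593 (BT.leaf c17_293) (BT.leaf c17_294)) (BT.leaf c17_295))))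 (BT.node 24602 (BT.node 24599 (BT.node 24597 (BT.node 24596 (BT.leaf c17_296) (BT.leaf c17_297)) (BT.node 24598 (BT.leaf c17_298) (BT.leaf c17_299))) (BT.node 24601 (BT.node 24600 (BT.leaf c17_300) (BT.leaf c17_301)) (BT.leaf c17_302))) (BT.node 24606 (BT.node 24604 (BT.node 24603 (BT.leaf c17_303) (BT.leaf c17_304)) (BT.node 24605 (BT.leaf c17_305) (BT.leaf c17_306))) (BT.node 24608 (BT.node 24607 (BT.leaf c17_307) (BT.leaf c17_308)) (BT.leaf c17_309))))) (BT.node 24623 (BT.node 24616 (BT.node 24613 (BT.node 24611 (BT.node 24610 (BT.leaf c17_310) (BT.leaf c17_311)) (BT.node 24612 (BT.leaf c17_312) (BT.leaf c17_313))) (BT.node 24615 (BT.node 24614 (BT.leaf c17_314) (BT.leaf c17_315)) (BT.leaf c17_316))) (BT.node 24620 (BT.node 24618 (BT.node 24617 (BT.leaf c17_317) (BT.leaf c17_318)) (BT.node 24619 (BT.leaf c17_319) (BT.leaf c17_320))) (BT.node 24622 (BT.node 24621 (BT.leaf c17_321) (BT.leaf c17_322))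 (BT.leaf c17_323)))) (BT.node 24630 (BT.node 24627 (BT.node 24625 (BT.node 24624 (BT.leaf c17_324) (BT.leaf c17_325)) (BT.node 24626 (BT.leaf c17_326) (BT.leaf c17_327))) (BT.node 24629 (BT.node 24628 (BT.leaf c17_328) (BT.leaf c17_329)) (BT.leaf c17_330))) (BT.node 24634 (BT.node 24632 (BT.node 24631 (BT.leaf c17_331) (BT.leaf c17_332)) (BT.node 24633 (BT.leaf c17_333) (BT.leaf c17_334))) (BT.node 24636 (BT.node 24635 (BT.leaf c17_335) (BT.leaf c17_336)) (BT.leaf c17_337))))))) (BT.node 24693 (BT.node 24665 (BT.node 24651 (BT.node 24644 (BT.node 24641 (BT.node 24639 (BT.node 24638 (BT.leaf c17_338) (BT.leaf c17_339)) (BT.node 24640 (BT.leaf c17_340) (BT.leaf c17_341))) (BT.node 24643 (BT.node 24642 (BT.leaf c17_342) (BT.leaf c17_343)) (BT.leaf c17_344))) (BT.node 24648 (BT.node 24646 (BT.node 24645 (BT.leaf c17_345) (BT.leaf c17_346)) (BT.node 24647 (BT.leaf c17_347) (BT.leaf c17_348))) (BT.node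 24650 (BT.node 24649 (BT.leaf c17_349) (BT.leaf c17_350)) (BT.leaf c17_351)))) (BT.node 24658 (BT.node 24655 (BT.node 24653 (BT.node 24652 (BT.leaf c17_352) (BT.leaf c17_353)) (BT.node 24654 (BT.leaf c17_354) (BT.leaf c17_355))) (BT.node 24657 (BT.node 24656 (BT.leaf c17_356) (BT.leaf c17_357)) (BT.leaf c17_358))) (BT.node 24662 (BT.node 24660 (BT.node 24659 (BT.leaf c17_359) (BT.leaf c17_360)) (BT.node 24661 (BT.leaf c17_361) (BT.leaf c17_362))) (BT.node 24664 (BT.node 24663 (BT.leaf c17_363) (BT.leaf c17_364)) (BT.leaf c17_365))))) (BT.node 24679 (BT.node 24672 (BT.node 24669 (BT.node 24667 (BT.node 24666 (BT.leaf c17_366) (BT.leaf c17_367)) (BT.node 24668 (BT.leaf c17_368) (BT.leaf c17_369))) (BT.node 24671 (BT.node 24670 (BT.leaf c17_370) (BT.leaf c17_371)) (BT.leaf c17_372))) (BT.node 24676 (BT.node 24674 (BT.node 24673 (BT.leaf c17_373) (BT.leaf c17_374)) (BT.node 24675 (BT.leaf c17_375) (BT.leaf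 c17_376))) (BT.node 24678 (BT.node 24677 (BT.leaf c17_377) (BT.leaf c17_378)) (BT.leaf c17_379)))) (BT.node 24686 (BT.node 24683 (BT.node 24681 (BT.node 24680 (BT.leaf c17_380) (BT.leaf c17_381)) (BT.node 24682 (BT.leaf c17_382) (BT.leaf c17_383))) (BT.node 24685 (BT.node 24684 (BT.leaf c17_384) (BT.leaf c17_385)) (BT.leaf c17_386))) (BT.node 24690 (BT.node 24688 (BT.node 24687 (BT.leaf c17_387) (BT.leaf c17_388)) (BT.node 24689 (BT.leaf c17_389) (BT.leaf c17_390))) (BT.node 24692 (BT.node 24691 (BT.leaf c17_391) (BT.leaf c17_392)) (BT.leaf c17_393)))))) (BT.node 24721 (BT.node 24707 (BT.node 24700 (BT.node 24697 (BT.node 24695 (BT.node 24694 (BT.leaf c17_394) (BT.leaf c17_395)) (BT.node 24696 (BT.leaf c17_396) (BT.leaf c17_397))) (BT.node 24699 (BT.node 24698 (BT.leaf c17_398) (BT.leaf c17_399)) (BT.leaf c17_400))) (BT.node 24704 (BT.node 24702 (BT.node 24701 (BT.leaf c17_401) (BT.leaf c17_402))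 (BT.node 24703 (BT.leaf c17_403) (BT.leaf c17_404))) (BT.node 24706 (BT.node 24705 (BT.leaf c17_405) (BT.leaf c17_406)) (BT.leaf c17_407)))) (BT.node 24714 (BT.node 24711 (BT.node 24709 (BT.node 24708 (BT.leaf c17_408) (BT.leaf c17_409)) (BT.node 24710 (BT.leaf c17_410) (BT.leaf c17_411))) (BT.node 24713 (BT.node 24712 (BT.leaf c17_412) (BT.leaf c17_413)) (BT.leaf c17_414))) (BT.node 24718 (BT.node 24716 (BT.node 24715 (BT.leaf c17_415) (BT.leaf c17_416)) (BT.node 24717 (BT.leaf c17_417) (BT.leaf c17_418))) (BT.node 24720 (BT.node 24719 (BT.leaf c17_419) (BT.leaf c17_420)) (BT.leaf c17_421))))) (BT.node 24735 (BT.node 24728 (BT.node 24725 (BT.node 24723 (BT.node 24722 (BT.leaf c17_422) (BT.leaf c17_423)) (BT.node 24724 (BT.leaf c17_424) (BT.leaf c17_425))) (BT.node 24727 (BT.node 24726 (BT.leaf c17_426) (BT.leaf c17_427)) (BT.leaf c17_428))) (BT.node 24732 (BT.node 24730 (BT.node 24729 (BT.leaf c17_429)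 (BT.leaf c17_430)) (BT.node 24731 (BT.leaf c17_431) (BT.leaf c17_432))) (BT.node 24734 (BT.node 24733 (BT.leaf c17_433) (BT.leaf c17_434)) (BT.leaf c17_435)))) (BT.node 24742 (BT.node 24739 (BT.node 24737 (BT.node 24736 (BT.leaf c17_436) (BT.leaf c17_437)) (BT.node 24738 (BT.leaf c17_438) (BT.leaf c17_439))) (BT.node 24741 (BT.node 24740 (BT.leaf c17_440) (BT.leaf c17_441)) (BT.leaf c17_442))) (BT.node 24746 (BT.node 24744 (BT.node 24743 (BT.leaf c17_443) (BT.leaf c17_444)) (BT.node 24745 (BT.leaf c17_445) (BT.leaf c17_446))) (BT.node 24748 (BT.node 24747 (BT.leaf c17_447) (BT.leaf c17_448)) (BT.leaf c17_449))))))))) (BT.node 24974 (BT.node 24862 (BT.node 24806 (BT.node 24778 (BT.node 24764 (BT.node 24757 (BT.node 24753 (BT.node 24751 (BT.node 24750 (BT.leaf c17_450) (BT.leaf c17_451)) (BT.node 24752 (BT.leaf c17_452) (BT.leaf c17_453))) (BT.node 24755 (BT.node 24754 (BT.leaf c17_454) (BT.leaf c17_455))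 (BT.node 24756 (BT.leaf c17_456) (BT.leaf c17_457)))) (BT.node 24761 (BT.node 24759 (BT.node 24758 (BT.leaf c17_458) (BT.leaf c17_459)) (BT.node 24760 (BT.leaf c17_460) (BT.leaf c17_461))) (BT.node 24763 (BT.node 24762 (BT.leaf c17_462) (BT.leaf c17_463)) (BT.leaf c17_464)))) (BT.node 24771 (BT.node 24768 (BT.node 24766 (BT.node 24765 (BT.leaf c17_465) (BT.leaf c17_466)) (BT.node 24767 (BT.leaf c17_467) (BT.leaf c17_468))) (BT.node 24770 (BT.node 24769 (BT.leaf c17_469) (BT.leaf c17_470)) (BT.leaf c17_471))) (BT.node 24775 (BT.node 24773 (BT.node 24772 (BT.leaf c17_472) (BT.leaf c17_473)) (BT.node 24774 (BT.leaf c17_474) (BT.leaf c17_475))) (BT.node 24777 (BT.node 24776 (BT.leaf c17_476) (BT.leaf c17_477)) (BT.leaf c17_478))))) (BT.node 24792 (BT.node 24785 (BT.node 24782 (BT.node 24780 (BT.node 24779 (BT.leaf c17_479) (BT.leaf c17_480)) (BT.node 24781 (BT.leaf c17_481) (BT.leaf c17_482))) (BT.node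 24784 (BT.node 24783 (BT.leaf c17_483) (BT.leaf c17_484)) (BT.leaf c17_485))) (BT.node 24789 (BT.node 24787 (BT.node 24786 (BT.leaf c17_486) (BT.leaf c17_487)) (BT.node 24788 (BT.leaf c17_488) (BT.leaf c17_489))) (BT.node 24791 (BT.node 24790 (BT.leaf c17_490) (BT.leaf c17_491)) (BT.leaf c17_492)))) (BT.node 24799 (BT.node 24796 (BT.node 24794 (BT.node 24793 (BT.leaf c17_493) (BT.leaf c17_494)) (BT.node 24795 (BT.leaf c17_495) (BT.leaf c17_496))) (BT.node 24798 (BT.node 24797 (BT.leaf c17_497) (BT.leaf c17_498)) (BT.leaf c17_499))) (BT.node 24803 (BT.node 24801 (BT.node 24800 (BT.leaf c17_500) (BT.leaf c17_501)) (BT.node 24802 (BT.leaf c17_502) (BT.leaf c17_503))) (BT.node 24805 (BT.node 24804 (BT.leaf c17_504) (BT.leaf c17_505)) (BT.leaf c17_506)))))) (BT.node 24834 (BT.node 24820 (BT.node 24813 (BT.node 24810 (BT.node 24808 (BT.node 24807 (BT.leaf c17_507) (BT.leaf c17_508)) (BT.node 24809 (BT.leaf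 c17_509) (BT.leaf c17_510))) (BT.node 24812 (BT.node 24811 (BT.leaf c17_511) (BT.leaf c17_512)) (BT.leaf c17_513))) (BT.node 24817 (BT.node 24815 (BT.node 24814 (BT.leaf c17_514) (BT.leaf c17_515)) (BT.node 24816 (BT.leaf c17_516) (BT.leaf c17_517))) (BT.node 24819 (BT.node 24818 (BT.leaf c17_518) (BT.leaf c17_519)) (BT.leaf c17_520)))) (BT.node 24827 (BT.node 24824 (BT.node 24822 (BT.node 24821 (BT.leaf c17_521) (BT.leaf c17_522)) (BT.node 24823 (BT.leaf c17_523) (BT.leaf c17_524))) (BT.node 24826 (BT.node 24825 (BT.leaf c17_525) (BT.leaf c17_526)) (BT.leaf c17_527))) (BT.node 24831 (BT.node 24829 (BT.node 24828 (BT.leaf c17_528) (BT.leaf c17_529)) (BT.node 24830 (BT.leaf c17_530) (BT.leaf c17_531))) (BT.node 24833 (BT.node 24832 (BT.leaf c17_532) (BT.leaf c17_533)) (BT.leaf c17_534))))) (BT.node 24848 (BT.node 24841 (BT.node 24838 (BT.node 24836 (BT.node 24835 (BT.leaf c17_535) (BT.leaf c17_536))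 (BT.node 24837 (BT.leaf c17_537) (BT.leaf c17_538))) (BT.node 24840 (BT.node 24839 (BT.leaf c17_539) (BT.leaf c17_540)) (BT.leaf c17_541))) (BT.node 24845 (BT.node 24843 (BT.node 24842 (BT.leaf c17_542) (BT.leaf c17_543)) (BT.node 24844 (BT.leaf c17_544) (BT.leaf c17_545))) (BT.node 24847 (BT.node 24846 (BT.leaf c17_546) (BT.leaf c17_547)) (BT.leaf c17_548)))) (BT.node 24855 (BT.node 24852 (BT.node 24850 (BT.node 24849 (BT.leaf c17_549) (BT.leaf c17_550)) (BT.node 24851 (BT.leaf c17_551) (BT.leaf c17_552))) (BT.node 24854 (BT.node 24853 (BT.leaf c17_553) (BT.leaf c17_554)) (BT.leaf c17_555))) (BT.node 24859 (BT.node 24857 (BT.node 24856 (BT.leaf c17_556) (BT.leaf c17_557)) (BT.node 24858 (BT.leaf c17_558) (BT.leaf c17_559))) (BT.node 24861 (BT.node 24860 (BT.leaf c17_560) (BT.leaf c17_561)) (BT.leaf c17_562))))))) (BT.node 24918 (BT.node 24890 (BT.node 24876 (BT.node 24869 (BT.node 24866 (BT.node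 24864 (BT.node 24863 (BT.leaf c17_563) (BT.leaf c17_564)) (BT.node 24865 (BT.leaf c17_565) (BT.leaf c17_566))) (BT.node 24868 (BT.node 24867 (BT.leaf c17_567) (BT.leaf c17_568)) (BT.leaf c17_569))) (BT.node 24873 (BT.node 24871 (BT.node 24870 (BT.leaf c17_570) (BT.leaf c17_571)) (BT.node 24872 (BT.leaf c17_572) (BT.leaf c17_573))) (BT.node 24875 (BT.node 24874 (BT.leaf c17_574) (BT.leaf c17_575)) (BT.leaf c17_576)))) (BT.node 24883 (BT.node 24880 (BT.node 24878 (BT.node 24877 (BT.leaf c17_577) (BT.leaf c17_578)) (BT.node 24879 (BT.leaf c17_579) (BT.leaf c17_580))) (BT.node 24882 (BT.node 24881 (BT.leaf c17_581) (BT.leaf c17_582)) (BT.leaf c17_583))) (BT.node 24887 (BT.node 24885 (BT.node 24884 (BT.leaf c17_584) (BT.leaf c17_585)) (BT.node 24886 (BT.leaf c17_586) (BT.leaf c17_587))) (BT.node 24889 (BT.node 24888 (BT.leaf c17_588) (BT.leaf c17_589)) (BT.leaf c17_590))))) (BT.node 24904 (BT.node 24897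 (BT.node 24894 (BT.node 24892 (BT.node 24891 (BT.leaf c17_591) (BT.leaf c17_592)) (BT.node 24893 (BT.leaf c17_593) (BT.leaf c17_594))) (BT.node 24896 (BT.node 24895 (BT.leaf c17_595) (BT.leaf c17_596)) (BT.leaf c17_597))) (BT.node 24901 (BT.node 24899 (BT.node 24898 (BT.leaf c17_598) (BT.leaf c17_599)) (BT.node 24900 (BT.leaf c17_600) (BT.leaf c17_601))) (BT.node 24903 (BT.node 24902 (BT.leaf c17_602) (BT.leaf c17_603)) (BT.leaf c17_604)))) (BT.node 24911 (BT.node 24908 (BT.node 24906 (BT.node 24905 (BT.leaf c17_605) (BT.leaf c17_606)) (BT.node 24907 (BT.leaf c17_607) (BT.leaf c17_608))) (BT.node 24910 (BT.node 24909 (BT.leaf c17_609) (BT.leaf c17_610)) (BT.leaf c17_611))) (BT.node 24915 (BT.node 24913 (BT.node 24912 (BT.leaf c17_612) (BT.leaf c17_613)) (BT.node 24914 (BT.leaf c17_614) (BT.leaf c17_615))) (BT.node 24917 (BT.node 24916 (BT.leaf c17_616) (BT.leaf c17_617)) (BT.leaf c17_618)))))) (BT.node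 24946 (BT.node 24932 (BT.node 24925 (BT.node 24922 (BT.node 24920 (BT.node 24919 (BT.leaf c17_619) (BT.leaf c17_620)) (BT.node 24921 (BT.leaf c17_621) (BT.leaf c17_622))) (BT.node 24924 (BT.node 24923 (BT.leaf c17_623) (BT.leaf c17_624)) (BT.leaf c17_625))) (BT.node 24929 (BT.node 24927 (BT.node 24926 (BT.leaf c17_626) (BT.leaf c17_627)) (BT.node 24928 (BT.leaf c17_628) (BT.leaf c17_629))) (BT.node 24931 (BT.node 24930 (BT.leaf c17_630) (BT.leaf c17_631)) (BT.leaf c17_632)))) (BT.node 24939 (BT.node 24936 (BT.node 24934 (BT.node 24933 (BT.leaf c17_633) (BT.leaf c17_634)) (BT.node 24935 (BT.leaf c17_635) (BT.leaf c17_636))) (BT.node 24938 (BT.node 24937 (BT.leaf c17_637) (BT.leaf c17_638)) (BT.leaf c17_639))) (BT.node 24943 (BT.node 24941 (BT.node 24940 (BT.leaf c17_640) (BT.leaf c17_641)) (BT.node 24942 (BT.leaf c17_642) (BT.leaf c17_643))) (BT.node 24945 (BT.node 24944 (BT.leaf c17_644) (BT.leaf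 c17_645)) (BT.leaf c17_646))))) (BT.node 24960 (BT.node 24953 (BT.node 24950 (BT.node 24948 (BT.node 24947 (BT.leaf c17_647) (BT.leaf c17_648)) (BT.node 24949 (BT.leaf c17_649) (BT.leaf c17_650))) (BT.node 24952 (BT.node 24951 (BT.leaf c17_651) (BT.leaf c17_652)) (BT.leaf c17_653))) (BT.node 24957 (BT.node 24955 (BT.node 24954 (BT.leaf c17_654) (BT.leaf c17_655)) (BT.node 24956 (BT.leaf c17_656) (BT.leaf c17_657))) (BT.node 24959 (BT.node 24958 (BT.leaf c17_658) (BT.leaf c17_659)) (BT.leaf c17_660)))) (BT.node 24967 (BT.node 24964 (BT.node 24962 (BT.node 24961 (BT.leaf c17_661) (BT.leaf c17_662)) (BT.node 24963 (BT.leaf c17_663) (BT.leaf c17_664))) (BT.node 24966 (BT.node 24965 (BT.leaf c17_665) (BT.leaf c17_666)) (BT.leaf c17_667))) (BT.node 24971 (BT.node 24969 (BT.node 24968 (BT.leaf c17_668) (BT.leaf c17_669)) (BT.node 24970 (BT.leaf c17_670) (BT.leaf c17_671))) (BT.node 24973 (BT.node 24972 (BT.leaf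 c17_672) (BT.leaf c17_673)) (BT.leaf c17_674)))))))) (BT.node 25087 (BT.node 25031 (BT.node 25003 (BT.node 24989 (BT.node 24982 (BT.node 24978 (BT.node 24976 (BT.node 24975 (BT.leaf c17_675) (BT.leaf c17_676)) (BT.node 24977 (BT.leaf c17_677) (BT.leaf c17_678))) (BT.node 24980 (BT.node 24979 (BT.leaf c17_679) (BT.leaf c17_680)) (BT.node 24981 (BT.leaf c17_681) (BT.leaf c17_682)))) (BT.node 24986 (BT.node 24984 (BT.node 24983 (BT.leaf c17_683) (BT.leaf c17_684)) (BT.node 24985 (BT.leaf c17_685) (BT.leaf c17_686))) (BT.node 24988 (BT.node 24987 (BT.leaf c17_687) (BT.leaf c17_688)) (BT.leaf c17_689)))) (BT.node 24996 (BT.node 24993 (BT.node 24991 (BT.node 24990 (BT.leaf c17_690) (BT.leaf c17_691)) (BT.node 24992 (BT.leaf c17_692) (BT.leaf c17_693))) (BT.node 24995 (BT.node 24994 (BT.leaf c17_694) (BT.leaf c17_695)) (BT.leaf c17_696))) (BT.node 25000 (BT.node 24998 (BT.node 24997 (BT.leaf c17_697) (BT.leaf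 c17_698)) (BT.node 24999 (BT.leaf c17_699) (BT.leaf c17_700))) (BT.node 25002 (BT.node 25001 (BT.leaf c17_701) (BT.leaf c17_702)) (BT.leaf c17_703))))) (BT.node 25017 (BT.node 25010 (BT.node 25007 (BT.node 25005 (BT.node 25004 (BT.leaf c17_704) (BT.leaf c17_705)) (BT.node 25006 (BT.leaf c17_706) (BT.leaf c17_707))) (BT.node 25009 (BT.node 25008 (BT.leaf c17_708) (BT.leaf c17_709)) (BT.leaf c17_710))) (BT.node 25014 (BT.node 25012 (BT.node 25011 (BT.leaf c17_711) (BT.leaf c17_712)) (BT.node 25013 (BT.leaf c17_713) (BT.leaf c17_714))) (BT.node 25016 (BT.node 25015 (BT.leaf c17_715) (BT.leaf c17_716)) (BT.leaf c17_717)))) (BT.node 25024 (BT.node 25021 (BT.node 25019 (BT.node 25018 (BT.leaf c17_718) (BT.leaf c17_719)) (BT.node 25020 (BT.leaf c17_720) (BT.leaf c17_721))) (BT.node 25023 (BT.node 25022 (BT.leaf c17_722) (BT.leaf c17_723)) (BT.leaf c17_724))) (BT.node 25028 (BT.node 25026 (BT.node 25025 (BT.leaf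 c17_725) (BT.leaf c17_726)) (BT.node 25027 (BT.leaf c17_727) (BT.leaf c17_728))) (BT.node 25030 (BT.node 25029 (BT.leaf c17_729) (BT.leaf c17_730)) (BT.leaf c17_731)))))) (BT.node 25059 (BT.node 25045 (BT.node 25038 (BT.node 25035 (BT.node 25033 (BT.node 25032 (BT.leaf c17_732) (BT.leaf c17_733)) (BT.node 25034 (BT.leaf c17_734) (BT.leaf c17_735))) (BT.node 25037 (BT.node 25036 (BT.leaf c17_736) (BT.leaf c17_737)) (BT.leaf c17_738))) (BT.node 25042 (BT.node 25040 (BT.node 25039 (BT.leaf c17_739) (BT.leaf c17_740)) (BT.node 25041 (BT.leaf c17_741) (BT.leaf c17_742))) (BT.node 25044 (BT.node 25043 (BT.leaf c17_743) (BT.leaf c17_744)) (BT.leaf c17_745)))) (BT.node 25052 (BT.node 25049 (BT.node 25047 (BT.node 25046 (BT.leaf c17_746) (BT.leaf c17_747)) (BT.node 25048 (BT.leaf c17_748) (BT.leaf c17_749))) (BT.node 25051 (BT.node 25050 (BT.leaf c17_750) (BT.leaf c17_751)) (BT.leaf c17_752))) (BT.node 25056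 (BT.node 25054 (BT.node 25053 (BT.leaf c17_753) (BT.leaf c17_754)) (BT.node 25055 (BT.leaf c17_755) (BT.leaf c17_756))) (BT.node 25058 (BT.node 25057 (BT.leaf c17_757) (BT.leaf c17_758)) (BT.leaf c17_759))))) (BT.node 25073 (BT.node 25066 (BT.node 25063 (BT.node 25061 (BT.node 25060 (BT.leaf c17_760) (BT.leaf c17_761)) (BT.node 25062 (BT.leaf c17_762) (BT.leaf c17_763))) (BT.node 25065 (BT.node 25064 (BT.leaf c17_764) (BT.leaf c17_765)) (BT.leaf c17_766))) (BT.node 25070 (BT.node 25068 (BT.node 25067 (BT.leaf c17_767) (BT.leaf c17_768)) (BT.node 25069 (BT.leaf c17_769) (BT.leaf c17_770))) (BT.node 25072 (BT.node 25071 (BT.leaf c17_771) (BT.leaf c17_772)) (BT.leaf c17_773)))) (BT.node 25080 (BT.node 25077 (BT.node 25075 (BT.node 25074 (BT.leaf c17_774) (BT.leaf c17_775)) (BT.node 25076 (BT.leaf c17_776) (BT.leaf c17_777))) (BT.node 25079 (BT.node 25078 (BT.leaf c17_778) (BT.leaf c17_779)) (BT.leaf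 c17_780))) (BT.node 25084 (BT.node 25082 (BT.node 25081 (BT.leaf c17_781) (BT.leaf c17_782)) (BT.node 25083 (BT.leaf c17_783) (BT.leaf c17_784))) (BT.node 25086 (BT.node 25085 (BT.leaf c17_785) (BT.leaf c17_786)) (BT.leaf c17_787))))))) (BT.node 25143 (BT.node 25115 (BT.node 25101 (BT.node 25094 (BT.node 25091 (BT.node 25089 (BT.node 25088 (BT.leaf c17_788) (BT.leaf c17_789)) (BT.node 25090 (BT.leaf c17_790) (BT.leaf c17_791))) (BT.node 25093 (BT.node 25092 (BT.leaf c17_792) (BT.leaf c17_793)) (BT.leaf c17_794))) (BT.node 25098 (BT.node 25096 (BT.node 25095 (BT.leaf c17_795) (BT.leaf c17_796)) (BT.node 25097 (BT.leaf c17_797) (BT.leaf c17_798))) (BT.node 25100 (BT.node 25099 (BT.leaf c17_799) (BT.leaf c17_800)) (BT.leaf c17_801)))) (BT.node 25108 (BT.node 25105 (BT.node 25103 (BT.node 25102 (BT.leaf c17_802) (BT.leaf c17_803)) (BT.node 25104 (BT.leaf c17_804) (BT.leaf c17_805))) (BT.node 25107 (BT.node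 25106 (BT.leaf c17_806) (BT.leaf c17_807)) (BT.leaf c17_808))) (BT.node 25112 (BT.node 25110 (BT.node 25109 (BT.leaf c17_809) (BT.leaf c17_810)) (BT.node 25111 (BT.leaf c17_811) (BT.leaf c17_812))) (BT.node 25114 (BT.node 25113 (BT.leaf c17_813) (BT.leaf c17_814)) (BT.leaf c17_815))))) (BT.node 25129 (BT.node 25122 (BT.node 25119 (BT.node 25117 (BT.node 25116 (BT.leaf c17_816) (BT.leaf c17_817)) (BT.node 25118 (BT.leaf c17_818) (BT.leaf c17_819))) (BT.node 25121 (BT.node 25120 (BT.leaf c17_820) (BT.leaf c17_821)) (BT.leaf c17_822))) (BT.node 25126 (BT.node 25124 (BT.node 25123 (BT.leaf c17_823) (BT.leaf c17_824)) (BT.node 25125 (BT.leaf c17_825) (BT.leaf c17_826))) (BT.node 25128 (BT.node 25127 (BT.leaf c17_827) (BT.leaf c17_828)) (BT.leaf c17_829)))) (BT.node 25136 (BT.node 25133 (BT.node 25131 (BT.node 25130 (BT.leaf c17_830) (BT.leaf c17_831)) (BT.node 25132 (BT.leaf c17_832) (BT.leaf c17_833)))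 (BT.node 25135 (BT.node 25134 (BT.leaf c17_834) (BT.leaf c17_835)) (BT.leaf c17_836))) (BT.node 25140 (BT.node 25138 (BT.node 25137 (BT.leaf c17_837) (BT.leaf c17_838)) (BT.node 25139 (BT.leaf c17_839) (BT.leaf c17_840))) (BT.node 25142 (BT.node 25141 (BT.leaf c17_841) (BT.leaf c17_842)) (BT.leaf c17_843)))))) (BT.node 25171 (BT.node 25157 (BT.node 25150 (BT.node 25147 (BT.node 25145 (BT.node 25144 (BT.leaf c17_844) (BT.leaf c17_845)) (BT.node 25146 (BT.leaf c17_846) (BT.leaf c17_847))) (BT.node 25149 (BT.node 25148 (BT.leaf c17_848) (BT.leaf c17_849)) (BT.leaf c17_850))) (BT.node 25154 (BT.node 25152 (BT.node 25151 (BT.leaf c17_851) (BT.leaf c17_852)) (BT.node 25153 (BT.leaf c17_853) (BT.leaf c17_854))) (BT.node 25156 (BT.node 25155 (BT.leaf c17_855) (BT.leaf c17_856)) (BT.leaf c17_857)))) (BT.node 25164 (BT.node 25161 (BT.node 25159 (BT.node 25158 (BT.leaf c17_858) (BT.leaf c17_859)) (BT.node 25160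 (BT.leaf c17_860) (BT.leaf c17_861))) (BT.node 25163 (BT.node 25162 (BT.leaf c17_862) (BT.leaf c17_863)) (BT.leaf c17_864))) (BT.node 25168 (BT.node 25166 (BT.node 25165 (BT.leaf c17_865) (BT.leaf c17_866)) (BT.node 25167 (BT.leaf c17_867) (BT.leaf c17_868))) (BT.node 25170 (BT.node 25169 (BT.leaf c17_869) (BT.leaf c17_870)) (BT.leaf c17_871))))) (BT.node 25185 (BT.node 25178 (BT.node 25175 (BT.node 25173 (BT.node 25172 (BT.leaf c17_872) (BT.leaf c17_873)) (BT.node 25174 (BT.leaf c17_874) (BT.leaf c17_875))) (BT.node 25177 (BT.node 25176 (BT.leaf c17_876) (BT.leaf c17_877)) (BT.leaf c17_878))) (BT.node 25182 (BT.node 25180 (BT.node 25179 (BT.leaf c17_879) (BT.leaf c17_880)) (BT.node 25181 (BT.leaf c17_881) (BT.leaf c17_882))) (BT.node 25184 (BT.node 25183 (BT.leaf c17_883) (BT.leaf c17_884)) (BT.leaf c17_885)))) (BT.node 25192 (BT.node 25189 (BT.node 25187 (BT.node 25186 (BT.leaf c17_886) (BT.leaf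 c17_887)) (BT.node 25188 (BT.leaf c17_888) (BT.leaf c17_889))) (BT.node 25191 (BT.node 25190 (BT.leaf c17_890) (BT.leaf c17_891)) (BT.leaf c17_892))) (BT.node 25196 (BT.node 25194 (BT.node 25193 (BT.leaf c17_893) (BT.leaf c17_894)) (BT.node 25195 (BT.leaf c17_895) (BT.leaf c17_896))) (BT.node 25198 (BT.node 25197 (BT.leaf c17_897) (BT.leaf c17_898)) (BT.leaf c17_899))))))))))
/-- the columns -/
def col3 : BT ℕ := (BT.node 12599 (BT.node 6299 (BT.node 3599 (BT.node 1799 (BT.node 899 colL_0 colL_1) (BT.node 2699 colL_2 colL_3)) (BT.node 5399 (BT.node 4499 colL_4 colL_5) colL_6)) (BT.node 9899 (BT.node 8099 (BT.node 7199 colL_7 colL_8) (BT.node 8999 colL_9 colL_10)) (BT.node 11699 (BT.node 10799 colL_11 colL_12) colL_13))) (BT.node 18899 (BT.node 16199 (BT.node 14399 (BT.node 13499 colL_14 colL_15) (BT.node 15299 colL_16 colL_17)) (BT.node 17999 (BT.node 17099 colL_18 colL_19) colL_20)) (BT.node 22499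 (BT.node 20699 (BT.node 19799 colL_21 colL_22) (BT.node 21599 colL_23 colL_24)) (BT.node 24299 (BT.node 23399 colL_25 colL_26) colL_27))))
/-- the tree -/
def tree3 : BT ℕ := (BT.node 449 (BT.node 224 (BT.node 112 (BT.node 56 (BT.node 28 (BT.node 14 (BT.node 7 (BT.node 3 (BT.node 1 (BT.node 0 (BT.leaf t_0) (BT.leaf t_1)) (BT.node 2 (BT.leaf t_2) (BT.leaf t_3))) (BT.node 5 (BT.node 4 (BT.leaf t_4) (BT.leaf t_5)) (BT.node 6 (BT.leaf t_6) (BT.leaf t_7)))) (BT.node 11 (BT.node 9 (BT.node 8 (BT.leaf t_8) (BT.leaf t_9)) (BT.node 10 (BT.leaf t_10) (BT.leaf t_11))) (BT.node 13 (BT.node 12 (BT.leaf t_12) (BT.leaf t_13)) (BT.leaf t_14)))) (BT.node 21 (BT.node 18 (BT.node 16 (BT.node 15 (BT.leaf t_15) (BT.leaf t_16)) (BT.node 17 (BT.leaf t_17) (BT.leaf t_18))) (BT.node 20 (BT.node 19 (BT.leaf t_19) (BT.leaf t_20)) (BT.leaf t_21))) (BT.node 25 (BT.node 23 (BT.node 22 (BT.leaf t_22) (BT.leaf t_23)) (BT.node 24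 (BT.leaf t_24) (BT.leaf t_25))) (BT.node 27 (BT.node 26 (BT.leaf t_26) (BT.leaf t_27)) (BT.leaf t_28))))) (BT.node 42 (BT.node 35 (BT.node 32 (BT.node 30 (BT.node 29 (BT.leaf t_29) (BT.leaf t_30)) (BT.node 31 (BT.leaf t_31) (BT.leaf t_32))) (BT.node 34 (BT.node 33 (BT.leaf t_33) (BT.leaf t_34)) (BT.leaf t_35))) (BT.node 39 (BT.node 37 (BT.node 36 (BT.leaf t_36) (BT.leaf t_37)) (BT.node 38 (BT.leaf t_38) (BT.leaf t_39))) (BT.node 41 (BT.node 40 (BT.leaf t_40) (BT.leaf t_41)) (BT.leaf t_42)))) (BT.node 49 (BT.node 46 (BT.node 44 (BT.node 43 (BT.leaf t_43) (BT.leaf t_44)) (BT.node 45 (BT.leaf t_45) (BT.leaf t_46))) (BT.node 48 (BT.node 47 (BT.leaf t_47) (BT.leaf t_48)) (BT.leaf t_49))) (BT.node 53 (BT.node 51 (BT.node 50 (BT.leaf t_50) (BT.leaf t_51)) (BT.node 52 (BT.leaf t_52) (BT.leaf t_53))) (BT.node 55 (BT.node 54 (BT.leaf t_54) (BT.leaf t_55)) (BT.leaf t_56)))))) (BT.node 84 (BT.node 70 (BT.node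 63 (BT.node 60 (BT.node 58 (BT.node 57 (BT.leaf t_57) (BT.leaf t_58)) (BT.node 59 (BT.leaf t_59) (BT.leaf t_60))) (BT.node 62 (BT.node 61 (BT.leaf t_61) (BT.leaf t_62)) (BT.leaf t_63))) (BT.node 67 (BT.node 65 (BT.node 64 (BT.leaf t_64) (BT.leaf t_65)) (BT.node 66 (BT.leaf t_66) (BT.leaf t_67))) (BT.node 69 (BT.node 68 (BT.leaf t_68) (BT.leaf t_69)) (BT.leaf t_70)))) (BT.node 77 (BT.node 74 (BT.node 72 (BT.node 71 (BT.leaf t_71) (BT.leaf t_72)) (BT.node 73 (BT.leaf t_73) (BT.leaf t_74))) (BT.node 76 (BT.node 75 (BT.leaf t_75) (BT.leaf t_76)) (BT.leaf t_77))) (BT.node 81 (BT.node 79 (BT.node 78 (BT.leaf t_78) (BT.leaf t_79)) (BT.node 80 (BT.leaf t_80) (BT.leaf t_81))) (BT.node 83 (BT.node 82 (BT.leaf t_82) (BT.leaf t_83)) (BT.leaf t_84))))) (BT.node 98 (BT.node 91 (BT.node 88 (BT.node 86 (BT.node 85 (BT.leaf t_85) (BT.leaf t_86)) (BT.node 87 (BT.leaf t_87) (BT.leaf t_88))) (BT.node 90 (BT.node 89 (BT.leaf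 t_89) (BT.leaf t_90)) (BT.leaf t_91))) (BT.node 95 (BT.node 93 (BT.node 92 (BT.leaf t_92) (BT.leaf t_93)) (BT.node 94 (BT.leaf t_94) (BT.leaf t_95))) (BT.node 97 (BT.node 96 (BT.leaf t_96) (BT.leaf t_97)) (BT.leaf t_98)))) (BT.node 105 (BT.node 102 (BT.node 100 (BT.node 99 (BT.leaf t_99) (BT.leaf t_100)) (BT.node 101 (BT.leaf t_101) (BT.leaf t_102))) (BT.node 104 (BT.node 103 (BT.leaf t_103) (BT.leaf t_104)) (BT.leaf t_105))) (BT.node 109 (BT.node 107 (BT.node 106 (BT.leaf t_106) (BT.leaf t_107)) (BT.node 108 (BT.leaf t_108) (BT.leaf t_109))) (BT.node 111 (BT.node 110 (BT.leaf t_110) (BT.leaf t_111)) (BT.leaf t_112))))))) (BT.node 168 (BT.node 140 (BT.node 126 (BT.node 119 (BT.node 116 (BT.node 114 (BT.node 113 (BT.leaf t_113) (BT.leaf t_114)) (BT.node 115 (BT.leaf t_115) (BT.leaf t_116))) (BT.node 118 (BT.node 117 (BT.leaf t_117) (BT.leaf t_118)) (BT.leaf t_119))) (BT.node 123 (BT.node 121 (BT.node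 120 (BT.leaf t_120) (BT.leaf t_121)) (BT.node 122 (BT.leaf t_122) (BT.leaf t_123))) (BT.node 125 (BT.node 124 (BT.leaf t_124) (BT.leaf t_125)) (BT.leaf t_126)))) (BT.node 133 (BT.node 130 (BT.node 128 (BT.node 127 (BT.leaf t_127) (BT.leaf t_128)) (BT.node 129 (BT.leaf t_129) (BT.leaf t_130))) (BT.node 132 (BT.node 131 (BT.leaf t_131) (BT.leaf t_132)) (BT.leaf t_133))) (BT.node 137 (BT.node 135 (BT.node 134 (BT.leaf t_134) (BT.leaf t_135)) (BT.node 136 (BT.leaf t_136) (BT.leaf t_137))) (BT.node 139 (BT.node 138 (BT.leaf t_138) (BT.leaf t_139)) (BT.leaf t_140))))) (BT.node 154 (BT.node 147 (BT.node 144 (BT.node 142 (BT.node 141 (BT.leaf t_141) (BT.leaf t_142)) (BT.node 143 (BT.leaf t_143) (BT.leaf t_144))) (BT.node 146 (BT.node 145 (BT.leaf t_145) (BT.leaf t_146)) (BT.leaf t_147))) (BT.node 151 (BT.node 149 (BT.node 148 (BT.leaf t_148) (BT.leaf t_149)) (BT.node 150 (BT.leaf t_150) (BT.leaf t_151)))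 (BT.node 153 (BT.node 152 (BT.leaf t_152) (BT.leaf t_153)) (BT.leaf t_154)))) (BT.node 161 (BT.node 158 (BT.node 156 (BT.node 155 (BT.leaf t_155) (BT.leaf t_156)) (BT.node 157 (BT.leaf t_157) (BT.leaf t_158))) (BT.node 160 (BT.node 159 (BT.leaf t_159) (BT.leaf t_160)) (BT.leaf t_161))) (BT.node 165 (BT.node 163 (BT.node 162 (BT.leaf t_162) (BT.leaf t_163)) (BT.node 164 (BT.leaf t_164) (BT.leaf t_165))) (BT.node 167 (BT.node 166 (BT.leaf t_166) (BT.leaf t_167)) (BT.leaf t_168)))))) (BT.node 196 (BT.node 182 (BT.node 175 (BT.node 172 (BT.node 170 (BT.node 169 (BT.leaf t_169) (BT.leaf t_170)) (BT.node 171 (BT.leaf t_171) (BT.leaf t_172))) (BT.node 174 (BT.node 173 (BT.leaf t_173) (BT.leaf t_174)) (BT.leaf t_175))) (BT.node 179 (BT.node 177 (BT.node 176 (BT.leaf t_176) (BT.leaf t_177)) (BT.node 178 (BT.leaf t_178) (BT.leaf t_179))) (BT.node 181 (BT.node 180 (BT.leaf t_180) (BT.leaf t_181)) (BT.leaf t_182))))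 (BT.node 189 (BT.node 186 (BT.node 184 (BT.node 183 (BT.leaf t_183) (BT.leaf t_184)) (BT.node 185 (BT.leaf t_185) (BT.leaf t_186))) (BT.node 188 (BT.node 187 (BT.leaf t_187) (BT.leaf t_188)) (BT.leaf t_189))) (BT.node 193 (BT.node 191 (BT.node 190 (BT.leaf t_190) (BT.leaf t_191)) (BT.node 192 (BT.leaf t_192) (BT.leaf t_193))) (BT.node 195 (BT.node 194 (BT.leaf t_194) (BT.leaf t_195)) (BT.leaf t_196))))) (BT.node 210 (BT.node 203 (BT.node 200 (BT.node 198 (BT.node 197 (BT.leaf t_197) (BT.leaf t_198)) (BT.node 199 (BT.leaf t_199) (BT.leaf t_200))) (BT.node 202 (BT.node 201 (BT.leaf t_201) (BT.leaf t_202)) (BT.leaf t_203))) (BT.node 207 (BT.node 205 (BT.node 204 (BT.leaf t_204) (BT.leaf t_205)) (BT.node 206 (BT.leaf t_206) (BT.leaf t_207))) (BT.node 209 (BT.node 208 (BT.leaf t_208) (BT.leaf t_209)) (BT.leaf t_210)))) (BT.node 217 (BT.node 214 (BT.node 212 (BT.node 211 (BT.leaf t_211) (BT.leaf t_212))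 (BT.node 213 (BT.leaf t_213) (BT.leaf t_214))) (BT.node 216 (BT.node 215 (BT.leaf t_215) (BT.leaf t_216)) (BT.leaf t_217))) (BT.node 221 (BT.node 219 (BT.node 218 (BT.leaf t_218) (BT.leaf t_219)) (BT.node 220 (BT.leaf t_220) (BT.leaf t_221))) (BT.node 223 (BT.node 222 (BT.leaf t_222) (BT.leaf t_223)) (BT.leaf t_224)))))))) (BT.node 337 (BT.node 281 (BT.node 253 (BT.node 239 (BT.node 232 (BT.node 228 (BT.node 226 (BT.node 225 (BT.leaf t_225) (BT.leaf t_226)) (BT.node 227 (BT.leaf t_227) (BT.leaf t_228))) (BT.node 230 (BT.node 229 (BT.leaf t_229) (BT.leaf t_230)) (BT.node 231 (BT.leaf t_231) (BT.leaf t_232)))) (BT.node 236 (BT.node 234 (BT.node 233 (BT.leaf t_233) (BT.leaf t_234)) (BT.node 235 (BT.leaf t_235) (BT.leaf t_236))) (BT.node 238 (BT.node 237 (BT.leaf t_237) (BT.leaf t_238)) (BT.leaf t_239)))) (BT.node 246 (BT.node 243 (BT.node 241 (BT.node 240 (BT.leaf t_240) (BT.leaf t_241)) (BT.node 242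 (BT.leaf t_242) (BT.leaf t_243))) (BT.node 245 (BT.node 244 (BT.leaf t_244) (BT.leaf t_245)) (BT.leaf t_246))) (BT.node 250 (BT.node 248 (BT.node 247 (BT.leaf t_247) (BT.leaf t_248)) (BT.node 249 (BT.leaf t_249) (BT.leaf t_250))) (BT.node 252 (BT.node 251 (BT.leaf t_251) (BT.leaf t_252)) (BT.leaf t_253))))) (BT.node 267 (BT.node 260 (BT.node 257 (BT.node 255 (BT.node 254 (BT.leaf t_254) (BT.leaf t_255)) (BT.node 256 (BT.leaf t_256) (BT.leaf t_257))) (BT.node 259 (BT.node 258 (BT.leaf t_258) (BT.leaf t_259)) (BT.leaf t_260))) (BT.node 264 (BT.node 262 (BT.node 261 (BT.leaf t_261) (BT.leaf t_262)) (BT.node 263 (BT.leaf t_263) (BT.leaf t_264))) (BT.node 266 (BT.node 265 (BT.leaf t_265) (BT.leaf t_266)) (BT.leaf t_267)))) (BT.node 274 (BT.node 271 (BT.node 269 (BT.node 268 (BT.leaf t_268) (BT.leaf t_269)) (BT.node 270 (BT.leaf t_270) (BT.leaf t_271))) (BT.node 273 (BT.node 272 (BT.leaf t_272) (BT.leaf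 t_273)) (BT.leaf t_274))) (BT.node 278 (BT.node 276 (BT.node 275 (BT.leaf t_275) (BT.leaf t_276)) (BT.node 277 (BT.leaf t_277) (BT.leaf t_278))) (BT.node 280 (BT.node 279 (BT.leaf t_279) (BT.leaf t_280)) (BT.leaf t_281)))))) (BT.node 309 (BT.node 295 (BT.node 288 (BT.node 285 (BT.node 283 (BT.node 282 (BT.leaf t_282) (BT.leaf t_283)) (BT.node 284 (BT.leaf t_284) (BT.leaf t_285))) (BT.node 287 (BT.node 286 (BT.leaf t_286) (BT.leaf t_287)) (BT.leaf t_288))) (BT.node 292 (BT.node 290 (BT.node 289 (BT.leaf t_289) (BT.leaf t_290)) (BT.node 291 (BT.leaf t_291) (BT.leaf t_292))) (BT.node 294 (BT.node 293 (BT.leaf t_293) (BT.leaf t_294)) (BT.leaf t_295)))) (BT.node 302 (BT.node 299 (BT.node 297 (BT.node 296 (BT.leaf t_296) (BT.leaf t_297)) (BT.node 298 (BT.leaf t_298) (BT.leaf t_299))) (BT.node 301 (BT.node 300 (BT.leaf t_300) (BT.leaf t_301)) (BT.leaf t_302))) (BT.node 306 (BT.node 304 (BT.node 303 (BT.leaf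 t_303) (BT.leaf t_304)) (BT.node 305 (BT.leaf t_305) (BT.leaf t_306))) (BT.node 308 (BT.node 307 (BT.leaf t_307) (BT.leaf t_308)) (BT.leaf t_309))))) (BT.node 323 (BT.node 316 (BT.node 313 (BT.node 311 (BT.node 310 (BT.leaf t_310) (BT.leaf t_311)) (BT.node 312 (BT.leaf t_312) (BT.leaf t_313))) (BT.node 315 (BT.node 314 (BT.leaf t_314) (BT.leaf t_315)) (BT.leaf t_316))) (BT.node 320 (BT.node 318 (BT.node 317 (BT.leaf t_317) (BT.leaf t_318)) (BT.node 319 (BT.leaf t_319) (BT.leaf t_320))) (BT.node 322 (BT.node 321 (BT.leaf t_321) (BT.leaf t_322)) (BT.leaf t_323)))) (BT.node 330 (BT.node 327 (BT.node 325 (BT.node 324 (BT.leaf t_324) (BT.leaf t_325)) (BT.node 326 (BT.leaf t_326) (BT.leaf t_327))) (BT.node 329 (BT.node 328 (BT.leaf t_328) (BT.leaf t_329)) (BT.leaf t_330))) (BT.node 334 (BT.node 332 (BT.node 331 (BT.leaf t_331) (BT.leaf t_332)) (BT.node 333 (BT.leaf t_333) (BT.leaf t_334))) (BT.node 336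 (BT.node 335 (BT.leaf t_335) (BT.leaf t_336)) (BT.leaf t_337))))))) (BT.node 393 (BT.node 365 (BT.node 351 (BT.node 344 (BT.node 341 (BT.node 339 (BT.node 338 (BT.leaf t_338) (BT.leaf t_339)) (BT.node 340 (BT.leaf t_340) (BT.leaf t_341))) (BT.node 343 (BT.node 342 (BT.leaf t_342) (BT.leaf t_343)) (BT.leaf t_344))) (BT.node 348 (BT.node 346 (BT.node 345 (BT.leaf t_345) (BT.leaf t_346)) (BT.node 347 (BT.leaf t_347) (BT.leaf t_348))) (BT.node 350 (BT.node 349 (BT.leaf t_349) (BT.leaf t_350)) (BT.leaf t_351)))) (BT.node 358 (BT.node 355 (BT.node 353 (BT.node 352 (BT.leaf t_352) (BT.leaf t_353)) (BT.node 354 (BT.leaf t_354) (BT.leaf t_355))) (BT.node 357 (BT.node 356 (BT.leaf t_356) (BT.leaf t_357)) (BT.leaf t_358))) (BT.node 362 (BT.node 360 (BT.node 359 (BT.leaf t_359) (BT.leaf t_360)) (BT.node 361 (BT.leaf t_361) (BT.leaf t_362))) (BT.node 364 (BT.node 363 (BT.leaf t_363) (BT.leaf t_364)) (BT.leaf t_365)))))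 (BT.node 379 (BT.node 372 (BT.node 369 (BT.node 367 (BT.node 366 (BT.leaf t_366) (BT.leaf t_367)) (BT.node 368 (BT.leaf t_368) (BT.leaf t_369))) (BT.node 371 (BT.node 370 (BT.leaf t_370) (BT.leaf t_371)) (BT.leaf t_372))) (BT.node 376 (BT.node 374 (BT.node 373 (BT.leaf t_373) (BT.leaf t_374)) (BT.node 375 (BT.leaf t_375) (BT.leaf t_376))) (BT.node 378 (BT.node 377 (BT.leaf t_377) (BT.leaf t_378)) (BT.leaf t_379)))) (BT.node 386 (BT.node 383 (BT.node 381 (BT.node 380 (BT.leaf t_380) (BT.leaf t_381)) (BT.node 382 (BT.leaf t_382) (BT.leaf t_383))) (BT.node 385 (BT.node 384 (BT.leaf t_384) (BT.leaf t_385)) (BT.leaf t_386))) (BT.node 390 (BT.node 388 (BT.node 387 (BT.leaf t_387) (BT.leaf t_388)) (BT.node 389 (BT.leaf t_389) (BT.leaf t_390))) (BT.node 392 (BT.node 391 (BT.leaf t_391) (BT.leaf t_392)) (BT.leaf t_393)))))) (BT.node 421 (BT.node 407 (BT.node 400 (BT.node 397 (BT.node 395 (BT.node 394 (BT.leaf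 t_394) (BT.leaf t_395)) (BT.node 396 (BT.leaf t_396) (BT.leaf t_397))) (BT.node 399 (BT.node 398 (BT.leaf t_398) (BT.leaf t_399)) (BT.leaf t_400))) (BT.node 404 (BT.node 402 (BT.node 401 (BT.leaf t_401) (BT.leaf t_402)) (BT.node 403 (BT.leaf t_403) (BT.leaf t_404))) (BT.node 406 (BT.node 405 (BT.leaf t_405) (BT.leaf t_406)) (BT.leaf t_407)))) (BT.node 414 (BT.node 411 (BT.node 409 (BT.node 408 (BT.leaf t_408) (BT.leaf t_409)) (BT.node 410 (BT.leaf t_410) (BT.leaf t_411))) (BT.node 413 (BT.node 412 (BT.leaf t_412) (BT.leaf t_413)) (BT.leaf t_414))) (BT.node 418 (BT.node 416 (BT.node 415 (BT.leaf t_415) (BT.leaf t_416)) (BT.node 417 (BT.leaf t_417) (BT.leaf t_418))) (BT.node 420 (BT.node 419 (BT.leaf t_419) (BT.leaf t_420)) (BT.leaf t_421))))) (BT.node 435 (BT.node 428 (BT.node 425 (BT.node 423 (BT.node 422 (BT.leaf t_422) (BT.leaf t_423)) (BT.node 424 (BT.leaf t_424) (BT.leaf t_425))) (BT.node 427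 (BT.node 426 (BT.leaf t_426) (BT.leaf t_427)) (BT.leaf t_428))) (BT.node 432 (BT.node 430 (BT.node 429 (BT.leaf t_429) (BT.leaf t_430)) (BT.node 431 (BT.leaf t_431) (BT.leaf t_432))) (BT.node 434 (BT.node 433 (BT.leaf t_433) (BT.leaf t_434)) (BT.leaf t_435)))) (BT.node 442 (BT.node 439 (BT.node 437 (BT.node 436 (BT.leaf t_436) (BT.leaf t_437)) (BT.node 438 (BT.leaf t_438) (BT.leaf t_439))) (BT.node 441 (BT.node 440 (BT.leaf t_440) (BT.leaf t_441)) (BT.leaf t_442))) (BT.node 446 (BT.node 444 (BT.node 443 (BT.leaf t_443) (BT.leaf t_444)) (BT.node 445 (BT.leaf t_445) (BT.leaf t_446))) (BT.node 448 (BT.node 447 (BT.leaf t_447) (BT.leaf t_448)) (BT.leaf t_449))))))))) (BT.node 674 (BT.node 562 (BT.node 506 (BT.node 478 (BT.node 464 (BT.node 457 (BT.node 453 (BT.node 451 (BT.node 450 (BT.leaf t_450) (BT.leaf t_451)) (BT.node 452 (BT.leaf t_452) (BT.leaf t_453))) (BT.node 455 (BT.node 454 (BT.leaf t_454)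 (BT.leaf t_455)) (BT.node 456 (BT.leaf t_456) (BT.leaf t_457)))) (BT.node 461 (BT.node 459 (BT.node 458 (BT.leaf t_458) (BT.leaf t_459)) (BT.node 460 (BT.leaf t_460) (BT.leaf t_461))) (BT.node 463 (BT.node 462 (BT.leaf t_462) (BT.leaf t_463)) (BT.leaf t_464)))) (BT.node 471 (BT.node 468 (BT.node 466 (BT.node 465 (BT.leaf t_465) (BT.leaf t_466)) (BT.node 467 (BT.leaf t_467) (BT.leaf t_468))) (BT.node 470 (BT.node 469 (BT.leaf t_469) (BT.leaf t_470)) (BT.leaf t_471))) (BT.node 475 (BT.node 473 (BT.node 472 (BT.leaf t_472) (BT.leaf t_473)) (BT.node 474 (BT.leaf t_474) (BT.leaf t_475))) (BT.node 477 (BT.node 476 (BT.leaf t_476) (BT.leaf t_477)) (BT.leaf t_478))))) (BT.node 492 (BT.node 485 (BT.node 482 (BT.node 480 (BT.node 479 (BT.leaf t_479) (BT.leaf t_480)) (BT.node 481 (BT.leaf t_481) (BT.leaf t_482))) (BT.node 484 (BT.node 483 (BT.leaf t_483) (BT.leaf t_484)) (BT.leaf t_485))) (BT.node 489 (BT.node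 487 (BT.node 486 (BT.leaf t_486) (BT.leaf t_487)) (BT.node 488 (BT.leaf t_488) (BT.leaf t_489))) (BT.node 491 (BT.node 490 (BT.leaf t_490) (BT.leaf t_491)) (BT.leaf t_492)))) (BT.node 499 (BT.node 496 (BT.node 494 (BT.node 493 (BT.leaf t_493) (BT.leaf t_494)) (BT.node 495 (BT.leaf t_495) (BT.leaf t_496))) (BT.node 498 (BT.node 497 (BT.leaf t_497) (BT.leaf t_498)) (BT.leaf t_499))) (BT.node 503 (BT.node 501 (BT.node 500 (BT.leaf t_500) (BT.leaf t_501)) (BT.node 502 (BT.leaf t_502) (BT.leaf t_503))) (BT.node 505 (BT.node 504 (BT.leaf t_504) (BT.leaf t_505)) (BT.leaf t_506)))))) (BT.node 534 (BT.node 520 (BT.node 513 (BT.node 510 (BT.node 508 (BT.node 507 (BT.leaf t_507) (BT.leaf t_508)) (BT.node 509 (BT.leaf t_509) (BT.leaf t_510))) (BT.node 512 (BT.node 511 (BT.leaf t_511) (BT.leaf t_512)) (BT.leaf t_513))) (BT.node 517 (BT.node 515 (BT.node 514 (BT.leaf t_514) (BT.leaf t_515)) (BT.node 516 (BT.leaf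 t_516) (BT.leaf t_517))) (BT.node 519 (BT.node 518 (BT.leaf t_518) (BT.leaf t_519)) (BT.leaf t_520)))) (BT.node 527 (BT.node 524 (BT.node 522 (BT.node 521 (BT.leaf t_521) (BT.leaf t_522)) (BT.node 523 (BT.leaf t_523) (BT.leaf t_524))) (BT.node 526 (BT.node 525 (BT.leaf t_525) (BT.leaf t_526)) (BT.leaf t_527))) (BT.node 531 (BT.node 529 (BT.node 528 (BT.leaf t_528) (BT.leaf t_529)) (BT.node 530 (BT.leaf t_530) (BT.leaf t_531))) (BT.node 533 (BT.node 532 (BT.leaf t_532) (BT.leaf t_533)) (BT.leaf t_534))))) (BT.node 548 (BT.node 541 (BT.node 538 (BT.node 536 (BT.node 535 (BT.leaf t_535) (BT.leaf t_536)) (BT.node 537 (BT.leaf t_537) (BT.leaf t_538))) (BT.node 540 (BT.node 539 (BT.leaf t_539) (BT.leaf t_540)) (BT.leaf t_541))) (BT.node 545 (BT.node 543 (BT.node 542 (BT.leaf t_542) (BT.leaf t_543)) (BT.node 544 (BT.leaf t_544) (BT.leaf t_545))) (BT.node 547 (BT.node 546 (BT.leaf t_546) (BT.leaf t_547))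 (BT.leaf t_548)))) (BT.node 555 (BT.node 552 (BT.node 550 (BT.node 549 (BT.leaf t_549) (BT.leaf t_550)) (BT.node 551 (BT.leaf t_551) (BT.leaf t_552))) (BT.node 554 (BT.node 553 (BT.leaf t_553) (BT.leaf t_554)) (BT.leaf t_555))) (BT.node 559 (BT.node 557 (BT.node 556 (BT.leaf t_556) (BT.leaf t_557)) (BT.node 558 (BT.leaf t_558) (BT.leaf t_559))) (BT.node 561 (BT.node 560 (BT.leaf t_560) (BT.leaf t_561)) (BT.leaf t_562))))))) (BT.node 618 (BT.node 590 (BT.node 576 (BT.node 569 (BT.node 566 (BT.node 564 (BT.node 563 (BT.leaf t_563) (BT.leaf t_564)) (BT.node 565 (BT.leaf t_565) (BT.leaf t_566))) (BT.node 568 (BT.node 567 (BT.leaf t_567) (BT.leaf t_568)) (BT.leaf t_569))) (BT.node 573 (BT.node 571 (BT.node 570 (BT.leaf t_570) (BT.leaf t_571)) (BT.node 572 (BT.leaf t_572) (BT.leaf t_573))) (BT.node 575 (BT.node 574 (BT.leaf t_574) (BT.leaf t_575)) (BT.leaf t_576)))) (BT.node 583 (BT.node 580 (BT.node 578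 (BT.node 577 (BT.leaf t_577) (BT.leaf t_578)) (BT.node 579 (BT.leaf t_579) (BT.leaf t_580))) (BT.node 582 (BT.node 581 (BT.leaf t_581) (BT.leaf t_582)) (BT.leaf t_583))) (BT.node 587 (BT.node 585 (BT.node 584 (BT.leaf t_584) (BT.leaf t_585)) (BT.node 586 (BT.leaf t_586) (BT.leaf t_587))) (BT.node 589 (BT.node 588 (BT.leaf t_588) (BT.leaf t_589)) (BT.leaf t_590))))) (BT.node 604 (BT.node 597 (BT.node 594 (BT.node 592 (BT.node 591 (BT.leaf t_591) (BT.leaf t_592)) (BT.node 593 (BT.leaf t_593) (BT.leaf t_594))) (BT.node 596 (BT.node 595 (BT.leaf t_595) (BT.leaf t_596)) (BT.leaf t_597))) (BT.node 601 (BT.node 599 (BT.node 598 (BT.leaf t_598) (BT.leaf t_599)) (BT.node 600 (BT.leaf t_600) (BT.leaf t_601))) (BT.node 603 (BT.node 602 (BT.leaf t_602) (BT.leaf t_603)) (BT.leaf t_604)))) (BT.node 611 (BT.node 608 (BT.node 606 (BT.node 605 (BT.leaf t_605) (BT.leaf t_606)) (BT.node 607 (BT.leaf t_607) (BT.leaf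 t_608))) (BT.node 610 (BT.node 609 (BT.leaf t_609) (BT.leaf t_610)) (BT.leaf t_611))) (BT.node 615 (BT.node 613 (BT.node 612 (BT.leaf t_612) (BT.leaf t_613)) (BT.node 614 (BT.leaf t_614) (BT.leaf t_615))) (BT.node 617 (BT.node 616 (BT.leaf t_616) (BT.leaf t_617)) (BT.leaf t_618)))))) (BT.node 646 (BT.node 632 (BT.node 625 (BT.node 622 (BT.node 620 (BT.node 619 (BT.leaf t_619) (BT.leaf t_620)) (BT.node 621 (BT.leaf t_621) (BT.leaf t_622))) (BT.node 624 (BT.node 623 (BT.leaf t_623) (BT.leaf t_624)) (BT.leaf t_625))) (BT.node 629 (BT.node 627 (BT.node 626 (BT.leaf t_626) (BT.leaf t_627)) (BT.node 628 (BT.leaf t_628) (BT.leaf t_629))) (BT.node 631 (BT.node 630 (BT.leaf t_630) (BT.leaf t_631)) (BT.leaf t_632)))) (BT.node 639 (BT.node 636 (BT.node 634 (BT.node 633 (BT.leaf t_633) (BT.leaf t_634)) (BT.node 635 (BT.leaf t_635) (BT.leaf t_636))) (BT.node 638 (BT.node 637 (BT.leaf t_637) (BT.leaf t_638)) (BT.leaf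 t_639))) (BT.node 643 (BT.node 641 (BT.node 640 (BT.leaf t_640) (BT.leaf t_641)) (BT.node 642 (BT.leaf t_642) (BT.leaf t_643))) (BT.node 645 (BT.node 644 (BT.leaf t_644) (BT.leaf t_645)) (BT.leaf t_646))))) (BT.node 660 (BT.node 653 (BT.node 650 (BT.node 648 (BT.node 647 (BT.leaf t_647) (BT.leaf t_648)) (BT.node 649 (BT.leaf t_649) (BT.leaf t_650))) (BT.node 652 (BT.node 651 (BT.leaf t_651) (BT.leaf t_652)) (BT.leaf t_653))) (BT.node 657 (BT.node 655 (BT.node 654 (BT.leaf t_654) (BT.leaf t_655)) (BT.node 656 (BT.leaf t_656) (BT.leaf t_657))) (BT.node 659 (BT.node 658 (BT.leaf t_658) (BT.leaf t_659)) (BT.leaf t_660)))) (BT.node 667 (BT.node 664 (BT.node 662 (BT.node 661 (BT.leaf t_661) (BT.leaf t_662)) (BT.node 663 (BT.leaf t_663) (BT.leaf t_664))) (BT.node 666 (BT.node 665 (BT.leaf t_665) (BT.leaf t_666)) (BT.leaf t_667))) (BT.node 671 (BT.node 669 (BT.node 668 (BT.leaf t_668) (BT.leaf t_669)) (BT.node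 670 (BT.leaf t_670) (BT.leaf t_671))) (BT.node 673 (BT.node 672 (BT.leaf t_672) (BT.leaf t_673)) (BT.leaf t_674)))))))) (BT.node 787 (BT.node 731 (BT.node 703 (BT.node 689 (BT.node 682 (BT.node 678 (BT.node 676 (BT.node 675 (BT.leaf t_675) (BT.leaf t_676)) (BT.node 677 (BT.leaf t_677) (BT.leaf t_678))) (BT.node 680 (BT.node 679 (BT.leaf t_679) (BT.leaf t_680)) (BT.node 681 (BT.leaf t_681) (BT.leaf t_682)))) (BT.node 686 (BT.node 684 (BT.node 683 (BT.leaf t_683) (BT.leaf t_684)) (BT.node 685 (BT.leaf t_685) (BT.leaf t_686))) (BT.node 688 (BT.node 687 (BT.leaf t_687) (BT.leaf t_688)) (BT.leaf t_689)))) (BT.node 696 (BT.node 693 (BT.node 691 (BT.node 690 (BT.leaf t_690) (BT.leaf t_691)) (BT.node 692 (BT.leaf t_692) (BT.leaf t_693))) (BT.node 695 (BT.node 694 (BT.leaf t_694) (BT.leaf t_695)) (BT.leaf t_696))) (BT.node 700 (BT.node 698 (BT.node 697 (BT.leaf t_697) (BT.leaf t_698)) (BT.node 699 (BT.leaf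 t_699) (BT.leaf t_700))) (BT.node 702 (BT.node 701 (BT.leaf t_701) (BT.leaf t_702)) (BT.leaf t_703))))) (BT.node 717 (BT.node 710 (BT.node 707 (BT.node 705 (BT.node 704 (BT.leaf t_704) (BT.leaf t_705)) (BT.node 706 (BT.leaf t_706) (BT.leaf t_707))) (BT.node 709 (BT.node 708 (BT.leaf t_708) (BT.leaf t_709)) (BT.leaf t_710))) (BT.node 714 (BT.node 712 (BT.node 711 (BT.leaf t_711) (BT.leaf t_712)) (BT.node 713 (BT.leaf t_713) (BT.leaf t_714))) (BT.node 716 (BT.node 715 (BT.leaf t_715) (BT.leaf t_716)) (BT.leaf t_717)))) (BT.node 724 (BT.node 721 (BT.node 719 (BT.node 718 (BT.leaf t_718) (BT.leaf t_719)) (BT.node 720 (BT.leaf t_720) (BT.leaf t_721))) (BT.node 723 (BT.node 722 (BT.leaf t_722) (BT.leaf t_723)) (BT.leaf t_724))) (BT.node 728 (BT.node 726 (BT.node 725 (BT.leaf t_725) (BT.leaf t_726)) (BT.node 727 (BT.leaf t_727) (BT.leaf t_728))) (BT.node 730 (BT.node 729 (BT.leaf t_729) (BT.leaf t_730))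 (BT.leaf t_731)))))) (BT.node 759 (BT.node 745 (BT.node 738 (BT.node 735 (BT.node 733 (BT.node 732 (BT.leaf t_732) (BT.leaf t_733)) (BT.node 734 (BT.leaf t_734) (BT.leaf t_735))) (BT.node 737 (BT.node 736 (BT.leaf t_736) (BT.leaf t_737)) (BT.leaf t_738))) (BT.node 742 (BT.node 740 (BT.node 739 (BT.leaf t_739) (BT.leaf t_740)) (BT.node 741 (BT.leaf t_741) (BT.leaf t_742))) (BT.node 744 (BT.node 743 (BT.leaf t_743) (BT.leaf t_744)) (BT.leaf t_745)))) (BT.node 752 (BT.node 749 (BT.node 747 (BT.node 746 (BT.leaf t_746) (BT.leaf t_747)) (BT.node 748 (BT.leaf t_748) (BT.leaf t_749))) (BT.node 751 (BT.node 750 (BT.leaf t_750) (BT.leaf t_751)) (BT.leaf t_752))) (BT.node 756 (BT.node 754 (BT.node 753 (BT.leaf t_753) (BT.leaf t_754)) (BT.node 755 (BT.leaf t_755) (BT.leaf t_756))) (BT.node 758 (BT.node 757 (BT.leaf t_757) (BT.leaf t_758)) (BT.leaf t_759))))) (BT.node 773 (BT.node 766 (BT.node 763 (BT.node 761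 (BT.node 760 (BT.leaf t_760) (BT.leaf t_761)) (BT.node 762 (BT.leaf t_762) (BT.leaf t_763))) (BT.node 765 (BT.node 764 (BT.leaf t_764) (BT.leaf t_765)) (BT.leaf t_766))) (BT.node 770 (BT.node 768 (BT.node 767 (BT.leaf t_767) (BT.leaf t_768)) (BT.node 769 (BT.leaf t_769) (BT.leaf t_770))) (BT.node 772 (BT.node 771 (BT.leaf t_771) (BT.leaf t_772)) (BT.leaf t_773)))) (BT.node 780 (BT.node 777 (BT.node 775 (BT.node 774 (BT.leaf t_774) (BT.leaf t_775)) (BT.node 776 (BT.leaf t_776) (BT.leaf t_777))) (BT.node 779 (BT.node 778 (BT.leaf t_778) (BT.leaf t_779)) (BT.leaf t_780))) (BT.node 784 (BT.node 782 (BT.node 781 (BT.leaf t_781) (BT.leaf t_782)) (BT.node 783 (BT.leaf t_783) (BT.leaf t_784))) (BT.node 786 (BT.node 785 (BT.leaf t_785) (BT.leaf t_786)) (BT.leaf t_787))))))) (BT.node 843 (BT.node 815 (BT.node 801 (BT.node 794 (BT.node 791 (BT.node 789 (BT.node 788 (BT.leaf t_788) (BT.leaf t_789)) (BT.node 790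 (BT.leaf t_790) (BT.leaf t_791))) (BT.node 793 (BT.node 792 (BT.leaf t_792) (BT.leaf t_793)) (BT.leaf t_794))) (BT.node 798 (BT.node 796 (BT.node 795 (BT.leaf t_795) (BT.leaf t_796)) (BT.node 797 (BT.leaf t_797) (BT.leaf t_798))) (BT.node 800 (BT.node 799 (BT.leaf t_799) (BT.leaf t_800)) (BT.leaf t_801)))) (BT.node 808 (BT.node 805 (BT.node 803 (BT.node 802 (BT.leaf t_802) (BT.leaf t_803)) (BT.node 804 (BT.leaf t_804) (BT.leaf t_805))) (BT.node 807 (BT.node 806 (BT.leaf t_806) (BT.leaf t_807)) (BT.leaf t_808))) (BT.node 812 (BT.node 810 (BT.node 809 (BT.leaf t_809) (BT.leaf t_810)) (BT.node 811 (BT.leaf t_811) (BT.leaf t_812))) (BT.node 814 (BT.node 813 (BT.leaf t_813) (BT.leaf t_814)) (BT.leaf t_815))))) (BT.node 829 (BT.node 822 (BT.node 819 (BT.node 817 (BT.node 816 (BT.leaf t_816) (BT.leaf t_817)) (BT.node 818 (BT.leaf t_818) (BT.leaf t_819))) (BT.node 821 (BT.node 820 (BT.leaf t_820) (BT.leaf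 t_821)) (BT.leaf t_822))) (BT.node 826 (BT.node 824 (BT.node 823 (BT.leaf t_823) (BT.leaf t_824)) (BT.node 825 (BT.leaf t_825) (BT.leaf t_826))) (BT.node 828 (BT.node 827 (BT.leaf t_827) (BT.leaf t_828)) (BT.leaf t_829)))) (BT.node 836 (BT.node 833 (BT.node 831 (BT.node 830 (BT.leaf t_830) (BT.leaf t_831)) (BT.node 832 (BT.leaf t_832) (BT.leaf t_833))) (BT.node 835 (BT.node 834 (BT.leaf t_834) (BT.leaf t_835)) (BT.leaf t_836))) (BT.node 840 (BT.node 838 (BT.node 837 (BT.leaf t_837) (BT.leaf t_838)) (BT.node 839 (BT.leaf t_839) (BT.leaf t_840))) (BT.node 842 (BT.node 841 (BT.leaf t_841) (BT.leaf t_842)) (BT.leaf t_843)))))) (BT.node 871 (BT.node 857 (BT.node 850 (BT.node 847 (BT.node 845 (BT.node 844 (BT.leaf t_844) (BT.leaf t_845)) (BT.node 846 (BT.leaf t_846) (BT.leaf t_847))) (BT.node 849 (BT.node 848 (BT.leaf t_848) (BT.leaf t_849)) (BT.leaf t_850))) (BT.node 854 (BT.node 852 (BT.node 851 (BT.leaf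 t_851) (BT.leaf t_852)) (BT.node 853 (BT.leaf t_853) (BT.leaf t_854))) (BT.node 856 (BT.node 855 (BT.leaf t_855) (BT.leaf t_856)) (BT.leaf t_857)))) (BT.node 864 (BT.node 861 (BT.node 859 (BT.node 858 (BT.leaf t_858) (BT.leaf t_859)) (BT.node 860 (BT.leaf t_860) (BT.leaf t_861))) (BT.node 863 (BT.node 862 (BT.leaf t_862) (BT.leaf t_863)) (BT.leaf t_864))) (BT.node 868 (BT.node 866 (BT.node 865 (BT.leaf t_865) (BT.leaf t_866)) (BT.node 867 (BT.leaf t_867) (BT.leaf t_868))) (BT.node 870 (BT.node 869 (BT.leaf t_869) (BT.leaf t_870)) (BT.leaf t_871))))) (BT.node 885 (BT.node 878 (BT.node 875 (BT.node 873 (BT.node 872 (BT.leaf t_872) (BT.leaf t_873)) (BT.node 874 (BT.leaf t_874) (BT.leaf t_875))) (BT.node 877 (BT.node 876 (BT.leaf t_876) (BT.leaf t_877)) (BT.leaf t_878))) (BT.node 882 (BT.node 880 (BT.node 879 (BT.leaf t_879) (BT.leaf t_880)) (BT.node 881 (BT.leaf t_881) (BT.leaf t_882))) (BT.node 884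 (BT.node 883 (BT.leaf t_883) (BT.leaf t_884)) (BT.leaf t_885)))) (BT.node 892 (BT.node 889 (BT.node 887 (BT.node 886 (BT.leaf t_886) (BT.leaf t_887)) (BT.node 888 (BT.leaf t_888) (BT.leaf t_889))) (BT.node 891 (BT.node 890 (BT.leaf t_890) (BT.leaf t_891)) (BT.leaf t_892))) (BT.node 896 (BT.node 894 (BT.node 893 (BT.leaf t_893) (BT.leaf t_894)) (BT.node 895 (BT.leaf t_895) (BT.leaf t_896))) (BT.node 898 (BT.node 897 (BT.leaf t_897) (BT.leaf t_898)) (BT.leaf t_899))))))))))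
/-- the table -/
def table3 : Table where
  n := 920808
  k := 28
  w := 20
  M := 1048576
  CH := 1024
  NCH := 900
  col := col3
  inv := (BT.node 14 (BT.node 7 (BT.node 3 (BT.node 1 (BT.node 0 (BT.leaf 1) (BT.leaf 0)) (BT.node 2 (BT.leaf 3) (BT.leaf 2))) (BT.node 5 (BT.node 4 (BT.leaf 5) (BT.leaf 4)) (BT.node 6 (BT.leaf 7) (BT.leaf 6)))) (BT.node 11 (BT.node 9 (BT.node 8 (BT.leaf 9) (BT.leaf 8)) (BT.node 10 (BT.leaf 11) (BT.leaf 10))) (BT.node 13 (BT.node 12 (BT.leaf 13) (BT.leaf 12)) (BT.leaf 15)))) (BT.node 21 (BT.node 18 (BT.node 16 (BT.node 15 (BT.leaf 14) (BT.leaf 17)) (BT.node 17 (BT.leaf 16) (BT.leaf 19))) (BT.node 20 (BT.node 19 (BT.leaf 18) (BT.leaf 21)) (BT.leaf 20))) (BT.node 25 (BT.node 23 (BT.node 22 (BT.leaf 23) (BT.leaf 22)) (BT.node 24 (BT.leaf 25) (BT.leaf 24))) (BT.node 27 (BT.node 26 (BT.leaf 27) (BT.leaf 26)) (BT.leaf 28)))))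
  tw := 25
  TM := 33554432
  tree := tree3

end Cfsg.Agent.Lib.Helper19.F24M.T3Tab
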