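import Cfsg.Agent.Lib.Helper19.F24M.FoxP3
import Cfsg.Agent.Lib.Helper19.F24M.FoxP3Cyc
import Cfsg.Agent.Lib.Helper19.F24M.T3Tab
import Cfsg.Agent.Lib.Helper10.FoxTrieB
set_option autoImplicit false
set_option maxHeartbeats 0
set_option maxRecDepth 1000000

/-! The small cycles of the Fox certificate modulo 3 checked with the trie checker of helper10 (depth 24). -/

namespace Cfsg.Agent.Lib.Helper19.F24M.FoxP3Chk0
open Cfsg.Agent.Lib.Helper10.FoxTrie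

theorem c0 : cycleOKT Cfsg.Agent.Lib.Helper19.F24M.FoxP3.data Cfsg.Agent.Lib.Helper19.F24M.T3Tab.table3.tau 24 0 Cfsg.Agent.Lib.Helper19.F24M.FoxP3Cyc.cyc0 = true := by
  decide +kernel

theorem c1 : cycleOKT Cfsg.Agent.Lib.Helper19.F24M.FoxP3.data Cfsg.Agent.Lib.Helper19.F24M.T3Tab.table3.tau 24 1 Cfsg.Agent.Lib.Helper19.F24M.FoxP3Cyc.cyc1 = true := by
  decide +kernel

theorem c2 : cycleOKT Cfsg.Agent.Lib.Helper19.F24M.FoxP3.data Cfsg.Agent.Lib.Helper19.F24M.T3Tab.table3.tau 24 2 Cfsg.Agent.Lib.Helper19.F24M.FoxP3Cyc.cyc2 = true := by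
  decide +kernel

theorem c3 : cycleOKT Cfsg.Agent.Lib.Helper19.F24M.FoxP3.data Cfsg.Agent.Lib.Helper19.F24M.T3Tab.table3.tau 24 3 Cfsg.Agent.Lib.Helper19.F24M.FoxP3Cyc.cyc3 = true := by
  decide +kernel

theorem c4 : cycleOKT Cfsg.Agent.Lib.Helper19.F24M.FoxP3.data Cfsg.Agent.Lib.Helper19.F24M.T3Tab.table3.tau 24 4 Cfsg.Agent.Lib.Helper19.F24M.FoxP3Cyc.cyc4 = true := by
  decide +kernel

theorem c5 : cycleOKT Cfsg.Agent.Lib.Helper19.F24M.FoxP3.data Cfsg.Agent.Lib.Helper19.F24M.T3Tab.table3.tau 24 5 Cfsg.Agent.Lib.Helper19.F24M.FoxP3Cyc.cyc5 = true := by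
  decide +kernel

theorem c6 : cycleOKT Cfsg.Agent.Lib.Helper19.F24M.FoxP3.data Cfsg.Agent.Lib.Helper19.F24M.T3Tab.table3.tau 24 6 Cfsg.Agent.Lib.Helper19.F24M.FoxP3Cyc.cyc6 = true := by
  decide +kernel

theorem c7 : cycleOKT Cfsg.Agent.Lib.Helper19.F24M.FoxP3.data Cfsg.Agent.Lib.Helper19.F24M.T3Tab.table3.tau 24 7 Cfsg.Agent.Lib.Helper19.F24M.FoxP3Cyc.cyc7 = true := by
  decide +kernel

theorem c8 : cycleOKT Cfsg.Agent.Lib.Helper19.F24M.FoxP3.data Cfsg.Agent.Lib.Helper19.F24M.T3Tab.table3.tau 24 8 Cfsg.Agent.Lib.Helper19.F24M.FoxP3Cyc.cyc8 = true := by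
  decide +kernel

theorem c9 : cycleOKT Cfsg.Agent.Lib.Helper19.F24M.FoxP3.data Cfsg.Agent.Lib.Helper19.F24M.T3Tab.table3.tau 24 9 Cfsg.Agent.Lib.Helper19.F24M.FoxP3Cyc.cyc9 = true := by
  decide +kernel

theorem c10 : cycleOKT Cfsg.Agent.Lib.Helper19.F24M.FoxP3.data Cfsg.Agent.Lib.Helper19.F24M.T3Tab.table3.tau 24 10 Cfsg.Agent.Lib.Helper19.F24M.FoxP3Cyc.cyc10 = true := by
  decide +kernel

theorem c11 : cycleOKT Cfsg.Agent.Lib.Helper19.F24M.FoxP3.data Cfsg.Agent.Lib.Helper19.F24M.T3Tab.table3.tau 24 11 Cfsg.Agent.Lib.Helper19.F24M.FoxP3Cyc.cyc11 = true := by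
  decide +kernel

theorem c12 : cycleOKT Cfsg.Agent.Lib.Helper19.F24M.FoxP3.data Cfsg.Agent.Lib.Helper19.F24M.T3Tab.table3.tau 24 12 Cfsg.Agent.Lib.Helper19.F24M.FoxP3Cyc.cyc12 = true := by
  decide +kernel

theorem c13 : cycleOKT Cfsg.Agent.Lib.Helper19.F24M.FoxP3.data Cfsg.Agent.Lib.Helper19.F24M.T3Tab.table3.tau 24 13 Cfsg.Agent.Lib.Helper19.F24M.FoxP3Cyc.cyc13 = true := by
  decide +kernel

theorem c14 : cycleOKT Cfsg.Agent.Lib.Helper19.F24M.FoxP3.data Cfsg.Agent.Lib.Helper19.F24M.T3Tab.table3.tau 24 14 Cfsg.Agent.Lib.Helper19.F24M.FoxP3Cyc.cyc14 = true := by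
  decide +kernel

theorem c15 : cycleOKT Cfsg.Agent.Lib.Helper19.F24M.FoxP3.data Cfsg.Agent.Lib.Helper19.F24M.T3Tab.table3.tau 24 15 Cfsg.Agent.Lib.Helper19.F24M.FoxP3Cyc.cyc15 = true := by
  decide +kernel

theorem c16 : cycleOKT Cfsg.Agent.Lib.Helper19.F24M.FoxP3.data Cfsg.Agent.Lib.Helper19.F24M.T3Tab.table3.tau 24 16 Cfsg.Agent.Lib.Helper19.F24M.FoxP3Cyc.cyc16 = true := by
  decide +kernel

theorem c17 : cycleOKT Cfsg.Agent.Lib.Helper19.F24M.FoxP3.data Cfsg.Agent.Lib.Helper19.F24M.T3Tab.table3.tau 24 17 Cfsg.Agent.Lib.Helper19.F24M.FoxP3Cyc.cyc17 = true := by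
  decide +kernel

theorem c18 : cycleOKT Cfsg.Agent.Lib.Helper19.F24M.FoxP3.data Cfsg.Agent.Lib.Helper19.F24M.T3Tab.table3.tau 24 18 Cfsg.Agent.Lib.Helper19.F24M.FoxP3Cyc.cyc18 = true := by
  decide +kernel

theorem c19 : cycleOKT Cfsg.Agent.Lib.Helper19.F24M.FoxP3.data Cfsg.Agent.Lib.Helper19.F24M.T3Tab.table3.tau 24 19 Cfsg.Agent.Lib.Helper19.F24M.FoxP3Cyc.cyc19 = true := by
  decide +kernel

theorem c20 : cycleOKT Cfsg.Agent.Lib.Helper19.F24M.FoxP3.data Cfsg.Agent.Lib.Helper19.F24M.T3Tab.table3.tau 24 20 Cfsg.Agent.Lib.Helper19.F24M.FoxP3Cyc.cyc20 = true := by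
  decide +kernel

theorem c21 : cycleOKT Cfsg.Agent.Lib.Helper19.F24M.FoxP3.data Cfsg.Agent.Lib.Helper19.F24M.T3Tab.table3.tau 24 21 Cfsg.Agent.Lib.Helper19.F24M.FoxP3Cyc.cyc21 = true := by
  decide +kernel

theorem c22 : cycleOKT Cfsg.Agent.Lib.Helper19.F24M.FoxP3.data Cfsg.Agent.Lib.Helper19.F24M.T3Tab.table3.tau 24 22 Cfsg.Agent.Lib.Helper19.F24M.FoxP3Cyc.cyc22 = true := by
  decide +kernel

theorem c23 : cycleOKT Cfsg.Agent.Lib.Helper19.F24M.FoxP3.data Cfsg.Agent.Lib.Helper19.F24M.T3Tab.table3.tau 24 23 Cfsg.Agent.Lib.Helper19.F24M.FoxP3Cyc.cyc23 = true := by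
  decide +kernel

theorem c24 : cycleOKT Cfsg.Agent.Lib.Helper19.F24M.FoxP3.data Cfsg.Agent.Lib.Helper19.F24M.T3Tab.table3.tau 24 24 Cfsg.Agent.Lib.Helper19.F24M.FoxP3Cyc.cyc24 = true := by
  decide +kernel

theorem c25 : cycleOKT Cfsg.Agent.Lib.Helper19.F24M.FoxP3.data Cfsg.Agent.Lib.Helper19.F24M.T3Tab.table3.tau 24 25 Cfsg.Agent.Lib.Helper19.F24M.FoxP3Cyc.cyc25 = true := by
  decide +kernel

theorem c26 : cycleOKT Cfsg.Agent.Lib.Helper19.F24M.FoxP3.data Cfsg.Agent.Lib.Helper19.F24M.T3Tab.table3.tau 24 26 Cfsg.Agent.Lib.Helper19.F24M.FoxP3Cyc.cyc26 = true := by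
  decide +kernel

theorem c27 : cycleOKT Cfsg.Agent.Lib.Helper19.F24M.FoxP3.data Cfsg.Agent.Lib.Helper19.F24M.T3Tab.table3.tau 24 27 Cfsg.Agent.Lib.Helper19.F24M.FoxP3Cyc.cyc27 = true := by
  decide +kernel

theorem c28 : cycleOKT Cfsg.Agent.Lib.Helper19.F24M.FoxP3.data Cfsg.Agent.Lib.Helper19.F24M.T3Tab.table3.tau 24 28 Cfsg.Agent.Lib.Helper19.F24M.FoxP3Cyc.cyc28 = true := by
  decide +kernel

theorem c29 : cycleOKT Cfsg.Agent.Lib.Helper19.F24M.FoxP3.data Cfsg.Agent.Lib.Helper19.F24M.T3Tab.table3.tau 24 29 Cfsg.Agent.Lib.Helper19.F24M.FoxP3Cyc.cyc29 = true := by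
  decide +kernel

theorem c30 : cycleOKT Cfsg.Agent.Lib.Helper19.F24M.FoxP3.data Cfsg.Agent.Lib.Helper19.F24M.T3Tab.table3.tau 24 30 Cfsg.Agent.Lib.Helper19.F24M.FoxP3Cyc.cyc30 = true := by
  decide +kernel

theorem c31 : cycleOKT Cfsg.Agent.Lib.Helper19.F24M.FoxP3.data Cfsg.Agent.Lib.Helper19.F24M.T3Tab.table3.tau 24 31 Cfsg.Agent.Lib.Helper19.F24M.FoxP3Cyc.cyc31 = true := by
  decide +kernel

theorem c32 : cycleOKT Cfsg.Agent.Lib.Helper19.F24M.FoxP3.data Cfsg.Agent.Lib.Helper19.F24M.T3Tab.table3.tau 24 32 Cfsg.Agent.Lib.Helper19.F24M.FoxP3Cyc.cyc32 = true := by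
  decide +kernel

theorem c33 : cycleOKT Cfsg.Agent.Lib.Helper19.F24M.FoxP3.data Cfsg.Agent.Lib.Helper19.F24M.T3Tab.table3.tau 24 33 Cfsg.Agent.Lib.Helper19.F24M.FoxP3Cyc.cyc33 = true := by
  decide +kernel

theorem c34 : cycleOKT Cfsg.Agent.Lib.Helper19.F24M.FoxP3.data Cfsg.Agent.Lib.Helper19.F24M.T3Tab.table3.tau 24 34 Cfsg.Agent.Lib.Helper19.F24M.FoxP3Cyc.cyc34 = true := by
  decide +kernel

theorem c35 : cycleOKT Cfsg.Agent.Lib.Helper19.F24M.FoxP3.data Cfsg.Agent.Lib.Helper19.F24M.T3Tab.table3.tau 24 35 Cfsg.Agent.Lib.Helper19.F24M.FoxP3Cyc.cyc35 = true := by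
  decide +kernel

theorem c36 : cycleOKT Cfsg.Agent.Lib.Helper19.F24M.FoxP3.data Cfsg.Agent.Lib.Helper19.F24M.T3Tab.table3.tau 24 36 Cfsg.Agent.Lib.Helper19.F24M.FoxP3Cyc.cyc36 = true := by
  decide +kernel

theorem c37 : cycleOKT Cfsg.Agent.Lib.Helper19.F24M.FoxP3.data Cfsg.Agent.Lib.Helper19.F24M.T3Tab.table3.tau 24 37 Cfsg.Agent.Lib.Helper19.F24M.FoxP3Cyc.cyc37 = true := by
  decide +kernel

theorem c38 : cycleOKT Cfsg.Agent.Lib.Helper19.F24M.FoxP3.data Cfsg.Agent.Lib.Helper19.F24M.T3Tab.table3.tau 24 38 Cfsg.Agent.Lib.Helper19.F24M.FoxP3Cyc.cyc38 = true := by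
  decide +kernel

theorem c39 : cycleOKT Cfsg.Agent.Lib.Helper19.F24M.FoxP3.data Cfsg.Agent.Lib.Helper19.F24M.T3Tab.table3.tau 24 39 Cfsg.Agent.Lib.Helper19.F24M.FoxP3Cyc.cyc39 = true := by
  decide +kernel

theorem c40 : cycleOKT Cfsg.Agent.Lib.Helper19.F24M.FoxP3.data Cfsg.Agent.Lib.Helper19.F24M.T3Tab.table3.tau 24 40 Cfsg.Agent.Lib.Helper19.F24M.FoxP3Cyc.cyc40 = true := by
  decide +kernel

theorem c41 : cycleOKT Cfsg.Agent.Lib.Helper19.F24M.FoxP3.data Cfsg.Agent.Lib.Helper19.F24M.T3Tab.table3.tau 24 41 Cfsg.Agent.Lib.Helper19.F24M.FoxP3Cyc.cyc41 = true := by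
  decide +kernel

theorem c42 : cycleOKT Cfsg.Agent.Lib.Helper19.F24M.FoxP3.data Cfsg.Agent.Lib.Helper19.F24M.T3Tab.table3.tau 24 42 Cfsg.Agent.Lib.Helper19.F24M.FoxP3Cyc.cyc42 = true := by
  decide +kernel

theorem c43 : cycleOKT Cfsg.Agent.Lib.Helper19.F24M.FoxP3.data Cfsg.Agent.Lib.Helper19.F24M.T3Tab.table3.tau 24 43 Cfsg.Agent.Lib.Helper19.F24M.FoxP3Cyc.cyc43 = true := by
  decide +kernel

theorem c44 : cycleOKT Cfsg.Agent.Lib.Helper19.F24M.FoxP3.data Cfsg.Agent.Lib.Helper19.F24M.T3Tab.table3.tau 24 44 Cfsg.Agent.Lib.Helper19.F24M.FoxP3Cyc.cyc44 = true := by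
  decide +kernel

theorem c45 : cycleOKT Cfsg.Agent.Lib.Helper19.F24M.FoxP3.data Cfsg.Agent.Lib.Helper19.F24M.T3Tab.table3.tau 24 45 Cfsg.Agent.Lib.Helper19.F24M.FoxP3Cyc.cyc45 = true := by
  decide +kernel

theorem c46 : cycleOKT Cfsg.Agent.Lib.Helper19.F24M.FoxP3.data Cfsg.Agent.Lib.Helper19.F24M.T3Tab.table3.tau 24 46 Cfsg.Agent.Lib.Helper19.F24M.FoxP3Cyc.cyc46 = true := by
  decide +kernel

theorem c47 : cycleOKT Cfsg.Agent.Lib.Helper19.F24M.FoxP3.data Cfsg.Agent.Lib.Helper19.F24M.T3Tab.table3.tau 24 47 Cfsg.Agent.Lib.Helper19.F24M.FoxP3Cyc.cyc47 = true := by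
  decide +kernel

theorem c48 : cycleOKT Cfsg.Agent.Lib.Helper19.F24M.FoxP3.data Cfsg.Agent.Lib.Helper19.F24M.T3Tab.table3.tau 24 48 Cfsg.Agent.Lib.Helper19.F24M.FoxP3Cyc.cyc48 = true := by
  decide +kernel

theorem c49 : cycleOKT Cfsg.Agent.Lib.Helper19.F24M.FoxP3.data Cfsg.Agent.Lib.Helper19.F24M.T3Tab.table3.tau 24 49 Cfsg.Agent.Lib.Helper19.F24M.FoxP3Cyc.cyc49 = true := by
  decide +kernel

theorem c50 : cycleOKT Cfsg.Agent.Lib.Helper19.F24M.FoxP3.data Cfsg.Agent.Lib.Helper19.F24M.T3Tab.table3.tau 24 50 Cfsg.Agent.Lib.Helper19.F24M.FoxP3Cyc.cyc50 = true := by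
  decide +kernel

theorem c51 : cycleOKT Cfsg.Agent.Lib.Helper19.F24M.FoxP3.data Cfsg.Agent.Lib.Helper19.F24M.T3Tab.table3.tau 24 51 Cfsg.Agent.Lib.Helper19.F24M.FoxP3Cyc.cyc51 = true := by
  decide +kernel

theorem c52 : cycleOKT Cfsg.Agent.Lib.Helper19.F24M.FoxP3.data Cfsg.Agent.Lib.Helper19.F24M.T3Tab.table3.tau 24 52 Cfsg.Agent.Lib.Helper19.F24M.FoxP3Cyc.cyc52 = true := by
  decide +kernel

theorem c53 : cycleOKT Cfsg.Agent.Lib.Helper19.F24M.FoxP3.data Cfsg.Agent.Lib.Helper19.F24M.T3Tab.table3.tau 24 53 Cfsg.Agent.Lib.Helper19.F24M.FoxP3Cyc.cyc53 = true := by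
  decide +kernel

theorem c54 : cycleOKT Cfsg.Agent.Lib.Helper19.F24M.FoxP3.data Cfsg.Agent.Lib.Helper19.F24M.T3Tab.table3.tau 24 54 Cfsg.Agent.Lib.Helper19.F24M.FoxP3Cyc.cyc54 = true := by
  decide +kernel

theorem c55 : cycleOKT Cfsg.Agent.Lib.Helper19.F24M.FoxP3.data Cfsg.Agent.Lib.Helper19.F24M.T3Tab.table3.tau 24 55 Cfsg.Agent.Lib.Helper19.F24M.FoxP3Cyc.cyc55 = true := by
  decide +kernel

theorem c56 : cycleOKT Cfsg.Agent.Lib.Helper19.F24M.FoxP3.data Cfsg.Agent.Lib.Helper19.F24M.T3Tab.table3.tau 24 56 Cfsg.Agent.Lib.Helper19.F24M.FoxP3Cyc.cyc56 = true := by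
  decide +kernel

theorem c57 : cycleOKT Cfsg.Agent.Lib.Helper19.F24M.FoxP3.data Cfsg.Agent.Lib.Helper19.F24M.T3Tab.table3.tau 24 57 Cfsg.Agent.Lib.Helper19.F24M.FoxP3Cyc.cyc57 = true := by
  decide +kernel

theorem c58 : cycleOKT Cfsg.Agent.Lib.Helper19.F24M.FoxP3.data Cfsg.Agent.Lib.Helper19.F24M.T3Tab.table3.tau 24 58 Cfsg.Agent.Lib.Helper19.F24M.FoxP3Cyc.cyc58 = true := by
  decide +kernel

theorem c59 : cycleOKT Cfsg.Agent.Lib.Helper19.F24M.FoxP3.data Cfsg.Agent.Lib.Helper19.F24M.T3Tab.table3.tau 24 59 Cfsg.Agent.Lib.Helper19.F24M.FoxP3Cyc.cyc59 = true := by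
  decide +kernel

theorem c60 : cycleOKT Cfsg.Agent.Lib.Helper19.F24M.FoxP3.data Cfsg.Agent.Lib.Helper19.F24M.T3Tab.table3.tau 24 60 Cfsg.Agent.Lib.Helper19.F24M.FoxP3Cyc.cyc60 = true := by
  decide +kernel

theorem c61 : cycleOKT Cfsg.Agent.Lib.Helper19.F24M.FoxP3.data Cfsg.Agent.Lib.Helper19.F24M.T3Tab.table3.tau 24 61 Cfsg.Agent.Lib.Helper19.F24M.FoxP3Cyc.cyc61 = true := by
  decide +kernel

theorem c62 : cycleOKT Cfsg.Agent.Lib.Helper19.F24M.FoxP3.data Cfsg.Agent.Lib.Helper19.F24M.T3Tab.table3.tau 24 62 Cfsg.Agent.Lib.Helper19.F24M.FoxP3Cyc.cyc62 = true := by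
  decide +kernel

theorem c63 : cycleOKT Cfsg.Agent.Lib.Helper19.F24M.FoxP3.data Cfsg.Agent.Lib.Helper19.F24M.T3Tab.table3.tau 24 63 Cfsg.Agent.Lib.Helper19.F24M.FoxP3Cyc.cyc63 = true := by
  decide +kernel

theorem c64 : cycleOKT Cfsg.Agent.Lib.Helper19.F24M.FoxP3.data Cfsg.Agent.Lib.Helper19.F24M.T3Tab.table3.tau 24 64 Cfsg.Agent.Lib.Helper19.F24M.FoxP3Cyc.cyc64 = true := by
  decide +kernel

theorem c65 : cycleOKT Cfsg.Agent.Lib.Helper19.F24M.FoxP3.data Cfsg.Agent.Lib.Helper19.F24M.T3Tab.table3.tau 24 65 Cfsg.Agent.Lib.Helper19.F24M.FoxP3Cyc.cyc65 = true := by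
  decide +kernel

theorem c66 : cycleOKT Cfsg.Agent.Lib.Helper19.F24M.FoxP3.data Cfsg.Agent.Lib.Helper19.F24M.T3Tab.table3.tau 24 66 Cfsg.Agent.Lib.Helper19.F24M.FoxP3Cyc.cyc66 = true := by
  decide +kernel

theorem c67 : cycleOKT Cfsg.Agent.Lib.Helper19.F24M.FoxP3.data Cfsg.Agent.Lib.Helper19.F24M.T3Tab.table3.tau 24 67 Cfsg.Agent.Lib.Helper19.F24M.FoxP3Cyc.cyc67 = true := by
  decide +kernel

theorem c68 : cycleOKT Cfsg.Agent.Lib.Helper19.F24M.FoxP3.data Cfsg.Agent.Lib.Helper19.F24M.T3Tab.table3.tau 24 68 Cfsg.Agent.Lib.Helper19.F24M.FoxP3Cyc.cyc68 = true := by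
  decide +kernel

theorem c69 : cycleOKT Cfsg.Agent.Lib.Helper19.F24M.FoxP3.data Cfsg.Agent.Lib.Helper19.F24M.T3Tab.table3.tau 24 69 Cfsg.Agent.Lib.Helper19.F24M.FoxP3Cyc.cyc69 = true := by
  decide +kernel

theorem c70 : cycleOKT Cfsg.Agent.Lib.Helper19.F24M.FoxP3.data Cfsg.Agent.Lib.Helper19.F24M.T3Tab.table3.tau 24 70 Cfsg.Agent.Lib.Helper19.F24M.FoxP3Cyc.cyc70 = true := by
  decide +kernel

theorem c71 : cycleOKT Cfsg.Agent.Lib.Helper19.F24M.FoxP3.data Cfsg.Agent.Lib.Helper19.F24M.T3Tab.table3.tau 24 71 Cfsg.Agent.Lib.Helper19.F24M.FoxP3Cyc.cyc71 = true := by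
  decide +kernel

theorem c72 : cycleOKT Cfsg.Agent.Lib.Helper19.F24M.FoxP3.data Cfsg.Agent.Lib.Helper19.F24M.T3Tab.table3.tau 24 72 Cfsg.Agent.Lib.Helper19.F24M.FoxP3Cyc.cyc72 = true := by
  decide +kernel

theorem c73 : cycleOKT Cfsg.Agent.Lib.Helper19.F24M.FoxP3.data Cfsg.Agent.Lib.Helper19.F24M.T3Tab.table3.tau 24 73 Cfsg.Agent.Lib.Helper19.F24M.FoxP3Cyc.cyc73 = true := by
  decide +kernel

theorem c74 : cycleOKT Cfsg.Agent.Lib.Helper19.F24M.FoxP3.data Cfsg.Agent.Lib.Helper19.F24M.T3Tab.table3.tau 24 74 Cfsg.Agent.Lib.Helper19.F24M.FoxP3Cyc.cyc74 = true := by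
  decide +kernel

theorem c75 : cycleOKT Cfsg.Agent.Lib.Helper19.F24M.FoxP3.data Cfsg.Agent.Lib.Helper19.F24M.T3Tab.table3.tau 24 75 Cfsg.Agent.Lib.Helper19.F24M.FoxP3Cyc.cyc75 = true := by
  decide +kernel

theorem c76 : cycleOKT Cfsg.Agent.Lib.Helper19.F24M.FoxP3.data Cfsg.Agent.Lib.Helper19.F24M.T3Tab.table3.tau 24 76 Cfsg.Agent.Lib.Helper19.F24M.FoxP3Cyc.cyc76 = true := by
  decide +kernel

theorem c77 : cycleOKT Cfsg.Agent.Lib.Helper19.F24M.FoxP3.data Cfsg.Agent.Lib.Helper19.F24M.T3Tab.table3.tau 24 77 Cfsg.Agent.Lib.Helper19.F24M.FoxP3Cyc.cyc77 = true := by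
  decide +kernel

theorem c78 : cycleOKT Cfsg.Agent.Lib.Helper19.F24M.FoxP3.data Cfsg.Agent.Lib.Helper19.F24M.T3Tab.table3.tau 24 78 Cfsg.Agent.Lib.Helper19.F24M.FoxP3Cyc.cyc78 = true := by
  decide +kernel

theorem c79 : cycleOKT Cfsg.Agent.Lib.Helper19.F24M.FoxP3.data Cfsg.Agent.Lib.Helper19.F24M.T3Tab.table3.tau 24 79 Cfsg.Agent.Lib.Helper19.F24M.FoxP3Cyc.cyc79 = true := by
  decide +kernel

theorem c80 : cycleOKT Cfsg.Agent.Lib.Helper19.F24M.FoxP3.data Cfsg.Agent.Lib.Helper19.F24M.T3Tab.table3.tau 24 80 Cfsg.Agent.Lib.Helper19.F24M.FoxP3Cyc.cyc80 = true := by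
  decide +kernel

end Cfsg.Agent.Lib.Helper19.F24M.FoxP3Chk0
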