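import Cfsg.Agent.Lib.Helper19.F24M.FoxP3
import Cfsg.Agent.Lib.Helper19.F24M.FoxP3CycB81
import Cfsg.Agent.Lib.Helper19.F24M.T3Tab
import Cfsg.Agent.Lib.Helper19.ONM.FoxPart
import Cfsg.Agent.Lib.Helper19.F24M.FoxP3Chk0  -- chain
set_option autoImplicit false
set_option maxHeartbeats 0
set_option maxRecDepth 1000000

/-! The big cycle 81 of the Fox certificate modulo 3, checked in parts (one per generator, `FoxPart`), depth 20. -/

namespace Cfsg.Agent.Lib.Helper19.F24M.FoxP3ChkB81x0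
open Cfsg.Agent.Lib.Helper19.ONM.FoxPart

theorem head81 : headOK Cfsg.Agent.Lib.Helper19.F24M.FoxP3.data 81 Cfsg.Agent.Lib.Helper19.F24M.FoxP3Cyc.cyc81 = true := by
  decide +kernel

theorem p81_0 : partOK Cfsg.Agent.Lib.Helper19.F24M.FoxP3.data Cfsg.Agent.Lib.Helper19.F24M.T3Tab.table3.tau 20 0 Cfsg.Agent.Lib.Helper19.F24M.FoxP3Cyc.cyc81 = true := by
  decide +kernel

theorem p81_1 : partOK Cfsg.Agent.Lib.Helper19.F24M.FoxP3.data Cfsg.Agent.Lib.Helper19.F24M.T3Tab.table3.tau 20 1 Cfsg.Agent.Lib.Helper19.F24M.FoxP3Cyc.cyc81 = true := by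
  decide +kernel

theorem p81_2 : partOK Cfsg.Agent.Lib.Helper19.F24M.FoxP3.data Cfsg.Agent.Lib.Helper19.F24M.T3Tab.table3.tau 20 2 Cfsg.Agent.Lib.Helper19.F24M.FoxP3Cyc.cyc81 = true := by
  decide +kernel

theorem p81_3 : partOK Cfsg.Agent.Lib.Helper19.F24M.FoxP3.data Cfsg.Agent.Lib.Helper19.F24M.T3Tab.table3.tau 20 3 Cfsg.Agent.Lib.Helper19.F24M.FoxP3Cyc.cyc81 = true := by
  decide +kernel

theorem p81_4 : partOK Cfsg.Agent.Lib.Helper19.F24M.FoxP3.data Cfsg.Agent.Lib.Helper19.F24M.T3Tab.table3.tau 20 4 Cfsg.Agent.Lib.Helper19.F24M.FoxP3Cyc.cyc81 = true := by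
  decide +kernel

theorem p81_5 : partOK Cfsg.Agent.Lib.Helper19.F24M.FoxP3.data Cfsg.Agent.Lib.Helper19.F24M.T3Tab.table3.tau 20 5 Cfsg.Agent.Lib.Helper19.F24M.FoxP3Cyc.cyc81 = true := by
  decide +kernel

theorem p81_6 : partOK Cfsg.Agent.Lib.Helper19.F24M.FoxP3.data Cfsg.Agent.Lib.Helper19.F24M.T3Tab.table3.tau 20 6 Cfsg.Agent.Lib.Helper19.F24M.FoxP3Cyc.cyc81 = true := by
  decide +kernel

end Cfsg.Agent.Lib.Helper19.F24M.FoxP3ChkB81x0
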