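import Cfsg.Agent.Lib.Helper28.Fi24Fi23
import Cfsg.Agent.Lib.Helper13.SchurPSL2
import Cfsg.Agent.S1698
import Cfsg.Agent.S2054

set_option autoImplicit false

/-!
# The facts on `Fi₂₄`, `Fi₂₄′` and `Fi₂₃` used for the Schur multiplier of `Fi₂₄′`

Orders and simplicity (helper28's coset enumerations, `S1698`), the conjugacy of the generators of `Fi₂₄`, and the
presentation `P23` of `Fi₂₃` on the graph `Y₃₄₂` with the single further relator `(a b c d e f h)^9` (helper28's
`F23NIso`), whose Schur multiplier is trivial (`S2054`).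
-/

namespace Cfsg.Agent.Lib.Helper19.F24M.Heavy

open Cfsg.Spor

instance finite_Fi24 : Finite Fi24 := Cfsg.Agent.Lib.Helper28.Fi24Transp.main.1

theorem card_Fi24 : Nat.card Fi24 = 2 * 1255205709190661721292800 := Cfsg.Agent.Lib.Helper28.Fi24Transp.main.2.1

theorem card_Fi24' : Nat.card Fi24' = 1255205709190661721292800 := Cfsg.Agent.S1698.result.2

theorem simple_Fi24' : IsSimpleGroup Fi24' := Cfsg.Agent.S1698.result.1

theorem isConj_l (x : Fi24.Gen) :
    IsConj (PresentedGroup.of Fi24.Gen.l : Fi24) (PresentedGroup.of x) :=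
  Cfsg.Agent.Lib.Helper28.Fi24Transp.isConj_gen x

/-- the presentation of `Fi₂₃` on the graph `Y₃₄₂` with the relator `(a b c d e f h)^9` -/
abbrev P23 : Type := PresentedGroup (coxRelators Cfsg.Agent.Lib.Helper28.TCF23NW0Def.edges ∪
  {r | r ∈ Cfsg.Agent.Lib.Helper28.TCF23NW0Def.extra})

instance finite_P23 : Finite P23 := Cfsg.Agent.Lib.Helper28.F23NIso.card_PN.1

theorem card_P23 : Nat.card P23 = 4089470473293004800 := Cfsg.Agent.Lib.Helper28.F23NIso.card_PN.2

theorem simple_P23 : IsSimpleGroup P23 := Cfsg.Agent.Lib.Helper28.Fi24Fi23.isSimpleGroup_PN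

theorem schur_P23 : Cfsg.HasCyclicSchurMultiplier P23 1 :=
  Cfsg.Agent.Lib.Helper13.SchurSL2.hasSchurMultiplier_congr Cfsg.Agent.Lib.Helper28.Fi24Fi23.thetaEquiv.symm
    Cfsg.Agent.S2054.result

end Cfsg.Agent.Lib.Helper19.F24M.Heavy
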