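import Cfsg.Agent.Lib.Helper19.F24M.Proj
import Cfsg.Agent.Lib.Helper19.F24M.Heavy

set_option autoImplicit false
set_option maxRecDepth 100000

/-!
# The homomorphism of the presented `Fi₂₃` onto the subgroup `⟨u_a, …, u_i⟩` of the cover
-/

namespace Cfsg.Agent.Lib.Helper19.F24M.Iota

open Cfsg.Agent.Lib.Helper19.F24M.Def Cfsg.Agent.Lib.Helper19.F24M.NRel Cfsg.Agent.Lib.Helper19.F24M.Proj
open Cfsg.Agent.Lib.Helper19.F24M.Heavy
open Cfsg.Agent.Lib.Helper28 Cfsg.Agent.Lib.Helper28.TC2Tower Cfsg.Agent.Lib.Helper28.TC2Glue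

/-- the generators of the presented `Fi₂₃` -/
abbrev G23 : Type := Cfsg.Agent.Lib.Helper28.TCF23NW0Def.Gen

/-- the generators of `Fi₂₃` as generators of the cover -/
def upY : G23 → Gen14
  | .a => .a
  | .b => .b
  | .c => .c
  | .d => .d
  | .e => .e
  | .f => .f
  | .g => .g
  | .j => .j
  | .h => .h
  | .i => .i

/-- the involution generators -/
def isYG : Gen14 → Bool
  | .k => false
  | .t => false
  | .tp => false
  | .z => false
  | _ => true

/-- the normal form of a letter: the letters of the involutions are positive -/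
def nrmG (xb : Gen14 × Bool) : Gen14 × Bool := cond (isYG xb.1) (xb.1, true) xb

/-- the value of a letter in the cover -/
abbrev letG (xb : Gen14 × Bool) : Ghat := letV gen xb

theorem mkG_prod (L : List (Gen14 × Bool)) :
    (PresentedGroup.mk rels (FreeGroup.mk L) : Ghat) = (L.map letG).prod := mk_mk_prod rels L

theorem sq_of_isYG (y : Gen14) (hy : isYG y = true) : gen y * gen y = 1 := by
  have h : [(y, true), (y, true)] ∈ relWords := by
    cases y <;> first | (exact absurd hy (by decide)) | decide
  have := mk_eq_one h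
  rw [mkG_prod] at this
  simpa [letG, letV] using this

theorem inv_of_isYG (y : Gen14) (hy : isYG y = true) : (gen y)⁻¹ = gen y :=
  inv_eq_of_mul_eq_one_left (sq_of_isYG y hy)

theorem letG_nrm (xb : Gen14 × Bool) : letG (nrmG xb) = letG xb := by
  obtain ⟨x, b⟩ := xb
  by_cases hy : isYG x = true
  · have e : nrmG (x, b) = (x, true) := by unfold nrmG; rw [hy]; rfl
    rw [e]
    cases b
    · show gen x = (gen x)⁻¹
      exact (inv_of_isYG x hy).symm
    · rfl
  · have e : nrmG (x, b) = (x, b) := by
      unfold nrmG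
      rw [Bool.not_eq_true] at hy
      rw [hy]; rfl
    rw [e]

theorem mkG_map_nrm (L : List (Gen14 × Bool)) :
    (PresentedGroup.mk rels (FreeGroup.mk (L.map nrmG)) : Ghat) = PresentedGroup.mk rels (FreeGroup.mk L) := by
  rw [mkG_prod, mkG_prod, List.map_map]
  congr 1
  apply List.map_congr_left
  intro xb _
  exact letG_nrm xb

/-- a test for the triviality of a word in the cover -/
def trivG (w : List (Gen14 × Bool)) : Bool :=
  decide (w ∈ relWords) || decide ((FreeGroup.invRev w).map nrmG ∈ relWords)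

theorem mk_eq_one_of_trivG {w : List (Gen14 × Bool)} (h : trivG w = true) :
    (PresentedGroup.mk rels (FreeGroup.mk w) : Ghat) = 1 := by
  unfold trivG at h
  simp only [Bool.or_eq_true, decide_eq_true_eq] at h
  rcases h with h | h
  · exact mk_eq_one h
  · have h1 := mk_eq_one h
    rw [mkG_map_nrm, ← FreeGroup.inv_mk, map_inv, inv_eq_one] at h1
    exact h1

/-- the further relator of the presented `Fi₂₃` in list form -/
def e7Word : List (G23 × Bool) :=
  (List.replicate 9 [(TCF23NW0Def.Gen.a, true), (.b, true), (.c, true), (.d, true), (.e, true), (.f, true),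
    (.h, true)]).flatten

theorem hextra23 : TCF23NW0Def.extra = [e7Word].map FreeGroup.mk := by
  rfl

theorem iota_chk : ∀ L ∈ coxWords TCF23NW0Def.edges ++ [e7Word], trivG (upWord upY L) = true := by
  decide +kernel

theorem lift_gen_up (L : List (G23 × Bool)) :
    FreeGroup.lift (fun x => gen (upY x)) (FreeGroup.mk L) = PresentedGroup.mk rels (FreeGroup.mk (upWord upY L)) := by
  rw [← map_mk]
  have h : FreeGroup.lift (fun x => gen (upY x)) = (PresentedGroup.mk rels).comp (FreeGroup.map upY) := by
    ext y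
    show FreeGroup.lift (fun x => gen (upY x)) (FreeGroup.of y) = _
    rw [FreeGroup.lift_apply_of]
    rfl
  exact DFunLike.congr_fun h (FreeGroup.mk L)

theorem lift_gen_rel : ∀ r ∈ Cfsg.Spor.coxRelators TCF23NW0Def.edges ∪ {r | r ∈ TCF23NW0Def.extra},
    FreeGroup.lift (fun x => gen (upY x)) r = 1 := by
  intro r hr
  rw [mem_rels_iff _ _ _ hextra23] at hr
  obtain ⟨L, hL, rfl⟩ := hr
  rw [lift_gen_up]
  exact mk_eq_one_of_trivG (iota_chk L hL)

/-- the homomorphism of the presented `Fi₂₃` to the cover -/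
noncomputable def iota : P23 →* Ghat := PresentedGroup.toGroup lift_gen_rel

theorem iota_of (x : G23) : iota (PresentedGroup.of x) = gen (upY x) := PresentedGroup.toGroup.of lift_gen_rel

theorem range_iota : iota.range = Hp := by
  rw [MonoidHom.range_eq_map, ← PresentedGroup.closure_range_of, MonoidHom.map_closure]
  unfold Hp
  congr 1
  ext g
  simp only [Set.mem_image, Set.mem_range, exists_exists_eq_and, Set.mem_insert_iff, Set.mem_singleton_iff]
  constructor
  · rintro ⟨x, rfl⟩
    rw [iota_of]
    cases x <;> simp [upY]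
  · rintro (rfl | rfl | rfl | rfl | rfl | rfl | rfl | rfl | rfl | rfl)
    exacts [⟨.a, iota_of _⟩, ⟨.b, iota_of _⟩, ⟨.c, iota_of _⟩, ⟨.d, iota_of _⟩, ⟨.e, iota_of _⟩, ⟨.f, iota_of _⟩,
      ⟨.g, iota_of _⟩, ⟨.j, iota_of _⟩, ⟨.h, iota_of _⟩, ⟨.i, iota_of _⟩]

/-- the homomorphism is injective as soon as `u_a` is not trivial -/
theorem iota_injective (ha : gen .a ≠ 1) : Function.Injective iota := by
  haveI := simple_P23
  rw [← MonoidHom.ker_eq_bot_iff]
  rcases iota.normal_ker.eq_bot_or_eq_top with h | h
  · exact h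
  · exfalso
    apply ha
    have : (PresentedGroup.of TCF23NW0Def.Gen.a : P23) ∈ iota.ker := by rw [h]; exact Subgroup.mem_top _
    rw [MonoidHom.mem_ker, iota_of] at this
    exact this

theorem card_Hp (ha : gen .a ≠ 1) : Nat.card Hp = 4089470473293004800 := by
  rw [← range_iota, ← card_P23]
  exact (Nat.card_congr (Equiv.ofInjective iota (iota_injective ha))).symm

end Cfsg.Agent.Lib.Helper19.F24M.Iota
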