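import Cfsg.Agent.Lib.Helper19.F24M.ToFi
import Cfsg.Agent.Lib.Helper19.F24M.Heavy

set_option autoImplicit false
set_option maxRecDepth 100000

/-!
# The presented even subgroup is isomorphic to `Fi₂₄′`
-/

namespace Cfsg.Agent.Lib.Helper19.F24M.Iso

open Cfsg.Agent.Lib.Helper19.F24M.Def Cfsg.Agent.Lib.Helper19.F24M.NRel Cfsg.Agent.Lib.Helper19.F24M.Semi
open Cfsg.Agent.Lib.Helper19.F24M.ToFi Cfsg.Agent.Lib.Helper19.F24M.Heavy
open Cfsg.Spor
open scoped commutatorElement


theorem lx_mem_commutator (x : Fi24.Gen) : ofG .l * ofG x ∈ commutator Fi24 := by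
  obtain ⟨h0, hh⟩ := isConj_iff.mp (isConj_l x)
  obtain ⟨h, rfl⟩ : ∃ h : Fi24, h = h0 := ⟨h0, rfl⟩
  have hh' : h * ofG .l * h⁻¹ = ofG x := hh
  rw [← hh']
  have e : ofG .l * (h * ofG .l * h⁻¹) = ⁅ofG .l, h⁆ := by
    rw [commutatorElement_def, ofG_inv]
    group
  rw [e]
  exact Subgroup.commutator_mem_commutator (Subgroup.mem_top _) (Subgroup.mem_top _)

theorem range_le : toFi.range ≤ commutator Fi24 := by
  rw [range_toFi, Subgroup.closure_le]
  rintro _ ⟨x, rfl⟩
  exact lx_mem_commutator x

instance finite_N : Finite N := Semi.finite_card.1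

theorem card_N_le : Nat.card N ≤ 1255205709190661721292800 := by
  have h := Semi.finite_card.2
  rw [card_Fi24] at h
  omega

theorem card_range_ge : 1255205709190661721292800 ≤ Nat.card toFi.range := by
  have h := ToFi.card_le
  rw [card_Fi24] at h
  omega

theorem card_range_le : Nat.card toFi.range ≤ Nat.card N :=
  Nat.card_le_card_of_surjective _ toFi.rangeRestrict_surjective

theorem card_N : Nat.card N = 1255205709190661721292800 :=
  le_antisymm card_N_le (card_range_ge.trans card_range_le)

theorem card_range : Nat.card toFi.range = 1255205709190661721292800 :=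
  le_antisymm (card_range_le.trans card_N_le) card_range_ge

theorem range_eq : toFi.range = commutator Fi24 := by
  apply Subgroup.eq_of_le_of_card_ge range_le
  rw [card_range]
  exact card_Fi24'.le

theorem toFi_injective : Function.Injective toFi := by
  have h : Function.Bijective toFi.rangeRestrict := by
    apply toFi.rangeRestrict_surjective.bijective_of_nat_card_le
    rw [card_N, card_range]
  intro a b hab
  apply h.1
  exact Subtype.ext hab

/-- the homomorphism to `Fi₂₄′` -/
noncomputable def toFi' : N →* Fi24' := toFi.codRestrict (commutator Fi24) (fun n => range_le ⟨n, rfl⟩)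

theorem toFi'_coe (n : N) : ((toFi' n : Fi24') : Fi24) = toFi n := rfl

theorem toFi'_injective : Function.Injective toFi' := by
  intro a b hab
  apply toFi_injective
  have := congrArg Subtype.val hab
  exact this

theorem toFi'_surjective : Function.Surjective toFi' := by
  rintro ⟨g, hg⟩
  rw [← range_eq] at hg
  obtain ⟨n, rfl⟩ := hg
  exact ⟨n, rfl⟩

/-- the presented even subgroup is `Fi₂₄′` -/
noncomputable def isoN : N ≃* Fi24' := MulEquiv.ofBijective toFi' ⟨toFi'_injective, toFi'_surjective⟩

end Cfsg.Agent.Lib.Helper19.F24M.Iso
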