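import Cfsg.Agent.Lib.Helper19.F24M.Def

set_option autoImplicit false
set_option maxRecDepth 100000

/-!
# The presented even subgroup of `Fi₂₄`: letters, the involutions, the automorphism `θ`

`θ` is conjugation by `l`: it inverts the generators `u_x` and exchanges `t` and `tp`.
-/

namespace Cfsg.Agent.Lib.Helper19.F24M.NRel

open Cfsg.Agent.Lib.Helper19.F24M.Def

/-- the value of a letter in a group -/
def letV {α : Type} {K : Type*} [Group K] (f : α → K) (xb : α × Bool) : K := cond xb.2 (f xb.1) (f xb.1)⁻¹

theorem lift_mk_prod {α : Type} {K : Type*} [Group K] (f : α → K) (L : List (α × Bool)) :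
    FreeGroup.lift f (FreeGroup.mk L) = (L.map (letV f)).prod := by
  rw [FreeGroup.lift_mk]
  rfl

theorem mk_eq_lift {α : Type} (rels : Set (FreeGroup α)) :
    (PresentedGroup.mk rels : FreeGroup α →* PresentedGroup rels) =
      FreeGroup.lift (fun x => (PresentedGroup.of x : PresentedGroup rels)) := by
  ext x
  rw [FreeGroup.lift_apply_of]
  rfl

theorem mk_mk_prod {α : Type} (rels : Set (FreeGroup α)) (L : List (α × Bool)) :
    PresentedGroup.mk rels (FreeGroup.mk L) =
      (L.map (letV (fun x => (PresentedGroup.of x : PresentedGroup rels)))).prod := by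
  rw [mk_eq_lift, lift_mk_prod]

/-- the value of a letter in the even subgroup -/
abbrev letN (xb : Gen13 × Bool) : N := letV genN xb

theorem mkN_prod (L : List (Gen13 × Bool)) :
    (PresentedGroup.mk relsN (FreeGroup.mk L) : N) = (L.map letN).prod := mk_mk_prod relsN L

/-- the involution generators -/
def isY : Gen13 → Bool
  | .k => false
  | .t => false
  | .tp => false
  | _ => true

/-- the normal form of a letter: the letters of the involutions are positive -/
def nrm (xb : Gen13 × Bool) : Gen13 × Bool := cond (isY xb.1) (xb.1, true) xb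

theorem sq_of_isY (y : Gen13) (hy : isY y = true) : genN y * genN y = 1 := by
  have h : [(y, true), (y, true)] ∈ baseWords := by
    cases y <;> first | (exact absurd hy (by decide)) | decide
  have := mkN_eq_one h
  rw [mkN_prod] at this
  simpa [letN, letV] using this

theorem inv_of_isY (y : Gen13) (hy : isY y = true) : (genN y)⁻¹ = genN y :=
  inv_eq_of_mul_eq_one_left (sq_of_isY y hy)

theorem letN_nrm (xb : Gen13 × Bool) : letN (nrm xb) = letN xb := by
  obtain ⟨x, b⟩ := xb
  by_cases hy : isY x = true
  · have e : nrm (x, b) = (x, true) := by unfold nrm; rw [hy]; rfl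
    rw [e]
    cases b
    · show genN x = (genN x)⁻¹
      exact (inv_of_isY x hy).symm
    · rfl
  · have e : nrm (x, b) = (x, b) := by
      unfold nrm
      rw [Bool.not_eq_true] at hy
      rw [hy]; rfl
    rw [e]

theorem mkN_map_nrm (L : List (Gen13 × Bool)) :
    (PresentedGroup.mk relsN (FreeGroup.mk (L.map nrm)) : N) = PresentedGroup.mk relsN (FreeGroup.mk L) := by
  rw [mkN_prod, mkN_prod, List.map_map]
  congr 1
  apply List.map_congr_left
  intro xb _
  exact letN_nrm xb

/-- a word whose normal form is a relator word is trivial -/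
theorem mkN_eq_one_of_nrm {L : List (Gen13 × Bool)} (h : L.map nrm ∈ baseWords) :
    (PresentedGroup.mk relsN (FreeGroup.mk L) : N) = 1 := by
  rw [← mkN_map_nrm]
  exact mkN_eq_one h

/-- the action of `θ` on the letters -/
def thL : Gen13 × Bool → Gen13 × Bool
  | (.t, b) => (.tp, b)
  | (.tp, b) => (.t, b)
  | (x, b) => (x, !b)

/-- the images of the generators under `θ` -/
def thGen (x : Gen13) : N := letN (thL (x, true))

theorem letV_thGen (xb : Gen13 × Bool) : letV thGen xb = letN (thL xb) := by
  obtain ⟨x, b⟩ := xb
  cases b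
  · cases x <;> simp [letV, thGen, thL, letN]
  · rfl

theorem lift_thGen_mk (L : List (Gen13 × Bool)) :
    FreeGroup.lift thGen (FreeGroup.mk L) = PresentedGroup.mk relsN (FreeGroup.mk (L.map thL)) := by
  rw [lift_mk_prod, mkN_prod, List.map_map]
  congr 1
  apply List.map_congr_left
  intro xb _
  exact letV_thGen xb

theorem th_closed : ∀ L ∈ baseWords, (L.map thL).map nrm ∈ baseWords := by decide +kernel

theorem th_rel : ∀ r ∈ relsN, FreeGroup.lift thGen r = 1 := by
  rintro r ⟨L, hL, rfl⟩
  rw [lift_thGen_mk]
  exact mkN_eq_one_of_nrm (th_closed L hL)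

/-- the endomorphism `θ` -/
noncomputable def thN : N →* N := PresentedGroup.toGroup th_rel

theorem thN_gen (x : Gen13) : thN (genN x) = thGen x := PresentedGroup.toGroup.of th_rel

theorem thN_thGen (x : Gen13) : thN (thGen x) = genN x := by
  cases x <;> simp [thGen, thL, letN, letV, thN_gen]

theorem thN_thN (n : N) : thN (thN n) = n := by
  have h : thN.comp thN = MonoidHom.id N := by
    apply PresentedGroup.ext
    intro x
    show thN (thN (genN x)) = genN x
    rw [thN_gen, thN_thGen]
  exact DFunLike.congr_fun h n

/-- the automorphism `θ` -/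
noncomputable def thEquiv : N ≃* N := MonoidHom.toMulEquiv thN thN
  (MonoidHom.ext fun n => thN_thN n) (MonoidHom.ext fun n => thN_thN n)

theorem thEquiv_apply (n : N) : thEquiv n = thN n := rfl

theorem thEquiv_sq : thEquiv * thEquiv = 1 := by
  ext n
  exact thN_thN n

/-- the generators `u_x` are inverted by `θ` -/
theorem thN_inv_of_ne (x : Gen13) (ht : x ≠ .t) (htp : x ≠ .tp) : thN (genN x) = (genN x)⁻¹ := by
  rw [thN_gen]
  cases x <;> first | rfl | exact absurd rfl ht | exact absurd rfl htp

theorem thN_t : thN (genN .t) = genN .tp := by rw [thN_gen]; rfl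

theorem thN_tp : thN (genN .tp) = genN .t := by rw [thN_gen]; rfl

end Cfsg.Agent.Lib.Helper19.F24M.NRel
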