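import Cfsg.Agent.Lib.Helper19.F24M.Proj
import Cfsg.Prelude.Def_KGroupFacts

set_option autoImplicit false
set_option maxRecDepth 100000

/-!
# The presented triple cover is perfect
-/

namespace Cfsg.Agent.Lib.Helper19.F24M.Perf

open Cfsg.Agent.Lib.Helper19.F24M.Def Cfsg.Agent.Lib.Helper19.F24M.NRel Cfsg.Agent.Lib.Helper19.F24M.Proj

/-- in an abelian group two involutions with a product of order dividing `3` are equal -/
theorem eq_of_braid {A : Type*} [CommGroup A] (x y : A) (hx : x * x = 1) (hy : y * y = 1)
    (h : (x * y) * (x * y) * (x * y) = 1) : x = y := by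
  have h1 : x * y = 1 := by
    calc x * y = (x * y) * (x * y) * (x * y) * (x * x)⁻¹ * (y * y)⁻¹ := by
          apply Additive.ofMul.injective
          simp only [ofMul_mul, ofMul_inv]
          abel
      _ = 1 := by rw [h, hx, hy]; simp
  calc x = x * (y * y) := by rw [hy, mul_one]
    _ = (x * y) * y := by rw [mul_assoc]
    _ = y := by rw [h1, one_mul]

/-- the images of the generators in the abelianisation -/
noncomputable def ag (x : Gen14) : Abelianization Ghat := Abelianization.of (gen x)

theorem ab_word {L : List (Gen14 × Bool)} (hL : L ∈ relWords) : (L.map (letV ag)).prod = 1 := by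
  have h := mk_eq_one hL
  rw [mk_mk_prod] at h
  have h2 := congrArg (Abelianization.of : Ghat →* Abelianization Ghat) h
  rw [map_one, map_list_prod, List.map_map] at h2
  rw [← h2]
  congr 1
  apply List.map_congr_left
  rintro ⟨x, b⟩ _
  cases b
  · show (ag x)⁻¹ = Abelianization.of (gen x)⁻¹
    rw [map_inv]; rfl
  · rfl

theorem ag_sq (y : Gen14) (h : [(y, true), (y, true)] ∈ relWords) : ag y * ag y = 1 := by
  have := ab_word h
  simpa [letV] using this

theorem ag_braid (x y : Gen14) (h : [(x, true), (y, true), (x, true), (y, true), (x, true), (y, true)] ∈ relWords) :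
    (ag x * ag y) * (ag x * ag y) * (ag x * ag y) = 1 := by
  have := ab_word h
  simp only [letV, List.map_cons, List.map_nil, List.prod_cons, List.prod_nil, cond_true, mul_one] at this
  rw [← this]
  simp only [mul_assoc]

theorem ag_eq (x y : Gen14) (hx : [(x, true), (x, true)] ∈ relWords) (hy : [(y, true), (y, true)] ∈ relWords)
    (h : [(x, true), (y, true), (x, true), (y, true), (x, true), (y, true)] ∈ relWords) : ag x = ag y :=
  eq_of_braid _ _ (ag_sq x hx) (ag_sq y hy) (ag_braid x y h)

theorem ag_a : ag .a = 1 := by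
  have h1 := ab_word (L := [(.k, true), (.a, true), (.k, true), (.a, true), (.k, true), (.a, true)]) (by decide)
  have h2 := ab_word (L := [(.k, true), (.k, true), (.k, true)]) (by decide)
  have h3 := ag_sq .a (by decide)
  simp only [letV, List.map_cons, List.map_nil, List.prod_cons, List.prod_nil, cond_true, mul_one] at h1 h2
  calc ag .a = (ag .k * (ag .a * (ag .k * (ag .a * (ag .k * ag .a))))) * (ag .k * (ag .k * ag .k))⁻¹ *
        (ag .a * ag .a)⁻¹ := by
        apply Additive.ofMul.injective
        simp only [ofMul_mul, ofMul_inv]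
        abel
    _ = 1 := by rw [h1, h2, h3]; simp

theorem ag_Y : ag .a = 1 ∧ ag .b = 1 ∧ ag .c = 1 ∧ ag .d = 1 ∧ ag .e = 1 ∧ ag .f = 1 ∧ ag .g = 1 ∧ ag .j = 1 ∧
    ag .h = 1 ∧ ag .i = 1 := by
  have ha := ag_a
  have hb : ag .b = 1 := by rw [← ag_eq .a .b (by decide) (by decide) (by decide)]; exact ha
  have hc : ag .c = 1 := by rw [← ag_eq .b .c (by decide) (by decide) (by decide)]; exact hb
  have hd : ag .d = 1 := by rw [← ag_eq .c .d (by decide) (by decide) (by decide)]; exact hc
  have he : ag .e = 1 := by rw [← ag_eq .d .e (by decide) (by decide) (by decide)]; exact hd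
  have hf : ag .f = 1 := by rw [← ag_eq .e .f (by decide) (by decide) (by decide)]; exact he
  have hg : ag .g = 1 := by rw [← ag_eq .f .g (by decide) (by decide) (by decide)]; exact hf
  have hj : ag .j = 1 := by rw [← ag_eq .g .j (by decide) (by decide) (by decide)]; exact hg
  have hh : ag .h = 1 := by rw [← ag_eq .d .h (by decide) (by decide) (by decide)]; exact hd
  have hi : ag .i = 1 := by rw [← ag_eq .h .i (by decide) (by decide) (by decide)]; exact hh
  exact ⟨ha, hb, hc, hd, he, hf, hg, hj, hh, hi⟩

theorem ag_k : ag .k = 1 := by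
  have h1 := ab_word (L := [(.k, true), (.b, true), (.k, true), (.b, true)]) (by decide)
  have h2 := ab_word (L := [(.k, true), (.k, true), (.k, true)]) (by decide)
  simp only [letV, List.map_cons, List.map_nil, List.prod_cons, List.prod_nil, cond_true, mul_one] at h1 h2
  rw [ag_Y.2.1] at h1
  simp only [mul_one, one_mul] at h1
  calc ag .k = (ag .k * (ag .k * ag .k)) * (ag .k * ag .k)⁻¹ := by group
    _ = 1 := by rw [h2, h1]; simp

theorem ag_t : ag .t = 1 := by
  have h := ab_word (L := [(.t, false), (.d, true), (.c, true), (.b, true), (.a, true), (.k, false), (.d, true),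
    (.e, true), (.f, true), (.g, true), (.j, true), (.d, true), (.h, true), (.i, true)]) (by decide)
  obtain ⟨ha, hb, hc, hd, he, hf, hg, hj, hh, hi⟩ := ag_Y
  simp only [letV, List.map_cons, List.map_nil, List.prod_cons, List.prod_nil, cond_true, cond_false, mul_one,
    ha, hb, hc, hd, he, hf, hg, hj, hh, hi, ag_k, inv_one, one_mul] at h
  exact inv_eq_one.mp h

theorem ag_tp : ag .tp = 1 := by
  have h := ab_word (L := [(.tp, false), (.d, true), (.c, true), (.b, true), (.a, true), (.k, true), (.d, true),
    (.e, true), (.f, true), (.g, true), (.j, true), (.d, true), (.h, true), (.i, true)]) (by decide)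
  obtain ⟨ha, hb, hc, hd, he, hf, hg, hj, hh, hi⟩ := ag_Y
  simp only [letV, List.map_cons, List.map_nil, List.prod_cons, List.prod_nil, cond_true, cond_false, mul_one,
    ha, hb, hc, hd, he, hf, hg, hj, hh, hi, ag_k, one_mul] at h
  exact inv_eq_one.mp h

theorem ag_z : ag .z = 1 := by
  have h := ab_word (L := (List.replicate 17 (Gen14.t, true)) ++ [(Gen14.z, false)]) (by decide +kernel)
  rw [List.map_append, List.prod_append, List.map_replicate, List.prod_replicate] at h
  simp only [letV, List.map_cons, List.map_nil, List.prod_cons, List.prod_nil, cond_true, cond_false, mul_one,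
    ag_t, one_pow, one_mul] at h
  exact inv_eq_one.mp h

theorem ag_eq_one (x : Gen14) : ag x = 1 := by
  obtain ⟨ha, hb, hc, hd, he, hf, hg, hj, hh, hi⟩ := ag_Y
  cases x
  exacts [ag_k, ha, hb, hc, hd, he, hf, hg, hj, hh, hi, ag_t, ag_tp, ag_z]

/-- the cover is perfect -/
theorem perfect : commutator Ghat = ⊤ := by
  rw [eq_top_iff]
  intro g _
  rw [← Abelianization.ker_of (G := Ghat), MonoidHom.mem_ker]
  have h : (Abelianization.of : Ghat →* Abelianization Ghat) = 1 := by
    apply PresentedGroup.ext
    intro x
    exact ag_eq_one x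
  rw [h]
  rfl

theorem ker_le_commutator : proj.ker ≤ commutator Ghat := by
  rw [perfect]; exact le_top

/-- the projection is a stem extension -/
theorem isStem_proj : Cfsg.IsStemExtension proj := ⟨proj_surjective, ker_le_center, ker_le_commutator⟩

end Cfsg.Agent.Lib.Helper19.F24M.Perf
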