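import Cfsg.Agent.Lib.Helper19.F24M.NRel
import Cfsg.Agent.Lib.Helper28.TC2Tower2

set_option autoImplicit false
set_option maxRecDepth 100000

/-!
# The projection of the presented triple cover onto the presented even subgroup of `Fi₂₄`
-/

namespace Cfsg.Agent.Lib.Helper19.F24M.Proj

open Cfsg.Agent.Lib.Helper19.F24M.Def Cfsg.Agent.Lib.Helper19.F24M.NRel
open Cfsg.Agent.Lib.Helper28 Cfsg.Agent.Lib.Helper28.TC2Tower Cfsg.Agent.Lib.Helper28.TC2Glue

/-- images of the generators of the cover -/
def down : Gen14 → N
  | .k => genN .k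
  | .a => genN .a
  | .b => genN .b
  | .c => genN .c
  | .d => genN .d
  | .e => genN .e
  | .f => genN .f
  | .g => genN .g
  | .j => genN .j
  | .h => genN .h
  | .i => genN .i
  | .t => genN .t
  | .tp => genN .tp
  | .z => 1

theorem down_up (y : Gen13) : down (up y) = genN y := by
  cases y <;> rfl

theorem lift_down_up (L : List (Gen13 × Bool)) :
    FreeGroup.lift down (FreeGroup.mk (upWord up L)) = PresentedGroup.mk relsN (FreeGroup.mk L) := by
  rw [← map_mk]
  have h : (FreeGroup.lift down).comp (FreeGroup.map up) = PresentedGroup.mk relsN := by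
    ext y
    show FreeGroup.lift down (FreeGroup.map up (FreeGroup.of y)) = _
    rw [FreeGroup.map.of, FreeGroup.lift_apply_of, down_up]
    rfl
  exact DFunLike.congr_fun h (FreeGroup.mk L)

theorem mk_append {α : Type} (L M : List (α × Bool)) :
    (FreeGroup.mk (L ++ M) : FreeGroup α) = FreeGroup.mk L * FreeGroup.mk M := by
  rw [FreeGroup.mul_mk]

theorem base80 : baseWords.getD 80 [] ∈ baseWords := by decide
theorem base81 : baseWords.getD 81 [] ∈ baseWords := by decide

theorem lift_down_rel : ∀ r ∈ rels, FreeGroup.lift down r = 1 := by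
  rintro r ⟨L, hL, rfl⟩
  unfold relWords relWordsA relWordsC at hL
  simp only [List.mem_append, List.mem_map, List.mem_cons, List.not_mem_nil, or_false] at hL
  rcases hL with (⟨L0, hL0, rfl⟩ | rfl | rfl) | (⟨x, -, rfl⟩ | rfl)
  · rw [lift_down_up]
    exact mkN_eq_one (List.mem_of_mem_take hL0)
  · rw [mk_append, map_mul, lift_down_up, mkN_eq_one base80, one_mul]
    show FreeGroup.lift down (FreeGroup.of Gen14.z)⁻¹ = 1
    rw [map_inv, FreeGroup.lift_apply_of]
    exact inv_one
  · rw [mk_append, map_mul, lift_down_up, mkN_eq_one base81, one_mul]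
    show FreeGroup.lift down (FreeGroup.of Gen14.z) = 1
    rw [FreeGroup.lift_apply_of]
    rfl
  · show FreeGroup.lift down (FreeGroup.of Gen14.z * FreeGroup.of x * (FreeGroup.of Gen14.z)⁻¹ * (FreeGroup.of x)⁻¹) = 1
    simp only [map_mul, map_inv, FreeGroup.lift_apply_of]
    show 1 * down x * 1⁻¹ * (down x)⁻¹ = 1
    group
  · show FreeGroup.lift down (FreeGroup.of Gen14.z * FreeGroup.of Gen14.z * FreeGroup.of Gen14.z) = 1
    simp only [map_mul, FreeGroup.lift_apply_of]
    show (1 : N) * 1 * 1 = 1
    group

/-- the projection onto the presented even subgroup -/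
noncomputable def proj : Ghat →* N := PresentedGroup.toGroup lift_down_rel

theorem proj_gen (x : Gen14) : proj (gen x) = down x := PresentedGroup.toGroup.of lift_down_rel

theorem proj_surjective : Function.Surjective proj := by
  rw [← MonoidHom.range_eq_top, eq_top_iff, ← PresentedGroup.closure_range_of, Subgroup.closure_le]
  rintro _ ⟨y, rfl⟩
  exact ⟨gen (up y), by rw [proj_gen, down_up]⟩

/-- the central generator -/
abbrev zz : Ghat := gen .z

theorem zz_pow_three : zz ^ 3 = 1 := by
  have h := mk_eq_one (L := [(Gen14.z, true), (Gen14.z, true), (Gen14.z, true)]) (by decide)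
  have e : (FreeGroup.mk [(Gen14.z, true), (Gen14.z, true), (Gen14.z, true)] : FreeGroup Gen14) =
      FreeGroup.of Gen14.z * FreeGroup.of Gen14.z * FreeGroup.of Gen14.z := rfl
  rw [e, map_mul, map_mul] at h
  rw [pow_succ, pow_two]
  exact h

theorem zz_comm_of (x : Gen14) (hx : commz x ∈ relWords) : zz * gen x = gen x * zz := by
  have h := mk_eq_one hx
  have e : (FreeGroup.mk (commz x) : FreeGroup Gen14) =
    FreeGroup.of Gen14.z * FreeGroup.of x * (FreeGroup.of Gen14.z)⁻¹ * (FreeGroup.of x)⁻¹ := rfl
  rw [e, map_mul, map_mul, map_mul, map_inv, map_inv] at h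
  have h2 := mul_inv_eq_one.mp h
  have h3 := mul_inv_eq_iff_eq_mul.mp h2
  exact h3

theorem zz_comm_gen (x : Gen14) : zz * gen x = gen x * zz := by
  cases x
  case z => rfl
  all_goals exact zz_comm_of _ (by decide)

theorem zz_mem_center : zz ∈ Subgroup.center Ghat := by
  rw [Subgroup.mem_center_iff]
  intro y
  induction y using PresentedGroup.induction_on with
  | _ y =>
    induction y using FreeGroup.induction_on with
    | C1 => simp
    | of x => exact (zz_comm_gen x).symm
    | inv_of x h =>
      have h' : gen x * zz = zz * gen x := h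
      show (gen x)⁻¹ * zz = zz * (gen x)⁻¹
      rw [inv_mul_eq_iff_eq_mul, ← mul_assoc, h', mul_assoc, mul_inv_cancel, mul_one]
    | mul u v hu hv =>
      have hu' : PresentedGroup.mk rels u * zz = zz * PresentedGroup.mk rels u := hu
      have hv' : PresentedGroup.mk rels v * zz = zz * PresentedGroup.mk rels v := hv
      show PresentedGroup.mk rels u * PresentedGroup.mk rels v * zz = zz * (PresentedGroup.mk rels u * PresentedGroup.mk rels v)
      rw [mul_assoc, hv', ← mul_assoc, hu', mul_assoc]

/-- the kernel candidate -/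
abbrev Z : Subgroup Ghat := Subgroup.zpowers zz

theorem Z_le_center : Z ≤ Subgroup.center Ghat := by
  rw [Subgroup.zpowers_le]; exact zz_mem_center

instance Z_normal : Z.Normal := by
  constructor
  intro n hn y
  have := Subgroup.mem_center_iff.mp (Z_le_center hn) y
  rw [this, mul_inv_cancel_right]
  exact hn

theorem Z_le_ker : Z ≤ proj.ker := by
  rw [Subgroup.zpowers_le, MonoidHom.mem_ker, proj_gen]
  rfl

/-- images of the generators of the even subgroup in the quotient by `Z` -/
noncomputable def upQ (y : Gen13) : Ghat ⧸ Z := QuotientGroup.mk (gen (up y))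

theorem lift_upQ (L : List (Gen13 × Bool)) :
    FreeGroup.lift upQ (FreeGroup.mk L) =
      QuotientGroup.mk (PresentedGroup.mk rels (FreeGroup.mk (upWord up L))) := by
  rw [← map_mk]
  have h : FreeGroup.lift upQ =
      ((QuotientGroup.mk' Z).comp (PresentedGroup.mk rels)).comp (FreeGroup.map up) := by
    ext y
    show FreeGroup.lift upQ (FreeGroup.of y) = _
    rw [FreeGroup.lift_apply_of]
    rfl
  exact DFunLike.congr_fun h (FreeGroup.mk L)

theorem base_split : ∀ L ∈ baseWords, L ∈ baseWords.take 80 ∨ L = baseWords.getD 80 [] ∨ L = baseWords.getD 81 [] := by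
  decide +kernel

theorem lift_upQ_rel : ∀ r ∈ relsN, FreeGroup.lift upQ r = 1 := by
  rintro r ⟨L, hL, rfl⟩
  rw [lift_upQ]
  rcases base_split L hL with hL | rfl | rfl
  · have h : upWord up L ∈ relWords := by
      unfold relWords relWordsA
      simp only [List.mem_append, List.mem_map]
      exact Or.inl (Or.inl ⟨L, hL, rfl⟩)
    rw [mk_eq_one h]
    rfl
  · have h : upWord up (baseWords.getD 80 []) ++ [(Gen14.z, false)] ∈ relWords := by decide +kernel
    have h1 := mk_eq_one h
    rw [mk_append, map_mul] at h1
    have h2 : PresentedGroup.mk rels (FreeGroup.mk (upWord up (baseWords.getD 80 []))) = zz := by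
      have e : (PresentedGroup.mk rels (FreeGroup.mk [(Gen14.z, false)]) : Ghat) = zz⁻¹ := rfl
      rw [e] at h1
      exact mul_inv_eq_one.mp h1
    rw [h2]
    exact (QuotientGroup.eq_one_iff _).mpr (Subgroup.mem_zpowers zz)
  · have h : upWord up (baseWords.getD 81 []) ++ [(Gen14.z, true)] ∈ relWords := by decide +kernel
    have h1 := mk_eq_one h
    rw [mk_append, map_mul] at h1
    have h2 : PresentedGroup.mk rels (FreeGroup.mk (upWord up (baseWords.getD 81 []))) = zz⁻¹ := by
      have e : (PresentedGroup.mk rels (FreeGroup.mk [(Gen14.z, true)]) : Ghat) = zz := rfl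
      rw [e] at h1
      exact eq_inv_of_mul_eq_one_left h1
    rw [h2]
    exact (QuotientGroup.eq_one_iff _).mpr (Subgroup.inv_mem _ (Subgroup.mem_zpowers zz))

/-- the map from the even subgroup to the quotient of the cover -/
noncomputable def psi : N →* Ghat ⧸ Z := PresentedGroup.toGroup lift_upQ_rel

theorem psi_of (y : Gen13) : psi (genN y) = upQ y := PresentedGroup.toGroup.of lift_upQ_rel

/-- the projection, on the quotient by `Z` -/
noncomputable def projQ : Ghat ⧸ Z →* N := QuotientGroup.lift Z proj Z_le_ker

theorem psi_projQ : psi.comp projQ = MonoidHom.id _ := by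
  apply QuotientGroup.monoidHom_ext
  apply PresentedGroup.ext
  intro x
  show psi (proj (gen x)) = QuotientGroup.mk (gen x)
  rw [proj_gen]
  cases x
  case z =>
    show psi 1 = _
    rw [map_one]
    exact ((QuotientGroup.eq_one_iff _).mpr (Subgroup.mem_zpowers zz)).symm
  all_goals exact psi_of _

theorem projQ_injective : Function.Injective projQ := by
  intro u v h
  have := congrArg psi h
  have e : ∀ w, psi (projQ w) = w := fun w => DFunLike.congr_fun psi_projQ w
  rwa [e, e] at this

theorem ker_proj : proj.ker = Z := by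
  apply le_antisymm _ Z_le_ker
  intro x hx
  have h1 : projQ (QuotientGroup.mk x) = 1 := hx
  have h2 : (QuotientGroup.mk x : Ghat ⧸ Z) = 1 := projQ_injective (by rw [h1, map_one])
  exact (QuotientGroup.eq_one_iff _).mp h2

theorem ker_le_center : proj.ker ≤ Subgroup.center Ghat := by
  rw [ker_proj]; exact Z_le_center

/-- the cover is finite, of order at most three times that of the even subgroup -/
theorem finite_card [Finite N] : Finite Ghat ∧ Nat.card Ghat ≤ Nat.card N * 3 := by
  have hq : Finite (Ghat ⧸ Z) := Finite.of_injective projQ projQ_injective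
  have hqle : Nat.card (Ghat ⧸ Z) ≤ Nat.card N := Nat.card_le_card_of_injective projQ projQ_injective
  have ho : orderOf zz ∣ 3 := orderOf_dvd_of_pow_eq_one zz_pow_three
  have ho0 : 0 < orderOf zz := Nat.pos_of_ne_zero (fun h => by rw [h] at ho; omega)
  have hZ : Finite Z := Nat.finite_of_card_ne_zero (by rw [Nat.card_zpowers]; omega)
  have hZle : Nat.card Z ≤ 3 := by
    rw [Nat.card_zpowers]; exact Nat.le_of_dvd (by norm_num) ho
  exact TC2Tower2.card_le_of_quot Z hZ hq hqle hZle

/-- the subgroup generated by `u_a, …, u_i` -/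
def Hp : Subgroup Ghat :=
  Subgroup.closure {gen .a, gen .b, gen .c, gen .d, gen .e, gen .f, gen .g, gen .j, gen .h, gen .i}

end Cfsg.Agent.Lib.Helper19.F24M.Proj
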