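import Cfsg.Agent.Lib.Helper19.F24M.NRel
import Cfsg.Prelude.Def_Spor_Fi24

set_option autoImplicit false
set_option maxRecDepth 100000

/-!
# The presented group `Fi₂₄` maps onto the semidirect product of the presented even subgroup by `θ`

`l ↦ (1, c)`, `x ↦ (u_x⁻¹, c)`.  Hence `2 |N| ≤ |Fi₂₄|`.
-/

namespace Cfsg.Agent.Lib.Helper19.F24M.Semi

open Cfsg.Agent.Lib.Helper19.F24M.Def Cfsg.Agent.Lib.Helper19.F24M.NRel
open Cfsg.Agent.Lib.Helper28.TC2Glue
open Cfsg.Spor

/-- the group of order two -/
abbrev C2 : Type := Multiplicative (ZMod 2)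

/-- its generator -/
def c : C2 := Multiplicative.ofAdd 1

theorem C2_cases (a : C2) : a = 1 ∨ a = c := by
  have h : ∀ b : ZMod 2, b = 0 ∨ b = 1 := by decide
  rcases h (Multiplicative.toAdd a) with h | h
  · left; exact Multiplicative.toAdd.injective h
  · right; exact Multiplicative.toAdd.injective h

theorem c_mul_c : c * c = 1 := by decide

theorem c_ne_one : c ≠ 1 := by decide

theorem c_inv : c⁻¹ = c := inv_eq_of_mul_eq_one_left c_mul_c

/-- the action of the group of order two on the even subgroup -/
noncomputable def phiFun (a : C2) : MulAut N := if a = 1 then 1 else thEquiv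

theorem phiFun_mul (a b : C2) : phiFun (a * b) = phiFun a * phiFun b := by
  rcases C2_cases a with rfl | rfl <;> rcases C2_cases b with rfl | rfl
  · simp [phiFun]
  · simp [phiFun]
  · simp [phiFun]
  · rw [c_mul_c]
    simp only [phiFun, if_neg c_ne_one, if_true]
    exact thEquiv_sq.symm

/-- the action of the group of order two on the even subgroup -/
noncomputable def phi : C2 →* MulAut N := MonoidHom.mk' phiFun phiFun_mul

theorem phi_c (n : N) : phi c n = thN n := by
  show phiFun c n = thN n
  simp only [phiFun, if_neg c_ne_one]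
  rfl

/-- the semidirect product -/
abbrev S : Type := N ⋊[phi] C2

/-- the generators of `Fi₂₄` other than `l` as generators of the even subgroup -/
def dn : Fi24.Gen → Option Gen13
  | .l => none
  | .k => some .k
  | .a => some .a
  | .b => some .b
  | .c => some .c
  | .d => some .d
  | .e => some .e
  | .f => some .f
  | .g => some .g
  | .j => some .j
  | .h => some .h
  | .i => some .i

/-- the positive letter of a generator -/
def pos (x : Fi24.Gen) : List (Gen13 × Bool) :=
  match dn x with
  | none => []
  | some y => [(y, true)]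

/-- the negative letter of a generator -/
def neg (x : Fi24.Gen) : List (Gen13 × Bool) :=
  match dn x with
  | none => []
  | some y => [(y, false)]

/-- the element `u_x = l x` of the even subgroup -/
noncomputable def U (x : Fi24.Gen) : N := PresentedGroup.mk relsN (FreeGroup.mk (pos x))

theorem U_inv (x : Fi24.Gen) : (U x)⁻¹ = PresentedGroup.mk relsN (FreeGroup.mk (neg x)) := by
  unfold U
  rw [← map_inv, FreeGroup.inv_mk]
  cases x <;> rfl

theorem thN_U (x : Fi24.Gen) : thN (U x) = (U x)⁻¹ := by
  cases x
  case l =>
    have : U .l = 1 := rfl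
    rw [this, map_one, inv_one]
  all_goals exact thN_inv_of_ne _ (by decide) (by decide)

/-- the images of the generators -/
noncomputable def img (x : Fi24.Gen) : S := ⟨(U x)⁻¹, c⟩

theorem img_mul_img (x y : Fi24.Gen) : img x * img y = SemidirectProduct.inl ((U x)⁻¹ * U y) := by
  apply SemidirectProduct.ext
  · show (U x)⁻¹ * phi c (U y)⁻¹ = (U x)⁻¹ * U y
    rw [phi_c, map_inv, thN_U, inv_inv]
  · show c * c = 1
    exact c_mul_c

theorem img_sq (x : Fi24.Gen) : img x * img x = 1 := by
  rw [img_mul_img, inv_mul_cancel, map_one]

theorem img_inv (x : Fi24.Gen) : (img x)⁻¹ = img x := inv_eq_of_mul_eq_one_left (img_sq x)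

theorem letV_img (xb : Fi24.Gen × Bool) : letV img xb = img xb.1 := by
  obtain ⟨x, b⟩ := xb
  cases b
  · exact img_inv x
  · rfl

/-- the product of the pairs `u_x⁻¹ u_y` -/
noncomputable def pairProd : List Fi24.Gen → N
  | x :: y :: rest => (U x)⁻¹ * U y * pairProd rest
  | _ => 1

/-- the rewritten word -/
def rhoW : List Fi24.Gen → List (Gen13 × Bool)
  | x :: y :: rest => neg x ++ pos y ++ rhoW rest
  | _ => []

theorem pairProd_eq (v : List Fi24.Gen) : pairProd v = PresentedGroup.mk relsN (FreeGroup.mk (rhoW v)) := by
  induction v using pairProd.induct with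
  | case1 x y rest ih =>
    rw [pairProd, rhoW, ih, ← FreeGroup.mul_mk, ← FreeGroup.mul_mk, map_mul, map_mul, U_inv]
    rfl
  | case2 v h =>
    rw [pairProd, rhoW]
    · exact (map_one _).symm
    · exact h
    · exact h

theorem prod_img (v : List Fi24.Gen) (hv : v.length % 2 = 0) :
    (v.map img).prod = SemidirectProduct.inl (pairProd v) := by
  induction v using pairProd.induct with
  | case1 x y rest ih =>
    have hr : rest.length % 2 = 0 := by
      simp only [List.length_cons] at hv
      omega
    rw [List.map_cons, List.map_cons, List.prod_cons, List.prod_cons, ih hr, pairProd, ← mul_assoc, img_mul_img,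
      ← map_mul]
  | case2 v h =>
    match v, h with
    | [], _ => simp [pairProd]
    | [x], _ => simp at hv
    | x :: y :: rest, h => exact absurd rfl (h x y rest)

theorem lift_img_mk (L : List (Fi24.Gen × Bool)) (hL : L.length % 2 = 0) :
    FreeGroup.lift img (FreeGroup.mk L) =
      SemidirectProduct.inl (PresentedGroup.mk relsN (FreeGroup.mk (rhoW (L.map Prod.fst)))) := by
  rw [lift_mk_prod, ← pairProd_eq, ← prod_img _ (by rw [List.length_map]; exact hL), List.map_map]
  congr 1
  apply List.map_congr_left
  intro xb _
  exact letV_img xb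

/-- a test for the triviality of a word in the even subgroup -/
def trivN (w : List (Gen13 × Bool)) : Bool :=
  decide (w.map nrm = []) || decide (w = [(.k, false), (.k, true)]) || decide (w.map nrm ∈ baseWords) ||
    decide ((FreeGroup.invRev w).map nrm ∈ baseWords)

theorem mkN_eq_one_of_trivN {w : List (Gen13 × Bool)} (h : trivN w = true) :
    (PresentedGroup.mk relsN (FreeGroup.mk w) : N) = 1 := by
  unfold trivN at h
  simp only [Bool.or_eq_true, decide_eq_true_eq] at h
  rcases h with ((h | h) | h) | h
  · rw [← mkN_map_nrm, h]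
    exact map_one _
  · rw [h]
    have : (FreeGroup.mk [(Gen13.k, false), (Gen13.k, true)] : FreeGroup Gen13) = 1 := by
      show (FreeGroup.of Gen13.k)⁻¹ * FreeGroup.of Gen13.k = 1
      exact inv_mul_cancel _
    rw [this]
    exact map_one _
  · exact mkN_eq_one_of_nrm h
  · have h1 := mkN_eq_one_of_nrm h
    rw [← FreeGroup.inv_mk, map_inv, inv_eq_one] at h1
    exact h1

/-- the further relators of `Fi₂₄` in list form -/
def extraWord1 : List (Fi24.Gen × Bool) :=
  [(.l, true)] ++ (List.replicate 9 [(Fi24.Gen.h, false), (.f, false), (.e, false), (.d, false), (.c, false),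
    (.b, false), (.a, false)]).flatten

/-- the word `w` -/
def wWord : List (Fi24.Gen × Bool) :=
  [(.d, true), (.c, true), (.b, true), (.a, true), (.k, true), (.l, true), (.d, true), (.e, true), (.f, true),
    (.g, true), (.j, true), (.d, true), (.h, true), (.i, true)]

/-- the second further relator of `Fi₂₄` in list form -/
def extraWord2 : List (Fi24.Gen × Bool) := (List.replicate 17 wWord).flatten

theorem hextra : Fi24.extra = [extraWord1, extraWord2].map FreeGroup.mk := by
  rfl

theorem semi_chk : ∀ L ∈ coxWords Fi24.edges ++ [extraWord1],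
    L.length % 2 = 0 ∧ trivN (rhoW (L.map Prod.fst)) = true := by decide +kernel

end Cfsg.Agent.Lib.Helper19.F24M.Semi
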