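import Cfsg.Agent.Lib.Helper19.F24M.Semi

set_option autoImplicit false
set_option maxRecDepth 100000

/-!
# The homomorphism from `Fi₂₄` onto the semidirect product, and the bound `2 |N| ≤ |Fi₂₄|`
-/

namespace Cfsg.Agent.Lib.Helper19.F24M.Semi

open Cfsg.Agent.Lib.Helper19.F24M.Def Cfsg.Agent.Lib.Helper19.F24M.NRel
open Cfsg.Agent.Lib.Helper28.TC2Glue
open Cfsg.Spor

theorem mk_flatten_replicate {α : Type} (w : List (α × Bool)) (m : ℕ) :
    (FreeGroup.mk (List.replicate m w).flatten : FreeGroup α) = FreeGroup.mk w ^ m := by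
  induction m with
  | zero => rfl
  | succ m ih =>
    rw [pow_succ', ← ih, List.replicate_succ, List.flatten_cons, ← FreeGroup.mul_mk]

/-- the word `ρ(w)` -/
def WtWord : List (Gen13 × Bool) :=
  [(.d, true), (.c, true), (.b, true), (.a, true), (.k, false), (.d, true), (.e, true), (.f, true), (.g, true),
    (.j, true), (.d, true), (.h, true), (.i, true)]

/-- the word `ρ(l w l)` -/
def WtpWord : List (Gen13 × Bool) :=
  [(.d, true), (.c, true), (.b, true), (.a, true), (.k, true), (.d, true), (.e, true), (.f, true), (.g, true),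
    (.j, true), (.d, true), (.h, true), (.i, true)]

theorem mkN_Wt : (PresentedGroup.mk relsN (FreeGroup.mk WtWord) : N) = genN .t := by
  have h : (Gen13.t, false) :: WtWord ∈ baseWords := by decide
  have h1 := mkN_eq_one h
  rw [show ((Gen13.t, false) :: WtWord) = [(Gen13.t, false)] ++ WtWord from rfl, ← FreeGroup.mul_mk, map_mul] at h1
  have h2 : (PresentedGroup.mk relsN (FreeGroup.mk [(Gen13.t, false)]) : N) = (genN .t)⁻¹ := rfl
  rw [h2, inv_mul_eq_one] at h1
  exact h1.symm

theorem mkN_Wtp : (PresentedGroup.mk relsN (FreeGroup.mk WtpWord) : N) = genN .tp := by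
  have h : (Gen13.tp, false) :: WtpWord ∈ baseWords := by decide
  have h1 := mkN_eq_one h
  rw [show ((Gen13.tp, false) :: WtpWord) = [(Gen13.tp, false)] ++ WtpWord from rfl, ← FreeGroup.mul_mk,
    map_mul] at h1
  have h2 : (PresentedGroup.mk relsN (FreeGroup.mk [(Gen13.tp, false)]) : N) = (genN .tp)⁻¹ := rfl
  rw [h2, inv_mul_eq_one] at h1
  exact h1.symm

theorem genN_t_pow : genN .t ^ 17 = 1 := by
  have h : (List.replicate 17 [(Gen13.t, true)]).flatten ∈ baseWords := by decide
  have h1 := mkN_eq_one h
  rw [mk_flatten_replicate, map_pow] at h1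
  exact h1

theorem genN_tp_pow : genN .tp ^ 17 = 1 := by
  have h : (List.replicate 17 [(Gen13.tp, true)]).flatten ∈ baseWords := by decide
  have h1 := mkN_eq_one h
  rw [mk_flatten_replicate, map_pow] at h1
  exact h1

theorem rho_extra2_nrm : (rhoW (extraWord2.map Prod.fst)).map nrm = (List.replicate 17 WtWord).flatten := by
  decide +kernel

theorem rho_extra2 : (PresentedGroup.mk relsN (FreeGroup.mk (rhoW (extraWord2.map Prod.fst))) : N) = 1 := by
  rw [← mkN_map_nrm, rho_extra2_nrm, mk_flatten_replicate, map_pow, mkN_Wt]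
  exact genN_t_pow

theorem lift_img_rel : ∀ r ∈ coxRelators Fi24.edges ∪ {r | r ∈ Fi24.extra}, FreeGroup.lift img r = 1 := by
  intro r hr
  rw [mem_rels_iff _ _ _ hextra] at hr
  obtain ⟨L, hL, rfl⟩ := hr
  have hL' : L ∈ coxWords Fi24.edges ++ [extraWord1] ∨ L = extraWord2 := by
    simp only [List.mem_append, List.mem_cons, List.not_mem_nil, or_false] at hL ⊢
    tauto
  rcases hL' with hL' | rfl
  · obtain ⟨h1, h2⟩ := semi_chk L hL'
    rw [lift_img_mk L h1, mkN_eq_one_of_trivN h2, map_one]
  · rw [lift_img_mk extraWord2 (by decide), rho_extra2, map_one]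

/-- the homomorphism of `Fi₂₄` to the semidirect product -/
noncomputable def Psi : Fi24 →* S := PresentedGroup.toGroup lift_img_rel

theorem Psi_of (x : Fi24.Gen) : Psi (PresentedGroup.of x) = img x := PresentedGroup.toGroup.of lift_img_rel

theorem inr_c_mem : (SemidirectProduct.inr c : S) ∈ Psi.range := by
  refine ⟨PresentedGroup.of .l, ?_⟩
  rw [Psi_of]
  apply SemidirectProduct.ext
  · show (U .l)⁻¹ = 1
    have : U .l = 1 := rfl
    rw [this, inv_one]
  · rfl

theorem inl_U_mem (x : Fi24.Gen) : (SemidirectProduct.inl (U x) : S) ∈ Psi.range := by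
  refine ⟨PresentedGroup.of .l * PresentedGroup.of x, ?_⟩
  rw [map_mul, Psi_of, Psi_of, img_mul_img]
  have : U .l = 1 := rfl
  rw [this, inv_one, one_mul]

/-- the generators `u_x` generate the even subgroup -/
theorem closure_U : Subgroup.closure (Set.range U) = ⊤ := by
  rw [eq_top_iff, ← PresentedGroup.closure_range_of, Subgroup.closure_le]
  have hu : ∀ x : Fi24.Gen, U x ∈ Subgroup.closure (Set.range U) := fun x => Subgroup.subset_closure ⟨x, rfl⟩
  have hword : ∀ w : List (Gen13 × Bool), (∀ xb ∈ w, xb.1 ≠ .t ∧ xb.1 ≠ .tp) →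
      (PresentedGroup.mk relsN (FreeGroup.mk w) : N) ∈ Subgroup.closure (Set.range U) := by
    intro w hw
    rw [mkN_prod]
    apply Subgroup.list_prod_mem
    intro g hg
    rw [List.mem_map] at hg
    obtain ⟨⟨x, b⟩, hxb, rfl⟩ := hg
    have hx := hw _ hxb
    have hgen : genN x ∈ Subgroup.closure (Set.range U) := by
      cases x
      case t => exact absurd rfl hx.1
      case tp => exact absurd rfl hx.2
      case k => exact hu .k
      case a => exact hu .a
      case b => exact hu .b
      case c => exact hu .c
      case d => exact hu .d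
      case e => exact hu .e
      case f => exact hu .f
      case g => exact hu .g
      case j => exact hu .j
      case h => exact hu .h
      case i => exact hu .i
    cases b
    · exact Subgroup.inv_mem _ hgen
    · exact hgen
  rintro _ ⟨x, rfl⟩
  cases x
  case t =>
    show genN .t ∈ _
    rw [← mkN_Wt]
    exact hword _ (by decide)
  case tp =>
    show genN .tp ∈ _
    rw [← mkN_Wtp]
    exact hword _ (by decide)
  case k => exact hu .k
  case a => exact hu .a
  case b => exact hu .b
  case c => exact hu .c
  case d => exact hu .d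
  case e => exact hu .e
  case f => exact hu .f
  case g => exact hu .g
  case j => exact hu .j
  case h => exact hu .h
  case i => exact hu .i

theorem Psi_surjective : Function.Surjective Psi := by
  rw [← MonoidHom.range_eq_top, eq_top_iff]
  intro s _
  rw [← SemidirectProduct.inl_left_mul_inr_right s]
  apply mul_mem
  · have h : (⊤ : Subgroup N) ≤ Psi.range.comap SemidirectProduct.inl := by
      rw [← closure_U, Subgroup.closure_le]
      rintro _ ⟨x, rfl⟩
      exact inl_U_mem x
    exact h (Subgroup.mem_top _)
  · rcases C2_cases s.right with h | h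
    · rw [h, map_one]; exact one_mem _
    · rw [h]; exact inr_c_mem

theorem card_C2 : Nat.card C2 = 2 := by
  rw [Nat.card_congr Multiplicative.toAdd, Nat.card_zmod]

/-- the presented even subgroup is finite of order at most half the order of `Fi₂₄` -/
theorem finite_card [Finite Fi24] : Finite N ∧ Nat.card N * 2 ≤ Nat.card Fi24 := by
  haveI : Finite S := Finite.of_surjective Psi Psi_surjective
  haveI : Finite N := Finite.of_injective (SemidirectProduct.inl : N → S) SemidirectProduct.inl_injective
  refine ⟨inferInstance, ?_⟩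
  have h := Nat.card_le_card_of_surjective Psi Psi_surjective
  rw [SemidirectProduct.card, card_C2] at h
  exact h

end Cfsg.Agent.Lib.Helper19.F24M.Semi
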