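import Cfsg.Agent.Lib.Helper19.F24M.T3Rep
import Cfsg.Agent.Lib.Helper19.F24M.Iota
import Cfsg.Agent.Lib.Helper19.F24M.Iso
import Cfsg.Agent.Lib.Helper19.F24M.Perf

set_option autoImplicit false
set_option maxRecDepth 100000

/-!
# The presented triple cover of `Fi₂₄′`: order, centre, the subgroup `⟨u_a, …, u_i⟩`
-/

namespace Cfsg.Agent.Lib.Helper19.F24M.T3Card

open Cfsg.Agent.Lib.Helper19.F24M.Def Cfsg.Agent.Lib.Helper19.F24M.Proj
open Cfsg.Agent.Lib.Helper19.F24M.T3Tab Cfsg.Agent.Lib.Helper19.F24M.T3Rep Cfsg.Agent.Lib.Helper19.F24M.T3Lib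
open Cfsg.Agent.Lib.Helper28 Cfsg.Agent.Lib.Helper28.TC2Lower

instance finite_N : Finite N := Iso.finite_N

theorem card_N : Nat.card N = 1255205709190661721292800 := Iso.card_N

instance finite_Ghat : Finite Ghat := Proj.finite_card.1

theorem card_Ghat_le : Nat.card Ghat ≤ 3765617127571985163878400 := by
  have h := Proj.finite_card.2
  rw [card_N] at h
  exact h

theorem h1n : 1 < table3.n := by show 1 < 920808; norm_num

theorem gen_a_ne_one : gen .a ≠ 1 := by
  intro h
  have h1 := phi_gen .a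
  rw [h, map_one] at h1
  have h2 : (Table.sigma hT (lw (Gen14.a, true)) ⟨1, h1n⟩).val = table3.tau 2 1 :=
    Table.sigma_apply hT (hlwk _) ⟨1, h1n⟩
  rw [← h1] at h2
  exact T3Misc.hmove h2.symm

theorem card_Hp : Nat.card Hp = 4089470473293004800 := Iota.card_Hp gen_a_ne_one

theorem index_Hp_le : Hp.index ≤ 920808 := by
  have h := Hp.index_mul_card
  have h1 := card_Ghat_le
  rw [card_Hp] at h
  by_contra hc
  have h3 : 920809 ≤ Hp.index := by omega
  have h4 : 920809 * 4089470473293004800 ≤ Hp.index * 4089470473293004800 := Nat.mul_le_mul_right _ h3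
  omega

theorem f3_bijective : Function.Bijective f3 := by
  apply f3_surjective.bijective_of_nat_card_le
  rw [Nat.card_fin, ← Subgroup.index_eq_card]
  exact index_Hp_le

theorem index_Hp : Hp.index = 920808 := by
  rw [Subgroup.index_eq_card, Nat.card_congr (Equiv.ofBijective f3 f3_bijective), Nat.card_fin]
  rfl

theorem card_Ghat : Nat.card Ghat = 3765617127571985163878400 := by
  have h := Hp.index_mul_card
  rw [index_Hp, card_Hp] at h
  omega

theorem phi_zz_zero : (phi zz ⟨0, hn0⟩).val = 306936 := by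
  rw [show zz = gen .z from rfl, phi_gen, Table.sigma_apply hT (hlwk _)]
  exact hz 0 hn0

theorem zz_ne_one : zz ≠ 1 := by
  intro h
  have h1 := phi_zz_zero
  rw [h, map_one] at h1
  simp at h1

theorem orderOf_zz : orderOf zz = 3 := by
  haveI : Fact (Nat.Prime 3) := ⟨Nat.prime_three⟩
  exact orderOf_eq_prime zz_pow_three zz_ne_one

theorem card_Z : Nat.card Z = 3 := by rw [Nat.card_zpowers, orderOf_zz]

/-- the kernel of the cover is cyclic of order `3` -/
noncomputable def kerEquiv : proj.ker ≃* Multiplicative (ZMod 3) := by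
  haveI : Fact (Nat.Prime 3) := ⟨Nat.prime_three⟩
  refine mulEquivOfPrimeCardEq (p := 3) ?_ ?_
  · rw [ker_proj]; exact card_Z
  · rw [Nat.card_congr Multiplicative.toAdd, Nat.card_zmod]

end Cfsg.Agent.Lib.Helper19.F24M.T3Card
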