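import Cfsg.Agent.Lib.Helper19.F24M.T3Tab
import Cfsg.Agent.Lib.Helper19.F24M.T3Lib
import Cfsg.Agent.Lib.Helper19.F24M.T3Com3  -- chain
set_option autoImplicit false
set_option maxRecDepth 100000
set_option maxHeartbeats 0

namespace Cfsg.Agent.Lib.Helper19.F24M.T3Com4
open Cfsg.Agent.Lib.Helper28.TC2Upper Cfsg.Agent.Lib.Helper28.TC2Lower Cfsg.Agent.Lib.Helper28.TC2Range
open Cfsg.Agent.Lib.Helper19.F24M.T3Tab Cfsg.Agent.Lib.Helper19.F24M.T3Lib Cfsg.Agent.Lib.Helper16.McLM.CoverLow

theorem r0 : comRange table3 306936 613872 10000 = true := by decide +kernel
theorem r1 : comRange table3 306936 623872 10000 = true := by decide +kernel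
theorem r2 : comRange table3 306936 633872 10000 = true := by decide +kernel
theorem r3 : comRange table3 306936 643872 10000 = true := by decide +kernel
theorem r4 : comRange table3 306936 653872 10000 = true := by decide +kernel
theorem r5 : comRange table3 306936 663872 10000 = true := by decide +kernel
theorem r6 : comRange table3 306936 673872 10000 = true := by decide +kernel
theorem r7 : comRange table3 306936 683872 10000 = true := by decide +kernel
theorem r8 : comRange table3 306936 693872 10000 = true := by decide +kernel
theorem r9 : comRange table3 306936 703872 10000 = true := by decide +kernel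
theorem r10 : comRange table3 306936 713872 10000 = true := by decide +kernel
theorem r11 : comRange table3 306936 723872 10000 = true := by decide +kernel
theorem r12 : comRange table3 306936 733872 10000 = true := by decide +kernel
theorem r13 : comRange table3 306936 743872 10000 = true := by decide +kernel
theorem r14 : comRange table3 306936 753872 10000 = true := by decide +kernel
theorem r15 : comRange table3 306936 763872 3468 = true := by decide +kernel

theorem all : ∀ p, 613872 ≤ p → p < 767340 → comRow table3 306936 p = true := by
  intro p h1 h2
  rcases Nat.lt_or_ge p 623872 with h | h1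
  · exact (comRange_iff table3 306936 613872 10000).mp r0 p (by omega) (by omega)
  rcases Nat.lt_or_ge p 633872 with h | h1
  · exact (comRange_iff table3 306936 623872 10000).mp r1 p (by omega) (by omega)
  rcases Nat.lt_or_ge p 643872 with h | h1
  · exact (comRange_iff table3 306936 633872 10000).mp r2 p (by omega) (by omega)
  rcases Nat.lt_or_ge p 653872 with h | h1
  · exact (comRange_iff table3 306936 643872 10000).mp r3 p (by omega) (by omega)
  rcases Nat.lt_or_ge p 663872 with h | h1
  · exact (comRange_iff table3 306936 653872 10000).mp r4 p (by omega) (by omega)
  rcases Nat.lt_or_ge p 673872 with h | h1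
  · exact (comRange_iff table3 306936 663872 10000).mp r5 p (by omega) (by omega)
  rcases Nat.lt_or_ge p 683872 with h | h1
  · exact (comRange_iff table3 306936 673872 10000).mp r6 p (by omega) (by omega)
  rcases Nat.lt_or_ge p 693872 with h | h1
  · exact (comRange_iff table3 306936 683872 10000).mp r7 p (by omega) (by omega)
  rcases Nat.lt_or_ge p 703872 with h | h1
  · exact (comRange_iff table3 306936 693872 10000).mp r8 p (by omega) (by omega)
  rcases Nat.lt_or_ge p 713872 with h | h1
  · exact (comRange_iff table3 306936 703872 10000).mp r9 p (by omega) (by omega)
  rcases Nat.lt_or_ge p 723872 with h | h1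
  · exact (comRange_iff table3 306936 713872 10000).mp r10 p (by omega) (by omega)
  rcases Nat.lt_or_ge p 733872 with h | h1
  · exact (comRange_iff table3 306936 723872 10000).mp r11 p (by omega) (by omega)
  rcases Nat.lt_or_ge p 743872 with h | h1
  · exact (comRange_iff table3 306936 733872 10000).mp r12 p (by omega) (by omega)
  rcases Nat.lt_or_ge p 753872 with h | h1
  · exact (comRange_iff table3 306936 743872 10000).mp r13 p (by omega) (by omega)
  rcases Nat.lt_or_ge p 763872 with h | h1
  · exact (comRange_iff table3 306936 753872 10000).mp r14 p (by omega) (by omega)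
  exact (comRange_iff table3 306936 763872 3468).mp r15 p (by omega) (by omega)

end Cfsg.Agent.Lib.Helper19.F24M.T3Com4
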