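import Cfsg.Agent.Lib.Helper19.F24M.Def
import Cfsg.Agent.Lib.Helper28.TC2Glue
set_option autoImplicit false
set_option maxRecDepth 100000
set_option maxHeartbeats 0

namespace Cfsg.Agent.Lib.Helper19.F24M.T3Paths

open Cfsg.Agent.Lib.Helper19.F24M.Def Cfsg.Agent.Lib.Helper28.TC2Glue
/-- the paths of the relators coming from the even subgroup -/
def chkPaths : List (List ℕ) := [[2, 2],
  [4, 4],
  [6, 6],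
  [8, 8],
  [10, 10],
  [12, 12],
  [14, 14],
  [16, 16],
  [18, 18],
  [20, 20],
  [0, 0, 0],
  [1, 1, 1],
  [4, 2, 4, 2, 4, 2],
  [6, 2, 6, 2],
  [8, 2, 8, 2],
  [10, 2, 10, 2],
  [12, 2, 12, 2],
  [14, 2, 14, 2],
  [16, 2, 16, 2],
  [18, 2, 18, 2],
  [20, 2, 20, 2],
  [6, 4, 6, 4, 6, 4],
  [8, 4, 8, 4],
  [10, 4, 10, 4],
  [12, 4, 12, 4],
  [14, 4, 14, 4],
  [16, 4, 16, 4],
  [18, 4, 18, 4],
  [20, 4, 20, 4],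
  [8, 6, 8, 6, 8, 6],
  [10, 6, 10, 6],
  [12, 6, 12, 6],
  [14, 6, 14, 6],
  [16, 6, 16, 6],
  [18, 6, 18, 6],
  [20, 6, 20, 6],
  [10, 8, 10, 8, 10, 8],
  [12, 8, 12, 8],
  [14, 8, 14, 8],
  [16, 8, 16, 8],
  [18, 8, 18, 8, 18, 8],
  [20, 8, 20, 8],
  [12, 10, 12, 10, 12, 10],
  [14, 10, 14, 10],
  [16, 10, 16, 10],
  [18, 10, 18, 10],
  [20, 10, 20, 10],
  [14, 12, 14, 12, 14, 12],
  [16, 12, 16, 12],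
  [18, 12, 18, 12],
  [20, 12, 20, 12],
  [16, 14, 16, 14, 16, 14],
  [18, 14, 18, 14],
  [20, 14, 20, 14],
  [18, 16, 18, 16],
  [20, 16, 20, 16],
  [20, 18, 20, 18, 20, 18],
  [2, 0, 2, 0, 2, 0],
  [2, 1, 2, 1, 2, 1],
  [4, 0, 4, 0],
  [6, 0, 6, 0],
  [8, 0, 8, 0],
  [10, 0, 10, 0],
  [12, 0, 12, 0],
  [14, 0, 14, 0],
  [16, 0, 16, 0],
  [18, 0, 18, 0],
  [20, 0, 20, 0],
  [4, 1, 4, 1],
  [6, 1, 6, 1],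
  [8, 1, 8, 1],
  [10, 1, 10, 1],
  [12, 1, 12, 1],
  [14, 1, 14, 1],
  [16, 1, 16, 1],
  [18, 1, 18, 1],
  [20, 1, 20, 1],
  [2, 4, 6, 8, 10, 12, 18, 2, 4, 6, 8, 10, 12, 18, 2, 4, 6, 8, 10, 12, 18, 2, 4, 6, 8, 10, 12, 18, 2, 4, 6, 8, 10, 12, 18, 2, 4, 6, 8, 10, 12, 18, 2, 4, 6, 8, 10, 12, 18, 2, 4, 6, 8, 10, 12, 18, 2, 4, 6, 8, 10, 12, 18],
  [20, 18, 8, 16, 14, 12, 10, 8, 1, 2, 4, 6, 8, 25],
  [20, 18, 8, 16, 14, 12, 10, 8, 0, 2, 4, 6, 8, 27],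
  [23, 24, 24, 24, 24, 24, 24, 24, 24, 24, 24, 24, 24, 24, 24, 24, 24, 24],
  [22, 26, 26, 26, 26, 26, 26, 26, 26, 26, 26, 26, 26, 26, 26, 26, 26, 26]]

theorem hmem : ∀ L ∈ relWordsA, pathOf lw L ∈ chkPaths := by decide +kernel

end Cfsg.Agent.Lib.Helper19.F24M.T3Paths
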