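import Cfsg.Agent.Lib.Helper19.F24M.T3Tab
import Cfsg.Agent.Lib.Helper19.F24M.T3Lib
import Cfsg.Agent.Lib.Helper19.F24M.T3Perm7  -- chain
set_option autoImplicit false
set_option maxRecDepth 100000
set_option maxHeartbeats 0

namespace Cfsg.Agent.Lib.Helper19.F24M.T3Perm8
open Cfsg.Agent.Lib.Helper28.TC2Upper Cfsg.Agent.Lib.Helper28.TC2Lower Cfsg.Agent.Lib.Helper28.TC2Range
open Cfsg.Agent.Lib.Helper19.F24M.T3Tab Cfsg.Agent.Lib.Helper19.F24M.T3Lib Cfsg.Agent.Lib.Helper16.McLM.CoverLow

theorem r0 : Table.permRange table3 613872 5000 = true := by decide +kernel
theorem r1 : Table.permRange table3 618872 5000 = true := by decide +kernel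
theorem r2 : Table.permRange table3 623872 5000 = true := by decide +kernel
theorem r3 : Table.permRange table3 628872 5000 = true := by decide +kernel
theorem r4 : Table.permRange table3 633872 5000 = true := by decide +kernel
theorem r5 : Table.permRange table3 638872 5000 = true := by decide +kernel
theorem r6 : Table.permRange table3 643872 5000 = true := by decide +kernel
theorem r7 : Table.permRange table3 648872 5000 = true := by decide +kernel
theorem r8 : Table.permRange table3 653872 5000 = true := by decide +kernel
theorem r9 : Table.permRange table3 658872 5000 = true := by decide +kernel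
theorem r10 : Table.permRange table3 663872 5000 = true := by decide +kernel
theorem r11 : Table.permRange table3 668872 5000 = true := by decide +kernel
theorem r12 : Table.permRange table3 673872 5000 = true := by decide +kernel
theorem r13 : Table.permRange table3 678872 5000 = true := by decide +kernel
theorem r14 : Table.permRange table3 683872 5000 = true := by decide +kernel
theorem r15 : Table.permRange table3 688872 1734 = true := by decide +kernel

theorem all : ∀ p, 613872 ≤ p → p < 690606 → Table.permRow table3 p = true := by
  intro p h1 h2
  rcases Nat.lt_or_ge p 618872 with h | h1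
  · exact (Table.permRange_iff table3 613872 5000).mp r0 p (by omega) (by omega)
  rcases Nat.lt_or_ge p 623872 with h | h1
  · exact (Table.permRange_iff table3 618872 5000).mp r1 p (by omega) (by omega)
  rcases Nat.lt_or_ge p 628872 with h | h1
  · exact (Table.permRange_iff table3 623872 5000).mp r2 p (by omega) (by omega)
  rcases Nat.lt_or_ge p 633872 with h | h1
  · exact (Table.permRange_iff table3 628872 5000).mp r3 p (by omega) (by omega)
  rcases Nat.lt_or_ge p 638872 with h | h1
  · exact (Table.permRange_iff table3 633872 5000).mp r4 p (by omega) (by omega)
  rcases Nat.lt_or_ge p 643872 with h | h1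
  · exact (Table.permRange_iff table3 638872 5000).mp r5 p (by omega) (by omega)
  rcases Nat.lt_or_ge p 648872 with h | h1
  · exact (Table.permRange_iff table3 643872 5000).mp r6 p (by omega) (by omega)
  rcases Nat.lt_or_ge p 653872 with h | h1
  · exact (Table.permRange_iff table3 648872 5000).mp r7 p (by omega) (by omega)
  rcases Nat.lt_or_ge p 658872 with h | h1
  · exact (Table.permRange_iff table3 653872 5000).mp r8 p (by omega) (by omega)
  rcases Nat.lt_or_ge p 663872 with h | h1
  · exact (Table.permRange_iff table3 658872 5000).mp r9 p (by omega) (by omega)
  rcases Nat.lt_or_ge p 668872 with h | h1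
  · exact (Table.permRange_iff table3 663872 5000).mp r10 p (by omega) (by omega)
  rcases Nat.lt_or_ge p 673872 with h | h1
  · exact (Table.permRange_iff table3 668872 5000).mp r11 p (by omega) (by omega)
  rcases Nat.lt_or_ge p 678872 with h | h1
  · exact (Table.permRange_iff table3 673872 5000).mp r12 p (by omega) (by omega)
  rcases Nat.lt_or_ge p 683872 with h | h1
  · exact (Table.permRange_iff table3 678872 5000).mp r13 p (by omega) (by omega)
  rcases Nat.lt_or_ge p 688872 with h | h1
  · exact (Table.permRange_iff table3 683872 5000).mp r14 p (by omega) (by omega)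
  exact (Table.permRange_iff table3 688872 1734).mp r15 p (by omega) (by omega)

end Cfsg.Agent.Lib.Helper19.F24M.T3Perm8
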