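import Cfsg.Agent.Lib.Helper19.F24M.T3Tab
import Cfsg.Agent.Lib.Helper19.F24M.T3Lib
import Cfsg.Agent.Lib.Helper19.F24M.T3Perm9  -- chain
set_option autoImplicit false
set_option maxRecDepth 100000
set_option maxHeartbeats 0

namespace Cfsg.Agent.Lib.Helper19.F24M.T3Perm10
open Cfsg.Agent.Lib.Helper28.TC2Upper Cfsg.Agent.Lib.Helper28.TC2Lower Cfsg.Agent.Lib.Helper28.TC2Range
open Cfsg.Agent.Lib.Helper19.F24M.T3Tab Cfsg.Agent.Lib.Helper19.F24M.T3Lib Cfsg.Agent.Lib.Helper16.McLM.CoverLow

theorem r0 : Table.permRange table3 767340 5000 = true := by decide +kernel
theorem r1 : Table.permRange table3 772340 5000 = true := by decide +kernel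
theorem r2 : Table.permRange table3 777340 5000 = true := by decide +kernel
theorem r3 : Table.permRange table3 782340 5000 = true := by decide +kernel
theorem r4 : Table.permRange table3 787340 5000 = true := by decide +kernel
theorem r5 : Table.permRange table3 792340 5000 = true := by decide +kernel
theorem r6 : Table.permRange table3 797340 5000 = true := by decide +kernel
theorem r7 : Table.permRange table3 802340 5000 = true := by decide +kernel
theorem r8 : Table.permRange table3 807340 5000 = true := by decide +kernel
theorem r9 : Table.permRange table3 812340 5000 = true := by decide +kernel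
theorem r10 : Table.permRange table3 817340 5000 = true := by decide +kernel
theorem r11 : Table.permRange table3 822340 5000 = true := by decide +kernel
theorem r12 : Table.permRange table3 827340 5000 = true := by decide +kernel
theorem r13 : Table.permRange table3 832340 5000 = true := by decide +kernel
theorem r14 : Table.permRange table3 837340 5000 = true := by decide +kernel
theorem r15 : Table.permRange table3 842340 1734 = true := by decide +kernel

theorem all : ∀ p, 767340 ≤ p → p < 844074 → Table.permRow table3 p = true := by
  intro p h1 h2
  rcases Nat.lt_or_ge p 772340 with h | h1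
  · exact (Table.permRange_iff table3 767340 5000).mp r0 p (by omega) (by omega)
  rcases Nat.lt_or_ge p 777340 with h | h1
  · exact (Table.permRange_iff table3 772340 5000).mp r1 p (by omega) (by omega)
  rcases Nat.lt_or_ge p 782340 with h | h1
  · exact (Table.permRange_iff table3 777340 5000).mp r2 p (by omega) (by omega)
  rcases Nat.lt_or_ge p 787340 with h | h1
  · exact (Table.permRange_iff table3 782340 5000).mp r3 p (by omega) (by omega)
  rcases Nat.lt_or_ge p 792340 with h | h1
  · exact (Table.permRange_iff table3 787340 5000).mp r4 p (by omega) (by omega)
  rcases Nat.lt_or_ge p 797340 with h | h1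
  · exact (Table.permRange_iff table3 792340 5000).mp r5 p (by omega) (by omega)
  rcases Nat.lt_or_ge p 802340 with h | h1
  · exact (Table.permRange_iff table3 797340 5000).mp r6 p (by omega) (by omega)
  rcases Nat.lt_or_ge p 807340 with h | h1
  · exact (Table.permRange_iff table3 802340 5000).mp r7 p (by omega) (by omega)
  rcases Nat.lt_or_ge p 812340 with h | h1
  · exact (Table.permRange_iff table3 807340 5000).mp r8 p (by omega) (by omega)
  rcases Nat.lt_or_ge p 817340 with h | h1
  · exact (Table.permRange_iff table3 812340 5000).mp r9 p (by omega) (by omega)
  rcases Nat.lt_or_ge p 822340 with h | h1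
  · exact (Table.permRange_iff table3 817340 5000).mp r10 p (by omega) (by omega)
  rcases Nat.lt_or_ge p 827340 with h | h1
  · exact (Table.permRange_iff table3 822340 5000).mp r11 p (by omega) (by omega)
  rcases Nat.lt_or_ge p 832340 with h | h1
  · exact (Table.permRange_iff table3 827340 5000).mp r12 p (by omega) (by omega)
  rcases Nat.lt_or_ge p 837340 with h | h1
  · exact (Table.permRange_iff table3 832340 5000).mp r13 p (by omega) (by omega)
  rcases Nat.lt_or_ge p 842340 with h | h1
  · exact (Table.permRange_iff table3 837340 5000).mp r14 p (by omega) (by omega)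
  exact (Table.permRange_iff table3 842340 1734).mp r15 p (by omega) (by omega)

end Cfsg.Agent.Lib.Helper19.F24M.T3Perm10
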