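import Cfsg.Agent.Lib.Helper19.F24M.T3Tab
import Cfsg.Agent.Lib.Helper19.F24M.T3Lib
import Cfsg.Agent.Lib.Helper19.F24M.T3Perm10  -- chain
set_option autoImplicit false
set_option maxRecDepth 100000
set_option maxHeartbeats 0

namespace Cfsg.Agent.Lib.Helper19.F24M.T3Perm11
open Cfsg.Agent.Lib.Helper28.TC2Upper Cfsg.Agent.Lib.Helper28.TC2Lower Cfsg.Agent.Lib.Helper28.TC2Range
open Cfsg.Agent.Lib.Helper19.F24M.T3Tab Cfsg.Agent.Lib.Helper19.F24M.T3Lib Cfsg.Agent.Lib.Helper16.McLM.CoverLow

theorem r0 : Table.permRange table3 844074 5000 = true := by decide +kernel
theorem r1 : Table.permRange table3 849074 5000 = true := by decide +kernel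
theorem r2 : Table.permRange table3 854074 5000 = true := by decide +kernel
theorem r3 : Table.permRange table3 859074 5000 = true := by decide +kernel
theorem r4 : Table.permRange table3 864074 5000 = true := by decide +kernel
theorem r5 : Table.permRange table3 869074 5000 = true := by decide +kernel
theorem r6 : Table.permRange table3 874074 5000 = true := by decide +kernel
theorem r7 : Table.permRange table3 879074 5000 = true := by decide +kernel
theorem r8 : Table.permRange table3 884074 5000 = true := by decide +kernel
theorem r9 : Table.permRange table3 889074 5000 = true := by decide +kernel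
theorem r10 : Table.permRange table3 894074 5000 = true := by decide +kernel
theorem r11 : Table.permRange table3 899074 5000 = true := by decide +kernel
theorem r12 : Table.permRange table3 904074 5000 = true := by decide +kernel
theorem r13 : Table.permRange table3 909074 5000 = true := by decide +kernel
theorem r14 : Table.permRange table3 914074 5000 = true := by decide +kernel
theorem r15 : Table.permRange table3 919074 1734 = true := by decide +kernel

theorem all : ∀ p, 844074 ≤ p → p < 920808 → Table.permRow table3 p = true := by
  intro p h1 h2
  rcases Nat.lt_or_ge p 849074 with h | h1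
  · exact (Table.permRange_iff table3 844074 5000).mp r0 p (by omega) (by omega)
  rcases Nat.lt_or_ge p 854074 with h | h1
  · exact (Table.permRange_iff table3 849074 5000).mp r1 p (by omega) (by omega)
  rcases Nat.lt_or_ge p 859074 with h | h1
  · exact (Table.permRange_iff table3 854074 5000).mp r2 p (by omega) (by omega)
  rcases Nat.lt_or_ge p 864074 with h | h1
  · exact (Table.permRange_iff table3 859074 5000).mp r3 p (by omega) (by omega)
  rcases Nat.lt_or_ge p 869074 with h | h1
  · exact (Table.permRange_iff table3 864074 5000).mp r4 p (by omega) (by omega)
  rcases Nat.lt_or_ge p 874074 with h | h1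
  · exact (Table.permRange_iff table3 869074 5000).mp r5 p (by omega) (by omega)
  rcases Nat.lt_or_ge p 879074 with h | h1
  · exact (Table.permRange_iff table3 874074 5000).mp r6 p (by omega) (by omega)
  rcases Nat.lt_or_ge p 884074 with h | h1
  · exact (Table.permRange_iff table3 879074 5000).mp r7 p (by omega) (by omega)
  rcases Nat.lt_or_ge p 889074 with h | h1
  · exact (Table.permRange_iff table3 884074 5000).mp r8 p (by omega) (by omega)
  rcases Nat.lt_or_ge p 894074 with h | h1
  · exact (Table.permRange_iff table3 889074 5000).mp r9 p (by omega) (by omega)
  rcases Nat.lt_or_ge p 899074 with h | h1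
  · exact (Table.permRange_iff table3 894074 5000).mp r10 p (by omega) (by omega)
  rcases Nat.lt_or_ge p 904074 with h | h1
  · exact (Table.permRange_iff table3 899074 5000).mp r11 p (by omega) (by omega)
  rcases Nat.lt_or_ge p 909074 with h | h1
  · exact (Table.permRange_iff table3 904074 5000).mp r12 p (by omega) (by omega)
  rcases Nat.lt_or_ge p 914074 with h | h1
  · exact (Table.permRange_iff table3 909074 5000).mp r13 p (by omega) (by omega)
  rcases Nat.lt_or_ge p 919074 with h | h1
  · exact (Table.permRange_iff table3 914074 5000).mp r14 p (by omega) (by omega)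
  exact (Table.permRange_iff table3 919074 1734).mp r15 p (by omega) (by omega)

end Cfsg.Agent.Lib.Helper19.F24M.T3Perm11
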