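import Cfsg.Agent.Lib.Helper19.F24M.T3Tab
import Cfsg.Agent.Lib.Helper19.F24M.T3Lib
import Cfsg.Agent.Lib.Helper19.F24M.T3Perm1  -- chain
set_option autoImplicit false
set_option maxRecDepth 100000
set_option maxHeartbeats 0

namespace Cfsg.Agent.Lib.Helper19.F24M.T3Perm2
open Cfsg.Agent.Lib.Helper28.TC2Upper Cfsg.Agent.Lib.Helper28.TC2Lower Cfsg.Agent.Lib.Helper28.TC2Range
open Cfsg.Agent.Lib.Helper19.F24M.T3Tab Cfsg.Agent.Lib.Helper19.F24M.T3Lib Cfsg.Agent.Lib.Helper16.McLM.CoverLow

theorem r0 : Table.permRange table3 153468 5000 = true := by decide +kernel
theorem r1 : Table.permRange table3 158468 5000 = true := by decide +kernel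
theorem r2 : Table.permRange table3 163468 5000 = true := by decide +kernel
theorem r3 : Table.permRange table3 168468 5000 = true := by decide +kernel
theorem r4 : Table.permRange table3 173468 5000 = true := by decide +kernel
theorem r5 : Table.permRange table3 178468 5000 = true := by decide +kernel
theorem r6 : Table.permRange table3 183468 5000 = true := by decide +kernel
theorem r7 : Table.permRange table3 188468 5000 = true := by decide +kernel
theorem r8 : Table.permRange table3 193468 5000 = true := by decide +kernel
theorem r9 : Table.permRange table3 198468 5000 = true := by decide +kernel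
theorem r10 : Table.permRange table3 203468 5000 = true := by decide +kernel
theorem r11 : Table.permRange table3 208468 5000 = true := by decide +kernel
theorem r12 : Table.permRange table3 213468 5000 = true := by decide +kernel
theorem r13 : Table.permRange table3 218468 5000 = true := by decide +kernel
theorem r14 : Table.permRange table3 223468 5000 = true := by decide +kernel
theorem r15 : Table.permRange table3 228468 1734 = true := by decide +kernel

theorem all : ∀ p, 153468 ≤ p → p < 230202 → Table.permRow table3 p = true := by
  intro p h1 h2
  rcases Nat.lt_or_ge p 158468 with h | h1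
  · exact (Table.permRange_iff table3 153468 5000).mp r0 p (by omega) (by omega)
  rcases Nat.lt_or_ge p 163468 with h | h1
  · exact (Table.permRange_iff table3 158468 5000).mp r1 p (by omega) (by omega)
  rcases Nat.lt_or_ge p 168468 with h | h1
  · exact (Table.permRange_iff table3 163468 5000).mp r2 p (by omega) (by omega)
  rcases Nat.lt_or_ge p 173468 with h | h1
  · exact (Table.permRange_iff table3 168468 5000).mp r3 p (by omega) (by omega)
  rcases Nat.lt_or_ge p 178468 with h | h1
  · exact (Table.permRange_iff table3 173468 5000).mp r4 p (by omega) (by omega)
  rcases Nat.lt_or_ge p 183468 with h | h1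
  · exact (Table.permRange_iff table3 178468 5000).mp r5 p (by omega) (by omega)
  rcases Nat.lt_or_ge p 188468 with h | h1
  · exact (Table.permRange_iff table3 183468 5000).mp r6 p (by omega) (by omega)
  rcases Nat.lt_or_ge p 193468 with h | h1
  · exact (Table.permRange_iff table3 188468 5000).mp r7 p (by omega) (by omega)
  rcases Nat.lt_or_ge p 198468 with h | h1
  · exact (Table.permRange_iff table3 193468 5000).mp r8 p (by omega) (by omega)
  rcases Nat.lt_or_ge p 203468 with h | h1
  · exact (Table.permRange_iff table3 198468 5000).mp r9 p (by omega) (by omega)
  rcases Nat.lt_or_ge p 208468 with h | h1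
  · exact (Table.permRange_iff table3 203468 5000).mp r10 p (by omega) (by omega)
  rcases Nat.lt_or_ge p 213468 with h | h1
  · exact (Table.permRange_iff table3 208468 5000).mp r11 p (by omega) (by omega)
  rcases Nat.lt_or_ge p 218468 with h | h1
  · exact (Table.permRange_iff table3 213468 5000).mp r12 p (by omega) (by omega)
  rcases Nat.lt_or_ge p 223468 with h | h1
  · exact (Table.permRange_iff table3 218468 5000).mp r13 p (by omega) (by omega)
  rcases Nat.lt_or_ge p 228468 with h | h1
  · exact (Table.permRange_iff table3 223468 5000).mp r14 p (by omega) (by omega)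
  exact (Table.permRange_iff table3 228468 1734).mp r15 p (by omega) (by omega)

end Cfsg.Agent.Lib.Helper19.F24M.T3Perm2
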