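import Cfsg.Agent.Lib.Helper19.F24M.T3Tab
import Cfsg.Agent.Lib.Helper19.F24M.T3Lib
import Cfsg.Agent.Lib.Helper19.F24M.T3Perm2  -- chain
set_option autoImplicit false
set_option maxRecDepth 100000
set_option maxHeartbeats 0

namespace Cfsg.Agent.Lib.Helper19.F24M.T3Perm3
open Cfsg.Agent.Lib.Helper28.TC2Upper Cfsg.Agent.Lib.Helper28.TC2Lower Cfsg.Agent.Lib.Helper28.TC2Range
open Cfsg.Agent.Lib.Helper19.F24M.T3Tab Cfsg.Agent.Lib.Helper19.F24M.T3Lib Cfsg.Agent.Lib.Helper16.McLM.CoverLow

theorem r0 : Table.permRange table3 230202 5000 = true := by decide +kernel
theorem r1 : Table.permRange table3 235202 5000 = true := by decide +kernel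
theorem r2 : Table.permRange table3 240202 5000 = true := by decide +kernel
theorem r3 : Table.permRange table3 245202 5000 = true := by decide +kernel
theorem r4 : Table.permRange table3 250202 5000 = true := by decide +kernel
theorem r5 : Table.permRange table3 255202 5000 = true := by decide +kernel
theorem r6 : Table.permRange table3 260202 5000 = true := by decide +kernel
theorem r7 : Table.permRange table3 265202 5000 = true := by decide +kernel
theorem r8 : Table.permRange table3 270202 5000 = true := by decide +kernel
theorem r9 : Table.permRange table3 275202 5000 = true := by decide +kernel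
theorem r10 : Table.permRange table3 280202 5000 = true := by decide +kernel
theorem r11 : Table.permRange table3 285202 5000 = true := by decide +kernel
theorem r12 : Table.permRange table3 290202 5000 = true := by decide +kernel
theorem r13 : Table.permRange table3 295202 5000 = true := by decide +kernel
theorem r14 : Table.permRange table3 300202 5000 = true := by decide +kernel
theorem r15 : Table.permRange table3 305202 1734 = true := by decide +kernel

theorem all : ∀ p, 230202 ≤ p → p < 306936 → Table.permRow table3 p = true := by
  intro p h1 h2
  rcases Nat.lt_or_ge p 235202 with h | h1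
  · exact (Table.permRange_iff table3 230202 5000).mp r0 p (by omega) (by omega)
  rcases Nat.lt_or_ge p 240202 with h | h1
  · exact (Table.permRange_iff table3 235202 5000).mp r1 p (by omega) (by omega)
  rcases Nat.lt_or_ge p 245202 with h | h1
  · exact (Table.permRange_iff table3 240202 5000).mp r2 p (by omega) (by omega)
  rcases Nat.lt_or_ge p 250202 with h | h1
  · exact (Table.permRange_iff table3 245202 5000).mp r3 p (by omega) (by omega)
  rcases Nat.lt_or_ge p 255202 with h | h1
  · exact (Table.permRange_iff table3 250202 5000).mp r4 p (by omega) (by omega)
  rcases Nat.lt_or_ge p 260202 with h | h1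
  · exact (Table.permRange_iff table3 255202 5000).mp r5 p (by omega) (by omega)
  rcases Nat.lt_or_ge p 265202 with h | h1
  · exact (Table.permRange_iff table3 260202 5000).mp r6 p (by omega) (by omega)
  rcases Nat.lt_or_ge p 270202 with h | h1
  · exact (Table.permRange_iff table3 265202 5000).mp r7 p (by omega) (by omega)
  rcases Nat.lt_or_ge p 275202 with h | h1
  · exact (Table.permRange_iff table3 270202 5000).mp r8 p (by omega) (by omega)
  rcases Nat.lt_or_ge p 280202 with h | h1
  · exact (Table.permRange_iff table3 275202 5000).mp r9 p (by omega) (by omega)
  rcases Nat.lt_or_ge p 285202 with h | h1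
  · exact (Table.permRange_iff table3 280202 5000).mp r10 p (by omega) (by omega)
  rcases Nat.lt_or_ge p 290202 with h | h1
  · exact (Table.permRange_iff table3 285202 5000).mp r11 p (by omega) (by omega)
  rcases Nat.lt_or_ge p 295202 with h | h1
  · exact (Table.permRange_iff table3 290202 5000).mp r12 p (by omega) (by omega)
  rcases Nat.lt_or_ge p 300202 with h | h1
  · exact (Table.permRange_iff table3 295202 5000).mp r13 p (by omega) (by omega)
  rcases Nat.lt_or_ge p 305202 with h | h1
  · exact (Table.permRange_iff table3 300202 5000).mp r14 p (by omega) (by omega)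
  exact (Table.permRange_iff table3 305202 1734).mp r15 p (by omega) (by omega)

end Cfsg.Agent.Lib.Helper19.F24M.T3Perm3
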