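import Cfsg.Agent.Lib.Helper19.F24M.T3Tab
import Cfsg.Agent.Lib.Helper19.F24M.T3Lib
import Cfsg.Agent.Lib.Helper19.F24M.T3Perm3  -- chain
set_option autoImplicit false
set_option maxRecDepth 100000
set_option maxHeartbeats 0

namespace Cfsg.Agent.Lib.Helper19.F24M.T3Perm4
open Cfsg.Agent.Lib.Helper28.TC2Upper Cfsg.Agent.Lib.Helper28.TC2Lower Cfsg.Agent.Lib.Helper28.TC2Range
open Cfsg.Agent.Lib.Helper19.F24M.T3Tab Cfsg.Agent.Lib.Helper19.F24M.T3Lib Cfsg.Agent.Lib.Helper16.McLM.CoverLow

theorem r0 : Table.permRange table3 306936 5000 = true := by decide +kernel
theorem r1 : Table.permRange table3 311936 5000 = true := by decide +kernel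
theorem r2 : Table.permRange table3 316936 5000 = true := by decide +kernel
theorem r3 : Table.permRange table3 321936 5000 = true := by decide +kernel
theorem r4 : Table.permRange table3 326936 5000 = true := by decide +kernel
theorem r5 : Table.permRange table3 331936 5000 = true := by decide +kernel
theorem r6 : Table.permRange table3 336936 5000 = true := by decide +kernel
theorem r7 : Table.permRange table3 341936 5000 = true := by decide +kernel
theorem r8 : Table.permRange table3 346936 5000 = true := by decide +kernel
theorem r9 : Table.permRange table3 351936 5000 = true := by decide +kernel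
theorem r10 : Table.permRange table3 356936 5000 = true := by decide +kernel
theorem r11 : Table.permRange table3 361936 5000 = true := by decide +kernel
theorem r12 : Table.permRange table3 366936 5000 = true := by decide +kernel
theorem r13 : Table.permRange table3 371936 5000 = true := by decide +kernel
theorem r14 : Table.permRange table3 376936 5000 = true := by decide +kernel
theorem r15 : Table.permRange table3 381936 1734 = true := by decide +kernel

theorem all : ∀ p, 306936 ≤ p → p < 383670 → Table.permRow table3 p = true := by
  intro p h1 h2
  rcases Nat.lt_or_ge p 311936 with h | h1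
  · exact (Table.permRange_iff table3 306936 5000).mp r0 p (by omega) (by omega)
  rcases Nat.lt_or_ge p 316936 with h | h1
  · exact (Table.permRange_iff table3 311936 5000).mp r1 p (by omega) (by omega)
  rcases Nat.lt_or_ge p 321936 with h | h1
  · exact (Table.permRange_iff table3 316936 5000).mp r2 p (by omega) (by omega)
  rcases Nat.lt_or_ge p 326936 with h | h1
  · exact (Table.permRange_iff table3 321936 5000).mp r3 p (by omega) (by omega)
  rcases Nat.lt_or_ge p 331936 with h | h1
  · exact (Table.permRange_iff table3 326936 5000).mp r4 p (by omega) (by omega)
  rcases Nat.lt_or_ge p 336936 with h | h1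
  · exact (Table.permRange_iff table3 331936 5000).mp r5 p (by omega) (by omega)
  rcases Nat.lt_or_ge p 341936 with h | h1
  · exact (Table.permRange_iff table3 336936 5000).mp r6 p (by omega) (by omega)
  rcases Nat.lt_or_ge p 346936 with h | h1
  · exact (Table.permRange_iff table3 341936 5000).mp r7 p (by omega) (by omega)
  rcases Nat.lt_or_ge p 351936 with h | h1
  · exact (Table.permRange_iff table3 346936 5000).mp r8 p (by omega) (by omega)
  rcases Nat.lt_or_ge p 356936 with h | h1
  · exact (Table.permRange_iff table3 351936 5000).mp r9 p (by omega) (by omega)
  rcases Nat.lt_or_ge p 361936 with h | h1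
  · exact (Table.permRange_iff table3 356936 5000).mp r10 p (by omega) (by omega)
  rcases Nat.lt_or_ge p 366936 with h | h1
  · exact (Table.permRange_iff table3 361936 5000).mp r11 p (by omega) (by omega)
  rcases Nat.lt_or_ge p 371936 with h | h1
  · exact (Table.permRange_iff table3 366936 5000).mp r12 p (by omega) (by omega)
  rcases Nat.lt_or_ge p 376936 with h | h1
  · exact (Table.permRange_iff table3 371936 5000).mp r13 p (by omega) (by omega)
  rcases Nat.lt_or_ge p 381936 with h | h1
  · exact (Table.permRange_iff table3 376936 5000).mp r14 p (by omega) (by omega)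
  exact (Table.permRange_iff table3 381936 1734).mp r15 p (by omega) (by omega)

end Cfsg.Agent.Lib.Helper19.F24M.T3Perm4
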