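import Cfsg.Agent.Lib.Helper19.F24M.T3Tab
import Cfsg.Agent.Lib.Helper19.F24M.T3Lib
import Cfsg.Agent.Lib.Helper19.F24M.T3Paths
set_option autoImplicit false
set_option maxRecDepth 100000
set_option maxHeartbeats 0

namespace Cfsg.Agent.Lib.Helper19.F24M.T3Rel0
open Cfsg.Agent.Lib.Helper28.TC2Upper Cfsg.Agent.Lib.Helper28.TC2Lower Cfsg.Agent.Lib.Helper28.TC2Range
open Cfsg.Agent.Lib.Helper19.F24M.T3Tab Cfsg.Agent.Lib.Helper19.F24M.T3Lib Cfsg.Agent.Lib.Helper16.McLM.CoverLow

theorem r0 : table3.relOK Cfsg.Agent.Lib.Helper19.F24M.T3Paths.chkPaths 0 600 = true := by decide +kernel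
theorem r1 : table3.relOK Cfsg.Agent.Lib.Helper19.F24M.T3Paths.chkPaths 600 600 = true := by decide +kernel
theorem r2 : table3.relOK Cfsg.Agent.Lib.Helper19.F24M.T3Paths.chkPaths 1200 600 = true := by decide +kernel
theorem r3 : table3.relOK Cfsg.Agent.Lib.Helper19.F24M.T3Paths.chkPaths 1800 600 = true := by decide +kernel
theorem r4 : table3.relOK Cfsg.Agent.Lib.Helper19.F24M.T3Paths.chkPaths 2400 600 = true := by decide +kernel
theorem r5 : table3.relOK Cfsg.Agent.Lib.Helper19.F24M.T3Paths.chkPaths 3000 600 = true := by decide +kernel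
theorem r6 : table3.relOK Cfsg.Agent.Lib.Helper19.F24M.T3Paths.chkPaths 3600 600 = true := by decide +kernel
theorem r7 : table3.relOK Cfsg.Agent.Lib.Helper19.F24M.T3Paths.chkPaths 4200 600 = true := by decide +kernel
theorem r8 : table3.relOK Cfsg.Agent.Lib.Helper19.F24M.T3Paths.chkPaths 4800 600 = true := by decide +kernel
theorem r9 : table3.relOK Cfsg.Agent.Lib.Helper19.F24M.T3Paths.chkPaths 5400 600 = true := by decide +kernel
theorem r10 : table3.relOK Cfsg.Agent.Lib.Helper19.F24M.T3Paths.chkPaths 6000 600 = true := by decide +kernel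
theorem r11 : table3.relOK Cfsg.Agent.Lib.Helper19.F24M.T3Paths.chkPaths 6600 600 = true := by decide +kernel
theorem r12 : table3.relOK Cfsg.Agent.Lib.Helper19.F24M.T3Paths.chkPaths 7200 600 = true := by decide +kernel
theorem r13 : table3.relOK Cfsg.Agent.Lib.Helper19.F24M.T3Paths.chkPaths 7800 600 = true := by decide +kernel
theorem r14 : table3.relOK Cfsg.Agent.Lib.Helper19.F24M.T3Paths.chkPaths 8400 600 = true := by decide +kernel
theorem r15 : table3.relOK Cfsg.Agent.Lib.Helper19.F24M.T3Paths.chkPaths 9000 302 = true := by decide +kernel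

theorem all : ∀ p, 0 ≤ p → p < 9302 → ∀ r ∈ Cfsg.Agent.Lib.Helper19.F24M.T3Paths.chkPaths, table3.walkT r p = p := by
  intro p h1 h2
  rcases Nat.lt_or_ge p 600 with h | h1
  · exact (table3.relOK_iff Cfsg.Agent.Lib.Helper19.F24M.T3Paths.chkPaths 0 600).mp r0 p (by omega) (by omega)
  rcases Nat.lt_or_ge p 1200 with h | h1
  · exact (table3.relOK_iff Cfsg.Agent.Lib.Helper19.F24M.T3Paths.chkPaths 600 600).mp r1 p (by omega) (by omega)
  rcases Nat.lt_or_ge p 1800 with h | h1
  · exact (table3.relOK_iff Cfsg.Agent.Lib.Helper19.F24M.T3Paths.chkPaths 1200 600).mp r2 p (by omega) (by omega)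
  rcases Nat.lt_or_ge p 2400 with h | h1
  · exact (table3.relOK_iff Cfsg.Agent.Lib.Helper19.F24M.T3Paths.chkPaths 1800 600).mp r3 p (by omega) (by omega)
  rcases Nat.lt_or_ge p 3000 with h | h1
  · exact (table3.relOK_iff Cfsg.Agent.Lib.Helper19.F24M.T3Paths.chkPaths 2400 600).mp r4 p (by omega) (by omega)
  rcases Nat.lt_or_ge p 3600 with h | h1
  · exact (table3.relOK_iff Cfsg.Agent.Lib.Helper19.F24M.T3Paths.chkPaths 3000 600).mp r5 p (by omega) (by omega)
  rcases Nat.lt_or_ge p 4200 with h | h1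
  · exact (table3.relOK_iff Cfsg.Agent.Lib.Helper19.F24M.T3Paths.chkPaths 3600 600).mp r6 p (by omega) (by omega)
  rcases Nat.lt_or_ge p 4800 with h | h1
  · exact (table3.relOK_iff Cfsg.Agent.Lib.Helper19.F24M.T3Paths.chkPaths 4200 600).mp r7 p (by omega) (by omega)
  rcases Nat.lt_or_ge p 5400 with h | h1
  · exact (table3.relOK_iff Cfsg.Agent.Lib.Helper19.F24M.T3Paths.chkPaths 4800 600).mp r8 p (by omega) (by omega)
  rcases Nat.lt_or_ge p 6000 with h | h1
  · exact (table3.relOK_iff Cfsg.Agent.Lib.Helper19.F24M.T3Paths.chkPaths 5400 600).mp r9 p (by omega) (by omega)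
  rcases Nat.lt_or_ge p 6600 with h | h1
  · exact (table3.relOK_iff Cfsg.Agent.Lib.Helper19.F24M.T3Paths.chkPaths 6000 600).mp r10 p (by omega) (by omega)
  rcases Nat.lt_or_ge p 7200 with h | h1
  · exact (table3.relOK_iff Cfsg.Agent.Lib.Helper19.F24M.T3Paths.chkPaths 6600 600).mp r11 p (by omega) (by omega)
  rcases Nat.lt_or_ge p 7800 with h | h1
  · exact (table3.relOK_iff Cfsg.Agent.Lib.Helper19.F24M.T3Paths.chkPaths 7200 600).mp r12 p (by omega) (by omega)
  rcases Nat.lt_or_ge p 8400 with h | h1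
  · exact (table3.relOK_iff Cfsg.Agent.Lib.Helper19.F24M.T3Paths.chkPaths 7800 600).mp r13 p (by omega) (by omega)
  rcases Nat.lt_or_ge p 9000 with h | h1
  · exact (table3.relOK_iff Cfsg.Agent.Lib.Helper19.F24M.T3Paths.chkPaths 8400 600).mp r14 p (by omega) (by omega)
  exact (table3.relOK_iff Cfsg.Agent.Lib.Helper19.F24M.T3Paths.chkPaths 9000 302).mp r15 p (by omega) (by omega)

end Cfsg.Agent.Lib.Helper19.F24M.T3Rel0
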