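import Cfsg.Agent.Lib.Helper19.F24M.T3Tab
import Cfsg.Agent.Lib.Helper19.F24M.T3Lib
import Cfsg.Agent.Lib.Helper19.F24M.T3Paths
import Cfsg.Agent.Lib.Helper19.F24M.T3Rel11  -- chain
set_option autoImplicit false
set_option maxRecDepth 100000
set_option maxHeartbeats 0

namespace Cfsg.Agent.Lib.Helper19.F24M.T3Rel12
open Cfsg.Agent.Lib.Helper28.TC2Upper Cfsg.Agent.Lib.Helper28.TC2Lower Cfsg.Agent.Lib.Helper28.TC2Range
open Cfsg.Agent.Lib.Helper19.F24M.T3Tab Cfsg.Agent.Lib.Helper19.F24M.T3Lib Cfsg.Agent.Lib.Helper16.McLM.CoverLow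

theorem r0 : table3.relOK Cfsg.Agent.Lib.Helper19.F24M.T3Paths.chkPaths 111624 600 = true := by decide +kernel
theorem r1 : table3.relOK Cfsg.Agent.Lib.Helper19.F24M.T3Paths.chkPaths 112224 600 = true := by decide +kernel
theorem r2 : table3.relOK Cfsg.Agent.Lib.Helper19.F24M.T3Paths.chkPaths 112824 600 = true := by decide +kernel
theorem r3 : table3.relOK Cfsg.Agent.Lib.Helper19.F24M.T3Paths.chkPaths 113424 600 = true := by decide +kernel
theorem r4 : table3.relOK Cfsg.Agent.Lib.Helper19.F24M.T3Paths.chkPaths 114024 600 = true := by decide +kernel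
theorem r5 : table3.relOK Cfsg.Agent.Lib.Helper19.F24M.T3Paths.chkPaths 114624 600 = true := by decide +kernel
theorem r6 : table3.relOK Cfsg.Agent.Lib.Helper19.F24M.T3Paths.chkPaths 115224 600 = true := by decide +kernel
theorem r7 : table3.relOK Cfsg.Agent.Lib.Helper19.F24M.T3Paths.chkPaths 115824 600 = true := by decide +kernel
theorem r8 : table3.relOK Cfsg.Agent.Lib.Helper19.F24M.T3Paths.chkPaths 116424 600 = true := by decide +kernel
theorem r9 : table3.relOK Cfsg.Agent.Lib.Helper19.F24M.T3Paths.chkPaths 117024 600 = true := by decide +kernel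
theorem r10 : table3.relOK Cfsg.Agent.Lib.Helper19.F24M.T3Paths.chkPaths 117624 600 = true := by decide +kernel
theorem r11 : table3.relOK Cfsg.Agent.Lib.Helper19.F24M.T3Paths.chkPaths 118224 600 = true := by decide +kernel
theorem r12 : table3.relOK Cfsg.Agent.Lib.Helper19.F24M.T3Paths.chkPaths 118824 600 = true := by decide +kernel
theorem r13 : table3.relOK Cfsg.Agent.Lib.Helper19.F24M.T3Paths.chkPaths 119424 600 = true := by decide +kernel
theorem r14 : table3.relOK Cfsg.Agent.Lib.Helper19.F24M.T3Paths.chkPaths 120024 600 = true := by decide +kernel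
theorem r15 : table3.relOK Cfsg.Agent.Lib.Helper19.F24M.T3Paths.chkPaths 120624 302 = true := by decide +kernel

theorem all : ∀ p, 111624 ≤ p → p < 120926 → ∀ r ∈ Cfsg.Agent.Lib.Helper19.F24M.T3Paths.chkPaths, table3.walkT r p = p := by
  intro p h1 h2
  rcases Nat.lt_or_ge p 112224 with h | h1
  · exact (table3.relOK_iff Cfsg.Agent.Lib.Helper19.F24M.T3Paths.chkPaths 111624 600).mp r0 p (by omega) (by omega)
  rcases Nat.lt_or_ge p 112824 with h | h1
  · exact (table3.relOK_iff Cfsg.Agent.Lib.Helper19.F24M.T3Paths.chkPaths 112224 600).mp r1 p (by omega) (by omega)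
  rcases Nat.lt_or_ge p 113424 with h | h1
  · exact (table3.relOK_iff Cfsg.Agent.Lib.Helper19.F24M.T3Paths.chkPaths 112824 600).mp r2 p (by omega) (by omega)
  rcases Nat.lt_or_ge p 114024 with h | h1
  · exact (table3.relOK_iff Cfsg.Agent.Lib.Helper19.F24M.T3Paths.chkPaths 113424 600).mp r3 p (by omega) (by omega)
  rcases Nat.lt_or_ge p 114624 with h | h1
  · exact (table3.relOK_iff Cfsg.Agent.Lib.Helper19.F24M.T3Paths.chkPaths 114024 600).mp r4 p (by omega) (by omega)
  rcases Nat.lt_or_ge p 115224 with h | h1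
  · exact (table3.relOK_iff Cfsg.Agent.Lib.Helper19.F24M.T3Paths.chkPaths 114624 600).mp r5 p (by omega) (by omega)
  rcases Nat.lt_or_ge p 115824 with h | h1
  · exact (table3.relOK_iff Cfsg.Agent.Lib.Helper19.F24M.T3Paths.chkPaths 115224 600).mp r6 p (by omega) (by omega)
  rcases Nat.lt_or_ge p 116424 with h | h1
  · exact (table3.relOK_iff Cfsg.Agent.Lib.Helper19.F24M.T3Paths.chkPaths 115824 600).mp r7 p (by omega) (by omega)
  rcases Nat.lt_or_ge p 117024 with h | h1
  · exact (table3.relOK_iff Cfsg.Agent.Lib.Helper19.F24M.T3Paths.chkPaths 116424 600).mp r8 p (by omega) (by omega)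
  rcases Nat.lt_or_ge p 117624 with h | h1
  · exact (table3.relOK_iff Cfsg.Agent.Lib.Helper19.F24M.T3Paths.chkPaths 117024 600).mp r9 p (by omega) (by omega)
  rcases Nat.lt_or_ge p 118224 with h | h1
  · exact (table3.relOK_iff Cfsg.Agent.Lib.Helper19.F24M.T3Paths.chkPaths 117624 600).mp r10 p (by omega) (by omega)
  rcases Nat.lt_or_ge p 118824 with h | h1
  · exact (table3.relOK_iff Cfsg.Agent.Lib.Helper19.F24M.T3Paths.chkPaths 118224 600).mp r11 p (by omega) (by omega)
  rcases Nat.lt_or_ge p 119424 with h | h1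
  · exact (table3.relOK_iff Cfsg.Agent.Lib.Helper19.F24M.T3Paths.chkPaths 118824 600).mp r12 p (by omega) (by omega)
  rcases Nat.lt_or_ge p 120024 with h | h1
  · exact (table3.relOK_iff Cfsg.Agent.Lib.Helper19.F24M.T3Paths.chkPaths 119424 600).mp r13 p (by omega) (by omega)
  rcases Nat.lt_or_ge p 120624 with h | h1
  · exact (table3.relOK_iff Cfsg.Agent.Lib.Helper19.F24M.T3Paths.chkPaths 120024 600).mp r14 p (by omega) (by omega)
  exact (table3.relOK_iff Cfsg.Agent.Lib.Helper19.F24M.T3Paths.chkPaths 120624 302).mp r15 p (by omega) (by omega)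

end Cfsg.Agent.Lib.Helper19.F24M.T3Rel12
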