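import Cfsg.Agent.Lib.Helper19.F24M.T3Perm0
import Cfsg.Agent.Lib.Helper19.F24M.T3Perm1
import Cfsg.Agent.Lib.Helper19.F24M.T3Perm2
import Cfsg.Agent.Lib.Helper19.F24M.T3Perm3
import Cfsg.Agent.Lib.Helper19.F24M.T3Perm4
import Cfsg.Agent.Lib.Helper19.F24M.T3Perm5
import Cfsg.Agent.Lib.Helper19.F24M.T3Perm6
import Cfsg.Agent.Lib.Helper19.F24M.T3Perm7
import Cfsg.Agent.Lib.Helper19.F24M.T3Perm8
import Cfsg.Agent.Lib.Helper19.F24M.T3Perm9
import Cfsg.Agent.Lib.Helper19.F24M.T3Perm10
import Cfsg.Agent.Lib.Helper19.F24M.T3Perm11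
import Cfsg.Agent.Lib.Helper19.F24M.T3Com0
import Cfsg.Agent.Lib.Helper19.F24M.T3Com1
import Cfsg.Agent.Lib.Helper19.F24M.T3Com2
import Cfsg.Agent.Lib.Helper19.F24M.T3Com3
import Cfsg.Agent.Lib.Helper19.F24M.T3Com4
import Cfsg.Agent.Lib.Helper19.F24M.T3Com5
import Cfsg.Agent.Lib.Helper19.F24M.T3Rel0
import Cfsg.Agent.Lib.Helper19.F24M.T3Rel1
import Cfsg.Agent.Lib.Helper19.F24M.T3Rel2
import Cfsg.Agent.Lib.Helper19.F24M.T3Rel3
import Cfsg.Agent.Lib.Helper19.F24M.T3Rel4
import Cfsg.Agent.Lib.Helper19.F24M.T3Rel5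
import Cfsg.Agent.Lib.Helper19.F24M.T3Rel6
import Cfsg.Agent.Lib.Helper19.F24M.T3Rel7
import Cfsg.Agent.Lib.Helper19.F24M.T3Rel8
import Cfsg.Agent.Lib.Helper19.F24M.T3Rel9
import Cfsg.Agent.Lib.Helper19.F24M.T3Rel10
import Cfsg.Agent.Lib.Helper19.F24M.T3Rel11
import Cfsg.Agent.Lib.Helper19.F24M.T3Rel12
import Cfsg.Agent.Lib.Helper19.F24M.T3Rel13
import Cfsg.Agent.Lib.Helper19.F24M.T3Rel14
import Cfsg.Agent.Lib.Helper19.F24M.T3Rel15
import Cfsg.Agent.Lib.Helper19.F24M.T3Rel16
import Cfsg.Agent.Lib.Helper19.F24M.T3Rel17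
import Cfsg.Agent.Lib.Helper19.F24M.T3Rel18
import Cfsg.Agent.Lib.Helper19.F24M.T3Rel19
import Cfsg.Agent.Lib.Helper19.F24M.T3Rel20
import Cfsg.Agent.Lib.Helper19.F24M.T3Rel21
import Cfsg.Agent.Lib.Helper19.F24M.T3Rel22
import Cfsg.Agent.Lib.Helper19.F24M.T3Rel23
import Cfsg.Agent.Lib.Helper19.F24M.T3Rel24
import Cfsg.Agent.Lib.Helper19.F24M.T3Rel25
import Cfsg.Agent.Lib.Helper19.F24M.T3Rel26
import Cfsg.Agent.Lib.Helper19.F24M.T3Rel27
import Cfsg.Agent.Lib.Helper19.F24M.T3Rel28
import Cfsg.Agent.Lib.Helper19.F24M.T3Rel29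
import Cfsg.Agent.Lib.Helper19.F24M.T3Rel30
import Cfsg.Agent.Lib.Helper19.F24M.T3Rel31
import Cfsg.Agent.Lib.Helper19.F24M.T3Rel32
import Cfsg.Agent.Lib.Helper19.F24M.T3TreeChk0
import Cfsg.Agent.Lib.Helper19.F24M.T3TreeChk1
import Cfsg.Agent.Lib.Helper19.F24M.T3TreeChk2
import Cfsg.Agent.Lib.Helper19.F24M.T3TreeChk3
import Cfsg.Agent.Lib.Helper19.F24M.T3TreeChk4
import Cfsg.Agent.Lib.Helper19.F24M.T3TreeChk5
import Cfsg.Agent.Lib.Helper19.F24M.T3Misc
import Cfsg.Agent.Lib.Helper19.F24M.T3Paths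
import Cfsg.Agent.Lib.Helper19.F24M.T3Lib
-- END-CHECK-IMPORTS
import Cfsg.Agent.Lib.Helper19.F24M.Proj

set_option autoImplicit false
set_option maxRecDepth 100000

/-!
# The permutation representation of the presented triple cover of `Fi₂₄′` on 920808 points
-/

namespace Cfsg.Agent.Lib.Helper19.F24M.T3Rep

open Cfsg.Agent.Lib.Helper19.F24M.Def Cfsg.Agent.Lib.Helper19.F24M.Proj
open Cfsg.Agent.Lib.Helper19.F24M.T3Tab Cfsg.Agent.Lib.Helper19.F24M.T3Lib Cfsg.Agent.Lib.Helper19.F24M.T3Paths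
open Cfsg.Agent.Lib.Helper28.TC2Upper Cfsg.Agent.Lib.Helper28.TC2Lower Cfsg.Agent.Lib.Helper28.TC2Range
open Cfsg.Agent.Lib.Helper28.TC2Glue Cfsg.Agent.Lib.Helper16.McLM.CoverLow
open Cfsg.Agent.Lib.Helper19.F24M

-- BEGIN-CHECK-FACTS
theorem hperm : ∀ p, p < table3.n → Table.permRow table3 p = true := by
  intro p hp
  have hp' : p < 920808 := hp
  rcases Nat.lt_or_ge p 76734 with h0 | h0
  · exact T3Perm0.all p (by omega) h0
  rcases Nat.lt_or_ge p 153468 with h1 | h1
  · exact T3Perm1.all p (by omega) h1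
  rcases Nat.lt_or_ge p 230202 with h2 | h2
  · exact T3Perm2.all p (by omega) h2
  rcases Nat.lt_or_ge p 306936 with h3 | h3
  · exact T3Perm3.all p (by omega) h3
  rcases Nat.lt_or_ge p 383670 with h4 | h4
  · exact T3Perm4.all p (by omega) h4
  rcases Nat.lt_or_ge p 460404 with h5 | h5
  · exact T3Perm5.all p (by omega) h5
  rcases Nat.lt_or_ge p 537138 with h6 | h6
  · exact T3Perm6.all p (by omega) h6
  rcases Nat.lt_or_ge p 613872 with h7 | h7
  · exact T3Perm7.all p (by omega) h7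
  rcases Nat.lt_or_ge p 690606 with h8 | h8
  · exact T3Perm8.all p (by omega) h8
  rcases Nat.lt_or_ge p 767340 with h9 | h9
  · exact T3Perm9.all p (by omega) h9
  rcases Nat.lt_or_ge p 844074 with h10 | h10
  · exact T3Perm10.all p (by omega) h10
  exact T3Perm11.all p (by omega) (by omega)

theorem hcom : ∀ q, q < table3.n → comRow table3 306936 q = true := by
  intro p hp
  have hp' : p < 920808 := hp
  rcases Nat.lt_or_ge p 153468 with h0 | h0
  · exact T3Com0.all p (by omega) h0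
  rcases Nat.lt_or_ge p 306936 with h1 | h1
  · exact T3Com1.all p (by omega) h1
  rcases Nat.lt_or_ge p 460404 with h2 | h2
  · exact T3Com2.all p (by omega) h2
  rcases Nat.lt_or_ge p 613872 with h3 | h3
  · exact T3Com3.all p (by omega) h3
  rcases Nat.lt_or_ge p 767340 with h4 | h4
  · exact T3Com4.all p (by omega) h4
  exact T3Com5.all p (by omega) (by omega)

theorem hchk : ∀ p, p < 306936 → ∀ r ∈ chkPaths, table3.walkT r p = p := by
  intro p hp
  rcases Nat.lt_or_ge p 9302 with h0 | h0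
  · exact T3Rel0.all p (by omega) h0
  rcases Nat.lt_or_ge p 18604 with h1 | h1
  · exact T3Rel1.all p (by omega) h1
  rcases Nat.lt_or_ge p 27906 with h2 | h2
  · exact T3Rel2.all p (by omega) h2
  rcases Nat.lt_or_ge p 37208 with h3 | h3
  · exact T3Rel3.all p (by omega) h3
  rcases Nat.lt_or_ge p 46510 with h4 | h4
  · exact T3Rel4.all p (by omega) h4
  rcases Nat.lt_or_ge p 55812 with h5 | h5
  · exact T3Rel5.all p (by omega) h5
  rcases Nat.lt_or_ge p 65114 with h6 | h6
  · exact T3Rel6.all p (by omega) h6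
  rcases Nat.lt_or_ge p 74416 with h7 | h7
  · exact T3Rel7.all p (by omega) h7
  rcases Nat.lt_or_ge p 83718 with h8 | h8
  · exact T3Rel8.all p (by omega) h8
  rcases Nat.lt_or_ge p 93020 with h9 | h9
  · exact T3Rel9.all p (by omega) h9
  rcases Nat.lt_or_ge p 102322 with h10 | h10
  · exact T3Rel10.all p (by omega) h10
  rcases Nat.lt_or_ge p 111624 with h11 | h11
  · exact T3Rel11.all p (by omega) h11
  rcases Nat.lt_or_ge p 120926 with h12 | h12
  · exact T3Rel12.all p (by omega) h12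
  rcases Nat.lt_or_ge p 130228 with h13 | h13
  · exact T3Rel13.all p (by omega) h13
  rcases Nat.lt_or_ge p 139530 with h14 | h14
  · exact T3Rel14.all p (by omega) h14
  rcases Nat.lt_or_ge p 148832 with h15 | h15
  · exact T3Rel15.all p (by omega) h15
  rcases Nat.lt_or_ge p 158134 with h16 | h16
  · exact T3Rel16.all p (by omega) h16
  rcases Nat.lt_or_ge p 167436 with h17 | h17
  · exact T3Rel17.all p (by omega) h17
  rcases Nat.lt_or_ge p 176738 with h18 | h18
  · exact T3Rel18.all p (by omega) h18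
  rcases Nat.lt_or_ge p 186040 with h19 | h19
  · exact T3Rel19.all p (by omega) h19
  rcases Nat.lt_or_ge p 195342 with h20 | h20
  · exact T3Rel20.all p (by omega) h20
  rcases Nat.lt_or_ge p 204644 with h21 | h21
  · exact T3Rel21.all p (by omega) h21
  rcases Nat.lt_or_ge p 213946 with h22 | h22
  · exact T3Rel22.all p (by omega) h22
  rcases Nat.lt_or_ge p 223248 with h23 | h23
  · exact T3Rel23.all p (by omega) h23
  rcases Nat.lt_or_ge p 232550 with h24 | h24
  · exact T3Rel24.all p (by omega) h24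
  rcases Nat.lt_or_ge p 241852 with h25 | h25
  · exact T3Rel25.all p (by omega) h25
  rcases Nat.lt_or_ge p 251154 with h26 | h26
  · exact T3Rel26.all p (by omega) h26
  rcases Nat.lt_or_ge p 260456 with h27 | h27
  · exact T3Rel27.all p (by omega) h27
  rcases Nat.lt_or_ge p 269758 with h28 | h28
  · exact T3Rel28.all p (by omega) h28
  rcases Nat.lt_or_ge p 279060 with h29 | h29
  · exact T3Rel29.all p (by omega) h29
  rcases Nat.lt_or_ge p 288362 with h30 | h30
  · exact T3Rel30.all p (by omega) h30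
  rcases Nat.lt_or_ge p 297664 with h31 | h31
  · exact T3Rel31.all p (by omega) h31
  exact T3Rel32.all p (by omega) (by omega)

theorem htreeRow : ∀ i, i < Nat.pred table3.n → Table.treeRow table3 i = true := by
  intro i hi
  have hi' : i < 920807 := hi
  rcases Nat.lt_or_ge i 153468 with h0 | h0
  · exact (Table.treeRange_iff table3 0 153468).mp T3TreeChk0.tre i (by omega) (by omega)
  rcases Nat.lt_or_ge i 306936 with h1 | h1
  · exact (Table.treeRange_iff table3 153468 153468).mp T3TreeChk1.tre i (by omega) (by omega)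
  rcases Nat.lt_or_ge i 460404 with h2 | h2
  · exact (Table.treeRange_iff table3 306936 153468).mp T3TreeChk2.tre i (by omega) (by omega)
  rcases Nat.lt_or_ge i 613872 with h3 | h3
  · exact (Table.treeRange_iff table3 460404 153468).mp T3TreeChk3.tre i (by omega) (by omega)
  rcases Nat.lt_or_ge i 767340 with h4 | h4
  · exact (Table.treeRange_iff table3 613872 153468).mp T3TreeChk4.tre i (by omega) (by omega)
  exact (Table.treeRange_iff table3 767340 153467).mp T3TreeChk5.tre i (by omega) (by omega)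

theorem hinvOK : table3.invOK = true := T3Misc.hinvOK
theorem hinv : ∀ x, x < 14 → table3.invl (2 * x) = 2 * x + 1 := T3Misc.hinv
theorem hzr : zRange table3 22 306936 0 920808 = true := T3Misc.hzr
theorem hsub : ∀ l ∈ [2, 4, 6, 8, 10, 12, 14, 16, 18, 20], table3.tau l 0 = 0 := T3Misc.hsub
theorem hmem : ∀ L ∈ relWordsA, pathOf lw L ∈ chkPaths := T3Paths.hmem
-- END-CHECK-FACTS

theorem hk : table3.k = 28 := rfl
theorem hn : table3.n = 3 * 306936 := rfl
theorem hn0 : 0 < table3.n := by show 0 < 920808; norm_num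

theorem hT : table3.OK := Table.ok_of_rows table3 hinvOK hperm

theorem hZL : ZL = 22 := rfl

theorem hz : ∀ q, q < table3.n → table3.tau ZL q = (q + 306936) % table3.n := by
  intro q hq
  have hq' : q < 920808 := hq
  rw [hZL]
  exact (zRange_iff table3 22 306936 0 920808).mp hzr q (Nat.zero_le _) (by omega)

theorem htree : table3.treeOK = true := Table.treeOK_of_rows table3 htreeRow

theorem exists_phi : ∃ φ : Ghat →* Equiv.Perm (Fin table3.n), ∀ x, φ (gen x) = Table.sigma hT (lw (x, true)) :=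
  exists_rep hT 306936 hk hn hinv hz hcom chkPaths hchk hmem

/-- the representation of the cover on 920808 points -/
noncomputable def phi : Ghat →* Equiv.Perm (Fin table3.n) := exists_phi.choose

theorem phi_gen (x : Gen14) : phi (gen x) = Table.sigma hT (lw (x, true)) := exists_phi.choose_spec x

theorem hlwk : ∀ x : Gen14, lw (x, true) < table3.k := fun x => lw_lt hk (x, true)

/-- the generators in the order of their indices -/
def genList : List Gen14 := [.k, .a, .b, .c, .d, .e, .f, .g, .j, .h, .i, .z, .t, .tp]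

/-- the letters as elements of the cover -/
noncomputable def gam (l : ℕ) : Ghat :=
  if l % 2 = 0 then gen (genList.getD (l / 2) .z)
  else (gen (genList.getD (l / 2) .z))⁻¹

theorem gi_getD (m : ℕ) (hm : m < 14) : gi (genList.getD m .z) = m := by
  interval_cases m <;> rfl

theorem phi_gam : ∀ l, l < table3.k → phi (gam l) = Table.sigma hT l := by
  intro l hl
  have hl' : l < 28 := hl
  unfold gam
  have hm : l / 2 < 14 := by omega
  split_ifs with h
  · rw [phi_gen]
    show Table.sigma hT (2 * gi _ + 0) = _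
    rw [gi_getD _ hm, add_zero]
    congr 1
    omega
  · rw [map_inv, phi_gen]
    show (Table.sigma hT (2 * gi _ + 0))⁻¹ = _
    rw [gi_getD _ hm, add_zero, ← Table.sigma_inv hT (by show 2 * (l / 2) < 28; omega), hinv _ hm]
    congr 1
    omega

theorem Hp_fix : ∀ h ∈ Hp, phi h ⟨0, hn0⟩ = ⟨0, hn0⟩ := by
  intro h hh
  have key : ∀ x : Gen14, gi x ∈ [1, 2, 3, 4, 5, 6, 7, 8, 9, 10] → phi (gen x) ⟨0, hn0⟩ = ⟨0, hn0⟩ := by
    intro x hx
    apply Fin.ext
    rw [phi_gen, Table.sigma_apply hT (hlwk x)]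
    show table3.tau (2 * gi x + 0) 0 = 0
    apply hsub
    simp only [List.mem_cons, List.not_mem_nil, or_false] at hx ⊢
    omega
  unfold Hp at hh
  induction hh using Subgroup.closure_induction with
  | mem x hx =>
    simp only [Set.mem_insert_iff, Set.mem_singleton_iff] at hx
    rcases hx with rfl | rfl | rfl | rfl | rfl | rfl | rfl | rfl | rfl | rfl
    all_goals exact key _ (by decide)
  | one => simp
  | mul x y _ _ hx hy => rw [map_mul, Equiv.Perm.mul_apply, hy, hx]
  | inv x _ hx =>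
    rw [map_inv, Equiv.Perm.inv_eq_iff_eq]
    exact hx.symm

/-- the orbit map of the cosets of `⟨u_a, …, u_i⟩` -/
noncomputable def f3 : Ghat ⧸ Hp → Fin table3.n := orbitMap Hp hn0 phi Hp_fix

theorem f3_smul (g : Ghat) (q : Ghat ⧸ Hp) : f3 (g • q) = phi g (f3 q) := orbitMap_smul Hp hn0 phi Hp_fix g q

theorem f3_surjective : Function.Surjective f3 := orbitMap_surjective Hp hT hn0 phi gam Hp_fix phi_gam htree

end Cfsg.Agent.Lib.Helper19.F24M.T3Rep
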