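import Cfsg.Agent.Lib.Helper19.F24M.Semi2

set_option autoImplicit false
set_option maxRecDepth 100000

/-!
# The homomorphism of the presented even subgroup to `Fi₂₄`

`u_x ↦ l x`, `t ↦ w`, `tp ↦ l w l`.  The relators are checked by a reduction of words in the generators of `Fi₂₄` that
uses only `x² = 1` and `l y = y l` for the nodes `y ≠ k` and compares with the relators of `Fi₂₄`.
-/

namespace Cfsg.Agent.Lib.Helper19.F24M.ToFi

open Cfsg.Agent.Lib.Helper19.F24M.Def Cfsg.Agent.Lib.Helper19.F24M.NRel Cfsg.Agent.Lib.Helper19.F24M.Semi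
open Cfsg.Agent.Lib.Helper28.TC2Glue
open Cfsg.Spor

/-- a generator of `Fi₂₄` as an element -/
abbrev ofG (x : Fi24.Gen) : Fi24 := PresentedGroup.of x

/-- the relators of `Fi₂₄` -/
abbrev rels24 : Set (FreeGroup Fi24.Gen) := coxRelators Fi24.edges ∪ {r | r ∈ Fi24.extra}

/-- the relator words of `Fi₂₄` -/
def relWords24 : List (List (Fi24.Gen × Bool)) := coxWords Fi24.edges ++ [extraWord1, extraWord2]

theorem mk24_eq_one {L : List (Fi24.Gen × Bool)} (hL : L ∈ relWords24) :
    (PresentedGroup.mk rels24 (FreeGroup.mk L) : Fi24) = 1 :=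
  PresentedGroup.one_of_mem ((mem_rels_iff _ _ _ hextra _).mpr ⟨L, hL, rfl⟩)

theorem ofG_inv (x : Fi24.Gen) : (ofG x)⁻¹ = ofG x :=
  invol_of_mem_coxNodes Fi24.edges _ (by cases x <;> decide)

theorem ofG_sq (x : Fi24.Gen) : ofG x * ofG x = 1 := by
  have h := ofG_inv x
  rw [inv_eq_iff_mul_eq_one] at h
  exact h

/-- the nodes commuting with `l` -/
def isYF : Fi24.Gen → Bool
  | .l => false
  | .k => false
  | _ => true

theorem l_comm (y : Fi24.Gen) (hy : isYF y = true) : ofG .l * ofG y = ofG y * ofG .l := by
  have hmem : coxWord Fi24.Gen.l y 2 ∈ relWords24 := by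
    cases y <;> first | (exact absurd hy (by decide)) | decide
  have h := mk24_eq_one hmem
  rw [mk_coxWord, map_pow, map_mul, pow_two] at h
  have h1 : ofG .l * ofG y * (ofG .l * ofG y) = 1 := h
  calc ofG .l * ofG y = ofG .l * ofG y * (ofG .l * ofG y) * (ofG y)⁻¹ * (ofG .l)⁻¹ := by group
    _ = ofG y * ofG .l := by rw [h1, ofG_inv, ofG_inv]; group

/-- the value of a word of generators, read from the top of a stack -/
noncomputable def evR : List Fi24.Gen → Fi24
  | [] => 1
  | s :: rest => evR rest * ofG s

/-- the value of a word of generators -/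
noncomputable def ev (v : List Fi24.Gen) : Fi24 := (v.map ofG).prod

theorem ev_nil : ev [] = 1 := rfl

theorem ev_cons (x : Fi24.Gen) (v : List Fi24.Gen) : ev (x :: v) = ofG x * ev v := by
  unfold ev
  rw [List.map_cons, List.prod_cons]

theorem ev_append (u v : List Fi24.Gen) : ev (u ++ v) = ev u * ev v := by
  unfold ev
  rw [List.map_append, List.prod_append]

theorem evR_eq (st : List Fi24.Gen) : evR st = ev st.reverse := by
  induction st with
  | nil => rfl
  | cons s rest ih =>
    rw [evR, List.reverse_cons, ev_append, ih]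
    unfold ev
    simp

theorem ev_reverse (v : List Fi24.Gen) : ev v.reverse = (ev v)⁻¹ := by
  induction v with
  | nil => simp [ev]
  | cons x v ih =>
    rw [List.reverse_cons, ev_append, ih, ev_cons x v, mul_inv_rev, ofG_inv]
    simp [ev]

/-- toggle the letter `l` of the last segment of a stack -/
def togL : List Fi24.Gen → List Fi24.Gen
  | [] => [.l]
  | s :: rest => if s = .l then rest else if s = .k then .l :: s :: rest else s :: togL rest

theorem evR_togL (st : List Fi24.Gen) : evR (togL st) = evR st * ofG .l := by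
  induction st with
  | nil => rfl
  | cons s rest ih =>
    unfold togL
    split_ifs with h1 h2
    · subst h1
      rw [evR, mul_assoc, ofG_sq, mul_one]
    · rfl
    · have hy : isYF s = true := by cases s <;> first | rfl | exact absurd rfl h1 | exact absurd rfl h2
      rw [evR, ih, evR, mul_assoc, l_comm s hy, mul_assoc]

/-- push a letter on a stack -/
def push (st : List Fi24.Gen) (x : Fi24.Gen) : List Fi24.Gen :=
  if x = .l then togL st else
    match st with
    | [] => [x]
    | s :: rest => if s = x then rest else x :: s :: rest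

theorem evR_push (st : List Fi24.Gen) (x : Fi24.Gen) : evR (push st x) = evR st * ofG x := by
  unfold push
  split_ifs with h
  · subst h; exact evR_togL st
  · cases st with
    | nil => rfl
    | cons s rest =>
      show evR (if s = x then rest else x :: s :: rest) = _
      split_ifs with h2
      · subst h2
        rw [evR, mul_assoc, ofG_sq, mul_one]
      · rfl

theorem evR_foldl (v st : List Fi24.Gen) : evR (v.foldl push st) = evR st * ev v := by
  induction v generalizing st with
  | nil => simp [ev]
  | cons x v ih => rw [List.foldl_cons, ih, evR_push, ev_cons, mul_assoc]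

/-- the reduced word -/
def red (v : List Fi24.Gen) : List Fi24.Gen := (v.foldl push []).reverse

theorem ev_red (v : List Fi24.Gen) : ev (red v) = ev v := by
  unfold red
  rw [← evR_eq, evR_foldl, evR, one_mul]

/-- the relators of `Fi₂₄` as words of generators -/
def R24 : List (List Fi24.Gen) := relWords24.map (List.map Prod.fst)

theorem mk24_eq_ev (L : List (Fi24.Gen × Bool)) :
    (PresentedGroup.mk rels24 (FreeGroup.mk L) : Fi24) = ev (L.map Prod.fst) := by
  rw [mk_mk_prod]
  unfold ev
  rw [List.map_map]
  congr 1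
  apply List.map_congr_left
  rintro ⟨x, b⟩ _
  cases b
  · exact ofG_inv x
  · rfl

theorem ev_eq_one_of_mem {v : List Fi24.Gen} (hv : v ∈ R24) : ev v = 1 := by
  unfold R24 at hv
  rw [List.mem_map] at hv
  obtain ⟨L, hL, rfl⟩ := hv
  rw [← mk24_eq_ev]
  exact mk24_eq_one hL

/-- rotate a word -/
def rotL : List Fi24.Gen → List Fi24.Gen
  | [] => []
  | x :: rest => rest ++ [x]

theorem ev_rotL_eq_one {v : List Fi24.Gen} (h : ev (rotL v) = 1) : ev v = 1 := by
  cases v with
  | nil => rfl
  | cons x rest =>
    have h1 : ev rest * ofG x = 1 := by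
      have : ev (rest ++ [x]) = 1 := h
      rw [ev_append] at this
      simpa [ev] using this
    rw [ev_cons]
    calc ofG x * ev rest = ofG x * (ev rest * ofG x) * (ofG x)⁻¹ := by group
      _ = 1 := by rw [h1]; group

/-- a test for the triviality of a word of generators of `Fi₂₄` -/
def triv24 (v : List Fi24.Gen) : Bool :=
  decide (red v = []) || decide (red v ∈ R24) || decide (red (rotL (red v)) = []) ||
    decide (red (rotL (red v)) ∈ R24)

theorem ev_eq_one_of_triv24 {v : List Fi24.Gen} (h : triv24 v = true) : ev v = 1 := by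
  unfold triv24 at h
  simp only [Bool.or_eq_true, decide_eq_true_eq] at h
  rw [← ev_red]
  rcases h with ((h | h) | h) | h
  · rw [h]; rfl
  · exact ev_eq_one_of_mem h
  · apply ev_rotL_eq_one
    rw [← ev_red, h]; rfl
  · apply ev_rotL_eq_one
    rw [← ev_red]
    exact ev_eq_one_of_mem h

/-- the letters of the word `w` -/
def wL : List Fi24.Gen := [.d, .c, .b, .a, .k, .l, .d, .e, .f, .g, .j, .d, .h, .i]

/-- the generators of the even subgroup as generators of `Fi₂₄` -/
def upF : Gen13 → Fi24.Gen
  | .k => .k
  | .a => .a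
  | .b => .b
  | .c => .c
  | .d => .d
  | .e => .e
  | .f => .f
  | .g => .g
  | .j => .j
  | .h => .h
  | .i => .i
  | .t => .l
  | .tp => .l

/-- the expansion of a letter -/
def expL : Gen13 × Bool → List Fi24.Gen
  | (.t, true) => wL
  | (.t, false) => wL.reverse
  | (.tp, true) => .l :: wL ++ [.l]
  | (.tp, false) => .l :: wL.reverse ++ [.l]
  | (x, true) => [.l, upF x]
  | (x, false) => [upF x, .l]

/-- the images of the generators -/
noncomputable def gF (x : Gen13) : Fi24 := ev (expL (x, true))

theorem expL_false (x : Gen13) : expL (x, false) = (expL (x, true)).reverse := by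
  cases x <;> rfl

theorem letV_gF (xb : Gen13 × Bool) : letV gF xb = ev (expL xb) := by
  obtain ⟨x, b⟩ := xb
  cases b
  · show (gF x)⁻¹ = _
    rw [expL_false, ev_reverse]
    rfl
  · rfl

theorem lift_gF_mk (L : List (Gen13 × Bool)) : FreeGroup.lift gF (FreeGroup.mk L) = ev (L.flatMap expL) := by
  rw [lift_mk_prod]
  induction L with
  | nil => rfl
  | cons xb L ih =>
    rw [List.map_cons, List.prod_cons, ih, List.flatMap_cons, ev_append, letV_gF]

theorem tofi_chk : ∀ L ∈ baseWords, triv24 (L.flatMap expL) = true := by decide +kernel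

theorem lift_gF_rel : ∀ r ∈ relsN, FreeGroup.lift gF r = 1 := by
  rintro r ⟨L, hL, rfl⟩
  rw [lift_gF_mk]
  exact ev_eq_one_of_triv24 (tofi_chk L hL)

/-- the homomorphism of the presented even subgroup to `Fi₂₄` -/
noncomputable def toFi : N →* Fi24 := PresentedGroup.toGroup lift_gF_rel

theorem toFi_gen (x : Gen13) : toFi (genN x) = gF x := PresentedGroup.toGroup.of lift_gF_rel

theorem toFi_U (x : Fi24.Gen) : toFi (U x) = ofG .l * ofG x := by
  cases x
  case l =>
    have : U .l = 1 := rfl
    rw [this, map_one, ofG_sq]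
  all_goals
    show toFi (genN _) = _
    rw [toFi_gen]
    show ev [_, _] = _
    simp [ev, upF]

/-- the range is generated by the elements `l x` -/
theorem range_toFi : toFi.range = Subgroup.closure (Set.range fun x : Fi24.Gen => ofG .l * ofG x) := by
  rw [MonoidHom.range_eq_map, ← closure_U, MonoidHom.map_closure]
  congr 1
  ext g
  constructor
  · rintro ⟨_, ⟨x, rfl⟩, rfl⟩
    exact ⟨x, (toFi_U x).symm⟩
  · rintro ⟨x, rfl⟩
    exact ⟨U x, ⟨x, rfl⟩, toFi_U x⟩

theorem lx_mem (x : Fi24.Gen) : ofG .l * ofG x ∈ toFi.range := by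
  rw [range_toFi]
  exact Subgroup.subset_closure ⟨x, rfl⟩

/-- every element of `Fi₂₄` lies in the range or in its coset by `l` -/
theorem mem_or_mem (g : Fi24) : g ∈ toFi.range ∨ ofG .l * g ∈ toFi.range := by
  obtain ⟨w, rfl⟩ := PresentedGroup.mk_surjective rels24 g
  induction w using Quot.inductionOn with
  | h L =>
    show PresentedGroup.mk rels24 (FreeGroup.mk L) ∈ _ ∨ ofG .l * PresentedGroup.mk rels24 (FreeGroup.mk L) ∈ _
    rw [mk24_eq_ev]
    generalize L.map Prod.fst = v
    induction v with
    | nil => left; rw [ev_nil]; exact one_mem _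
    | cons x v ih =>
      rw [ev_cons]
      rcases ih with h | h
      · right
        rw [← mul_assoc]
        exact mul_mem (lx_mem x) h
      · left
        have e : ofG x * ev v = (ofG .l * ofG x)⁻¹ * (ofG .l * ev v) := by
          rw [mul_inv_rev, mul_assoc, inv_mul_cancel_left, ofG_inv]
        rw [e]
        exact mul_mem (inv_mem (lx_mem x)) h

/-- the range has index at most `2` -/
theorem card_le [Finite Fi24] : Nat.card Fi24 ≤ Nat.card toFi.range * 2 := by
  classical
  let f : Fi24 → ↥toFi.range × Bool := fun g =>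
    if h : g ∈ toFi.range then (⟨g, h⟩, true)
    else (⟨ofG .l * g, (mem_or_mem g).resolve_left h⟩, false)
  have hf : Function.Injective f := by
    intro g1 g2 e
    by_cases h1 : g1 ∈ toFi.range <;> by_cases h2 : g2 ∈ toFi.range
    · simp only [f, dif_pos h1, dif_pos h2, Prod.mk.injEq, Subtype.mk.injEq, and_true] at e
      exact e
    · simp only [f, dif_pos h1, dif_neg h2, Prod.mk.injEq] at e
      exact absurd e.2 (by decide)
    · simp only [f, dif_neg h1, dif_pos h2, Prod.mk.injEq] at e
      exact absurd e.2 (by decide)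
    · simp only [f, dif_neg h1, dif_neg h2, Prod.mk.injEq, Subtype.mk.injEq, and_true] at e
      exact mul_left_cancel e
  have h := Nat.card_le_card_of_injective f hf
  rw [Nat.card_prod, Nat.card_eq_fintype_card (α := Bool), Fintype.card_bool] at h
  exact h

end Cfsg.Agent.Lib.Helper19.F24M.ToFi
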